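import Mathlib
import Cfsg.Prelude.Def_Local

set_option autoImplicit false

namespace Cfsg.Agent.Lib.Helper40

open Cfsg

/-! ### Conjugation API -/

section conj
variable {G : Type*} [Group G]

theorem mem_map_conj_iff {H : Subgroup G} {g x : G} :
    x ∈ H.map (MulAut.conj g).toMonoidHom ↔ g⁻¹ * x * g ∈ H := by
  constructor
  · rintro ⟨y, hy, rfl⟩
    have : g⁻¹ * (MulAut.conj g).toMonoidHom y * g = y := by
      simp [MulAut.conj_apply, mul_assoc]
    rw [this]; exact hy
  · intro h
    refine ⟨g⁻¹ * x * g, h, ?_⟩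
    simp [MulAut.conj_apply, mul_assoc]

theorem conj_mem_map_conj {H : Subgroup G} {g x : G} (hx : x ∈ H) :
    g * x * g⁻¹ ∈ H.map (MulAut.conj g).toMonoidHom :=
  ⟨x, hx, by simp [MulAut.conj_apply]⟩

theorem map_conj_eq_of_mem_normalizer {H : Subgroup G} {g : G}
    (hg : g ∈ Subgroup.normalizer (H : Set G)) : H.map (MulAut.conj g).toMonoidHom = H :=
  Subgroup.mem_normalizer_iff_map_conj_eq.mp hg

theorem mem_normalizer_of_map_conj_eq {H : Subgroup G} {g : G}
    (hg : H.map (MulAut.conj g).toMonoidHom = H) : g ∈ Subgroup.normalizer (H : Set G) :=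
  Subgroup.mem_normalizer_iff_map_conj_eq.mpr hg

theorem map_conj_eq_of_normal {H : Subgroup G} [H.Normal] (g : G) :
    H.map (MulAut.conj g).toMonoidHom = H :=
  map_conj_eq_of_mem_normalizer (by rw [Subgroup.normalizer_eq_top]; exact Subgroup.mem_top g)

theorem map_conj_mul {H : Subgroup G} (g h : G) :
    H.map (MulAut.conj (g * h)).toMonoidHom =
      (H.map (MulAut.conj h).toMonoidHom).map (MulAut.conj g).toMonoidHom := by
  ext x
  simp only [mem_map_conj_iff]
  have : (g * h)⁻¹ * x * (g * h) = h⁻¹ * (g⁻¹ * x * g) * h := by group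
  rw [this]

theorem card_map_conj (H : Subgroup G) (g : G) :
    Nat.card (H.map (MulAut.conj g).toMonoidHom) = Nat.card H :=
  Subgroup.card_map_of_injective (MulAut.conj g).injective

end conj


/-! ### `O_{p'}` -/

section pprime
variable {G : Type*} [Group G]

theorem card_sup_dvd' (H K : Subgroup G) [K.Normal] :
    Nat.card (H ⊔ K : Subgroup G) ∣ Nat.card K * Nat.card H := by
  have h1 : (⊥ : Subgroup G).relIndex K * K.relIndex (H ⊔ K) = (⊥ : Subgroup G).relIndex (H ⊔ K) :=
    Subgroup.relIndex_mul_relIndex _ _ _ bot_le le_sup_right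
  rw [Subgroup.relIndex_bot_left, Subgroup.relIndex_bot_left, Subgroup.relIndex_sup_right] at h1
  rw [← h1]
  exact Nat.mul_dvd_mul_left _ (Subgroup.relIndex_dvd_card _ _)

theorem card_sup_coprime' (p : ℕ) (H K : Subgroup G) [K.Normal]
    (hH : (Nat.card H).Coprime p) (hK : (Nat.card K).Coprime p) :
    (Nat.card (H ⊔ K : Subgroup G)).Coprime p :=
  Nat.Coprime.coprime_dvd_left (card_sup_dvd' H K) (Nat.Coprime.mul_left hK hH)

theorem pPrimeCore_card_coprime' (p : ℕ) (G : Type*) [Group G] [Finite G] :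
    (Nat.card (pPrimeCore p G)).Coprime p := by
  unfold pPrimeCore
  have hfin : Set.Finite {N : Subgroup G | N.Normal ∧ (Nat.card N).Coprime p} := Set.toFinite _
  suffices h : ∀ s : Set (Subgroup G), s.Finite → (∀ N ∈ s, N.Normal ∧ (Nat.card N).Coprime p) →
      (sSup s).Normal ∧ (Nat.card (sSup s : Subgroup G)).Coprime p from
    (h _ hfin (fun N hN => hN)).2
  intro s hs
  induction s, hs using Set.Finite.induction_on with
  | empty =>
    intro _
    refine ⟨by rw [sSup_empty]; infer_instance, ?_⟩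
    simp
  | insert ha hs ih =>
    rename_i a s
    intro h
    obtain ⟨ih1, ih2⟩ := ih (fun N hN => h N (Set.mem_insert_of_mem _ hN))
    obtain ⟨ha1, ha2⟩ := h a (Set.mem_insert _ _)
    rw [sSup_insert]
    have := ih1
    have := ha1
    exact ⟨inferInstance, card_sup_coprime' p a (sSup s) ha2 ih2⟩

theorem le_pPrimeCore' {p : ℕ} (N : Subgroup G) (hN : N.Normal)
    (h : (Nat.card N).Coprime p) : N ≤ pPrimeCore p G :=
  le_sSup ⟨hN, h⟩

theorem pPrimeCore_characteristic (p : ℕ) (G : Type*) [Group G] :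
    (pPrimeCore p G).Characteristic := by
  rw [Subgroup.characteristic_iff_map_le]
  intro ϕ
  rw [Subgroup.map_le_iff_le_comap]
  apply sSup_le
  intro N hN
  rw [← Subgroup.map_le_iff_le_comap]
  apply le_pPrimeCore'
  · exact Subgroup.Normal.map hN.1 _ ϕ.surjective
  · rw [Subgroup.card_map_of_injective ϕ.injective]; exact hN.2

/-- the cardinality of a full preimage under the quotient map -/
theorem card_comap_mk' (N : Subgroup G) [N.Normal] (H : Subgroup (G ⧸ N)) :
    Nat.card (H.comap (QuotientGroup.mk' N)) = Nat.card N * Nat.card H := by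
  have hle : N ≤ H.comap (QuotientGroup.mk' N) := by
    intro x hx
    rw [Subgroup.mem_comap]
    have : (QuotientGroup.mk' N) x = 1 := (QuotientGroup.eq_one_iff x).mpr hx
    rw [this]; exact H.one_mem
  have h1 := Subgroup.relIndex_mul_relIndex (⊥ : Subgroup G) N (H.comap (QuotientGroup.mk' N)) bot_le hle
  rw [Subgroup.relIndex_bot_left, Subgroup.relIndex_bot_left] at h1
  rw [← h1]
  congr 1
  have h2 : (⊥ : Subgroup (G ⧸ N)).comap (QuotientGroup.mk' N) = N := by
    rw [MonoidHom.comap_bot, QuotientGroup.ker_mk']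
  have h3 := Subgroup.relIndex_comap (⊥ : Subgroup (G ⧸ N)) (QuotientGroup.mk' N) (H.comap (QuotientGroup.mk' N))
  rw [h2, Subgroup.map_comap_eq_self_of_surjective (QuotientGroup.mk'_surjective N),
    Subgroup.relIndex_bot_left] at h3
  exact h3

theorem pPrimeCore_quotient_eq_bot (p : ℕ) (G : Type*) [Group G] [Finite G] :
    pPrimeCore p (G ⧸ pPrimeCore p G) = ⊥ := by
  set D := pPrimeCore p G
  set M := (pPrimeCore p (G ⧸ D)).comap (QuotientGroup.mk' D) with hM
  have hMn : M.Normal := Subgroup.Normal.comap inferInstance _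
  have hMc : (Nat.card M).Coprime p := by
    rw [hM, card_comap_mk']
    exact Nat.Coprime.mul_left (pPrimeCore_card_coprime' p G) (pPrimeCore_card_coprime' p (G ⧸ D))
  have hMD : M ≤ D := le_pPrimeCore' M hMn hMc
  rw [eq_bot_iff]
  intro x hx
  obtain ⟨g, rfl⟩ := QuotientGroup.mk_surjective x
  have hg : g ∈ M := by rw [hM, Subgroup.mem_comap]; exact hx
  rw [Subgroup.mem_bot]
  exact (QuotientGroup.eq_one_iff g).mpr (hMD hg)

theorem isPGroup_inf_coprime_eq_bot {p : ℕ} [Fact p.Prime] [Finite G] (S D : Subgroup G) (hS : IsPGroup p S)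
    (hD : (Nat.card D).Coprime p) : S ⊓ D = ⊥ := by
  rw [eq_bot_iff]
  rintro x ⟨hxS, hxD⟩
  rw [Subgroup.mem_bot]
  obtain ⟨k, hk⟩ := hS ⟨x, hxS⟩
  have hk' : x ^ p ^ k = 1 := by
    have := congrArg Subtype.val hk
    simpa using this
  have h1 : orderOf x ∣ p ^ k := orderOf_dvd_of_pow_eq_one hk'
  have h2 : orderOf x ∣ Nat.card D := by
    have := orderOf_dvd_natCard (⟨x, hxD⟩ : D)
    rwa [Subgroup.orderOf_mk] at this
  have h3 : orderOf x = 1 := Nat.eq_one_of_dvd_coprimes (hD.pow_right k) h2 h1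
  exact orderOf_eq_one_iff.mp h3

theorem sylow_inf_pPrimeCore {p : ℕ} [Fact p.Prime] [Finite G] (S : Sylow p G) :
    (S : Subgroup G) ⊓ pPrimeCore p G = ⊥ :=
  isPGroup_inf_coprime_eq_bot _ _ S.isPGroup' (pPrimeCore_card_coprime' p G)

end pprime


/-! ### Sylow subgroups and normal subgroups -/

section sylnormal
variable {G : Type*} [Group G] [Finite G]

theorem relIndex_eq_relIndex_sup_of_normal (S K : Subgroup G) [K.Normal] :
    S.relIndex K = S.relIndex (S ⊔ K) := by
  have hb := Subgroup.relIndex_mul_relIndex (⊥ : Subgroup G) K (S ⊔ K) bot_le le_sup_right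
  have hc := Subgroup.relIndex_mul_relIndex (⊥ : Subgroup G) S (S ⊔ K) bot_le le_sup_left
  have hd := Subgroup.relIndex_mul_relIndex (⊥ : Subgroup G) (S ⊓ K) S bot_le inf_le_left
  have he := Subgroup.relIndex_mul_relIndex (⊥ : Subgroup G) (S ⊓ K) K bot_le inf_le_right
  simp only [Subgroup.relIndex_bot_left] at hb hc hd he
  rw [Subgroup.relIndex_sup_right] at hb
  rw [Subgroup.inf_relIndex_left] at hd
  rw [Subgroup.inf_relIndex_right] at he
  have h1 : Nat.card ↥(S ⊓ K) * K.relIndex S * S.relIndex (S ⊔ K)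
      = Nat.card ↥(S ⊓ K) * K.relIndex S * S.relIndex K := by
    calc Nat.card ↥(S ⊓ K) * K.relIndex S * S.relIndex (S ⊔ K)
        = Nat.card S * S.relIndex (S ⊔ K) := by rw [hd]
      _ = Nat.card ↥(S ⊔ K) := hc
      _ = Nat.card K * K.relIndex S := hb.symm
      _ = Nat.card ↥(S ⊓ K) * S.relIndex K * K.relIndex S := by rw [he]
      _ = Nat.card ↥(S ⊓ K) * K.relIndex S * S.relIndex K := by ring
  have hpos : 0 < Nat.card ↥(S ⊓ K) * K.relIndex S := by
    apply Nat.mul_pos Nat.card_pos
    have : (K.subgroupOf S).index ≠ 0 := Subgroup.FiniteIndex.index_ne_zero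
    exact Nat.pos_of_ne_zero this
  exact (Nat.eq_of_mul_eq_mul_left hpos h1).symm

theorem not_dvd_relIndex_sylow_normal {p : ℕ} [Fact p.Prime] (S : Sylow p G) (K : Subgroup G) [K.Normal] :
    ¬ p ∣ (S : Subgroup G).relIndex K := by
  rw [relIndex_eq_relIndex_sup_of_normal]
  intro h
  exact S.not_dvd_index (h.trans (Subgroup.relIndex_dvd_index_of_le le_sup_left))

/-- The intersection of a Sylow subgroup with a normal subgroup is a Sylow subgroup of it. -/
theorem exists_sylow_map_eq_inf {p : ℕ} [Fact p.Prime] (S : Sylow p G) (K : Subgroup G) [K.Normal] :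
    ∃ P : Sylow p ↥K, (P : Subgroup ↥K).map K.subtype = (S : Subgroup G) ⊓ K := by
  have h1 : IsPGroup p ↥((S : Subgroup G).subgroupOf K) :=
    S.isPGroup'.comap_of_injective K.subtype K.subtype_injective
  have h2 : ¬ p ∣ ((S : Subgroup G).subgroupOf K).index := not_dvd_relIndex_sylow_normal S K
  refine ⟨h1.toSylow h2, ?_⟩
  rw [IsPGroup.toSylow_coe, Subgroup.subgroupOf_map_subtype]

end sylnormal

/-! ### `O_{p',p}` -/

section pprimep
variable {G : Type*} [Group G]

theorem pPrimeCore_le_pPrimePCore (p : ℕ) (G : Type*) [Group G] : pPrimeCore p G ≤ pPrimePCore p G := by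
  intro x hx
  unfold pPrimePCore
  rw [Subgroup.mem_comap]
  have : (QuotientGroup.mk' (pPrimeCore p G)) x = 1 := (QuotientGroup.eq_one_iff x).mpr hx
  rw [this]; exact Subgroup.one_mem _

instance pPrimePCore_normal (p : ℕ) (G : Type*) [Group G] : (pPrimePCore p G).Normal := by
  unfold pPrimePCore
  exact Subgroup.Normal.comap inferInstance _

theorem pCore_isPGroup' (p : ℕ) (G : Type*) [Group G] : IsPGroup p ↥(pCore p G) :=
  Sylow.sSup_of_normal _ (fun _ h => h.2) (fun _ h => h.1)

theorem le_pCore' {p : ℕ} {N : Subgroup G} (hN : N.Normal) (h : IsPGroup p ↥N) : N ≤ pCore p G :=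
  le_sSup ⟨hN, h⟩

theorem pCore_le_sylow' {p : ℕ} (P : Sylow p G) : pCore p G ≤ (P : Subgroup G) :=
  (pCore_isPGroup' p G).le_sylow_of_normal P

theorem pPrimePCore_le_sylow_sup [Finite G] {p : ℕ} [Fact p.Prime] (S : Sylow p G) :
    pPrimePCore p G ≤ (S : Subgroup G) ⊔ pPrimeCore p G := by
  have h1 : pCore p (G ⧸ pPrimeCore p G) ≤
      (S : Subgroup G).map (QuotientGroup.mk' (pPrimeCore p G)) :=
    pCore_le_sylow' (S.mapSurjective (QuotientGroup.mk'_surjective _))
  unfold pPrimePCore
  calc (pCore p (G ⧸ pPrimeCore p G)).comap (QuotientGroup.mk' (pPrimeCore p G))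
      ≤ ((S : Subgroup G).map (QuotientGroup.mk' (pPrimeCore p G))).comap
          (QuotientGroup.mk' (pPrimeCore p G)) := Subgroup.comap_mono h1
    _ = (S : Subgroup G) ⊔ pPrimeCore p G := by
        rw [Subgroup.comap_map_eq, QuotientGroup.ker_mk']

end pprimep


/-! ### Burnside and centralizers of normal Sylow subgroups -/

section burnside
variable {G : Type*} [Group G] [Finite G]

/-- Burnside: a central Sylow `p`-subgroup is complemented by `O_{p'}` (after helper42). -/
theorem pPrimeCore_sup_central_sylow' (p : ℕ) [Fact p.Prime]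
    (T : Sylow p G) (hT : (T : Subgroup G) ≤ Subgroup.center G) :
    (T : Subgroup G) ⊔ pPrimeCore p G = ⊤ := by
  have hP : Subgroup.normalizer ((T : Subgroup G) : Set G) ≤ Subgroup.centralizer ((T : Subgroup G) : Set G) := by
    intro x _
    rw [Subgroup.mem_centralizer_iff]
    intro t ht
    have := hT ht
    rw [Subgroup.mem_center_iff] at this
    exact (this x).symm
  have hc := MonoidHom.ker_transferSylow_isComplement' T hP
  have hnd := MonoidHom.not_dvd_card_ker_transferSylow T hP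
  have hle : (MonoidHom.transferSylow T hP).ker ≤ pPrimeCore p G :=
    le_pPrimeCore' _ inferInstance ((Nat.Prime.coprime_iff_not_dvd Fact.out).mpr hnd).symm
  rw [eq_top_iff, ← hc.sup_eq_top, sup_comm]
  exact sup_le_sup_left hle _

/-- Every `p`-subgroup lies in a normal Sylow `p`-subgroup. -/
theorem le_normal_sylow {p : ℕ} [Fact p.Prime] (S : Sylow p G) [hS : (S : Subgroup G).Normal]
    (R : Subgroup G) (hR : IsPGroup p R) : R ≤ (S : Subgroup G) := by
  have h1 : IsPGroup p ↥(R ⊔ (S : Subgroup G)) := hR.to_sup_of_normal_right S.isPGroup'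
  have h2 := S.is_maximal' h1 le_sup_right
  rw [← h2]; exact le_sup_left

/-- In a finite group with `O_{p'} = 1` and a normal Sylow `p`-subgroup `S`, `C(S) ≤ S`. -/
theorem centralizer_le_of_normal_sylow {p : ℕ} [Fact p.Prime] (S : Sylow p G)
    [hS : (S : Subgroup G).Normal] (h : pPrimeCore p G = ⊥) :
    Subgroup.centralizer ((S : Subgroup G) : Set G) ≤ (S : Subgroup G) := by
  set C := Subgroup.centralizer ((S : Subgroup G) : Set G) with hC
  haveI : C.Normal := Subgroup.normal_centralizer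
  obtain ⟨T⟩ : Nonempty (Sylow p ↥C) := inferInstance
  have hTS : (T : Subgroup ↥C).map C.subtype ≤ (S : Subgroup G) :=
    le_normal_sylow S _ (T.isPGroup'.map _)
  have hTcen : (T : Subgroup ↥C) ≤ Subgroup.center ↥C := by
    intro t ht
    rw [Subgroup.mem_center_iff]
    intro c
    have h1 : (t : G) ∈ (S : Subgroup G) := hTS ⟨t, ht, rfl⟩
    have h2 := (Subgroup.mem_centralizer_iff.mp c.2) (t : G) h1
    apply Subtype.ext
    simp only [Subgroup.coe_mul]
    exact h2.symm
  have hB := pPrimeCore_sup_central_sylow' p T hTcen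
  haveI : (pPrimeCore p ↥C).Characteristic := pPrimeCore_characteristic p ↥C
  have hYn : ((pPrimeCore p ↥C).map C.subtype).Normal := inferInstance
  have hYc : (Nat.card ((pPrimeCore p ↥C).map C.subtype)).Coprime p := by
    rw [Subgroup.card_map_of_injective C.subtype_injective]
    exact pPrimeCore_card_coprime' p ↥C
  have hY : (pPrimeCore p ↥C).map C.subtype ≤ ⊥ := h ▸ le_pPrimeCore' _ hYn hYc
  have hY' : pPrimeCore p ↥C = ⊥ := by
    rw [eq_bot_iff]
    intro y hy
    have : (y : G) ∈ (⊥ : Subgroup G) := hY ⟨y, hy, rfl⟩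
    rw [Subgroup.mem_bot] at this ⊢
    exact Subtype.ext this
  rw [hY', sup_bot_eq] at hB
  intro c hc
  have : (⟨c, hc⟩ : ↥C) ∈ (T : Subgroup ↥C) := by rw [hB]; exact Subgroup.mem_top _
  exact hTS ⟨⟨c, hc⟩, this, rfl⟩

end burnside

end Cfsg.Agent.Lib.Helper40
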