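import Mathlib.GroupTheory.Sylow

set_option autoImplicit false

namespace Cfsg.Agent.Lib.Helper40

/-- If `Q` is a Sylow `p`-subgroup of `G` contained in the subgroup `H`, every `p`-subgroup `R` of `H`
is conjugate, by an element of `H`, into `Q`. -/
theorem exists_conj_le_sylow_of_le {G : Type*} [Group G] [Finite G] {p : ℕ} [Fact p.Prime]
    (H : Subgroup G) (Q : Sylow p G) (hQ : (Q : Subgroup G) ≤ H) (R : Subgroup G)
    (hR : IsPGroup p R) (hRH : R ≤ H) :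
    ∃ h ∈ H, ∀ r ∈ R, h * r * h⁻¹ ∈ (Q : Subgroup G) := by
  have hR' : IsPGroup p (R.subgroupOf H) :=
    hR.comap_of_injective H.subtype H.subtype_injective
  obtain ⟨R', hR'le⟩ := hR'.exists_le_sylow
  obtain ⟨h, hh⟩ := MulAction.exists_smul_eq H R' (Q.subtype hQ)
  refine ⟨h, h.2, ?_⟩
  intro r hr
  have h1 : (⟨r, hRH hr⟩ : H) ∈ (R' : Subgroup H) := hR'le (by simpa [Subgroup.mem_subgroupOf] using hr)
  have h2 : h * ⟨r, hRH hr⟩ * h⁻¹ ∈ ((h • R' : Sylow p H) : Subgroup H) := by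
    rw [Sylow.coe_subgroup_smul]
    exact ⟨_, h1, rfl⟩
  rw [hh, Sylow.coe_subtype, Subgroup.mem_subgroupOf] at h2
  simpa using h2

/-- A `p`-element of `H` is conjugate in `H` into any Sylow `p`-subgroup of `G` lying in `H`. -/
theorem exists_conj_mem_sylow_of_le {G : Type*} [Group G] [Finite G] {p : ℕ} [Fact p.Prime]
    (H : Subgroup G) (Q : Sylow p G) (hQ : (Q : Subgroup G) ≤ H) (x : G) (hxH : x ∈ H)
    (R : Subgroup G) (hR : IsPGroup p R) (hxR : x ∈ R) :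
    ∃ h ∈ H, h * x * h⁻¹ ∈ (Q : Subgroup G) := by
  have hz : IsPGroup p (Subgroup.zpowers x) :=
    hR.to_le ((Subgroup.zpowers_le).mpr hxR)
  obtain ⟨h, hh, hc⟩ := exists_conj_le_sylow_of_le H Q hQ (Subgroup.zpowers x) hz
    ((Subgroup.zpowers_le).mpr hxH)
  exact ⟨h, hh, hc x (Subgroup.mem_zpowers x)⟩

end Cfsg.Agent.Lib.Helper40
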