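import Mathlib
import Cfsg.Prelude.Def_Local
import Cfsg.Agent.Lib.Helper02.PStab
import Cfsg.Agent.Lib.Helper75.FrattiniFaithful
import Cfsg.Agent.Lib.Helper03.PGroupFrattini
import Cfsg.Agent.Lib.Helper40.Cores

set_option autoImplicit false

/-!
# `p`-stability of groups of odd order, abstract and internal forms

* `exists_normal_of_quad`: a group `X` of odd order acting on a finite abelian group `V` of odd
  prime exponent `p`: every quadratically acting element lies in a normal subgroup of `X` all of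
  whose elements have a `p`-power power in the kernel of the action.
* `frattAct`: the conjugation action of `X` on the Frattini quotient of a normal subgroup.
* `abelian_le_pCore`: `X` of odd order with `C_X(O_p(X)) ≤ O_p(X)`: every abelian subgroup
  normalized by `O_p(X)` lies in `O_p(X)`.
-/

namespace Cfsg.Agent.Lib.Helper40.OddStable

open Cfsg Cfsg.Agent.Lib.Helper02.PStab
open scoped commutatorElement

theorem exists_normal_of_quad {X V : Type*} [Group X] [Finite X] [CommGroup V] [Finite V]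
    (hodd : Odd (Nat.card X)) {p : ℕ} [Fact p.Prime] (hp2 : p ≠ 2) (hV : ∀ v : V, v ^ p = 1)
    (ψ : X →* MulAut V) (b : X) (hq : Quad ψ b) :
    ∃ M : Subgroup X, M.Normal ∧ b ∈ M ∧ ∀ m ∈ M, ∃ k : ℕ, m ^ (p ^ k) ∈ ψ.ker := by
  classical
  by_contra hcon
  have hqH : Quad ψ.range.subtype ⟨ψ b, ⟨b, rfl⟩⟩ := hq
  have ha : ∀ N : Subgroup ψ.range, N.Normal → IsPGroup p N →
      (⟨ψ b, ⟨b, rfl⟩⟩ : ψ.range) ∉ N := by
    intro N hN hNp hbN
    apply hcon
    refine ⟨N.comap ψ.rangeRestrict, hN.comap _, hbN, ?_⟩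
    intro m hm
    obtain ⟨k, hk⟩ := hNp ⟨ψ.rangeRestrict m, hm⟩
    refine ⟨k, ?_⟩
    rw [MonoidHom.mem_ker, map_pow]
    have h1 := congrArg (fun x : N => ((x : ψ.range) : MulAut V)) hk
    simpa using h1
  obtain ⟨T⟩ : Nonempty (Sylow 2 ψ.range) := inferInstance
  have hnc := sylow_two_not_comm_of_quad hp2 hV ψ.range.subtype Subtype.val_injective _ hqH ha T
  apply hnc
  -- `T` is trivial
  have hT1 : Nat.card T = 1 := by
    obtain ⟨k, hk⟩ := (T.isPGroup').exists_card_eq
    have hdvd : Nat.card T ∣ Nat.card X :=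
      ((T : Subgroup ψ.range).card_subgroup_dvd_card).trans (Subgroup.card_range_dvd ψ)
    rcases Nat.eq_zero_or_pos k with rfl | hkpos
    · simpa using hk
    · exfalso
      have h2 : 2 ∣ Nat.card X := by
        refine dvd_trans ?_ hdvd
        change 2 ∣ Nat.card (T : Subgroup ψ.range)
        rw [hk]; exact dvd_pow_self 2 hkpos.ne'
      exact (Nat.not_even_iff_odd.mpr hodd) (even_iff_two_dvd.mpr h2)
  haveI : Subsingleton T := (Nat.card_eq_one_iff_unique.mp hT1).1
  exact ⟨⟨fun x y => Subsingleton.elim _ _⟩⟩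


section frat

/-- automorphisms act on the Frattini quotient -/
noncomputable def rhoF (P : Type*) [Group P] : MulAut P →* MulAut (P ⧸ frattini P) where
  toFun α := QuotientGroup.congr (frattini P) (frattini P) α
    (Subgroup.characteristic_iff_map_eq.1 inferInstance α)
  map_one' := by
    ext x
    obtain ⟨y, rfl⟩ := QuotientGroup.mk_surjective x
    rfl
  map_mul' α β := by
    ext x
    obtain ⟨y, rfl⟩ := QuotientGroup.mk_surjective x
    rfl

theorem rhoF_mk (P : Type*) [Group P] (α : MulAut P) (x : P) :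
    rhoF P α (QuotientGroup.mk x) = QuotientGroup.mk (α x) := rfl

variable {X : Type*} [Group X] (R : Subgroup X) [R.Normal]

/-- conjugation action on the Frattini quotient of a normal subgroup -/
noncomputable def frattAct : X →* MulAut (R ⧸ frattini R) :=
  (rhoF R).comp MulAut.conjNormal

theorem frattAct_mk (g : X) (y : R) :
    frattAct R g (QuotientGroup.mk y) = QuotientGroup.mk (MulAut.conjNormal g y) := rfl

/-- the Frattini quotient of a finite `p`-group is commutative -/
@[reducible] noncomputable def frattCommGroup {P : Type*} [Group P] [Finite P] {p : ℕ} [Fact p.Prime]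
    (hP : IsPGroup p P) : CommGroup (P ⧸ frattini P) :=
  { (inferInstance : Group (P ⧸ frattini P)) with
    mul_comm := by
      intro a b
      obtain ⟨x, rfl⟩ := QuotientGroup.mk_surjective a
      obtain ⟨y, rfl⟩ := QuotientGroup.mk_surjective b
      rw [← QuotientGroup.mk_mul, ← QuotientGroup.mk_mul, QuotientGroup.eq]
      apply Cfsg.Agent.Lib.Helper03.commutator_le_frattini_of_isPGroup hP
      have h1 : (x * y)⁻¹ * (y * x) = ⁅y⁻¹, x⁻¹⁆ := by
        rw [commutatorElement_def]; group
      rw [h1]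
      exact Subgroup.commutator_mem_commutator (Subgroup.mem_top _) (Subgroup.mem_top _) }

end frat


/-- **Odd order `p`-stability, internal form.** `X` of odd order with `C_X(O_p(X)) ≤ O_p(X)`:
every abelian subgroup normalized by `O_p(X)` lies in `O_p(X)`. -/
theorem abelian_le_pCore {X : Type*} [Group X] [Finite X] (hodd : Odd (Nat.card X)) {p : ℕ}
    [Fact p.Prime] (hp2 : p ≠ 2)
    (hc : Subgroup.centralizer (pCore p X : Set X) ≤ pCore p X)
    (B : Subgroup X) (hBc : ∀ x ∈ B, ∀ y ∈ B, x * y = y * x)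
    (hBn : pCore p X ≤ Subgroup.normalizer (B : Set X)) : B ≤ pCore p X := by
  intro b hb
  have hRp : IsPGroup p (pCore p X) := pCore_isPGroup' p X
  letI : CommGroup (pCore p X ⧸ frattini (pCore p X)) := frattCommGroup hRp
  have hV : ∀ v : pCore p X ⧸ frattini (pCore p X), v ^ p = 1 :=
    Cfsg.Agent.Lib.Helper75.frattini_quotient_pow hRp
  have hq : Quad (frattAct (pCore p X)) b := by
    intro v
    obtain ⟨y, rfl⟩ := QuotientGroup.mk_surjective v
    rw [frattAct_mk, ← QuotientGroup.mk_div, frattAct_mk]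
    congr 1
    apply Subtype.ext
    rw [MulAut.conjNormal_apply]
    -- the commutator `b y b⁻¹ y⁻¹` lies in `B` and so commutes with `b`
    have hyN : (y : X) ∈ Subgroup.normalizer (B : Set X) := hBn y.2
    have h1 : (y : X) * b⁻¹ * (y : X)⁻¹ ∈ B :=
      (Subgroup.mem_normalizer_iff.mp hyN b⁻¹).mp (B.inv_mem hb)
    have h2 : b * ((y : X) * b⁻¹ * (y : X)⁻¹) ∈ B := B.mul_mem hb h1
    have h3 := hBc b hb _ h2
    have h4 : ((MulAut.conjNormal b y / y : pCore p X) : X) = b * ((y : X) * b⁻¹ * (y : X)⁻¹) := by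
      rw [Subgroup.coe_div, MulAut.conjNormal_apply, div_eq_mul_inv]; group
    rw [h4]
    calc b * (b * ((y : X) * b⁻¹ * (y : X)⁻¹)) * b⁻¹
        = (b * ((y : X) * b⁻¹ * (y : X)⁻¹)) * b * b⁻¹ := by rw [h3]
      _ = b * ((y : X) * b⁻¹ * (y : X)⁻¹) := by group
  obtain ⟨M, hMn, hbM, hM⟩ := exists_normal_of_quad hodd hp2 hV (frattAct (pCore p X)) b hq
  have hMp : IsPGroup p M := by
    rintro ⟨m, hm⟩
    obtain ⟨k, hk⟩ := hM m hm
    have h1 : m ^ (p ^ k) ∈ pCore p X := by
      apply Cfsg.Agent.Lib.Helper75.mem_pCore_of_trivial_on_frattini_quotient (pCore p X) hRp hc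
      intro y hy
      rw [MonoidHom.mem_ker] at hk
      have h2 : frattAct (pCore p X) (m ^ (p ^ k)) (QuotientGroup.mk ⟨y, hy⟩) =
          QuotientGroup.mk ⟨y, hy⟩ := by rw [hk]; rfl
      rw [frattAct_mk, QuotientGroup.eq_iff_div_mem] at h2
      refine ⟨_, h2, ?_⟩
      rw [Subgroup.coe_subtype, Subgroup.coe_div, MulAut.conjNormal_apply, div_eq_mul_inv]
    obtain ⟨j, hj⟩ := hRp ⟨m ^ (p ^ k), h1⟩
    refine ⟨k + j, ?_⟩
    apply Subtype.ext
    have h3 := congrArg Subtype.val hj
    rw [Subgroup.coe_pow] at h3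
    rw [Subgroup.coe_pow, pow_add, pow_mul]
    exact h3
  exact le_pCore' hMn hMp hbM

end Cfsg.Agent.Lib.Helper40.OddStable
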