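import Mathlib
import Cfsg.Prelude.Def_Transfer
import Cfsg.Agent.Lib.Helper03.FrobSub
import Cfsg.Agent.Lib.Helper03.CoprimeAbelian
import Cfsg.Agent.Lib.Helper55.Coprime

set_option autoImplicit false

/-!
# Keystone K-S1444-C1 (for helper29, Bender–Glauberman Theorem 3.6)

Frobenius group `P₀⟨x⟩` on a `q`-group `Q` with `Z = Φ(Q) ≠ 1` central, acting on an elementary abelian
`p`-group `V`: contradiction via three applications of the Frobenius–Wielandt fixed point formula.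
-/

namespace Cfsg.Agent.Lib.Helper40.BG36C1

open Cfsg
open scoped commutatorElement

variable {Γ : Type*} [Group Γ]

/-- `|H ⊔ K|` divides `|K| |H|` when `H` normalizes `K` (same proof as `Helper16.card_sup_dvd_of_le_normalizer`) -/
theorem card_sup_dvd (H K : Subgroup Γ) (h : H ≤ Subgroup.normalizer (K : Set Γ)) :
    Nat.card (H ⊔ K : Subgroup Γ) ∣ Nat.card K * Nat.card H := by
  set N := Subgroup.normalizer (K : Set Γ) with hN
  have hKN : K ≤ N := Subgroup.le_normalizer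
  have hnorm : (K.subgroupOf N).Normal := Subgroup.normal_in_normalizer
  have h1 : (⊥ : Subgroup N).relIndex (K.subgroupOf N) *
      (K.subgroupOf N).relIndex (H.subgroupOf N ⊔ K.subgroupOf N) =
      (⊥ : Subgroup N).relIndex (H.subgroupOf N ⊔ K.subgroupOf N) :=
    Subgroup.relIndex_mul_relIndex _ _ _ bot_le le_sup_right
  rw [Subgroup.relIndex_bot_left, Subgroup.relIndex_bot_left, Subgroup.relIndex_sup_right] at h1
  have h2 : Nat.card (H.subgroupOf N ⊔ K.subgroupOf N : Subgroup N) =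
      Nat.card (H ⊔ K : Subgroup Γ) := by
    rw [← Subgroup.subgroupOf_sup h hKN]
    exact Nat.card_congr (Subgroup.subgroupOfEquivOfLe (sup_le h hKN)).toEquiv
  have h3 : Nat.card (K.subgroupOf N) = Nat.card K :=
    Nat.card_congr (Subgroup.subgroupOfEquivOfLe hKN).toEquiv
  have h4 : Nat.card (H.subgroupOf N) = Nat.card H :=
    Nat.card_congr (Subgroup.subgroupOfEquivOfLe h).toEquiv
  rw [← h2, ← h1, h3]
  apply Nat.mul_dvd_mul_left
  rw [← h4]
  exact Subgroup.relIndex_dvd_card _ _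

/-- in a cyclic group of prime order every nontrivial element generates -/
theorem mem_zpowers_of_ne_one {r : ℕ} [Fact r.Prime] (x : Γ) (hx : orderOf x = r) (e : Γ)
    (he : e ∈ Subgroup.zpowers x) (he1 : e ≠ 1) : x ∈ Subgroup.zpowers e := by
  have hcard : Nat.card (Subgroup.zpowers x) = r := by rw [Nat.card_zpowers, hx]
  have h1 : (⟨e, he⟩ : Subgroup.zpowers x) ≠ 1 := fun h => he1 (congrArg Subtype.val h)
  have h2 := mem_zpowers_of_prime_card (G := Subgroup.zpowers x) hcard h1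
    (g' := ⟨x, Subgroup.mem_zpowers x⟩)
  obtain ⟨k, hk⟩ := Subgroup.mem_zpowers_iff.mp h2
  refine Subgroup.mem_zpowers_iff.mpr ⟨k, ?_⟩
  have := congrArg Subtype.val hk
  simpa using this

/-- commuting with a nontrivial element of `⟨x⟩` implies commuting with `x` -/
theorem commute_of_commute_zpowers {r : ℕ} [Fact r.Prime] (x : Γ) (hx : orderOf x = r) (e : Γ)
    (he : e ∈ Subgroup.zpowers x) (he1 : e ≠ 1) (u : Γ) (hu : e * u = u * e) : u * x = x * u := by
  have hx' := mem_zpowers_of_ne_one x hx e he he1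
  obtain ⟨k, hk⟩ := Subgroup.mem_zpowers_iff.mp hx'
  rw [← hk]
  have hc : Commute u e := hu.symm
  exact (hc.zpow_right k).eq

/-- the cardinality of a `p`-subgroup bounded by `p` and nontrivial is `p` -/
theorem card_eq_of_le {p : ℕ} [hp : Fact p.Prime] (A : Subgroup Γ) [Finite A] (hA : IsPGroup p A)
    (hle : Nat.card A ≤ p) (hne : A ≠ ⊥) : Nat.card A = p := by
  obtain ⟨n, hn⟩ := hA.exists_card_eq
  rcases n with _ | n
  · rw [pow_zero] at hn
    exact absurd ((Subgroup.card_eq_one).mp hn) hne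
  · have h1 : p ≤ Nat.card A := by
      rw [hn, pow_succ]
      exact Nat.le_mul_of_pos_left _ (pow_pos hp.out.pos n)
    omega

/-- conjugation by an element of the normalizer -/
theorem conj_mem_of_mem_normalizer {H : Subgroup Γ} {g h : Γ}
    (hg : g ∈ Subgroup.normalizer (H : Set Γ)) (hh : h ∈ H) : g * h * g⁻¹ ∈ H :=
  (Subgroup.mem_normalizer_iff.mp hg h).mp hh

/-- Frobenius–Wielandt for `E = ⟨x⟩` of prime order `r` acting without fixed points on `U`. -/
theorem wielandt_x [Finite Γ] {r : ℕ} [Fact r.Prime] (x : Γ) (hx : orderOf x = r)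
    (U H : Subgroup Γ) (hxU : x ∈ Subgroup.normalizer (U : Set Γ))
    (hfpf : ∀ u ∈ U, u * x = x * u → u = 1) (hnil : Group.IsNilpotent U)
    (hUH : U ≤ Subgroup.normalizer (H : Set Γ)) (hxH : x ∈ Subgroup.normalizer (H : Set Γ))
    (hsolv : Group.IsSolvable H) (hcop : Nat.Coprime (Nat.card H) (Nat.card U * r)) :
    Nat.card ↥(H ⊓ Subgroup.centralizer ((U ⊔ Subgroup.zpowers x : Subgroup Γ) : Set Γ)) ^ r *
        Nat.card H =
      Nat.card ↥(H ⊓ Subgroup.centralizer ((Subgroup.zpowers x : Subgroup Γ) : Set Γ)) ^ r *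
        Nat.card ↥(H ⊓ Subgroup.centralizer (U : Set Γ)) := by
  set E : Subgroup Γ := Subgroup.zpowers x with hE
  have hEcard : Nat.card E = r := by rw [hE, Nat.card_zpowers, hx]
  have hEU : E ≤ Subgroup.normalizer (U : Set Γ) := by
    rw [hE, Subgroup.zpowers_le]; exact hxU
  have hEH : E ≤ Subgroup.normalizer (H : Set Γ) := by
    rw [hE, Subgroup.zpowers_le]; exact hxH
  have key := Cfsg.Agent.Lib.Helper03.FrobSub.wielandt_sub U E H
    (fun e he u hu => conj_mem_of_mem_normalizer (hEU he) hu)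
    (fun e he he1 u hu hc => hfpf u hu (commute_of_commute_zpowers x hx e he he1 u hc))
    hnil
    (fun y hy h hh => conj_mem_of_mem_normalizer ((sup_le hUH hEH) hy) hh)
    hsolv
    (by
      have hdvd : Nat.card (E ⊔ U : Subgroup Γ) ∣ Nat.card U * Nat.card E := card_sup_dvd E U hEU
      rw [sup_comm, hEcard] at hdvd
      exact Nat.Coprime.coprime_dvd_right hdvd hcop)
  rw [hEcard] at key
  exact key

/-- a nontrivial `p`-subgroup has at least `p` elements -/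
theorem le_card_of_ne_bot {p : ℕ} [hp : Fact p.Prime] (A : Subgroup Γ) [Finite A] (hA : IsPGroup p A)
    (hne : A ≠ ⊥) : p ≤ Nat.card A := by
  obtain ⟨n, hn⟩ := hA.exists_card_eq
  rcases n with _ | n
  · rw [pow_zero] at hn
    exact absurd ((Subgroup.card_eq_one).mp hn) hne
  · rw [hn, pow_succ]
    exact Nat.le_mul_of_pos_left _ (pow_pos hp.out.pos n)

/-- coprimality of the orders involved -/
theorem coprime_card [Finite Γ] {p q r : ℕ} [hp : Fact p.Prime] [hq : Fact q.Prime] [hr : Fact r.Prime]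
    (hpq : p ≠ q) (hpr : p ≠ r) (H U : Subgroup Γ) (hH : IsPGroup p H) (hU : IsPGroup q U) :
    Nat.Coprime (Nat.card H) (Nat.card U * r) := by
  obtain ⟨a, ha⟩ := hH.exists_card_eq
  obtain ⟨b, hb⟩ := hU.exists_card_eq
  rw [ha, hb]
  apply Nat.Coprime.mul_right
  · exact Nat.Coprime.pow _ _ ((Nat.coprime_primes hp.out hq.out).mpr hpq)
  · exact Nat.Coprime.pow_left _ ((Nat.coprime_primes hp.out hr.out).mpr hpr)

/-- in a finite group `g H g⁻¹ ≤ H` forces `g ∈ N(H)` -/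
theorem mem_normalizer_of_conj [Finite Γ] (H : Subgroup Γ) (g : Γ)
    (h : ∀ a ∈ H, g * a * g⁻¹ ∈ H) : g ∈ Subgroup.normalizer (H : Set Γ) := by
  rw [Subgroup.mem_normalizer_iff]
  intro a
  refine ⟨h a, fun ha => ?_⟩
  let f : H → H := fun b => ⟨g * b * g⁻¹, h b b.2⟩
  have hinj : Function.Injective f := by
    intro b c hbc
    have h1 : g * (b : Γ) * g⁻¹ = g * (c : Γ) * g⁻¹ := congrArg Subtype.val hbc
    apply Subtype.ext
    simpa using h1
  have hsurj := Finite.surjective_of_injective hinj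
  obtain ⟨b, hb⟩ := hsurj ⟨g * a * g⁻¹, ha⟩
  have h1 : g * (b : Γ) * g⁻¹ = g * a * g⁻¹ := congrArg Subtype.val hb
  have hba : (b : Γ) = a := by simpa using h1
  rw [← hba]; exact b.2

/-- the normalizers of `A` and `B` normalize `⁅A, B⁆` -/
theorem mem_normalizer_commutator [Finite Γ] {A B : Subgroup Γ} {g : Γ}
    (hA : g ∈ Subgroup.normalizer (A : Set Γ)) (hB : g ∈ Subgroup.normalizer (B : Set Γ)) :
    g ∈ Subgroup.normalizer ((⁅A, B⁆ : Subgroup Γ) : Set Γ) := by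
  apply mem_normalizer_of_conj
  intro c hc
  have hmap : (⁅A, B⁆).map (MulAut.conj g).toMonoidHom =
      ⁅A.map (MulAut.conj g).toMonoidHom, B.map (MulAut.conj g).toMonoidHom⁆ :=
    Subgroup.map_commutator _ _ _
  have hA' : A.map (MulAut.conj g).toMonoidHom ≤ A := by
    rintro _ ⟨a, ha, rfl⟩
    exact conj_mem_of_mem_normalizer hA ha
  have hB' : B.map (MulAut.conj g).toMonoidHom ≤ B := by
    rintro _ ⟨a, ha, rfl⟩
    exact conj_mem_of_mem_normalizer hB ha
  have h1 : g * c * g⁻¹ ∈ (⁅A, B⁆).map (MulAut.conj g).toMonoidHom := ⟨c, hc, rfl⟩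
  rw [hmap] at h1
  exact Subgroup.commutator_mono hA' hB' h1

/-- an element normalizing `A` normalizes `C(A)` -/
theorem mem_normalizer_centralizer' [Finite Γ] {A : Subgroup Γ} {g : Γ}
    (hA : g ∈ Subgroup.normalizer (A : Set Γ)) :
    g ∈ Subgroup.normalizer ((Subgroup.centralizer (A : Set Γ) : Subgroup Γ) : Set Γ) := by
  apply mem_normalizer_of_conj
  intro c hc
  rw [Subgroup.mem_centralizer_iff] at hc ⊢
  intro a ha
  have h1 : g⁻¹ * a * g ∈ A := by
    have := (Subgroup.mem_normalizer_iff.mp hA (g⁻¹ * a * g)).mpr (by simpa [mul_assoc] using ha)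
    exact this
  have h2 := hc _ h1
  calc a * (g * c * g⁻¹) = g * ((g⁻¹ * a * g) * c) * g⁻¹ := by group
    _ = g * (c * (g⁻¹ * a * g)) * g⁻¹ := by rw [h2]
    _ = g * c * g⁻¹ * a := by group

/-- an element normalizing `A` and `B` normalizes `A ⊓ B` -/
theorem mem_normalizer_inf'' {A B : Subgroup Γ} {g : Γ}
    (hA : g ∈ Subgroup.normalizer (A : Set Γ)) (hB : g ∈ Subgroup.normalizer (B : Set Γ)) :
    g ∈ Subgroup.normalizer ((A ⊓ B : Subgroup Γ) : Set Γ) := by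
  rw [Subgroup.mem_normalizer_iff] at hA hB ⊢
  intro a
  rw [Subgroup.mem_inf, Subgroup.mem_inf, hA a, hB a]

/-- Step 1: `x` acts without fixed points on `Z`. -/
theorem fpf_Z [Finite Γ] {p q r : ℕ} [Fact p.Prime] [hq : Fact q.Prime] [Fact r.Prime]
    (hpq : p ≠ q) (hqr : q ≠ r)
    (Q P₀ Z : Subgroup Γ) (x : Γ)
    (hQ : IsPGroup q Q) (hP₀ : IsPGroup p P₀)
    (hPQ : P₀ ≤ Subgroup.normalizer (Q : Set Γ)) (hxQ : x ∈ Subgroup.normalizer (Q : Set Γ))
    (hxP : x ∈ Subgroup.normalizer (P₀ : Set Γ)) (hx : orderOf x = r)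
    (hZQ : Z ≤ Q) (hZne : Z ≠ Q)
    (hPZ : P₀ ≤ Subgroup.centralizer (Z : Set Γ))
    (hCQP : Q ⊓ Subgroup.centralizer (P₀ : Set Γ) ≤ Z)
    (hfpf : ∀ z ∈ P₀, z * x = x * z → z = 1)
    (hQexp : ∀ y ∈ Q, y ^ q = 1)
    (hcycQ : ∀ A : Subgroup Γ, A ≤ Q → (∀ a ∈ A, a * x = x * a) → IsCyclic A) :
    ∀ z ∈ Z, z * x = x * z → z = 1 := by
  intro z hz hzx
  by_contra hz1
  have hnilP : Group.IsNilpotent P₀ := hP₀.isNilpotent
  have hnilQ : Group.IsNilpotent Q := hQ.isNilpotent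
  have hsolvQ : Group.IsSolvable Q := inferInstance
  have hW := wielandt_x x hx P₀ Q hxP hfpf hnilP hPQ hxQ hsolvQ
    (coprime_card (Ne.symm hpq) hqr Q P₀ hQ hP₀)
  -- `z` lies in the first centralizer
  have hzA : z ∈ Q ⊓ Subgroup.centralizer ((P₀ ⊔ Subgroup.zpowers x : Subgroup Γ) : Set Γ) := by
    refine Subgroup.mem_inf.mpr ⟨hZQ hz, ?_⟩
    have hle : P₀ ⊔ Subgroup.zpowers x ≤ Subgroup.centralizer ({z} : Set Γ) := by
      apply sup_le
      · intro y hy
        rw [Subgroup.mem_centralizer_iff]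
        intro w hw
        rw [Set.mem_singleton_iff] at hw
        subst hw
        exact (Subgroup.mem_centralizer_iff.mp (hPZ hy) w hz)
      · rw [Subgroup.zpowers_le, Subgroup.mem_centralizer_iff]
        intro w hw
        rw [Set.mem_singleton_iff] at hw
        subst hw
        exact hzx
    rw [Subgroup.mem_centralizer_iff]
    intro y hy
    have := Subgroup.mem_centralizer_iff.mp (hle hy) z (Set.mem_singleton z)
    exact this.symm
  have hAne : Q ⊓ Subgroup.centralizer ((P₀ ⊔ Subgroup.zpowers x : Subgroup Γ) : Set Γ) ≠ ⊥ := by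
    intro hbot
    rw [hbot, Subgroup.mem_bot] at hzA
    exact hz1 hzA
  have hAq : q ≤ Nat.card ↥(Q ⊓ Subgroup.centralizer ((P₀ ⊔ Subgroup.zpowers x : Subgroup Γ) : Set Γ)) :=
    le_card_of_ne_bot _ (hQ.to_le inf_le_left) hAne
  -- the second centralizer is cyclic of exponent `q`
  have hBq : Nat.card ↥(Q ⊓ Subgroup.centralizer ((Subgroup.zpowers x : Subgroup Γ) : Set Γ)) ≤ q := by
    have hcyc : IsCyclic ↥(Q ⊓ Subgroup.centralizer ((Subgroup.zpowers x : Subgroup Γ) : Set Γ)) := by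
      apply hcycQ _ inf_le_left
      intro a ha
      exact (Subgroup.mem_centralizer_iff.mp (Subgroup.mem_inf.mp ha).2 x (Subgroup.mem_zpowers x)).symm
    have hexp : Monoid.exponent ↥(Q ⊓ Subgroup.centralizer ((Subgroup.zpowers x : Subgroup Γ) : Set Γ)) ∣ q := by
      apply Monoid.exponent_dvd_of_forall_pow_eq_one
      intro b
      apply Subtype.ext
      rw [Subgroup.coe_pow, Subgroup.coe_one]
      exact hQexp _ (Subgroup.mem_inf.mp b.2).1
    rw [IsCyclic.exponent_eq_card] at hexp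
    exact Nat.le_of_dvd hq.out.pos hexp
  have hCZ : Nat.card ↥(Q ⊓ Subgroup.centralizer (P₀ : Set Γ)) ≤ Nat.card Z :=
    Subgroup.card_le_of_le hCQP
  have h1 : q ^ r * Nat.card Q ≤ q ^ r * Nat.card Z := by
    calc q ^ r * Nat.card Q
        ≤ Nat.card ↥(Q ⊓ Subgroup.centralizer ((P₀ ⊔ Subgroup.zpowers x : Subgroup Γ) : Set Γ)) ^ r *
            Nat.card Q := Nat.mul_le_mul_right _ (Nat.pow_le_pow_left hAq r)
      _ = Nat.card ↥(Q ⊓ Subgroup.centralizer ((Subgroup.zpowers x : Subgroup Γ) : Set Γ)) ^ r *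
            Nat.card ↥(Q ⊓ Subgroup.centralizer (P₀ : Set Γ)) := hW
      _ ≤ q ^ r * Nat.card Z := Nat.mul_le_mul (Nat.pow_le_pow_left hBq r) hCZ
  have h2 : Nat.card Q ≤ Nat.card Z := Nat.le_of_mul_le_mul_left h1 (pow_pos hq.out.pos r)
  exact hZne (Subgroup.eq_of_le_of_card_ge hZQ h2)

/-- `|H ⊔ K : K|` divides `|H|` when `H` normalizes `K` -/
theorem relIndex_sup_dvd [Finite Γ] (H K : Subgroup Γ) (h : H ≤ Subgroup.normalizer (K : Set Γ)) :
    K.relIndex (H ⊔ K) ∣ Nat.card H := by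
  have h1 := Subgroup.relIndex_mul_relIndex (⊥ : Subgroup Γ) K (H ⊔ K) bot_le le_sup_right
  rw [Subgroup.relIndex_bot_left, Subgroup.relIndex_bot_left] at h1
  have h2 := card_sup_dvd H K h
  rw [← h1] at h2
  exact Nat.dvd_of_mul_dvd_mul_left Nat.card_pos h2

/-- an elementary abelian subgroup is a `p`-group -/
theorem isPGroup_of_elementary {p : ℕ} (V : Subgroup Γ) (hV : IsElementaryAbelian p V) :
    IsPGroup p V := by
  intro v
  refine ⟨1, ?_⟩
  apply Subtype.ext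
  rw [pow_one, Subgroup.coe_pow, Subgroup.coe_one]
  exact hV.2 _ v.2

/-- Step 3 core: an `x`- and `Z`-invariant nontrivial subgroup `H ≤ V` with `C_H(Z) = 1` has order `p ^ r`. -/
theorem card_eq_pow [Finite Γ] {p q r : ℕ} [Fact p.Prime] [Fact q.Prime] [Fact r.Prime]
    (hpq : p ≠ q) (hpr : p ≠ r)
    (V Z H : Subgroup Γ) (x : Γ)
    (hV : IsElementaryAbelian p V) (hZ : IsPGroup q Z)
    (hx : orderOf x = r)
    (hxZ : x ∈ Subgroup.normalizer (Z : Set Γ))
    (hfpfZ : ∀ z ∈ Z, z * x = x * z → z = 1)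
    (hHV : H ≤ V) (hH1 : H ≠ ⊥)
    (hZH : Z ≤ Subgroup.normalizer (H : Set Γ)) (hxH : x ∈ Subgroup.normalizer (H : Set Γ))
    (hHZ : H ⊓ Subgroup.centralizer (Z : Set Γ) = ⊥)
    (hCVx : ∀ A : Subgroup Γ, A ≤ V → (∀ a ∈ A, a * x = x * a) → Nat.card A ≤ p) :
    Nat.card H = p ^ r := by
  have hVp : IsPGroup p V := isPGroup_of_elementary V hV
  have hHp : IsPGroup p H := hVp.to_le hHV
  have hnilZ : Group.IsNilpotent Z := hZ.isNilpotent
  have hsolvH : Group.IsSolvable H := by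
    apply isSolvable_of_comm
    intro a b
    apply Subtype.ext
    have h1 := isMulCommutative_iff.mp hV.1 ⟨a, hHV a.2⟩ ⟨b, hHV b.2⟩
    have h2 : (a : Γ) * (b : Γ) = (b : Γ) * (a : Γ) := congrArg (Subtype.val : ↥V → Γ) h1
    exact h2
  have hW := wielandt_x x hx Z H hxZ hfpfZ hnilZ hZH hxH hsolvH (coprime_card hpq hpr H Z hHp hZ)
  have hbot2 : H ⊓ Subgroup.centralizer ((Z ⊔ Subgroup.zpowers x : Subgroup Γ) : Set Γ) = ⊥ := by
    rw [eq_bot_iff, ← hHZ]
    apply inf_le_inf_left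
    apply Subgroup.centralizer_le
    exact (le_sup_left : Z ≤ Z ⊔ Subgroup.zpowers x)
  rw [hbot2, hHZ] at hW
  simp only [Subgroup.card_bot, one_pow, one_mul, mul_one] at hW
  -- hW : card H = card (H ⊓ C(E)) ^ r
  have hBle : Nat.card ↥(H ⊓ Subgroup.centralizer ((Subgroup.zpowers x : Subgroup Γ) : Set Γ)) ≤ p := by
    apply hCVx _ (inf_le_left.trans hHV)
    intro a ha
    exact (Subgroup.mem_centralizer_iff.mp (Subgroup.mem_inf.mp ha).2 x (Subgroup.mem_zpowers x)).symm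
  have hBne : H ⊓ Subgroup.centralizer ((Subgroup.zpowers x : Subgroup Γ) : Set Γ) ≠ ⊥ := by
    intro hbot
    rw [hbot, Subgroup.card_bot, one_pow] at hW
    exact hH1 (Subgroup.card_eq_one.mp hW)
  have hB := card_eq_of_le _ (hHp.to_le inf_le_left) hBle hBne
  rw [hW, hB]

/-- **K-S1444-C1.** -/
theorem config_C1 [Finite Γ] {p q r : ℕ} [Fact p.Prime] [Fact q.Prime] [Fact r.Prime]
    (hpq : p ≠ q) (hpr : p ≠ r) (hqr : q ≠ r)
    (V Q P₀ Z : Subgroup Γ) (x : Γ)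
    (hV : IsElementaryAbelian p V) (hQ : IsPGroup q Q) (hP₀ : IsPGroup p P₀)
    (hQV : Q ≤ Subgroup.normalizer (V : Set Γ)) (hPV : P₀ ≤ Subgroup.normalizer (V : Set Γ))
    (hxV : x ∈ Subgroup.normalizer (V : Set Γ))
    (hPQ : P₀ ≤ Subgroup.normalizer (Q : Set Γ)) (hxQ : x ∈ Subgroup.normalizer (Q : Set Γ))
    (hxP : x ∈ Subgroup.normalizer (P₀ : Set Γ)) (hx : orderOf x = r)
    (hZQ : Z ≤ Q) (hZ1 : Z ≠ ⊥) (hZne : Z ≠ Q)
    (hZcen : Z ≤ Subgroup.centralizer (Q : Set Γ))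
    (hxZ : x ∈ Subgroup.normalizer (Z : Set Γ))
    (hPZ : P₀ ≤ Subgroup.centralizer (Z : Set Γ))
    (hCQP : Q ⊓ Subgroup.centralizer (P₀ : Set Γ) ≤ Z)
    (hfpf : ∀ z ∈ P₀, z * x = x * z → z = 1)
    (hfQV : Q ⊓ Subgroup.centralizer (V : Set Γ) = ⊥)
    (hQP : ⁅Q, P₀⁆ = Q)
    (hQexp : ∀ y ∈ Q, y ^ q = 1)
    (hcycQ : ∀ A : Subgroup Γ, A ≤ Q → (∀ a ∈ A, a * x = x * a) → IsCyclic A)
    (hCVx : ∀ A : Subgroup Γ, A ≤ V → (∀ a ∈ A, a * x = x * a) → Nat.card A ≤ p) :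
    False := by
  have hfZ := fpf_Z hpq hqr Q P₀ Z x hQ hP₀ hPQ hxQ hxP hx hZQ hZne hPZ hCQP hfpf hQexp hcycQ
  have hZq : IsPGroup q Z := hQ.to_le hZQ
  have hVp : IsPGroup p V := isPGroup_of_elementary V hV
  have hZV : Z ≤ Subgroup.normalizer (V : Set Γ) := hZQ.trans hQV
  -- `V₁ = [V, Z]`
  have hV₁V : ⁅V, Z⁆ ≤ V := by
    rw [Subgroup.commutator_le]
    intro v hv z hz
    have h1 : z * v⁻¹ * z⁻¹ ∈ V := conj_mem_of_mem_normalizer (hZV hz) (V.inv_mem hv)
    have h2 : ⁅v, z⁆ = v * (z * v⁻¹ * z⁻¹) := by rw [commutatorElement_def]; group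
    rw [h2]; exact V.mul_mem hv h1
  have hV₁ne : ⁅V, Z⁆ ≠ ⊥ := by
    intro hbot
    rw [Subgroup.commutator_eq_bot_iff_le_centralizer] at hbot
    have h1 : Z ≤ Q ⊓ Subgroup.centralizer (V : Set Γ) := by
      refine le_inf hZQ ?_
      intro z hz
      rw [Subgroup.mem_centralizer_iff]
      intro v hv
      exact (Subgroup.mem_centralizer_iff.mp (hbot hv) z hz).symm
    rw [hfQV] at h1
    exact hZ1 (le_bot_iff.mp h1)
  have hV₁Z : ⁅V, Z⁆ ⊓ Subgroup.centralizer (Z : Set Γ) = ⊥ := by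
    have hcop : Nat.Coprime (Nat.card V) (V.relIndex (Z ⊔ V)) := by
      have hdvd := relIndex_sup_dvd Z V hZV
      obtain ⟨a, ha⟩ := hVp.exists_card_eq
      obtain ⟨b, hb⟩ := hZq.exists_card_eq
      rw [hb] at hdvd
      rw [ha]
      apply Nat.Coprime.coprime_dvd_right hdvd
      exact Nat.Coprime.pow _ _ ((Nat.coprime_primes Fact.out Fact.out).mpr hpq)
    have key := Cfsg.Agent.Lib.Helper03.commutator_inf_centralizer_inf_eq_bot_of_abelian_hall
      V (Z ⊔ V) le_sup_right hV.1 hcop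
    rw [eq_bot_iff, ← key]
    intro v hv
    obtain ⟨hv1, hv2⟩ := Subgroup.mem_inf.mp hv
    have hvV : v ∈ V := hV₁V hv1
    refine Subgroup.mem_inf.mpr ⟨Subgroup.mem_inf.mpr ⟨?_, ?_⟩, hvV⟩
    · exact Subgroup.commutator_mono le_sup_right le_sup_left hv1
    · have hle : Z ⊔ V ≤ Subgroup.centralizer ({v} : Set Γ) := by
        apply sup_le
        · intro z hz
          rw [Subgroup.mem_centralizer_iff]
          intro w hw
          rw [Set.mem_singleton_iff] at hw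
          subst hw
          exact (Subgroup.mem_centralizer_iff.mp hv2 z hz).symm
        · intro u hu
          rw [Subgroup.mem_centralizer_iff]
          intro w hw
          rw [Set.mem_singleton_iff] at hw
          subst hw
          have h1 := isMulCommutative_iff.mp hV.1 ⟨w, hvV⟩ ⟨u, hu⟩
          exact congrArg Subtype.val h1
      rw [Subgroup.mem_centralizer_iff]
      intro y hy
      exact (Subgroup.mem_centralizer_iff.mp (hle hy) v (Set.mem_singleton v)).symm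
  -- normalizers of `V₁`
  have hQZn : Q ≤ Subgroup.normalizer (Z : Set Γ) := by
    intro y hy
    apply Subgroup.centralizer_le_normalizer
    rw [Subgroup.mem_centralizer_iff]
    intro z hz
    exact (Subgroup.mem_centralizer_iff.mp (hZcen hz) y hy).symm
  have hPZn : P₀ ≤ Subgroup.normalizer (Z : Set Γ) :=
    hPZ.trans (Subgroup.centralizer_le_normalizer _)
  have hQV₁ : Q ≤ Subgroup.normalizer ((⁅V, Z⁆ : Subgroup Γ) : Set Γ) :=
    fun y hy => mem_normalizer_commutator (hQV hy) (hQZn hy)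
  have hPV₁ : P₀ ≤ Subgroup.normalizer ((⁅V, Z⁆ : Subgroup Γ) : Set Γ) :=
    fun y hy => mem_normalizer_commutator (hPV hy) (hPZn hy)
  have hxV₁ : x ∈ Subgroup.normalizer ((⁅V, Z⁆ : Subgroup Γ) : Set Γ) :=
    mem_normalizer_commutator hxV hxZ
  have hZV₁ : Z ≤ Subgroup.normalizer ((⁅V, Z⁆ : Subgroup Γ) : Set Γ) := hZQ.trans hQV₁
  -- `V₂ = C_{V₁}(P₀)`
  have hV₂ne : ⁅V, Z⁆ ⊓ Subgroup.centralizer (P₀ : Set Γ) ≠ ⊥ :=
    Cfsg.Agent.Lib.Helper55.inf_centralizer_ne_bot_of_le_normalizer hP₀ (hVp.to_le hV₁V) hV₁ne hPV₁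
  have hZP : Z ≤ Subgroup.normalizer (P₀ : Set Γ) := by
    intro z hz
    apply Subgroup.centralizer_le_normalizer
    rw [Subgroup.mem_centralizer_iff]
    intro y hy
    exact (Subgroup.mem_centralizer_iff.mp (hPZ hy) z hz).symm
  have hZV₂ : Z ≤ Subgroup.normalizer
      ((⁅V, Z⁆ ⊓ Subgroup.centralizer (P₀ : Set Γ) : Subgroup Γ) : Set Γ) :=
    fun z hz => mem_normalizer_inf'' (hZV₁ hz) (mem_normalizer_centralizer' (hZP hz))
  have hxV₂ : x ∈ Subgroup.normalizer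
      ((⁅V, Z⁆ ⊓ Subgroup.centralizer (P₀ : Set Γ) : Subgroup Γ) : Set Γ) :=
    mem_normalizer_inf'' hxV₁ (mem_normalizer_centralizer' hxP)
  have hV₂Z : (⁅V, Z⁆ ⊓ Subgroup.centralizer (P₀ : Set Γ)) ⊓ Subgroup.centralizer (Z : Set Γ) = ⊥ := by
    rw [eq_bot_iff, ← hV₁Z]
    exact inf_le_inf_right _ inf_le_left
  have hc1 := card_eq_pow hpq hpr V Z ⁅V, Z⁆ x hV hZq hx hxZ hfZ hV₁V hV₁ne hZV₁ hxV₁ hV₁Z hCVx
  have hc2 := card_eq_pow hpq hpr V Z (⁅V, Z⁆ ⊓ Subgroup.centralizer (P₀ : Set Γ)) x hV hZq hx hxZ hfZ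
    (inf_le_left.trans hV₁V) hV₂ne hZV₂ hxV₂ hV₂Z hCVx
  have heq : ⁅V, Z⁆ ⊓ Subgroup.centralizer (P₀ : Set Γ) = ⁅V, Z⁆ :=
    Subgroup.eq_of_le_of_card_ge inf_le_left (by rw [hc1, hc2])
  have hV₁P : ⁅V, Z⁆ ≤ Subgroup.centralizer (P₀ : Set Γ) := by
    rw [← heq]; exact inf_le_right
  -- `P₀ ≤ C(V₁)`, hence `Q = [Q, P₀] ≤ C(V₁)`
  have hPC : P₀ ≤ Subgroup.centralizer ((⁅V, Z⁆ : Subgroup Γ) : Set Γ) := by
    intro y hy
    rw [Subgroup.mem_centralizer_iff]
    intro v hv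
    exact (Subgroup.mem_centralizer_iff.mp (hV₁P hv) y hy).symm
  have hQC : Q ≤ Subgroup.centralizer ((⁅V, Z⁆ : Subgroup Γ) : Set Γ) := by
    rw [← hQP, Subgroup.commutator_le]
    intro y hy a ha
    have h1 : y * a * y⁻¹ ∈ Subgroup.centralizer ((⁅V, Z⁆ : Subgroup Γ) : Set Γ) :=
      conj_mem_of_mem_normalizer (mem_normalizer_centralizer' (hQV₁ hy)) (hPC ha)
    have h2 : ⁅y, a⁆ = y * a * y⁻¹ * a⁻¹ := commutatorElement_def y a
    rw [h2]
    exact Subgroup.mul_mem _ h1 (Subgroup.inv_mem _ (hPC ha))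
  have hV₁le : ⁅V, Z⁆ ≤ ⁅V, Z⁆ ⊓ Subgroup.centralizer (Z : Set Γ) := by
    refine le_inf le_rfl ?_
    intro v hv
    rw [Subgroup.mem_centralizer_iff]
    intro z hz
    exact (Subgroup.mem_centralizer_iff.mp (hQC (hZQ hz)) v hv).symm
  rw [hV₁Z] at hV₁le
  exact hV₁ne (le_bot_iff.mp hV₁le)

end Cfsg.Agent.Lib.Helper40.BG36C1
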