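import Mathlib
import Cfsg.Agent.Lib.Helper16.ClassTwo
import Cfsg.Agent.Lib.Helper40.Cores

set_option autoImplicit false

namespace Cfsg.Agent.Lib.Helper40

open scoped commutatorElement

variable {G : Type*} [Group G]

/-- The power trick: if `x q x⁻¹ = q z` with `z` commuting with `x`, `x ^ m = 1` and the order of
`z` prime to `m`, then `z = 1`. -/
theorem eq_one_of_conj_pow (x q z : G) (m : ℕ) (hx : x ^ m = 1)
    (hz : x * q * x⁻¹ = q * z) (hxz : x * z = z * x) (hzo : (orderOf z).Coprime m) : z = 1 := by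
  have hxzn : ∀ n : ℕ, x * z ^ n * x⁻¹ = z ^ n := by
    intro n
    have h1 : Commute x (z ^ n) := (show Commute x z from hxz).pow_right n
    rw [h1.eq, mul_assoc, mul_inv_cancel, mul_one]
  have hpow : ∀ n : ℕ, x ^ n * q * (x ^ n)⁻¹ = q * z ^ n := by
    intro n
    induction n with
    | zero => simp
    | succ n ih =>
      calc x ^ (n + 1) * q * (x ^ (n + 1))⁻¹ = x * (x ^ n * q * (x ^ n)⁻¹) * x⁻¹ := by
            rw [pow_succ']; group
        _ = x * (q * z ^ n) * x⁻¹ := by rw [ih]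
        _ = (x * q * x⁻¹) * (x * z ^ n * x⁻¹) := by group
        _ = q * z * z ^ n := by rw [hz, hxzn]
        _ = q * z ^ (n + 1) := by rw [pow_succ', mul_assoc]
  have h1 := hpow m
  rw [hx] at h1
  have h2 : z ^ m = 1 := by
    have : q * 1 = q * z ^ m := by simpa using h1
    exact (mul_left_cancel this).symm
  have h3 : orderOf z ∣ m := orderOf_dvd_of_pow_eq_one h2
  have h4 : orderOf z = 1 := Nat.eq_one_of_dvd_coprimes hzo dvd_rfl h3
  exact orderOf_eq_one_iff.mp h4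

/-- coprimality of orders of a `p`-element and a `p'`-element -/
theorem orderOf_coprime_of_isPGroup {p : ℕ} [Fact p.Prime] {Q : Subgroup G} (hQ : IsPGroup p Q)
    {z g : G} (hz : z ∈ Q) (hg : (orderOf g).Coprime p) : (orderOf z).Coprime (orderOf g) := by
  obtain ⟨k, hk⟩ := hQ ⟨z, hz⟩
  have h1 : z ^ p ^ k = 1 := by simpa using congrArg Subtype.val hk
  have h2 : orderOf z ∣ p ^ k := orderOf_dvd_of_pow_eq_one h1
  exact Nat.Coprime.coprime_dvd_left h2 (Nat.Coprime.pow_left k hg.symm)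

/-- The subgroup of `Q` generated by commutators and `p`-th powers. -/
def phiSub (p : ℕ) (Q : Subgroup G) : Subgroup G :=
  Subgroup.closure ({c | ∃ a ∈ Q, ∃ b ∈ Q, c = ⁅a, b⁆} ∪ {c | ∃ a ∈ Q, c = a ^ p})

theorem phiSub_le (p : ℕ) (Q : Subgroup G) : phiSub p Q ≤ Q := by
  unfold phiSub
  rw [Subgroup.closure_le]
  rintro c (⟨a, ha, b, hb, rfl⟩ | ⟨a, ha, rfl⟩)
  · rw [commutatorElement_def]
    exact mul_mem (mul_mem (mul_mem ha hb) (inv_mem ha)) (inv_mem hb)
  · exact pow_mem ha p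

theorem comm_mem_phiSub (p : ℕ) {Q : Subgroup G} {a b : G} (ha : a ∈ Q) (hb : b ∈ Q) :
    ⁅a, b⁆ ∈ phiSub p Q :=
  Subgroup.subset_closure (Or.inl ⟨a, ha, b, hb, rfl⟩)

theorem pow_mem_phiSub (p : ℕ) {Q : Subgroup G} {a : G} (ha : a ∈ Q) : a ^ p ∈ phiSub p Q :=
  Subgroup.subset_closure (Or.inr ⟨a, ha, rfl⟩)

theorem phiSub_conj_mem (p : ℕ) {Q : Subgroup G} {g : G}
    (hg : g ∈ Subgroup.normalizer (Q : Set G)) :
    ∀ x ∈ phiSub p Q, g * x * g⁻¹ ∈ phiSub p Q := by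
  intro x hx
  unfold phiSub at hx
  induction hx using Subgroup.closure_induction with
  | mem c hc =>
    rcases hc with ⟨a, ha, b, hb, rfl⟩ | ⟨a, ha, rfl⟩
    · have h1 : g * ⁅a, b⁆ * g⁻¹ = ⁅g * a * g⁻¹, g * b * g⁻¹⁆ := by
        simp only [commutatorElement_def]; group
      rw [h1]
      exact comm_mem_phiSub p ((Subgroup.mem_normalizer_iff.mp hg a).mp ha)
        ((Subgroup.mem_normalizer_iff.mp hg b).mp hb)
    · have h1 : g * a ^ p * g⁻¹ = (g * a * g⁻¹) ^ p := (conj_pow).symm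
      rw [h1]
      exact pow_mem_phiSub p ((Subgroup.mem_normalizer_iff.mp hg a).mp ha)
  | one => simp
  | mul x y _ _ hx hy =>
    have h1 : g * (x * y) * g⁻¹ = (g * x * g⁻¹) * (g * y * g⁻¹) := by group
    rw [h1]; exact mul_mem hx hy
  | inv x _ hx =>
    have h1 : g * x⁻¹ * g⁻¹ = (g * x * g⁻¹)⁻¹ := by group
    rw [h1]; exact inv_mem hx

theorem phiSub_ne [Finite G] {p : ℕ} [Fact p.Prime] {Q : Subgroup G} (hQ : IsPGroup p Q)
    (hne : Q ≠ ⊥) : phiSub p Q ≠ Q := by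
  have hp : p.Prime := Fact.out
  obtain ⟨k, hk⟩ := IsPGroup.iff_card.mp hQ
  have hk0 : k ≠ 0 := by
    rintro rfl
    rw [pow_zero] at hk
    exact hne (Subgroup.card_eq_one.mp hk)
  obtain ⟨k', rfl⟩ := Nat.exists_eq_succ_of_ne_zero hk0
  obtain ⟨M, hM⟩ := Sylow.exists_subgroup_card_pow_prime (G := ↥Q) p (n := k')
    (by rw [hk]; exact pow_dvd_pow p (Nat.le_succ k'))
  have hidx : M.index = p := by
    have h1 := M.card_mul_index
    rw [hM, hk, pow_succ] at h1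
    exact Nat.eq_of_mul_eq_mul_left (pow_pos hp.pos k') h1
  haveI hMn : M.Normal := by
    apply Subgroup.normal_of_index_eq_minFac_card
    rw [hidx, hk, Nat.Prime.pow_minFac hp (Nat.succ_ne_zero k')]
  have hcard : Nat.card (↥Q ⧸ M) = p := hidx
  haveI : Fact (Nat.card (↥Q ⧸ M)).Prime := ⟨hcard ▸ hp⟩
  have hcyc : IsCyclic (↥Q ⧸ M) := isCyclic_of_prime_card (p := p) hcard
  have hle : phiSub p Q ≤ M.map Q.subtype := by
    unfold phiSub
    rw [Subgroup.closure_le]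
    rintro c (⟨a, ha, b, hb, rfl⟩ | ⟨a, ha, rfl⟩)
    · refine ⟨⁅(⟨a, ha⟩ : ↥Q), (⟨b, hb⟩ : ↥Q)⁆, ?_, by simp [commutatorElement_def]⟩
      rw [SetLike.mem_coe, ← QuotientGroup.eq_one_iff]
      have h1 : ((⁅(⟨a, ha⟩ : ↥Q), (⟨b, hb⟩ : ↥Q)⁆ : ↥Q) : ↥Q ⧸ M)
          = ⁅((⟨a, ha⟩ : ↥Q) : ↥Q ⧸ M), ((⟨b, hb⟩ : ↥Q) : ↥Q ⧸ M)⁆ :=
        map_commutatorElement (QuotientGroup.mk' M) _ _
      rw [h1, commutatorElement_eq_one_iff_commute]
      obtain ⟨c, hc⟩ := hcyc.exists_generator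
      obtain ⟨i, hi⟩ := Subgroup.mem_zpowers_iff.mp (hc ((⟨a, ha⟩ : ↥Q) : ↥Q ⧸ M))
      obtain ⟨j, hj⟩ := Subgroup.mem_zpowers_iff.mp (hc ((⟨b, hb⟩ : ↥Q) : ↥Q ⧸ M))
      rw [← hi, ← hj]
      exact Commute.zpow_zpow_self c i j
    · refine ⟨⟨a, ha⟩ ^ p, ?_, by simp⟩
      rw [SetLike.mem_coe, ← QuotientGroup.eq_one_iff, QuotientGroup.mk_pow, ← hcard]
      exact pow_card_eq_one'
  intro heq
  rw [heq] at hle
  have h2 : Nat.card Q ≤ Nat.card (M.map Q.subtype) := Subgroup.card_le_of_le hle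
  rw [Subgroup.card_map_of_injective Q.subtype_injective, hM, hk] at h2
  exact absurd h2 (not_le.mpr (Nat.pow_lt_pow_right hp.one_lt (Nat.lt_succ_self k')))

/-- `p ∣ tri p` for odd `p`, and `2 ∣ tri 4`. -/
theorem tri_odd_prime {p : ℕ} (hp : p.Prime) (hp2 : p ≠ 2) :
    ∃ t, Cfsg.Agent.Lib.Helper16.Cl2.tri p = p * t := by
  have h1 := Cfsg.Agent.Lib.Helper16.Cl2.two_mul_tri p
  have hodd : Odd p := hp.odd_of_ne_two hp2
  obtain ⟨j, hj⟩ := hodd
  refine ⟨j, ?_⟩
  have h2 : 2 * Cfsg.Agent.Lib.Helper16.Cl2.tri p = 2 * (p * j) := by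
    have : p * p = 2 * (p * j) + p := by rw [hj]; ring
    omega
  omega

/-- The `Ω`-lemma: a `p'`-element normalizing a `p`-subgroup `Q` and centralizing all elements of `Q`
of order dividing `p` (dividing `4` when `p = 2`) centralizes `Q`. -/
theorem omega_lemma [Finite G] {p : ℕ} [Fact p.Prime] (g : G) (hg : (orderOf g).Coprime p) :
    ∀ n : ℕ, ∀ Q : Subgroup G, Nat.card Q = n → IsPGroup p Q →
      g ∈ Subgroup.normalizer (Q : Set G) →
      (∀ a ∈ Q, (a ^ p = 1 ∨ (p = 2 ∧ a ^ 4 = 1)) → g * a = a * g) →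
      ∀ q ∈ Q, g * q = q * g := by
  have hp : p.Prime := Fact.out
  intro n
  induction n using Nat.strong_induction_on with
  | _ n ih =>
  intro Q hn hQ hgQ hΩ
  by_cases hQb : Q = ⊥
  · intro q hq
    rw [hQb, Subgroup.mem_bot] at hq
    rw [hq]; simp
  -- the induction hypothesis for proper g-invariant subgroups
  have IH : ∀ R : Subgroup G, R ≤ Q → R ≠ Q → g ∈ Subgroup.normalizer (R : Set G) →
      ∀ r ∈ R, g * r = r * g := by
    intro R hRQ hRne hgR
    have hlt : Nat.card R < n := by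
      rw [← hn]
      rcases lt_or_ge (Nat.card R) (Nat.card Q) with h | h
      · exact h
      · exact absurd (Subgroup.eq_of_le_of_card_ge hRQ h) hRne
    exact ih _ hlt R rfl (hQ.to_le hRQ) hgR (fun a ha => hΩ a (hRQ ha))
  -- power trick packaged
  have trick : ∀ x ∈ Q, ∀ z ∈ Q, g * x * g⁻¹ = x * z → g * z = z * g → g * x = x * g := by
    intro x _ z hz h1 h2
    have hz1 : z = 1 := eq_one_of_conj_pow g x z (orderOf g) (pow_orderOf_eq_one g) h1 h2
      (orderOf_coprime_of_isPGroup hQ hz hg)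
    rw [hz1, mul_one] at h1
    calc g * x = (g * x * g⁻¹) * g := by group
      _ = x * g := by rw [h1]
  -- Φ
  have hΦle := phiSub_le p Q
  have hΦne := phiSub_ne hQ hQb
  have hgΦ : g ∈ Subgroup.normalizer ((phiSub p Q : Subgroup G) : Set G) :=
    Subgroup.mem_normalizer_fintype (fun x hx => phiSub_conj_mem p hgQ x hx)
  have hΦ : ∀ u ∈ phiSub p Q, g * u = u * g := IH _ hΦle hΦne hgΦ
  -- D = [Q, g]
  have hDle : ⁅Q, Subgroup.zpowers g⁆ ≤ Q := by
    rw [Subgroup.commutator_le]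
    intro a ha b hb
    have hbN : b ∈ Subgroup.normalizer (Q : Set G) :=
      (Subgroup.zpowers_le.mpr hgQ) hb
    rw [commutatorElement_def]
    have h1 : a * b * a⁻¹ * b⁻¹ = a * (b * a⁻¹ * b⁻¹) := by group
    rw [h1]
    exact mul_mem ha ((Subgroup.mem_normalizer_iff.mp hbN a⁻¹).mp (inv_mem ha))
  have hgD : g ∈ Subgroup.normalizer ((⁅Q, Subgroup.zpowers g⁆ : Subgroup G) : Set G) := by
    apply mem_normalizer_of_map_conj_eq
    rw [Subgroup.map_commutator, map_conj_eq_of_mem_normalizer hgQ]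
    congr 1
    apply map_conj_eq_of_mem_normalizer
    exact Subgroup.le_normalizer (Subgroup.mem_zpowers g)
  have hzD : ∀ x ∈ Q, x⁻¹ * (g * x * g⁻¹) ∈ ⁅Q, Subgroup.zpowers g⁆ := by
    intro x hx
    have h1 : x⁻¹ * (g * x * g⁻¹) = ⁅x⁻¹, g⁆ := by rw [commutatorElement_def]; group
    rw [h1]
    exact Subgroup.commutator_mem_commutator (inv_mem hx) (Subgroup.mem_zpowers g)
  by_cases hD : ⁅Q, Subgroup.zpowers g⁆ = Q
  · -- Q = [Q, g]: Φ is central in Q
    have hΦcent : ⁅Subgroup.zpowers g, phiSub p Q⁆ = ⊥ := by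
      rw [Subgroup.commutator_eq_bot_iff_le_centralizer, Subgroup.zpowers_le,
        Subgroup.mem_centralizer_iff]
      intro u hu
      exact (hΦ u hu).symm
    have h1 : ⁅⁅Q, phiSub p Q⁆, Subgroup.zpowers g⁆ = ⊥ := by
      rw [eq_bot_iff, ← hΦcent, Subgroup.commutator_comm (Subgroup.zpowers g)]
      refine Subgroup.commutator_mono ?_ le_rfl
      rw [Subgroup.commutator_le]
      intro a ha u hu
      exact comm_mem_phiSub p ha (hΦle hu)
    have h2 : ⁅⁅phiSub p Q, Subgroup.zpowers g⁆, Q⁆ = ⊥ := by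
      rw [Subgroup.commutator_comm (phiSub p Q), hΦcent, Subgroup.commutator_bot_left]
    have h3 := Subgroup.commutator_commutator_eq_bot_of_rotate h1 h2
    rw [Subgroup.commutator_comm (Subgroup.zpowers g), hD,
      Subgroup.commutator_eq_bot_iff_le_centralizer] at h3
    have hcl : Cfsg.Agent.Lib.Helper16.Cl2 Q (phiSub p Q) :=
      ⟨hΦle, fun d hd h hh => ((Subgroup.mem_centralizer_iff.mp (h3 hh)) d hd),
        fun h hh k hk => comm_mem_phiSub p hh hk⟩
    -- commutators with central elements vanish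
    have hcomm1 : ∀ y ∈ phiSub p Q, ∀ x ∈ Q, ⁅y, x⁆ = 1 := by
      intro y hy x hx
      rw [commutatorElement_eq_one_iff_mul_comm]
      exact hcl.central y hy x hx
    -- the exponent e and the power homomorphism
    obtain ⟨e, he, hemem, hepow⟩ : ∃ e : ℕ, (∀ k : G, k ^ e = 1 → (k ^ p = 1 ∨ (p = 2 ∧ k ^ 4 = 1))) ∧
        (∀ x ∈ Q, x ^ e ∈ phiSub p Q) ∧
        (∀ x ∈ Q, ∀ y ∈ Q, (x * y) ^ e = x ^ e * y ^ e) := by
      by_cases hp2 : p = 2
      · refine ⟨4, fun k hk => Or.inr ⟨hp2, hk⟩, ?_, ?_⟩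
        · intro x hx
          have h4 : x ^ 4 = (x ^ p) ^ p := by rw [hp2, ← pow_mul]
          rw [h4]
          exact pow_mem (pow_mem_phiSub p hx) p
        · intro x hx y hy
          rw [hcl.mul_pow_formula hx hy 4]
          have h5 : ⁅y, x⁆ ^ 2 = 1 := by
            rw [← hcl.pow_left hy hx 2]
            exact hcomm1 _ (by rw [← hp2]; exact pow_mem_phiSub p hy) x hx
          have h6 : Cfsg.Agent.Lib.Helper16.Cl2.tri 4 = 2 * 3 := by decide
          rw [h6, pow_mul, h5, one_pow, mul_one]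
      · refine ⟨p, fun k hk => Or.inl hk, fun x hx => pow_mem_phiSub p hx, ?_⟩
        intro x hx y hy
        rw [hcl.mul_pow_formula hx hy p]
        obtain ⟨t, ht⟩ := tri_odd_prime hp hp2
        have h5 : ⁅y, x⁆ ^ p = 1 := by
          rw [← hcl.pow_left hy hx p]
          exact hcomm1 _ (pow_mem_phiSub p hy) x hx
        rw [ht, pow_mul, h5, one_pow, mul_one]
    intro x hx
    have hgx : g * x * g⁻¹ ∈ Q := (Subgroup.mem_normalizer_iff.mp hgQ x).mp hx
    have hk : (x⁻¹ * (g * x * g⁻¹)) ^ e = 1 := by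
      rw [hepow _ (inv_mem hx) _ hgx, conj_pow, inv_pow]
      have h7 : g * x ^ e * g⁻¹ = x ^ e := by
        rw [hΦ _ (hemem x hx), mul_assoc, mul_inv_cancel, mul_one]
      rw [h7, inv_mul_cancel]
    have hkQ : x⁻¹ * (g * x * g⁻¹) ∈ Q := mul_mem (inv_mem hx) hgx
    refine trick x hx _ hkQ (by group) (hΩ _ hkQ (he _ hk))
  · -- [Q, g] < Q
    have hDc := IH _ hDle hD hgD
    intro x hx
    exact trick x hx _ (hDle (hzD x hx)) (by group) (hDc _ (hzD x hx))

end Cfsg.Agent.Lib.Helper40
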