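import Mathlib
import Cfsg.Agent.Lib.Helper40.Cores

set_option autoImplicit false

namespace Cfsg.Agent.Lib.Helper40

variable {G : Type*} [Group G]

section relsylow

theorem card_mul_relIndex' {T H : Subgroup G} (h : T ≤ H) :
    Nat.card T * T.relIndex H = Nat.card H := by
  have := Subgroup.relIndex_mul_relIndex (⊥ : Subgroup G) T H bot_le h
  simpa only [Subgroup.relIndex_bot_left] using this

/-- Every `p`-subgroup of `H` lies in a relative Sylow `p`-subgroup of `H`. -/
theorem exists_relSylow_ge {p : ℕ} [Fact p.Prime] [Finite G] (H V : Subgroup G) (hVH : V ≤ H)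
    (hV : IsPGroup p V) :
    ∃ T : Subgroup G, V ≤ T ∧ T ≤ H ∧ IsPGroup p T ∧ ¬ p ∣ T.relIndex H := by
  have hV' : IsPGroup p (V.subgroupOf H) :=
    hV.comap_of_injective H.subtype H.subtype_injective
  obtain ⟨P, hP⟩ := hV'.exists_le_sylow
  refine ⟨(P : Subgroup ↥H).map H.subtype, ?_, Subgroup.map_subtype_le _, P.isPGroup'.map _, ?_⟩
  · intro v hv
    exact ⟨⟨v, hVH hv⟩, hP (by simpa [Subgroup.mem_subgroupOf] using hv), rfl⟩
  · have h1 : ((P : Subgroup ↥H).map H.subtype).subgroupOf H = P :=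
      Subgroup.comap_map_eq_self_of_injective H.subtype_injective _
    rw [Subgroup.relIndex, h1]
    exact P.not_dvd_index

/-- A relative Sylow subgroup is a maximal `p`-subgroup. -/
theorem relSylow_le_of_le {p : ℕ} [Fact p.Prime] [Finite G] {T V H : Subgroup G} (hTV : T ≤ V)
    (hVH : V ≤ H) (hV : IsPGroup p V) (hT : ¬ p ∣ T.relIndex H) : V ≤ T := by
  have h1 := Subgroup.relIndex_mul_relIndex T V H hTV hVH
  have h2 : ¬ p ∣ T.relIndex V := fun h => hT (h1 ▸ Dvd.dvd.mul_right h _)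
  obtain ⟨n, hn⟩ := IsPGroup.exists_card_eq hV
  have h3 : T.relIndex V ∣ p ^ n := hn ▸ Subgroup.relIndex_dvd_card T V
  have hp : p.Prime := Fact.out
  obtain ⟨k, _, hk⟩ := (Nat.dvd_prime_pow hp).mp h3
  have hk0 : k = 0 := by
    by_contra hne
    exact h2 (hk ▸ dvd_pow_self p hne)
  rw [hk0, pow_zero] at hk
  exact Subgroup.relIndex_eq_one.mp hk

theorem card_dvd_card_relSylow {p : ℕ} [Fact p.Prime] [Finite G] {T V H : Subgroup G} (hTH : T ≤ H)
    (hVH : V ≤ H) (hV : IsPGroup p V) (hT : ¬ p ∣ T.relIndex H) : Nat.card V ∣ Nat.card T := by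
  have h1 : Nat.card V ∣ Nat.card H := Subgroup.card_dvd_of_le hVH
  rw [← card_mul_relIndex' hTH] at h1
  obtain ⟨n, hn⟩ := IsPGroup.exists_card_eq hV
  have hp : p.Prime := Fact.out
  have hcop : (Nat.card V).Coprime (T.relIndex H) := by
    rw [hn]
    exact Nat.Coprime.pow_left n ((Nat.Prime.coprime_iff_not_dvd hp).mpr hT)
  exact hcop.dvd_of_dvd_mul_right h1

/-- Conjugacy of relative Sylow subgroups. -/
theorem exists_conj_le_relSylow {p : ℕ} [Fact p.Prime] [Finite G] {T V H : Subgroup G}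
    (hVH : V ≤ H) (hV : IsPGroup p V) (hTp : IsPGroup p T)
    (hT : ¬ p ∣ T.relIndex H) : ∃ h ∈ H, ∀ v ∈ V, h * v * h⁻¹ ∈ T := by
  have hTp' : IsPGroup p (T.subgroupOf H) :=
    hTp.comap_of_injective H.subtype H.subtype_injective
  let TS : Sylow p ↥H := hTp'.toSylow hT
  have hV' : IsPGroup p (V.subgroupOf H) :=
    hV.comap_of_injective H.subtype H.subtype_injective
  obtain ⟨P, hP⟩ := hV'.exists_le_sylow
  obtain ⟨h, hh⟩ := MulAction.exists_smul_eq ↥H P TS
  refine ⟨h, h.2, ?_⟩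
  intro v hv
  have h1 : (⟨v, hVH hv⟩ : ↥H) ∈ (P : Subgroup ↥H) :=
    hP (by simpa [Subgroup.mem_subgroupOf] using hv)
  have h2 : h * ⟨v, hVH hv⟩ * h⁻¹ ∈ ((h • P : Sylow p ↥H) : Subgroup ↥H) := by
    rw [Sylow.coe_subgroup_smul, Subgroup.mem_smul_pointwise_iff_exists]
    exact ⟨_, h1, rfl⟩
  rw [hh] at h2
  have h3 : (h * ⟨v, hVH hv⟩ * h⁻¹ : ↥H) ∈ T.subgroupOf H := h2
  rw [Subgroup.mem_subgroupOf] at h3
  simpa using h3

/-- Version of `relIndex_eq_relIndex_sup_of_normal` where `S` merely normalizes `K`. -/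
theorem relIndex_eq_relIndex_sup_of_le_normalizer [Finite G] (S K : Subgroup G)
    (h : S ≤ Subgroup.normalizer (K : Set G)) : S.relIndex K = S.relIndex (S ⊔ K) := by
  set M := S ⊔ K with hM
  have hSM : S ≤ M := le_sup_left
  have hKM : K ≤ M := le_sup_right
  have hKn : (K.subgroupOf M).Normal := by
    rw [Subgroup.normal_subgroupOf_iff_le_normalizer hKM]
    exact sup_le h Subgroup.le_normalizer
  have h1 := relIndex_eq_relIndex_sup_of_normal (S.subgroupOf M) (K.subgroupOf M)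
  rw [← Subgroup.subgroupOf_sup hSM hKM, Subgroup.relIndex_subgroupOf hKM,
    Subgroup.relIndex_subgroupOf le_rfl] at h1
  exact h1

/-- If `S` is a relative Sylow subgroup of `S ⊔ K` normalizing `K`, then `S ⊓ K` is a relative
Sylow subgroup of `K`. -/
theorem not_dvd_relIndex_inf_of_le_normalizer [Finite G] {p : ℕ} (S K : Subgroup G)
    (h : S ≤ Subgroup.normalizer (K : Set G)) (hS : ¬ p ∣ S.relIndex (S ⊔ K)) :
    ¬ p ∣ (S ⊓ K).relIndex K := by
  rw [Subgroup.inf_relIndex_right, relIndex_eq_relIndex_sup_of_le_normalizer S K h]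
  exact hS

/-- If `V ≤ T × U` (internal direct product) meets `T` trivially, then `V` embeds in `U`. -/
theorem exists_injective_hom_of_le_sup {T U V : Subgroup G}
    (hcomm : ∀ t ∈ T, ∀ u ∈ U, t * u = u * t) (hTU : T ⊓ U = ⊥) (hV : V ≤ T ⊔ U)
    (hVT : V ⊓ T = ⊥) : ∃ f : V →* U, Function.Injective f := by
  have hc : ∀ (t : ↥T) (u : ↥U), Commute (T.subtype t) (U.subtype u) :=
    fun t u => hcomm t t.2 u u.2
  obtain ⟨ψ, hψ⟩ : ∃ ψ : ↥T × ↥U →* G, ψ = MonoidHom.noncommCoprod T.subtype U.subtype hc :=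
    ⟨_, rfl⟩
  have hinj : Function.Injective ψ := by
    rw [hψ, MonoidHom.noncommCoprod_injective]
    refine ⟨T.subtype_injective, U.subtype_injective, ?_⟩
    rw [Subgroup.range_subtype, Subgroup.range_subtype, disjoint_iff]
    exact hTU
  have hrange : ψ.range = T ⊔ U := by
    rw [hψ, MonoidHom.noncommCoprod_range, Subgroup.range_subtype, Subgroup.range_subtype]
  let e := MonoidHom.ofInjective hinj
  have hV' : V ≤ ψ.range := hrange ▸ hV
  let f : V →* U :=
    (MonoidHom.snd ↥T ↥U).comp (e.symm.toMonoidHom.comp (Subgroup.inclusion hV'))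
  refine ⟨f, ?_⟩
  rw [injective_iff_map_eq_one]
  intro v hv
  set w := e.symm (Subgroup.inclusion hV' v) with hw
  have h1 : e w = Subgroup.inclusion hV' v := by rw [hw, MulEquiv.apply_symm_apply]
  have h2 : ψ w = (v : G) := by
    have := congrArg Subtype.val h1
    rw [MonoidHom.ofInjective_apply] at this
    simpa using this
  have h3 : w.2 = 1 := hv
  have h4 : ψ w = (w.1 : G) := by
    rw [hψ, MonoidHom.noncommCoprod_apply, h3]; simp
  have h5 : (v : G) ∈ V ⊓ T := Subgroup.mem_inf.mpr ⟨v.2, by rw [← h2, h4]; exact w.1.2⟩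
  rw [hVT, Subgroup.mem_bot] at h5
  exact Subtype.ext h5

end relsylow

end Cfsg.Agent.Lib.Helper40
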