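import Mathlib
import Cfsg.Prelude.Def_CaseTheorems
import Cfsg.Agent.S0093
import Cfsg.Agent.S0120
import Cfsg.Agent.S0121
import Cfsg.Agent.Lib.Helper16.ClassTwo
import Cfsg.Agent.Lib.Helper40.OmegaLemma
import Cfsg.Agent.Lib.Helper40.RelSylow

set_option autoImplicit false

/-!
# Automorphisms of `p`-groups of rank at least three with a small centralizer

Let `p` be odd and `R` a finite `p`-group having an elementary abelian subgroup of order `p ^ 3`.
Suppose `x ∈ R` has order dividing `p` and all elements of `C_R(x)` of order dividing `p` lie in a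
subgroup `E` of order `p ^ 2` (this is what "narrow" gives).  Then `Aut R` has a normal
`p`-subgroup `N` with `Aut R / N` abelian of exponent dividing `p - 1`
(`exists_normal_pSubgroup_mulAut`).

The proof: let `H` be a critical subgroup (S0093) and `C = Ω₁(H)`, of exponent `p` and class at most
two.  Every normal subgroup `K ≠ 1` of `R` inside `C` satisfies `|K : [K, R]| = p`
(`card_eq_mul_card_commutator`), so the normal subgroups of `R` inside `C` form a chain with factors
of order `p`, all invariant under `Aut R`; `N` is the group of automorphisms acting trivially on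
every factor, and `p'`-elements of `N` are trivial by S0120 and S0121.
-/

namespace Cfsg.Agent.Lib.Helper40.Narrow

open Cfsg Subgroup
open scoped commutatorElement

variable {R : Type*} [Group R]

/-- the number of conjugates of `x` under `K` is at most the size of any set containing all the
commutators `k x k⁻¹ x⁻¹`. -/
theorem relIndex_centralizer_le [Finite R] (K : Subgroup R) (x : R) (S : Set R)
    (hS : ∀ k ∈ K, k * x * k⁻¹ * x⁻¹ ∈ S) :
    (K ⊓ centralizer {x}).relIndex K ≤ Nat.card S := by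
  classical
  rw [inf_relIndex_left, relIndex, index]
  let f : K ⧸ (centralizer ({x} : Set R)).subgroupOf K → S :=
    Quotient.lift (fun k : K => (⟨(k : R) * x * (k : R)⁻¹ * x⁻¹, hS k k.2⟩ : S)) (by
      intro a b hab
      have h1 : a⁻¹ * b ∈ (centralizer ({x} : Set R)).subgroupOf K := QuotientGroup.leftRel_apply.mp hab
      rw [mem_subgroupOf, mem_centralizer_singleton_iff] at h1
      apply Subtype.ext
      show (a : R) * x * (a : R)⁻¹ * x⁻¹ = (b : R) * x * (b : R)⁻¹ * x⁻¹
      have h2 : ((a : R)⁻¹ * (b : R)) * x = x * ((a : R)⁻¹ * (b : R)) := by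
        simpa using h1
      have h3 : (b : R) * x * (b : R)⁻¹ = (a : R) * x * (a : R)⁻¹ := by
        have : (b : R) = (a : R) * ((a : R)⁻¹ * (b : R)) := by group
        rw [this, mul_assoc (a : R), h2]
        group
      rw [h3])
  have hf : Function.Injective f := by
    intro a b
    induction a using QuotientGroup.induction_on with
    | H a =>
    induction b using QuotientGroup.induction_on with
    | H b =>
    intro hab
    have h0 : (a : R) * x * (a : R)⁻¹ * x⁻¹ = (b : R) * x * (b : R)⁻¹ * x⁻¹ :=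
      congrArg Subtype.val hab
    have h1 : (a : R) * x * (a : R)⁻¹ = (b : R) * x * (b : R)⁻¹ := mul_right_cancel h0
    apply QuotientGroup.eq.mpr
    rw [mem_subgroupOf, mem_centralizer_singleton_iff]
    have h2 : x * ((a : R)⁻¹ * (b : R)) = ((a : R)⁻¹ * (b : R)) * x := by
      have : x = (a : R)⁻¹ * ((b : R) * x * (b : R)⁻¹) * (a : R) := by
        rw [← h1]; group
      calc x * ((a : R)⁻¹ * (b : R))
          = ((a : R)⁻¹ * ((b : R) * x * (b : R)⁻¹) * (a : R)) * ((a : R)⁻¹ * (b : R)) := by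
            rw [← this]
        _ = ((a : R)⁻¹ * (b : R)) * x := by group
    simpa using h2.symm
  exact Nat.card_le_card_of_injective f hf

/-- fibre count: `|K| ≤ |C_K(x)| · |S|`. -/
theorem card_le_card_centralizer_mul [Finite R] (K : Subgroup R) (x : R) (S : Set R)
    (hS : ∀ k ∈ K, k * x * k⁻¹ * x⁻¹ ∈ S) :
    Nat.card K ≤ Nat.card (K ⊓ centralizer {x} : Subgroup R) * Nat.card S := by
  have h1 := Cfsg.Agent.Lib.Helper40.card_mul_relIndex' (inf_le_left : K ⊓ centralizer {x} ≤ K)
  rw [← h1]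
  exact Nat.mul_le_mul_left _ (relIndex_centralizer_le K x S hS)

/-- iterated commutators with the whole group lie in the lower central series. -/
theorem iter_comm_eq_bot [Finite R] [Group.IsNilpotent R] (K : Subgroup R)
    (hK : ⁅K, (⊤ : Subgroup R)⁆ = K) : K = ⊥ := by
  obtain ⟨n, hn⟩ := (Subgroup.nilpotent_iff_lowerCentralSeries (G := R)).mp inferInstance
  have key : ∀ i : ℕ, K ≤ (⊤ : Subgroup R).lowerCentralSeries i := by
    intro i
    induction i with
    | zero => simp
    | succ i ih =>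
      rw [Subgroup.lowerCentralSeries_succ]
      calc K = ⁅K, (⊤ : Subgroup R)⁆ := hK.symm
        _ ≤ ⁅(⊤ : Subgroup R).lowerCentralSeries i, (⊤ : Subgroup R)⁆ := commutator_mono ih le_rfl
  exact le_bot_iff.mp (hn ▸ key n)


/-! ### The witness -/

/-- `x` has order dividing `p` and all elements of `C_R(x)` of order dividing `p` lie in the subgroup
`E` of order `p ^ 2`. -/
structure Wit (p : ℕ) (x : R) (E : Subgroup R) : Prop where
  pow : x ^ p = 1
  card : Nat.card E = p ^ 2
  mem : ∀ g : R, g * x = x * g → g ^ p = 1 → g ∈ E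

namespace Wit

variable {p : ℕ} {x : R} {E : Subgroup R}

theorem self_mem (w : Wit p x E) : x ∈ E := w.mem x rfl w.pow

theorem inf_centralizer_le (w : Wit p x E) {A : Subgroup R} (hA : ∀ a ∈ A, a ^ p = 1) :
    A ⊓ centralizer {x} ≤ E := by
  intro a ha
  exact w.mem a (mem_centralizer_singleton_iff.mp ha.2) (hA a ha.1)

theorem not_mem_center [Finite R] (w : Wit p x E) (hrk : ¬ PRankLE p 2 R) : x ∉ center R := by
  intro hx
  apply hrk
  intro A _ hA
  have h1 : A ≤ E := fun a ha => w.mem a (mem_center_iff.mp hx a) (hA a ha)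
  calc Nat.card A ≤ Nat.card E := card_le_of_le h1
    _ = p ^ 2 := w.card

/-- if `E` is normal then `R` has `p`-rank at most two. -/
theorem pRankLE_of_normal [Finite R] [hp : Fact p.Prime] (w : Wit p x E) (hE : E.Normal) :
    PRankLE p 2 R := by
  intro A hAc hA
  by_contra hcon
  rw [not_le] at hcon
  have hp1 : 1 < p := hp.out.one_lt
  have hAp : IsPGroup p A := by
    intro a
    refine ⟨1, ?_⟩
    apply Subtype.ext
    simpa using hA a a.2
  obtain ⟨a, ha⟩ := hAp.exists_card_eq
  set B : Subgroup R := A ⊓ centralizer {x} with hB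
  have hBE : B ≤ E := w.inf_centralizer_le hA
  have hBp : IsPGroup p B := hAp.to_le inf_le_left
  obtain ⟨b, hb⟩ := hBp.exists_card_eq
  have hb2 : b ≤ 2 := by
    have := card_le_of_le hBE
    rw [hb, w.card] at this
    exact (Nat.pow_le_pow_iff_right hp1).mp this
  have ha3 : 3 ≤ a := by
    rw [ha] at hcon
    have := (Nat.pow_lt_pow_iff_right hp1).mp hcon
    omega
  -- the index is at most p ^ 2 - 1
  have hx1 : x ≠ 1 := by
    intro hx
    have hAE : A ≤ E := fun g hg => w.mem g (by rw [hx]; simp) (hA g hg)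
    have := card_le_of_le hAE
    rw [w.card] at this
    omega
  have hidx : B.relIndex A ≤ Nat.card ((E : Set R) \ {x⁻¹} : Set R) := by
    apply relIndex_centralizer_le
    intro k hk
    refine ⟨E.mul_mem (hE.conj_mem x w.self_mem k) (E.inv_mem w.self_mem), ?_⟩
    intro h
    rw [Set.mem_singleton_iff] at h
    have : k * x * k⁻¹ = 1 := by
      have := congrArg (· * x) h
      simpa using this
    apply hx1
    have h2 : x = k⁻¹ * (k * x * k⁻¹) * k := by group
    rw [h2, this]; simp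
  have hcardS : Nat.card ((E : Set R) \ {x⁻¹} : Set R) = p ^ 2 - 1 := by
    have h1 : x⁻¹ ∈ (E : Set R) := E.inv_mem w.self_mem
    rw [Nat.card_coe_set_eq, Set.ncard_sdiff_singleton_of_mem h1, ← Nat.card_coe_set_eq]
    have : Nat.card (E : Set R) = Nat.card E := rfl
    rw [this, w.card]
  rw [hcardS] at hidx
  have hmul := Cfsg.Agent.Lib.Helper40.card_mul_relIndex' (inf_le_left : B ≤ A)
  rw [hb, ha] at hmul
  have hba : b ≤ a := by
    have : p ^ b ∣ p ^ a := Dvd.intro _ hmul
    exact (Nat.pow_dvd_pow_iff_le_right hp1).mp this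
  have hrel : B.relIndex A = p ^ (a - b) := by
    have h2 : p ^ a = p ^ b * p ^ (a - b) := by rw [← pow_add]; congr 1; omega
    rw [h2] at hmul
    exact Nat.eq_of_mul_eq_mul_left (pow_pos hp.out.pos b) hmul
  rw [hrel] at hidx
  have hlt : p ^ (a - b) < p ^ 2 := by
    have : 0 < p ^ 2 := pow_pos hp.out.pos 2
    omega
  have hab : a - b < 2 := (Nat.pow_lt_pow_iff_right hp1).mp hlt
  have hb' : b = 2 := by omega
  have hBeq : B = E := by
    apply eq_of_le_of_card_ge hBE
    rw [hb, hb', w.card]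
  have hxA : x ∈ A := by
    have : x ∈ B := hBeq ▸ w.self_mem
    exact this.1
  have hAB : A ≤ B := by
    intro g hg
    refine ⟨hg, ?_⟩
    show g ∈ centralizer {x}
    rw [mem_centralizer_singleton_iff]
    have := (isMulCommutative_iff.mp hAc) (⟨g, hg⟩ : A) ⟨x, hxA⟩
    exact congrArg Subtype.val this
  have : Nat.card A ≤ Nat.card B := card_le_of_le hAB
  rw [hb, hb'] at this
  omega

end Wit


/-! ### Critical subgroups and `Ω₁` -/

/-- `H` is a critical subgroup of `R` (the properties delivered by S0093). -/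
structure Crit (H : Subgroup R) : Prop where
  char : H.Characteristic
  fratt : (frattini H).map H.subtype ≤ centralizer (H : Set R)
  comm : ⁅H, (⊤ : Subgroup R)⁆ ≤ H ⊓ centralizer (H : Set R)
  cent : centralizer (H : Set R) ≤ H

theorem exists_crit [Finite R] {p : ℕ} [Fact p.Prime] (hR : IsPGroup p R) :
    ∃ H : Subgroup R, Crit H := by
  obtain ⟨H, h1, h2, h3, h4⟩ := Cfsg.Agent.S0093.result hR
  exact ⟨H, ⟨h1, h2, h3, h4⟩⟩

/-- the elements of `H` of order dividing `p`, closed up to a subgroup. -/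
def omega (p : ℕ) (H : Subgroup R) : Subgroup R := closure {h | h ∈ H ∧ h ^ p = 1}

namespace Crit

variable {H : Subgroup R}

theorem cl2 (c : Crit H) : Cfsg.Agent.Lib.Helper16.Cl2 H (H ⊓ centralizer (H : Set R)) where
  le := inf_le_left
  central := by
    intro d hd h hh
    exact (mem_centralizer_iff.mp hd.2 h hh).symm
  comm := by
    intro h hh k hk
    exact c.comm (commutator_mem_commutator hh (mem_top k))

theorem map_mem (c : Crit H) (φ : MulAut R) {g : R} (hg : g ∈ H) : φ g ∈ H := by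
  have := c.char.fixed φ
  have h2 : g ∈ H.comap φ.toMonoidHom := by rw [this]; exact hg
  exact h2

theorem mem_omega_iff (c : Crit H) {p : ℕ} [hp : Fact p.Prime] (hp2 : p ≠ 2) {g : R} :
    g ∈ omega p H ↔ g ∈ H ∧ g ^ p = 1 := by
  constructor
  · intro hg
    unfold omega at hg
    induction hg using closure_induction with
    | mem y hy => exact hy
    | one => exact ⟨H.one_mem, one_pow p⟩
    | mul a b _ _ iha ihb =>
      refine ⟨H.mul_mem iha.1 ihb.1, ?_⟩
      obtain ⟨t, ht⟩ := Cfsg.Agent.Lib.Helper40.tri_odd_prime hp.out hp2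
      rw [c.cl2.mul_pow_formula iha.1 ihb.1 p, iha.2, ihb.2, ht, pow_mul,
        ← c.cl2.pow_left ihb.1 iha.1 p, ihb.2]
      simp
    | inv a _ iha =>
      refine ⟨H.inv_mem iha.1, ?_⟩
      rw [inv_pow, iha.2, inv_one]
  · intro hg
    exact subset_closure hg

theorem omega_le (c : Crit H) {p : ℕ} [Fact p.Prime] (hp2 : p ≠ 2) : omega p H ≤ H :=
  fun _ hg => ((c.mem_omega_iff hp2).mp hg).1

theorem pow_eq_one_of_mem_omega (c : Crit H) {p : ℕ} [Fact p.Prime] (hp2 : p ≠ 2) {g : R}
    (hg : g ∈ omega p H) : g ^ p = 1 := ((c.mem_omega_iff hp2).mp hg).2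

theorem map_mem_omega (c : Crit H) {p : ℕ} [Fact p.Prime] (hp2 : p ≠ 2) (φ : MulAut R) {g : R}
    (hg : g ∈ omega p H) : φ g ∈ omega p H := by
  rw [c.mem_omega_iff hp2] at hg ⊢
  refine ⟨c.map_mem φ hg.1, ?_⟩
  rw [← map_pow, hg.2, map_one]

theorem omega_normal (c : Crit H) {p : ℕ} [Fact p.Prime] (hp2 : p ≠ 2) : (omega p H).Normal := by
  constructor
  intro n hn g
  have := c.map_mem_omega hp2 (MulAut.conj g) hn
  simpa using this

end Crit


/-! ### The key index computation -/

section key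

variable [Finite R] {p : ℕ} [hp : Fact p.Prime] {x : R} {E H : Subgroup R}

/-- exponent arithmetic helper: a subgroup of a `p`-group has `p`-power order. -/
theorem exists_card_pow (hR : IsPGroup p R) (K : Subgroup R) : ∃ a, Nat.card K = p ^ a :=
  (hR.to_subgroup K).exists_card_eq

/-- a normal subgroup of order dividing `p` of a `p`-group is central. -/
theorem le_center_of_card_le (hR : IsPGroup p R) (L : Subgroup R) [L.Normal]
    (hL : Nat.card L ≤ p) : L ≤ center R := by
  have : Group.IsNilpotent R := hR.isNilpotent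
  have h1 : ⁅L, (⊤ : Subgroup R)⁆ ≤ L := commutator_le_left L ⊤
  have h2 : ⁅L, (⊤ : Subgroup R)⁆ = ⊥ := by
    by_contra hne
    have hne2 : ⁅L, (⊤ : Subgroup R)⁆ ≠ L := by
      intro h
      have := iter_comm_eq_bot L h
      rw [this] at hne
      exact hne (by simp)
    obtain ⟨a, ha⟩ := exists_card_pow hR L
    obtain ⟨b, hb⟩ := exists_card_pow hR ⁅L, (⊤ : Subgroup R)⁆
    have hp1 : 1 < p := hp.out.one_lt
    have ha1 : a ≤ 1 := by
      rw [ha] at hL
      have : p ^ a ≤ p ^ 1 := by simpa using hL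
      exact (Nat.pow_le_pow_iff_right hp1).mp this
    have hb0 : b ≠ 0 := by
      intro h0
      rw [h0, pow_zero] at hb
      exact hne (Subgroup.card_eq_one.mp hb)
    have hba : b ≤ a := by
      have := card_le_of_le h1
      rw [ha, hb] at this
      exact (Nat.pow_le_pow_iff_right hp1).mp this
    have hab : a = b := by omega
    apply hne2
    apply eq_of_le_of_card_ge h1
    rw [ha, hb, hab]
  have h3 := commutator_eq_bot_iff_le_centralizer.mp h2
  rwa [coe_top, centralizer_univ] at h3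

/-- if `E ≤ Ω₁(H)` then `Ω₁(H)` has order at most `p ^ 3`. -/
theorem card_omega_le (hp2 : p ≠ 2) (hrk : ¬ PRankLE p 2 R) (w : Wit p x E)
    (c : Crit H) (hE : E ≤ omega p H) : Nat.card (omega p H) ≤ p ^ 3 := by
  have hp1 : 1 < p := hp.out.one_lt
  have hxC : x ∈ omega p H := hE w.self_mem
  have hxH : x ∈ H := c.omega_le hp2 hxC
  set D : Subgroup R := omega p H ⊓ (H ⊓ centralizer (H : Set R)) with hD
  have hDE : D ≤ E := by
    intro d hd
    refine w.mem d ?_ (c.pow_eq_one_of_mem_omega hp2 hd.1)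
    exact (mem_centralizer_iff.mp hd.2.2 x hxH).symm
  have hxD : x ∉ D := by
    intro hx
    -- then `Ω₁(H) ≤ E`, so `E = Ω₁(H)` is normal
    have hCE : omega p H ≤ E := by
      intro g hg
      refine w.mem g ?_ (c.pow_eq_one_of_mem_omega hp2 hg)
      exact mem_centralizer_iff.mp hx.2.2 g (c.omega_le hp2 hg)
    have hEq : E = omega p H := le_antisymm hE hCE
    have hn : E.Normal := hEq ▸ c.omega_normal hp2
    exact hrk (w.pRankLE_of_normal hn)
  have hDcard : Nat.card D ≤ p := by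
    have hdvd : Nat.card D ∣ p ^ 2 := w.card ▸ card_dvd_of_le hDE
    obtain ⟨k, hk2, hk⟩ := (Nat.dvd_prime_pow hp.out).mp hdvd
    have hk1 : k ≠ 2 := by
      intro h2
      have : D = E := by
        apply eq_of_le_of_card_ge hDE
        rw [hk, h2, w.card]
      exact hxD (this ▸ w.self_mem)
    rw [hk]
    calc p ^ k ≤ p ^ 1 := Nat.pow_le_pow_right hp.out.pos (by omega)
      _ = p := pow_one p
  have hfib := card_le_card_centralizer_mul (omega p H) x (D : Set R) (by
    intro k hk
    have hkH : k ∈ H := c.omega_le hp2 hk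
    refine ⟨?_, ?_⟩
    · exact (omega p H).mul_mem ((omega p H).mul_mem ((omega p H).mul_mem hk hxC)
        ((omega p H).inv_mem hk)) ((omega p H).inv_mem hxC)
    · have := c.cl2.comm k hkH x hxH
      rwa [commutatorElement_def] at this)
  have h1 : Nat.card (omega p H ⊓ centralizer {x} : Subgroup R) ≤ p ^ 2 := by
    have := card_le_of_le (w.inf_centralizer_le (A := omega p H)
      (fun a ha => c.pow_eq_one_of_mem_omega hp2 ha))
    rwa [w.card] at this
  have h2 : Nat.card (D : Set R) = Nat.card D := rfl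
  calc Nat.card (omega p H)
      ≤ Nat.card (omega p H ⊓ centralizer {x} : Subgroup R) * Nat.card (D : Set R) := hfib
    _ ≤ p ^ 2 * p := by rw [h2]; exact Nat.mul_le_mul h1 hDcard
    _ = p ^ 3 := by ring

/-- **Key claim**: a nontrivial normal subgroup `K` of `R` inside `Ω₁(H)` has `|K : [K, R]| = p`. -/
theorem card_eq_mul_card_commutator (hp2 : p ≠ 2) (hR : IsPGroup p R) (hrk : ¬ PRankLE p 2 R)
    (w : Wit p x E) (c : Crit H) (K : Subgroup R) [K.Normal] (hK : K ≤ omega p H)
    (hK1 : K ≠ ⊥) : Nat.card K = p * Nat.card (⁅K, (⊤ : Subgroup R)⁆ : Subgroup R) := by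
  have : Group.IsNilpotent R := hR.isNilpotent
  have hp1 : 1 < p := hp.out.one_lt
  set L : Subgroup R := ⁅K, (⊤ : Subgroup R)⁆ with hL
  have hLK : L ≤ K := commutator_le_left K ⊤
  have hLne : L ≠ K := fun h => hK1 (iter_comm_eq_bot K h)
  obtain ⟨a, ha⟩ := exists_card_pow hR K
  obtain ⟨b, hb⟩ := exists_card_pow hR L
  have hba : b < a := by
    have h1 : b ≤ a := by
      have := card_le_of_le hLK
      rw [ha, hb] at this
      exact (Nat.pow_le_pow_iff_right hp1).mp this
    rcases Nat.lt_or_ge b a with h | h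
    · exact h
    · exfalso
      apply hLne
      apply eq_of_le_of_card_ge hLK
      rw [ha, hb]
      exact Nat.pow_le_pow_right hp.out.pos h
  by_contra hcon
  have hab : b + 2 ≤ a := by
    rcases Nat.lt_or_ge a (b + 2) with h | h
    · exfalso
      apply hcon
      have : a = b + 1 := by omega
      rw [ha, hb, this, pow_succ, mul_comm]
    · exact h
  -- the fibre count
  have hKexp : ∀ k ∈ K, k ^ p = 1 := fun k hk => c.pow_eq_one_of_mem_omega hp2 (hK hk)
  have hfib := card_le_card_centralizer_mul K x (L : Set R) (by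
    intro k hk
    have := commutator_mem_commutator hk (mem_top x)
    rwa [commutatorElement_def] at this)
  have hBE : K ⊓ centralizer {x} ≤ E := w.inf_centralizer_le hKexp
  obtain ⟨d, hd⟩ := exists_card_pow hR (K ⊓ centralizer {x})
  have hd2 : d ≤ 2 := by
    have := card_le_of_le hBE
    rw [hd, w.card] at this
    exact (Nat.pow_le_pow_iff_right hp1).mp this
  have hLs : Nat.card (L : Set R) = Nat.card L := rfl
  rw [hLs, ha, hd, hb, ← pow_add] at hfib
  have hadb : a ≤ d + b := (Nat.pow_le_pow_iff_right hp1).mp hfib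
  have hd' : d = 2 := by omega
  have hBeq : K ⊓ centralizer {x} = E := by
    apply eq_of_le_of_card_ge hBE
    rw [hd, hd', w.card]
  have hEK : E ≤ K := hBeq ▸ inf_le_left
  have hEC : E ≤ omega p H := hEK.trans hK
  -- bound on `b`
  have hC3 := card_omega_le hp2 hrk w c hEC
  have ha3 : a ≤ 3 := by
    have := (card_le_of_le hK).trans hC3
    rw [ha] at this
    exact (Nat.pow_le_pow_iff_right hp1).mp this
  have hb1 : b ≤ 1 := by omega
  have hLcard : Nat.card L ≤ p := by
    rw [hb]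
    calc p ^ b ≤ p ^ 1 := Nat.pow_le_pow_right hp.out.pos hb1
      _ = p := pow_one p
  have : L.Normal := commutator_normal K ⊤
  have hLZ : L ≤ center R := le_center_of_card_le hR L hLcard
  have hLE : L ≤ E := by
    intro l hl
    refine w.mem l ?_ (hKexp l (hLK hl))
    exact mem_center_iff.mp (hLZ hl) x |>.symm
  have hn : E.Normal := by
    constructor
    intro e he g
    have h1 : ⁅g, e⁆ ∈ L := by
      have h2 : ⁅e, g⁆ ∈ L := commutator_mem_commutator (hEK he) (mem_top g)
      have := L.inv_mem h2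
      rwa [commutatorElement_inv] at this
    have h3 : g * e * g⁻¹ = ⁅g, e⁆ * e := by
      rw [commutatorElement_def]; group
    rw [h3]
    exact E.mul_mem (hLE h1) he
  exact hrk (w.pRankLE_of_normal hn)

end key


/-! ### Invariance of the chain under automorphisms -/

/-- `[J, R] ≤ L` for the join of two subgroups with this property (`L` normal). -/
theorem commutator_sup_top_le (K K' L : Subgroup R) [L.Normal]
    (h1 : ⁅K, (⊤ : Subgroup R)⁆ ≤ L) (h2 : ⁅K', (⊤ : Subgroup R)⁆ ≤ L) :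
    ⁅K ⊔ K', (⊤ : Subgroup R)⁆ ≤ L := by
  set Z : Subgroup R := (center (R ⧸ L)).comap (QuotientGroup.mk' L) with hZ
  have key : ∀ M : Subgroup R, ⁅M, (⊤ : Subgroup R)⁆ ≤ L → M ≤ Z := by
    intro M hM m hm
    rw [hZ, mem_comap, mem_center_iff]
    intro y
    induction y using QuotientGroup.induction_on with
    | H g =>
    have h3 : ⁅m, g⁆ ∈ L := hM (commutator_mem_commutator hm (mem_top g))
    have h4 : (QuotientGroup.mk' L) ⁅m, g⁆ = 1 := (QuotientGroup.eq_one_iff _).mpr h3
    rw [commutatorElement_def, map_mul, map_mul, map_mul, map_inv, map_inv] at h4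
    have h5 : (QuotientGroup.mk' L) m * (QuotientGroup.mk' L) g =
        (QuotientGroup.mk' L) g * (QuotientGroup.mk' L) m := by
      have := congrArg (· * ((QuotientGroup.mk' L) g * (QuotientGroup.mk' L) m)) h4
      simpa [mul_assoc] using this
    exact h5.symm
  have hJ : K ⊔ K' ≤ Z := sup_le (key K h1) (key K' h2)
  rw [commutator_le]
  intro j hj g _
  have h3 := hJ hj
  rw [hZ, mem_comap, mem_center_iff] at h3
  have h4 := h3 ((QuotientGroup.mk' L) g)
  apply (QuotientGroup.eq_one_iff (N := L) _).mp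
  have : ((⁅j, g⁆ : R) : R ⧸ L) = (QuotientGroup.mk' L) j * (QuotientGroup.mk' L) g *
      ((QuotientGroup.mk' L) j)⁻¹ * ((QuotientGroup.mk' L) g)⁻¹ := by
    rw [commutatorElement_def]; rfl
  rw [this, ← h4]
  group

section chain

variable [Finite R] {p : ℕ} [hp : Fact p.Prime] {x : R} {E H : Subgroup R}

/-- every normal subgroup of `R` inside `Ω₁(H)` is invariant under all automorphisms. -/
theorem map_eq_self (hp2 : p ≠ 2) (hR : IsPGroup p R) (hrk : ¬ PRankLE p 2 R)
    (w : Wit p x E) (c : Crit H) :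
    ∀ n : ℕ, ∀ K : Subgroup R, K.Normal → K ≤ omega p H → Nat.card K = n →
      ∀ φ : MulAut R, K.map φ.toMonoidHom = K := by
  intro n
  induction n using Nat.strong_induction_on with
  | _ n ih =>
  intro K hKn hK hcard φ
  by_cases hK1 : K = ⊥
  · rw [hK1, Subgroup.map_bot]
  have hkey := card_eq_mul_card_commutator hp2 hR hrk w c K hK hK1
  set L : Subgroup R := ⁅K, (⊤ : Subgroup R)⁆ with hL
  have hLn : L.Normal := commutator_normal K ⊤
  have hLK : L ≤ K := commutator_le_left K ⊤
  have hLlt : Nat.card L < n := by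
    rw [← hcard, hkey]
    have : 0 < Nat.card L := Nat.card_pos
    have := hp.out.one_lt
    nlinarith
  have hLφ : L.map φ.toMonoidHom = L := ih _ hLlt L hLn (hLK.trans hK) rfl φ
  set K' : Subgroup R := K.map φ.toMonoidHom with hK'
  have hK'n : K'.Normal := hKn.map _ φ.surjective
  have hK'C : K' ≤ omega p H := by
    intro y hy
    obtain ⟨k, hk, rfl⟩ := mem_map.mp hy
    exact c.map_mem_omega hp2 φ (hK hk)
  have hK'card : Nat.card K' = Nat.card K := card_map_of_injective φ.injective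
  have hK'L : ⁅K', (⊤ : Subgroup R)⁆ = L := by
    have := map_commutator K ⊤ φ.toMonoidHom
    rw [map_top_of_surjective _ φ.surjective] at this
    rw [hK', ← this, hLφ]
  by_contra hne
  set J : Subgroup R := K ⊔ K' with hJ
  have hJn : J.Normal := sup_normal K K'
  have hJC : J ≤ omega p H := sup_le hK hK'C
  have hJ1 : J ≠ ⊥ := by
    intro h
    apply hK1
    exact le_bot_iff.mp (h ▸ (le_sup_left : K ≤ K ⊔ K'))
  have hJL : ⁅J, (⊤ : Subgroup R)⁆ ≤ L :=
    commutator_sup_top_le K K' L le_rfl hK'L.le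
  have hJkey := card_eq_mul_card_commutator hp2 hR hrk w c J hJC hJ1
  have hJle : Nat.card J ≤ Nat.card K := by
    rw [hJkey, hkey]
    exact Nat.mul_le_mul_left _ (card_le_of_le hJL)
  have hJK : K = J := eq_of_le_of_card_ge le_sup_left hJle
  have hK'K : K' ≤ K := hJK ▸ (le_sup_right : K' ≤ K ⊔ K')
  exact hne (eq_of_le_of_card_ge hK'K hK'card.ge)

theorem map_eq_self' (hp2 : p ≠ 2) (hR : IsPGroup p R) (hrk : ¬ PRankLE p 2 R)
    (w : Wit p x E) (c : Crit H) (K : Subgroup R) [hKn : K.Normal] (hK : K ≤ omega p H)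
    (φ : MulAut R) : K.map φ.toMonoidHom = K :=
  map_eq_self hp2 hR hrk w c _ K hKn hK rfl φ

theorem apply_mem (hp2 : p ≠ 2) (hR : IsPGroup p R) (hrk : ¬ PRankLE p 2 R)
    (w : Wit p x E) (c : Crit H) (K : Subgroup R) [K.Normal] (hK : K ≤ omega p H)
    (φ : MulAut R) {k : R} (hk : k ∈ K) : φ k ∈ K := by
  have := map_eq_self' hp2 hR hrk w c K hK φ
  rw [← this]
  exact mem_map_of_mem _ hk

end chain


/-! ### The normal `p`-subgroup of `Aut R` -/

/-- `φ` acts trivially on every factor `K / [K, R]`, `K` a normal subgroup of `R` inside `Ω₁(H)`. -/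
def TrivOn (p : ℕ) (H : Subgroup R) (φ : MulAut R) : Prop :=
  ∀ K : Subgroup R, K.Normal → K ≤ omega p H → ∀ k ∈ K, φ k * k⁻¹ ∈ ⁅K, (⊤ : Subgroup R)⁆

section main

variable [Finite R] {p : ℕ} [hp : Fact p.Prime] {x : R} {E H : Subgroup R}

/-- the automorphisms acting trivially on all factors of the chain. -/
def autN (hp2 : p ≠ 2) (hR : IsPGroup p R) (hrk : ¬ PRankLE p 2 R)
    (w : Wit p x E) (c : Crit H) : Subgroup (MulAut R) where
  carrier := {φ | TrivOn p H φ}
  one_mem' := by
    intro K _ _ k _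
    simp
  mul_mem' := by
    intro φ ψ hφ hψ K hKn hK k hk
    have := hKn
    have h1 : ψ k ∈ K := apply_mem hp2 hR hrk w c K hK ψ hk
    have h2 := hφ K hKn hK (ψ k) h1
    have h3 := hψ K hKn hK k hk
    have : (φ * ψ) k * k⁻¹ = (φ (ψ k) * (ψ k)⁻¹) * (ψ k * k⁻¹) := by
      rw [MulAut.mul_apply]; group
    rw [this]
    exact mul_mem h2 h3
  inv_mem' := by
    intro φ hφ K hKn hK k hk
    have := hKn
    have h1 : φ⁻¹ k ∈ K := apply_mem hp2 hR hrk w c K hK φ⁻¹ hk
    have h2 := hφ K hKn hK (φ⁻¹ k) h1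
    rw [MulAut.apply_inv_self] at h2
    have h3 := inv_mem h2
    have : φ⁻¹ k * k⁻¹ = (k * (φ⁻¹ k)⁻¹)⁻¹ := by group
    rw [this]
    exact h3

theorem mem_autN (hp2 : p ≠ 2) (hR : IsPGroup p R) (hrk : ¬ PRankLE p 2 R)
    (w : Wit p x E) (c : Crit H) {φ : MulAut R} :
    φ ∈ autN hp2 hR hrk w c ↔ TrivOn p H φ := Iff.rfl

theorem autN_normal (hp2 : p ≠ 2) (hR : IsPGroup p R) (hrk : ¬ PRankLE p 2 R)
    (w : Wit p x E) (c : Crit H) : (autN hp2 hR hrk w c).Normal := by
  constructor
  intro φ hφ γ K hKn hK k hk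
  have := hKn
  have hLn : (⁅K, (⊤ : Subgroup R)⁆).Normal := commutator_normal K ⊤
  have hLC : ⁅K, (⊤ : Subgroup R)⁆ ≤ omega p H := (commutator_le_left K ⊤).trans hK
  have h1 : γ⁻¹ k ∈ K := apply_mem hp2 hR hrk w c K hK γ⁻¹ hk
  have h2 := hφ K hKn hK (γ⁻¹ k) h1
  have h3 := apply_mem hp2 hR hrk w c ⁅K, (⊤ : Subgroup R)⁆ hLC γ h2
  have : (γ * φ * γ⁻¹) k * k⁻¹ = γ (φ (γ⁻¹ k) * (γ⁻¹ k)⁻¹) := by
    rw [MulAut.mul_apply, MulAut.mul_apply, map_mul, map_inv, MulAut.apply_inv_self]
  rw [this]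
  exact h3

/-- every automorphism acts on `K / [K, R]` by a power map. -/
theorem exists_scalar (hp2 : p ≠ 2) (hR : IsPGroup p R) (hrk : ¬ PRankLE p 2 R)
    (w : Wit p x E) (c : Crit H) (K : Subgroup R) [hKn : K.Normal] (hK : K ≤ omega p H)
    (φ : MulAut R) :
    ∃ n : ℤ, ∀ k ∈ K, φ k * (k ^ n)⁻¹ ∈ ⁅K, (⊤ : Subgroup R)⁆ := by
  by_cases hK1 : K = ⊥
  · refine ⟨1, ?_⟩
    intro k hk
    rw [hK1, mem_bot] at hk
    rw [hk]; simp
  have hkey := card_eq_mul_card_commutator hp2 hR hrk w c K hK hK1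
  set L : Subgroup R := ⁅K, (⊤ : Subgroup R)⁆ with hL
  have hLn : L.Normal := commutator_normal K ⊤
  have hLK : L ≤ K := commutator_le_left K ⊤
  have hLC : L ≤ omega p H := hLK.trans hK
  -- the quotient `K / L` has order `p`
  have hrel : L.relIndex K = p := by
    have h1 := Cfsg.Agent.Lib.Helper40.card_mul_relIndex' hLK
    rw [hkey, mul_comm] at h1
    exact Nat.eq_of_mul_eq_mul_right Nat.card_pos h1
  have hQ : Nat.card (K ⧸ L.subgroupOf K) = p := hrel
  -- a generator
  have hex : ∃ k₀ ∈ K, k₀ ∉ L := by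
    by_contra h
    push Not at h
    have : K ≤ L := h
    have h2 := card_le_of_le this
    rw [hkey] at h2
    have : 0 < Nat.card L := Nat.card_pos
    have := hp.out.one_lt
    nlinarith
  obtain ⟨k₀, hk₀, hk₀L⟩ := hex
  have hgen : ∀ k ∈ K, ∃ i : ℤ, (k₀ ^ i)⁻¹ * k ∈ L := by
    intro k hk
    have hq₀ : (QuotientGroup.mk (⟨k₀, hk₀⟩ : K) : K ⧸ L.subgroupOf K) ≠ 1 := by
      intro h
      rw [QuotientGroup.eq_one_iff, mem_subgroupOf] at h
      exact hk₀L h
    have htop := zpowers_eq_top_of_prime_card hQ hq₀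
    have hmem : (QuotientGroup.mk (⟨k, hk⟩ : K) : K ⧸ L.subgroupOf K) ∈
        zpowers (QuotientGroup.mk (⟨k₀, hk₀⟩ : K) : K ⧸ L.subgroupOf K) := by
      rw [htop]; exact mem_top _
    obtain ⟨i, hi⟩ := mem_zpowers_iff.mp hmem
    refine ⟨i, ?_⟩
    rw [← QuotientGroup.mk_zpow] at hi
    have := QuotientGroup.eq.mp hi
    rw [mem_subgroupOf] at this
    simpa using this
  -- the scalar
  have hφk₀ : φ k₀ ∈ K := apply_mem hp2 hR hrk w c K hK φ hk₀
  obtain ⟨n, hn⟩ := hgen (φ k₀) hφk₀
  refine ⟨n, ?_⟩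
  intro k hk
  obtain ⟨i, hi⟩ := hgen k hk
  -- work in the quotient `R / L`
  apply (QuotientGroup.eq_one_iff (N := L) _).mp
  have e1 : ((k : R) : R ⧸ L) = ((k₀ : R) : R ⧸ L) ^ i := by
    have := (QuotientGroup.eq_one_iff (N := L) _).mpr hi
    rw [QuotientGroup.mk_mul, QuotientGroup.mk_inv, QuotientGroup.mk_zpow] at this
    exact (inv_mul_eq_one.mp this).symm
  have e2 : ((φ k₀ : R) : R ⧸ L) = ((k₀ : R) : R ⧸ L) ^ n := by
    have := (QuotientGroup.eq_one_iff (N := L) _).mpr hn
    rw [QuotientGroup.mk_mul, QuotientGroup.mk_inv, QuotientGroup.mk_zpow] at this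
    exact (inv_mul_eq_one.mp this).symm
  have e3 : ((φ k : R) : R ⧸ L) = ((φ k₀ : R) : R ⧸ L) ^ i := by
    have h1 : φ ((k₀ ^ i)⁻¹ * k) ∈ L := apply_mem hp2 hR hrk w c L hLC φ hi
    have := (QuotientGroup.eq_one_iff (N := L) _).mpr h1
    rw [map_mul, map_inv, map_zpow, QuotientGroup.mk_mul, QuotientGroup.mk_inv,
      QuotientGroup.mk_zpow] at this
    exact (inv_mul_eq_one.mp this).symm
  rw [QuotientGroup.mk_mul, QuotientGroup.mk_inv, QuotientGroup.mk_zpow, e3, e2, e1,
    ← zpow_mul, ← zpow_mul, mul_comm n i]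
  exact mul_inv_cancel _


theorem commutator_mem_autN (hp2 : p ≠ 2) (hR : IsPGroup p R) (hrk : ¬ PRankLE p 2 R)
    (w : Wit p x E) (c : Crit H) (φ ψ : MulAut R) : ⁅φ, ψ⁆ ∈ autN hp2 hR hrk w c := by
  intro K hKn hK k hk
  have := hKn
  set L : Subgroup R := ⁅K, (⊤ : Subgroup R)⁆ with hL
  have hLn : L.Normal := commutator_normal K ⊤
  obtain ⟨n, hn⟩ := exists_scalar hp2 hR hrk w c K hK φ
  obtain ⟨m, hm⟩ := exists_scalar hp2 hR hrk w c K hK ψ
  -- in the quotient, `φ` and `ψ` act by commuting power maps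
  have hφq : ∀ k ∈ K, ((φ k : R) : R ⧸ L) = ((k : R) : R ⧸ L) ^ n := by
    intro k hk
    have := (QuotientGroup.eq_one_iff (N := L) _).mpr (hn k hk)
    rw [QuotientGroup.mk_mul, QuotientGroup.mk_inv, QuotientGroup.mk_zpow] at this
    exact mul_inv_eq_one.mp this
  have hψq : ∀ k ∈ K, ((ψ k : R) : R ⧸ L) = ((k : R) : R ⧸ L) ^ m := by
    intro k hk
    have := (QuotientGroup.eq_one_iff (N := L) _).mpr (hm k hk)
    rw [QuotientGroup.mk_mul, QuotientGroup.mk_inv, QuotientGroup.mk_zpow] at this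
    exact mul_inv_eq_one.mp this
  have hcomm : ∀ k ∈ K, ((φ (ψ k) : R) : R ⧸ L) = ((ψ (φ k) : R) : R ⧸ L) := by
    intro k hk
    rw [hφq _ (apply_mem hp2 hR hrk w c K hK ψ hk), hψq k hk,
      hψq _ (apply_mem hp2 hR hrk w c K hK φ hk), hφq k hk, ← zpow_mul, ← zpow_mul, mul_comm]
  set k' : R := φ⁻¹ (ψ⁻¹ k) with hk'
  have hk'K : k' ∈ K :=
    apply_mem hp2 hR hrk w c K hK φ⁻¹ (apply_mem hp2 hR hrk w c K hK ψ⁻¹ hk)
  have h1 : ⁅φ, ψ⁆ k = φ (ψ k') := by
    rw [commutatorElement_def, MulAut.mul_apply, MulAut.mul_apply, MulAut.mul_apply]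
  have h2 : ψ (φ k') = k := by
    rw [hk', MulAut.apply_inv_self, MulAut.apply_inv_self]
  apply (QuotientGroup.eq_one_iff (N := L) _).mp
  rw [QuotientGroup.mk_mul, QuotientGroup.mk_inv, h1, hcomm k' hk'K, h2]
  exact mul_inv_cancel _

theorem pow_mem_autN (hp2 : p ≠ 2) (hR : IsPGroup p R) (hrk : ¬ PRankLE p 2 R)
    (w : Wit p x E) (c : Crit H) (φ : MulAut R) : φ ^ (p - 1) ∈ autN hp2 hR hrk w c := by
  intro K hKn hK k hk
  have := hKn
  by_cases hK1 : K = ⊥
  · rw [hK1, mem_bot] at hk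
    rw [hk]; simp
  set L : Subgroup R := ⁅K, (⊤ : Subgroup R)⁆ with hL
  have hLn : L.Normal := commutator_normal K ⊤
  have hLK : L ≤ K := commutator_le_left K ⊤
  have hkey := card_eq_mul_card_commutator hp2 hR hrk w c K hK hK1
  obtain ⟨n, hn⟩ := exists_scalar hp2 hR hrk w c K hK φ
  have hφq : ∀ k ∈ K, ((φ k : R) : R ⧸ L) = ((k : R) : R ⧸ L) ^ n := by
    intro k hk
    have := (QuotientGroup.eq_one_iff (N := L) _).mpr (hn k hk)
    rw [QuotientGroup.mk_mul, QuotientGroup.mk_inv, QuotientGroup.mk_zpow] at this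
    exact mul_inv_eq_one.mp this
  have hpowp : ∀ k ∈ K, (((k : R) : R ⧸ L)) ^ (p : ℤ) = 1 := by
    intro k hk
    rw [zpow_natCast, ← QuotientGroup.mk_pow, c.pow_eq_one_of_mem_omega hp2 (hK hk)]
    rfl
  -- `p` does not divide `n`
  have hpn : ¬ (p : ℤ) ∣ n := by
    rintro ⟨t, ht⟩
    have hall : ∀ k ∈ K, φ k ∈ L := by
      intro k hk
      apply (QuotientGroup.eq_one_iff (N := L) _).mp
      rw [hφq k hk, ht, zpow_mul, hpowp k hk, one_zpow]
    have hKL : K ≤ L := by
      intro k hk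
      have h1 : φ⁻¹ k ∈ K := apply_mem hp2 hR hrk w c K hK φ⁻¹ hk
      have := hall _ h1
      rwa [MulAut.apply_inv_self] at this
    have h2 := card_le_of_le hKL
    rw [hkey] at h2
    have : 0 < Nat.card L := Nat.card_pos
    have := hp.out.one_lt
    nlinarith
  have hcop : IsCoprime n (p : ℤ) := by
    rw [isCoprime_comm]
    exact (Int.isCoprime_iff_gcd_eq_one).mpr
      ((Nat.Prime.coprime_iff_not_dvd hp.out).mpr (by
        intro h
        apply hpn
        exact Int.natCast_dvd.mpr h) |> fun h => by simpa [Int.gcd, Int.natAbs_natCast] using h)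
  have hfermat := Int.ModEq.pow_card_sub_one_eq_one hp.out hcop
  obtain ⟨t, ht⟩ : ∃ t : ℤ, n ^ (p - 1) = 1 + p * t := by
    have := (Int.modEq_iff_dvd.mp hfermat.symm)
    obtain ⟨t, ht⟩ := this
    exact ⟨t, by linarith⟩
  -- iterate
  have hiter : ∀ j : ℕ, ∀ k ∈ K, (((φ ^ j) k : R) : R ⧸ L) = ((k : R) : R ⧸ L) ^ (n ^ j) := by
    intro j
    induction j with
    | zero => intro k hk; simp
    | succ j ih =>
      intro k hk
      rw [pow_succ', MulAut.mul_apply, hφq _ (apply_mem hp2 hR hrk w c K hK (φ ^ j) hk), ih k hk,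
        ← zpow_mul, pow_succ]
  apply (QuotientGroup.eq_one_iff (N := L) _).mp
  rw [QuotientGroup.mk_mul, QuotientGroup.mk_inv, hiter (p - 1) k hk, ht, zpow_add, zpow_one,
    zpow_mul, hpowp k hk, one_zpow, mul_one]
  exact mul_inv_cancel _


/-- a `p'`-element of `autN` fixes every normal subgroup of `R` inside `Ω₁(H)` pointwise. -/
theorem fix_of_mem_autN (hp2 : p ≠ 2) (hR : IsPGroup p R) (hrk : ¬ PRankLE p 2 R)
    (w : Wit p x E) (c : Crit H) {ψ : MulAut R} (hψ : ψ ∈ autN hp2 hR hrk w c) {m : ℕ}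
    (hm : ψ ^ m = 1) (hmp : m.Coprime p) :
    ∀ n : ℕ, ∀ K : Subgroup R, K.Normal → K ≤ omega p H → Nat.card K = n →
      ∀ k ∈ K, ψ k = k := by
  intro n
  induction n using Nat.strong_induction_on with
  | _ n ih =>
  intro K hKn hK hcard k hk
  have := hKn
  by_cases hK1 : K = ⊥
  · rw [hK1, mem_bot] at hk
    rw [hk, map_one]
  have hkey := card_eq_mul_card_commutator hp2 hR hrk w c K hK hK1
  set L : Subgroup R := ⁅K, (⊤ : Subgroup R)⁆ with hL
  have hLn : L.Normal := commutator_normal K ⊤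
  have hLK : L ≤ K := commutator_le_left K ⊤
  have hLlt : Nat.card L < n := by
    rw [← hcard, hkey]
    have : 0 < Nat.card L := Nat.card_pos
    have := hp.out.one_lt
    nlinarith
  have hfixL : ∀ l ∈ L, ψ l = l := ih _ hLlt L hLn (hLK.trans hK) rfl
  set d : R := ψ k * k⁻¹ with hd
  have hdL : d ∈ L := hψ K hKn hK k hk
  have hψk : ψ k = d * k := by rw [hd]; group
  have hiter : ∀ j : ℕ, (ψ ^ j) k = d ^ j * k := by
    intro j
    induction j with
    | zero => simp
    | succ j ih2 =>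
      rw [pow_succ', MulAut.mul_apply, ih2, map_mul, map_pow, hfixL d hdL, hψk, pow_succ]
      group
  have h1 := hiter m
  rw [hm, MulAut.one_apply] at h1
  have hdm : d ^ m = 1 := by
    have : d ^ m * k = 1 * k := by rw [one_mul]; exact h1.symm
    exact mul_right_cancel this
  have hdp : d ^ p = 1 := c.pow_eq_one_of_mem_omega hp2 (hK (hLK hdL))
  have hd1 : d = 1 := by
    have := pow_gcd_eq_one.mpr ⟨hdm, hdp⟩
    rwa [hmp, pow_one] at this
  rw [hψk, hd1, one_mul]

/-- the restriction of an automorphism to the characteristic subgroup `H`. -/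
def restrictAut (c : Crit H) (ψ : MulAut R) : MulAut H where
  toFun h := ⟨ψ h, c.map_mem ψ h.2⟩
  invFun h := ⟨ψ⁻¹ h, c.map_mem ψ⁻¹ h.2⟩
  left_inv h := by
    apply Subtype.ext
    simp
  right_inv h := by
    apply Subtype.ext
    simp
  map_mul' a b := by
    apply Subtype.ext
    simp

theorem restrictAut_pow (c : Crit H) (ψ : MulAut R) (j : ℕ) (h : H) :
    (((restrictAut c ψ) ^ j) h : R) = (ψ ^ j) h := by
  induction j generalizing h with
  | zero => simp
  | succ j ih =>
    rw [pow_succ', pow_succ', MulAut.mul_apply, MulAut.mul_apply]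
    show ψ ((restrictAut c ψ ^ j) h : R) = ψ ((ψ ^ j) h)
    rw [ih]

theorem autN_isPGroup (hp2 : p ≠ 2) (hR : IsPGroup p R) (hrk : ¬ PRankLE p 2 R)
    (w : Wit p x E) (c : Crit H) : IsPGroup p (autN hp2 hR hrk w c) := by
  intro ⟨φ, hφ⟩
  have ho : orderOf φ ≠ 0 := (orderOf_pos φ).ne'
  obtain ⟨e, m, hpm, hem⟩ := Nat.exists_eq_pow_mul_and_not_dvd ho p hp.out.ne_one
  refine ⟨e, ?_⟩
  apply Subtype.ext
  show φ ^ p ^ e = 1
  set ψ : MulAut R := φ ^ p ^ e with hψdef
  have hψN : ψ ∈ autN hp2 hR hrk w c := (autN hp2 hR hrk w c).pow_mem hφ _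
  have hψm : ψ ^ m = 1 := by
    rw [hψdef, ← pow_mul, ← hem, pow_orderOf_eq_one]
  have hmp : m.Coprime p := (Nat.Prime.coprime_iff_not_dvd hp.out).mpr hpm |>.symm
  have hcop : (orderOf ψ).Coprime p := Nat.Coprime.coprime_dvd_left (orderOf_dvd_of_pow_eq_one hψm) hmp
  -- `ψ` fixes `Ω₁(H)` pointwise
  have hfix : ∀ g ∈ omega p H, ψ g = g := by
    have := c.omega_normal hp2
    exact fix_of_mem_autN hp2 hR hrk w c hψN hψm hmp _ (omega p H) (c.omega_normal hp2) le_rfl rfl
  -- hence `H` pointwise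
  have hrm : (restrictAut c ψ) ^ m = 1 := by
    ext h
    rw [restrictAut_pow, hψm]
    rfl
  have hcop' : (orderOf (restrictAut c ψ)).Coprime p :=
    Nat.Coprime.coprime_dvd_left (orderOf_dvd_of_pow_eq_one hrm) hmp
  have h120 := Cfsg.Agent.S0120.result hp2 (hR.to_subgroup H) (restrictAut c ψ) hcop' (by
    intro y hy
    apply Subtype.ext
    show ψ (y : R) = y
    apply hfix
    rw [c.mem_omega_iff hp2]
    refine ⟨y.2, ?_⟩
    have := congrArg Subtype.val hy
    simpa using this)
  have hfixH : ∀ y ∈ H, ψ y = y := by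
    intro y hy
    have := congrArg (fun f : MulAut H => ((f ⟨y, hy⟩ : H) : R)) h120
    simpa [restrictAut] using this
  exact Cfsg.Agent.S0121.result hR H c.char c.fratt c.comm c.cent ψ hcop hfixH

end main

/-- **Main theorem.** Let `p` be odd and `R` a finite `p`-group of `p`-rank at least three with an
element `x` of order dividing `p` such that the elements of `C_R(x)` of order dividing `p` lie in a
subgroup `E` of order `p ^ 2`.  Then `Aut R` has a normal `p`-subgroup `N` with `Aut R / N` abelian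
of exponent dividing `p - 1`. -/
theorem exists_normal_pSubgroup_mulAut [Finite R] {p : ℕ} [Fact p.Prime] (hp2 : p ≠ 2)
    (hR : IsPGroup p R) (hrk : ¬ PRankLE p 2 R) {x : R} {E : Subgroup R} (w : Wit p x E) :
    ∃ N : Subgroup (MulAut R), N.Normal ∧ IsPGroup p N ∧ (∀ φ : MulAut R, φ ^ (p - 1) ∈ N) ∧
      ∀ φ ψ : MulAut R, ⁅φ, ψ⁆ ∈ N := by
  obtain ⟨H, c⟩ := exists_crit hR
  exact ⟨autN hp2 hR hrk w c, autN_normal hp2 hR hrk w c, autN_isPGroup hp2 hR hrk w c,
    pow_mem_autN hp2 hR hrk w c, commutator_mem_autN hp2 hR hrk w c⟩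

end Cfsg.Agent.Lib.Helper40.Narrow
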