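import Mathlib
import Cfsg.Agent.Lib.Helper26.NormalP3b
import Cfsg.Agent.Lib.Helper40.Narrow
import Cfsg.Agent.S0636

set_option autoImplicit false
set_option linter.unusedSectionVars false
set_option linter.style.haveILetI false

/-!
# The extraspecial case of Bender-Glauberman 4.9

`P` is a finite `p`-group, `p` odd, `W ≤ P` nonabelian of order `p ^ 3` and exponent `p` containing
all elements of order dividing `p` of `P`; a set `𝒜` of automorphisms of odd order with `[P, 𝒜] = P`.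
Then `P = W C_P(W)`, `C_P(W)` is cyclic and `Ω₁(C_P(W)) = W'`.
-/

universe u

namespace Cfsg.Agent.Lib.Helper40.ExtraCase

open Subgroup
open scoped commutatorElement

/-- a nonabelian group of order `p ^ 3`: the centre has order `p` and equals the derived group. -/
theorem cube_facts {H : Type*} [Group H] [Finite H] {p : ℕ}
    [hp : Fact p.Prime] (hH : Nat.card H = p ^ 3) (hnc : ∃ a b : H, a * b ≠ b * a) :
    Nat.card (Subgroup.center H) = p ∧ commutator H = Subgroup.center H := by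
  have hpp : p.Prime := hp.out
  have hP : IsPGroup p H := IsPGroup.of_card hH
  have hnt : Nontrivial H := by
    obtain ⟨a, b, hab⟩ := hnc
    exact ⟨⟨a * b, b * a, hab⟩⟩
  have hZnt : Nontrivial (Subgroup.center H) := hP.center_nontrivial
  have hdvd : Nat.card (Subgroup.center H) ∣ p ^ 3 := hH ▸ Subgroup.card_subgroup_dvd_card _
  obtain ⟨k, hk3, hk⟩ := (Nat.dvd_prime_pow hpp).1 hdvd
  have hidx : (Subgroup.center H).index * p ^ k = p ^ 3 := by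
    rw [← hk, ← hH, mul_comm]
    exact Subgroup.card_mul_index _
  have hk0 : k ≠ 0 := by
    rintro rfl
    rw [pow_zero] at hk
    have := (Subgroup.card_eq_one.1 hk)
    exact (Subgroup.nontrivial_iff_ne_bot _).1 hZnt this
  have hk3' : k ≠ 3 := by
    rintro rfl
    have : Subgroup.center H = ⊤ := by
      apply Subgroup.eq_top_of_card_eq
      rw [hk, hH]
    obtain ⟨a, b, hab⟩ := hnc
    have hb : b ∈ Subgroup.center H := this ▸ Subgroup.mem_top b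
    exact hab ((Subgroup.mem_center_iff.1 hb a).symm ▸ rfl)
  have hk2 : k ≠ 2 := by
    rintro rfl
    have hi : (Subgroup.center H).index = p := by
      have h1 : (Subgroup.center H).index * p ^ 2 = p * p ^ 2 := by rw [hidx]; ring
      exact Nat.eq_of_mul_eq_mul_right (pow_pos hpp.pos 2) h1
    have hc : Nat.card (H ⧸ Subgroup.center H) = p := by
      rw [← Subgroup.index_eq_card]; exact hi
    have hcyc : IsCyclic (H ⧸ Subgroup.center H) := isCyclic_of_prime_card hc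
    have := MonoidHom.isMulCommutative_of_isCyclic_of_ker_le_center
      (QuotientGroup.mk' (Subgroup.center H)) (by rw [QuotientGroup.ker_mk'])
    obtain ⟨a, b, hab⟩ := hnc
    exact hab (this.is_comm.comm a b)
  have hk1 : k = 1 := by omega
  subst hk1
  rw [pow_one] at hk
  have hi : (Subgroup.center H).index = p ^ 2 := by
    have h1 : (Subgroup.center H).index * p ^ 1 = p ^ 2 * p ^ 1 := by rw [hidx]; ring
    exact Nat.eq_of_mul_eq_mul_right (pow_pos hpp.pos 1) h1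
  have hc : Nat.card (H ⧸ Subgroup.center H) = p ^ 2 := by
    rw [← Subgroup.index_eq_card]; exact hi
  have hcomm := (IsPGroup.isMulCommutative_of_card_eq_prime_sq hc).is_comm.comm
  have hle : commutator H ≤ Subgroup.center H := by
    rw [_root_.commutator_def, Subgroup.commutator_le]
    intro a _ b _
    rw [← QuotientGroup.eq_one_iff, commutatorElement_def]
    simp only [QuotientGroup.mk_mul, QuotientGroup.mk_inv]
    rw [hcomm (a : H ⧸ Subgroup.center H) b]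
    simp
  have hne : commutator H ≠ ⊥ := by
    intro h
    obtain ⟨a, b, hab⟩ := hnc
    have : ⁅a, b⁆ ∈ commutator H := by
      rw [_root_.commutator_def]
      exact Subgroup.commutator_mem_commutator (Subgroup.mem_top a) (Subgroup.mem_top b)
    rw [h, Subgroup.mem_bot, commutatorElement_eq_one_iff_mul_comm] at this
    exact hab this
  have hcd : Nat.card (commutator H) ∣ p := hk ▸ Subgroup.card_dvd_of_le hle
  refine ⟨hk, ?_⟩
  rcases (Nat.dvd_prime hpp).1 hcd with h1 | h1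
  · exact absurd (Subgroup.card_eq_one.1 h1) hne
  · exact Subgroup.eq_of_le_of_card_ge hle (by rw [hk, h1])

variable {P : Type u} [Group P]

/-- the standing hypotheses. -/
structure Ctx (p : ℕ) (W : Subgroup P) : Prop where
  pgroup : IsPGroup p P
  odd : p ≠ 2
  card : Nat.card W = p ^ 3
  nc : ∃ a ∈ W, ∃ b ∈ W, a * b ≠ b * a
  exp : ∀ w ∈ W, w ^ p = 1
  omega : ∀ g : P, g ^ p = 1 → g ∈ W

namespace Ctx

variable {p : ℕ} {W : Subgroup P}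

theorem map_mem (c : Ctx p W) (φ : MulAut P) {w : P} (hw : w ∈ W) : φ w ∈ W := by
  apply c.omega
  rw [← map_pow, c.exp w hw, map_one]

theorem normal (c : Ctx p W) : W.Normal := by
  constructor
  intro w hw g
  exact c.map_mem (MulAut.conj g) hw

/-- the derived group of `W`. -/
def Z (_c : Ctx p W) : Subgroup P := ⁅W, W⁆

theorem Z_le (c : Ctx p W) : c.Z ≤ W := by
  unfold Z
  rw [Subgroup.commutator_le]
  intro a ha b hb
  exact W.mul_mem (W.mul_mem (W.mul_mem ha hb) (W.inv_mem ha)) (W.inv_mem hb)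

theorem comm_mem_Z (c : Ctx p W) {a b : P} (ha : a ∈ W) (hb : b ∈ W) :
    a * b * a⁻¹ * b⁻¹ ∈ c.Z :=
  Subgroup.commutator_mem_commutator ha hb

theorem Z_map_mem (c : Ctx p W) (φ : MulAut P) {z : P} (hz : z ∈ c.Z) : φ z ∈ c.Z := by
  have h1 : c.Z.map φ.toMonoidHom ≤ c.Z := by
    unfold Z
    rw [Subgroup.map_commutator]
    apply Subgroup.commutator_mono
    · rintro _ ⟨w, hw, rfl⟩; exact c.map_mem φ hw
    · rintro _ ⟨w, hw, rfl⟩; exact c.map_mem φ hw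
  exact h1 ⟨z, hz, rfl⟩

theorem Z_normal (c : Ctx p W) : c.Z.Normal := by
  constructor
  intro z hz g
  exact c.Z_map_mem (MulAut.conj g) hz

variable [Finite P] [hp : Fact p.Prime]

theorem card_Z (c : Ctx p W) : Nat.card c.Z = p := by
  have hnc : ∃ a b : ↥W, a * b ≠ b * a := by
    obtain ⟨a, ha, b, hb, hab⟩ := c.nc
    refine ⟨⟨a, ha⟩, ⟨b, hb⟩, fun h => hab ?_⟩
    exact congrArg Subtype.val h
  obtain ⟨h1, h2⟩ := cube_facts c.card hnc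
  have h3 : c.Z = (commutator ↥W).map W.subtype := (Subgroup.map_subtype_commutator W).symm
  rw [h3, Subgroup.card_map_of_injective (Subgroup.subtype_injective _), h2, h1]

/-- `Z` is the centre of `W`. -/
theorem mem_Z_of_central (c : Ctx p W) {x : P} (hx : x ∈ W) (hxc : ∀ w ∈ W, x * w = w * x) :
    x ∈ c.Z := by
  have hnc : ∃ a b : ↥W, a * b ≠ b * a := by
    obtain ⟨a, ha, b, hb, hab⟩ := c.nc
    refine ⟨⟨a, ha⟩, ⟨b, hb⟩, fun h => hab ?_⟩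
    exact congrArg Subtype.val h
  obtain ⟨-, h2⟩ := cube_facts c.card hnc
  have hxz : (⟨x, hx⟩ : ↥W) ∈ Subgroup.center ↥W := by
    rw [Subgroup.mem_center_iff]
    intro y
    exact Subtype.ext (hxc y y.2).symm
  rw [← h2] at hxz
  have h3 : c.Z = (commutator ↥W).map W.subtype := (Subgroup.map_subtype_commutator W).symm
  rw [h3]
  exact ⟨_, hxz, rfl⟩

theorem Z_central (c : Ctx p W) : c.Z ≤ Subgroup.center P := by
  haveI := c.Z_normal
  exact Narrow.le_center_of_card_le c.pgroup c.Z (le_of_eq c.card_Z)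

theorem Z_comm (c : Ctx p W) {z : P} (hz : z ∈ c.Z) (g : P) : z * g = g * z :=
  (Subgroup.mem_center_iff.1 (c.Z_central hz) g).symm

/-- elements of order dividing `p` of the centralizer of `W` lie in `Z`. -/
theorem mem_Z_of_mem_centralizer (c : Ctx p W) {g : P} (hg : g ∈ Subgroup.centralizer (W : Set P))
    (hgp : g ^ p = 1) : g ∈ c.Z := by
  apply c.mem_Z_of_central (c.omega g hgp)
  intro w hw
  exact ((Subgroup.mem_centralizer_iff.1 hg) w hw).symm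

theorem Z_le_centralizer (c : Ctx p W) : c.Z ≤ Subgroup.centralizer (W : Set P) := by
  intro z hz
  rw [Subgroup.mem_centralizer_iff]
  intro w _
  exact (c.Z_comm hz w).symm

/-- a subgroup whose elements of order dividing `p` lie in a subgroup of order at most `p` is
cyclic (`p` odd). -/
theorem isCyclic_of_omega_le (c : Ctx p W) (Y Z₀ : Subgroup P) (hZ₀ : Nat.card Z₀ ≤ p)
    (h : ∀ g ∈ Y, g ^ p = 1 → g ∈ Z₀) : IsCyclic Y := by
  by_contra hnc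
  have hpp : p.Prime := hp.out
  have hYp : IsPGroup p ↥Y := c.pgroup.to_subgroup Y
  have hnc' : ¬ IsCyclic ↥(⊤ : Subgroup ↥Y) := by
    intro hcy
    exact hnc (isCyclic_of_surjective (Subgroup.topEquiv : (⊤ : Subgroup ↥Y) ≃* ↥Y)
      (Subgroup.topEquiv : (⊤ : Subgroup ↥Y) ≃* ↥Y).surjective)
  obtain ⟨A, -, -, hA, hAcard⟩ := Cfsg.Agent.S0636.result c.odd hYp (⊤ : Subgroup ↥Y) hnc'
  have hle : A.map Y.subtype ≤ Z₀ := by
    rintro _ ⟨a, ha, rfl⟩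
    apply h _ a.2
    have := hA.2 a ha
    simpa using congrArg Subtype.val this
  have h1 := Subgroup.card_le_of_le hle
  rw [Subgroup.card_map_of_injective (Subgroup.subtype_injective _), hAcard] at h1
  have h2 : p ^ 2 ≤ p := h1.trans hZ₀
  have h3 : p < p ^ 2 := by
    have := hpp.one_lt
    nlinarith
  omega

theorem centralizer_isCyclic (c : Ctx p W) : IsCyclic (Subgroup.centralizer (W : Set P)) :=
  c.isCyclic_of_omega_le _ c.Z (le_of_eq c.card_Z) (fun _ hg hgp => c.mem_Z_of_mem_centralizer hg hgp)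

/-- the chosen normal subgroup `S₁` of order `p ^ 2` and an element `y ∈ W ∖ S₁`. -/
structure Data (c : Ctx p W) (S₁ : Subgroup P) (y : P) : Prop where
  normal : S₁.Normal
  Z_le : c.Z ≤ S₁
  le : S₁ ≤ W
  card : Nat.card S₁ = p ^ 2
  comm_Z : ∀ n ∈ S₁, ∀ g : P, g * n * g⁻¹ * n⁻¹ ∈ c.Z
  comm_S : ∀ n ∈ W, ∀ g : P, g * n * g⁻¹ * n⁻¹ ∈ S₁
  hy : y ∈ W
  hyS : y ∉ S₁

theorem exists_data (c : Ctx p W) : ∃ (S₁ : Subgroup P) (y : P), Data c S₁ y := by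
  have hpp : p.Prime := hp.out
  haveI := c.normal
  haveI := c.Z_normal
  haveI : Group.IsNilpotent P := c.pgroup.isNilpotent
  have hWp : IsPGroup p ↥W := c.pgroup.to_subgroup W
  have hne1 : c.Z ≠ W := by
    intro h
    have := c.card_Z
    rw [h, c.card] at this
    have h1 : p ^ 3 = p ^ 1 := by rw [pow_one]; exact this
    have := Nat.pow_right_injective hpp.two_le h1
    omega
  obtain ⟨S₁, hS₁n, hZS, hSW, hcard, hcomm⟩ :=
    Cfsg.Agent.Lib.Helper26.exists_normal_step_central W c.Z hWp c.Z_le hne1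
  rw [c.card_Z] at hcard
  have hcard' : Nat.card S₁ = p ^ 2 := by rw [hcard]; ring
  have hne2 : S₁ ≠ W := by
    intro h
    rw [h, c.card] at hcard'
    have := Nat.pow_right_injective hpp.two_le hcard'
    omega
  haveI := hS₁n
  obtain ⟨N, -, hSN, hNW, hNcard, hNcomm⟩ :=
    Cfsg.Agent.Lib.Helper26.exists_normal_step_central W S₁ hWp hSW hne2
  have hNW' : N = W := by
    apply Subgroup.eq_of_le_of_card_ge hNW
    rw [hNcard, hcard', c.card]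
    exact le_of_eq (by ring)
  rw [hNW'] at hNcomm
  obtain ⟨y, hyW, hyS⟩ : ∃ y ∈ W, y ∉ S₁ := by
    by_contra hcon
    apply hne2
    apply le_antisymm hSW
    intro w hw
    by_contra hwS
    exact hcon ⟨w, hw, hwS⟩
  exact ⟨S₁, y, ⟨hS₁n, hZS, hSW, hcard', hcomm, hNcomm, hyW, hyS⟩⟩

namespace Data

variable {c : Ctx p W} {S₁ : Subgroup P} {y : P}

theorem S_comm (d : Data c S₁ y) {a b : P} (ha : a ∈ S₁) (hb : b ∈ S₁) : a * b = b * a := by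
  have := (IsPGroup.isMulCommutative_of_card_eq_prime_sq d.card).is_comm.comm
    (⟨a, ha⟩ : ↥S₁) ⟨b, hb⟩
  exact congrArg Subtype.val this

theorem W_eq (d : Data c S₁ y) : S₁ ⊔ Subgroup.zpowers y = W := by
  apply Cfsg.Agent.Lib.Helper26.sup_zpowers_eq_of_card (p := p) S₁ W d.le _ y d.hy d.hyS
  rw [c.card, d.card]; ring

theorem W_decomp (d : Data c S₁ y) {w : P} (hw : w ∈ W) : ∃ s ∈ S₁, ∃ j : ℤ, w = s * y ^ j := by
  haveI := d.normal
  rw [← d.W_eq] at hw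
  have h1 : w ∈ ((S₁ ⊔ Subgroup.zpowers y : Subgroup P) : Set P) := hw
  rw [Subgroup.normal_mul] at h1
  obtain ⟨s, hs, k, hk, rfl⟩ := h1
  obtain ⟨j, rfl⟩ := Subgroup.mem_zpowers_iff.1 hk
  exact ⟨s, hs, j, rfl⟩

theorem y_pow (d : Data c S₁ y) : y ^ p = 1 := c.exp y d.hy

/-- the centralizer of `S₁`. -/
def T (_d : Data c S₁ y) : Subgroup P := Subgroup.centralizer (S₁ : Set P)

theorem mem_T (d : Data c S₁ y) {t : P} : t ∈ d.T ↔ ∀ s ∈ S₁, s * t = t * s :=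
  Subgroup.mem_centralizer_iff

theorem S_le_T (d : Data c S₁ y) : S₁ ≤ d.T := by
  intro s hs
  rw [d.mem_T]
  intro s' hs'
  exact d.S_comm hs' hs

theorem centralizer_le_T (d : Data c S₁ y) : Subgroup.centralizer (W : Set P) ≤ d.T := by
  intro g hg
  rw [d.mem_T]
  intro s hs
  exact (Subgroup.mem_centralizer_iff.1 hg) s (d.le hs)

theorem y_not_mem_T (d : Data c S₁ y) : y ∉ d.T := by
  intro hyT
  rw [d.mem_T] at hyT
  obtain ⟨a, ha, b, hb, hab⟩ := c.nc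
  apply hab
  -- `W = S₁ ⟨y⟩` would be abelian
  have hcomm : ∀ u ∈ S₁ ⊔ Subgroup.zpowers y, ∀ v ∈ S₁ ⊔ Subgroup.zpowers y, u * v = v * u := by
    apply Cfsg.Agent.Lib.Helper26.comm_sup S₁ (Subgroup.zpowers y)
    · intro u hu v hv; exact d.S_comm hu hv
    · intro u hu v hv
      obtain ⟨i, rfl⟩ := Subgroup.mem_zpowers_iff.1 hu
      obtain ⟨j, rfl⟩ := Subgroup.mem_zpowers_iff.1 hv
      exact (Commute.zpow_zpow (Commute.refl y) i j).eq
    · intro u hu v hv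
      obtain ⟨j, rfl⟩ := Subgroup.mem_zpowers_iff.1 hv
      have : Commute u y := hyT u hu
      exact (this.zpow_right j).eq
  rw [d.W_eq] at hcomm
  exact hcomm a ha b hb

/-- the map `t ↦ [t, y]`. -/
def θ (_d : Data c S₁ y) (t : P) : P := t * y * t⁻¹ * y⁻¹

theorem θ_mem (d : Data c S₁ y) (t : P) : d.θ t ∈ S₁ := d.comm_S y d.hy t

theorem θ_mul (d : Data c S₁ y) {t t' : P} (ht : t ∈ d.T) (_ht' : t' ∈ d.T) :
    d.θ (t * t') = d.θ t * d.θ t' := by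
  have h1 : d.θ (t * t') = t * d.θ t' * t⁻¹ * d.θ t := by
    unfold θ; group
  have h2 : t * d.θ t' * t⁻¹ = d.θ t' := by
    have := (d.mem_T.1 ht) _ (d.θ_mem t')
    rw [← this]; group
  rw [h1, h2]
  exact d.S_comm (d.θ_mem t') (d.θ_mem t)

theorem θ_one (d : Data c S₁ y) : d.θ 1 = 1 := by unfold θ; group

/-- `θ` as a homomorphism on `T`. -/
def θhom (d : Data c S₁ y) : ↥d.T →* P where
  toFun t := d.θ t
  map_one' := d.θ_one
  map_mul' a b := d.θ_mul a.2 b.2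

theorem θ_zpow (d : Data c S₁ y) {t : P} (ht : t ∈ d.T) (j : ℤ) : d.θ (t ^ j) = d.θ t ^ j := by
  have := map_zpow d.θhom ⟨t, ht⟩ j
  simpa [θhom] using this

theorem θ_mem_Z (d : Data c S₁ y) {s : P} (hs : s ∈ S₁) : d.θ s ∈ c.Z :=
  c.comm_mem_Z (d.le hs) d.hy

theorem θ_centralizer (d : Data c S₁ y) {g : P} (hg : g ∈ Subgroup.centralizer (W : Set P)) :
    d.θ g = 1 := by
  have := (Subgroup.mem_centralizer_iff.1 hg) y d.hy
  unfold θ
  rw [← this]; group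

theorem mem_centralizer_of_θ (d : Data c S₁ y) {t : P} (ht : t ∈ d.T) (h : d.θ t = 1) :
    t ∈ Subgroup.centralizer (W : Set P) := by
  rw [Subgroup.mem_centralizer_iff]
  intro w hw
  obtain ⟨s, hs, j, rfl⟩ := d.W_decomp hw
  have h1 : Commute t y := by
    unfold θ at h
    have : t * y = y * t := by
      have h2 : t * y * t⁻¹ * y⁻¹ * (y * t) = 1 * (y * t) := by rw [h]
      rw [one_mul] at h2
      rw [← h2]; group
    exact this
  have h2 : Commute t s := ((d.mem_T.1 ht) s hs).symm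
  exact ((h2.mul_right (h1.zpow_right j)).eq).symm

end Data

/-- a nontrivial element of `Z` generates it. -/
theorem Z_gen (c : Ctx p W) {z : P} (hz : z ∈ c.Z) (hz1 : z ≠ 1) {ζ : P} (hζ : ζ ∈ c.Z) :
    ∃ j : ℤ, ζ = z ^ j := by
  have h1 : (⟨z, hz⟩ : ↥c.Z) ≠ 1 := fun h => hz1 (congrArg Subtype.val h)
  have := mem_zpowers_of_prime_card (p := p) c.card_Z h1 (g' := ⟨ζ, hζ⟩)
  obtain ⟨j, hj⟩ := Subgroup.mem_zpowers_iff.1 this
  exact ⟨j, by simpa using (congrArg Subtype.val hj).symm⟩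

namespace Data

variable {c : Ctx p W} {S₁ : Subgroup P} {y : P}

theorem exists_x₀ (d : Data c S₁ y) : ∃ x₀ ∈ S₁, x₀ ∉ c.Z := by
  have hpp : p.Prime := hp.out
  by_contra hcon
  have hle : S₁ ≤ c.Z := by
    intro s hs
    by_contra hsZ
    exact hcon ⟨s, hs, hsZ⟩
  have := Subgroup.card_le_of_le hle
  rw [d.card, c.card_Z] at this
  have h3 : p < p ^ 2 := by
    have := hpp.one_lt
    nlinarith
  omega

theorem S_decomp (d : Data c S₁ y) {x₀ : P} (hx₀ : x₀ ∈ S₁) (hx₀Z : x₀ ∉ c.Z) {s : P}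
    (hs : s ∈ S₁) : ∃ ζ ∈ c.Z, ∃ i : ℤ, s = ζ * x₀ ^ i := by
  haveI := c.Z_normal
  have h0 : c.Z ⊔ Subgroup.zpowers x₀ = S₁ := by
    apply Cfsg.Agent.Lib.Helper26.sup_zpowers_eq_of_card (p := p) c.Z S₁ d.Z_le _ x₀ hx₀ hx₀Z
    rw [c.card_Z, d.card]; ring
  rw [← h0] at hs
  have h1 : s ∈ ((c.Z ⊔ Subgroup.zpowers x₀ : Subgroup P) : Set P) := hs
  rw [Subgroup.normal_mul] at h1
  obtain ⟨ζ, hζ, k, hk, rfl⟩ := h1
  obtain ⟨j, rfl⟩ := Subgroup.mem_zpowers_iff.1 hk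
  exact ⟨ζ, hζ, j, rfl⟩

theorem mem_T_of_commute (d : Data c S₁ y) {x₀ : P} (hx₀ : x₀ ∈ S₁) (hx₀Z : x₀ ∉ c.Z) {g : P}
    (hg : Commute g x₀) : g ∈ d.T := by
  rw [d.mem_T]
  intro s hs
  obtain ⟨ζ, hζ, i, rfl⟩ := d.S_decomp hx₀ hx₀Z hs
  have h1 : Commute g ζ := (c.Z_comm hζ g).symm
  exact ((h1.mul_right (hg.zpow_right i)).eq).symm

/-- `P = T ⟨y⟩`. -/
theorem P_decomp (d : Data c S₁ y) (g : P) : ∃ t ∈ d.T, ∃ j : ℤ, g = t * y ^ j := by
  obtain ⟨x₀, hx₀, hx₀Z⟩ := d.exists_x₀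
  -- the homomorphism `g ↦ [g, x₀]`
  have hfZ : ∀ g : P, g * x₀ * g⁻¹ * x₀⁻¹ ∈ c.Z := fun g => d.comm_Z x₀ hx₀ g
  let f : P →* P :=
    { toFun := fun g => g * x₀ * g⁻¹ * x₀⁻¹
      map_one' := by group
      map_mul' := by
        intro a b
        have h1 : a * b * x₀ * (a * b)⁻¹ * x₀⁻¹
            = a * (b * x₀ * b⁻¹ * x₀⁻¹) * a⁻¹ * (a * x₀ * a⁻¹ * x₀⁻¹) := by group
        have h2 : a * (b * x₀ * b⁻¹ * x₀⁻¹) * a⁻¹ = b * x₀ * b⁻¹ * x₀⁻¹ := by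
          have := c.Z_comm (hfZ b) a
          rw [← this]; group
        rw [h1, h2]
        exact c.Z_comm (hfZ b) _ }
  have hf : ∀ g, f g = g * x₀ * g⁻¹ * x₀⁻¹ := fun _ => rfl
  have hker : ∀ g, f g = 1 → g ∈ d.T := by
    intro g hg
    apply d.mem_T_of_commute hx₀ hx₀Z
    rw [hf] at hg
    have h2 : g * x₀ * g⁻¹ * x₀⁻¹ * (x₀ * g) = 1 * (x₀ * g) := by rw [hg]
    rw [one_mul] at h2
    show g * x₀ = x₀ * g
    rw [← h2]; group
  have hfy : f y ≠ 1 := fun h => d.y_not_mem_T (hker y h)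
  obtain ⟨j, hj⟩ := c.Z_gen (hfZ y) hfy (hfZ g)
  refine ⟨g * (y ^ j)⁻¹, ?_, j, by group⟩
  apply hker
  rw [map_mul, map_inv, map_zpow]
  rw [hf g, hf y, hj]
  group

theorem θ_x₀_ne (d : Data c S₁ y) {x₀ : P} (hx₀ : x₀ ∈ S₁) (hx₀Z : x₀ ∉ c.Z) : d.θ x₀ ≠ 1 := by
  intro h
  have h1 := d.mem_centralizer_of_θ (d.S_le_T hx₀) h
  exact hx₀Z (c.mem_Z_of_mem_centralizer h1 (c.exp _ (d.le hx₀)))

/-- if `θ t ∈ Z` then `t ∈ S₁ C`. -/
theorem mem_of_θ_mem_Z (d : Data c S₁ y) {t : P} (ht : t ∈ d.T) (h : d.θ t ∈ c.Z) :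
    ∃ s ∈ S₁, ∃ g ∈ Subgroup.centralizer (W : Set P), t = g * s := by
  obtain ⟨x₀, hx₀, hx₀Z⟩ := d.exists_x₀
  obtain ⟨j, hj⟩ := c.Z_gen (d.θ_mem_Z hx₀) (d.θ_x₀_ne hx₀ hx₀Z) h
  have hxT : x₀ ^ j ∈ d.T := d.T.zpow_mem (d.S_le_T hx₀) j
  refine ⟨x₀ ^ j, S₁.zpow_mem hx₀ j, t * (x₀ ^ j)⁻¹, ?_, by group⟩
  apply d.mem_centralizer_of_θ (d.T.mul_mem ht (d.T.inv_mem hxT))
  rw [d.θ_mul ht (d.T.inv_mem hxT)]
  have h1 : d.θ ((x₀ ^ j)⁻¹) = (d.θ x₀ ^ j)⁻¹ := by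
    have := d.θ_zpow (d.S_le_T hx₀) (-j)
    rw [zpow_neg, zpow_neg] at this
    exact this
  rw [h1, hj]
  group

/-- **the good case**. -/
theorem good (d : Data c S₁ y) (h : ∀ t ∈ d.T, d.θ t ∈ c.Z) :
    W ⊔ Subgroup.centralizer (W : Set P) = ⊤ := by
  rw [eq_top_iff]
  intro g _
  obtain ⟨t, ht, j, rfl⟩ := d.P_decomp g
  obtain ⟨s, hs, k, hk, rfl⟩ := d.mem_of_θ_mem_Z ht (h t ht)
  apply Subgroup.mul_mem
  · apply Subgroup.mul_mem
    · exact Subgroup.mem_sup_right hk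
    · exact Subgroup.mem_sup_left (d.le hs)
  · exact Subgroup.mem_sup_left (W.zpow_mem d.hy j)

theorem θ_inv (d : Data c S₁ y) {t : P} (ht : t ∈ d.T) : d.θ t⁻¹ = (d.θ t)⁻¹ := by
  have := map_inv d.θhom ⟨t, ht⟩
  simpa [θhom] using this

end Data

omit [Finite P] hp in
/-- exponent arithmetic: if `g ∉ H`, `g ^ p = 1` (`p` prime) and `g ^ i ∈ H` then `p ∣ i`. -/
theorem dvd_of_zpow_mem (hpp : p.Prime) (H : Subgroup P) {g : P} (hg : g ∉ H) (hgp : g ^ p = 1)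
    {i : ℤ} (h : g ^ i ∈ H) : (p : ℤ) ∣ i := by
  by_contra hnd
  have hcop : IsCoprime (p : ℤ) i :=
    (Nat.prime_iff_prime_int.mp hpp).coprime_iff_not_dvd.mpr hnd
  obtain ⟨a, b, hab⟩ := hcop
  apply hg
  have h2 : g ^ (p : ℤ) = 1 := by rw [zpow_natCast, hgp]
  have h1 : g = (g ^ (p : ℤ)) ^ a * (g ^ i) ^ b := by
    rw [← zpow_mul, ← zpow_mul, ← zpow_add, mul_comm (p : ℤ) a, mul_comm i b, hab, zpow_one]
  rw [h1, h2, one_zpow, one_mul]
  exact H.zpow_mem h b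

omit [Finite P] hp in
theorem zpow_eq_of_dvd {g : P} (hgp : g ^ p = 1) {i j : ℤ} (h : (p : ℤ) ∣ i - j) :
    g ^ i = g ^ j := by
  obtain ⟨k, hk⟩ := h
  have : i = j + (p : ℤ) * k := by omega
  rw [this, zpow_add, zpow_mul, zpow_natCast, hgp, one_zpow, mul_one]

namespace Data

variable {c : Ctx p W} {S₁ : Subgroup P} {y : P}

/-- the bad case: an element `r ∈ T` with `θ r ∉ Z`. -/
structure Bad (d : Data c S₁ y) (r : P) : Prop where
  hr : r ∈ d.T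
  hx : d.θ r ∉ c.Z

namespace Bad

variable {d : Data c S₁ y} {r : P}

theorem x_mem (_b : Bad d r) : d.θ r ∈ S₁ := d.θ_mem r

theorem x_pow (_b : Bad d r) : d.θ r ^ p = 1 := c.exp _ (d.le (d.θ_mem r))

theorem z_mem (_b : Bad d r) : d.θ (d.θ r) ∈ c.Z := d.θ_mem_Z (d.θ_mem r)

theorem z_ne (b : Bad d r) : d.θ (d.θ r) ≠ 1 := d.θ_x₀_ne (d.θ_mem r) b.hx

theorem z_pow (b : Bad d r) : d.θ (d.θ r) ^ p = 1 := c.exp _ (c.Z_le b.z_mem)

theorem map_S (b : Bad d r) (φ : MulAut P) {s : P} (hs : s ∈ S₁) : φ s ∈ S₁ := by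
  obtain ⟨ζ, hζ, i, rfl⟩ := d.S_decomp b.x_mem b.hx hs
  rw [map_mul, map_zpow]
  apply S₁.mul_mem (d.Z_le (c.Z_map_mem φ hζ))
  apply S₁.zpow_mem
  have : φ (d.θ r) = φ r * φ y * (φ r)⁻¹ * (φ y)⁻¹ := by
    unfold θ
    rw [map_mul, map_mul, map_mul, map_inv, map_inv]
  rw [this]
  exact d.comm_S (φ y) (c.map_mem φ d.hy) (φ r)

theorem map_T (b : Bad d r) (φ : MulAut P) {t : P} (ht : t ∈ d.T) : φ t ∈ d.T := by
  rw [d.mem_T] at ht ⊢
  intro s hs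
  have h1 : φ⁻¹ s ∈ S₁ := b.map_S φ⁻¹ hs
  have h2 := ht _ h1
  have h3 : φ (φ⁻¹ s * t) = φ (t * φ⁻¹ s) := by rw [h2]
  rw [map_mul, map_mul, MulAut.apply_inv_self] at h3
  exact h3

theorem map_C (_b : Bad d r) (φ : MulAut P) {g : P}
    (hg : g ∈ Subgroup.centralizer (W : Set P)) : φ g ∈ Subgroup.centralizer (W : Set P) := by
  rw [Subgroup.mem_centralizer_iff] at hg ⊢
  intro w hw
  have h1 : φ⁻¹ w ∈ W := c.map_mem φ⁻¹ hw
  have h2 := hg _ h1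
  have h3 : φ (φ⁻¹ w * g) = φ (g * φ⁻¹ w) := by rw [h2]
  rw [map_mul, map_mul, MulAut.apply_inv_self] at h3
  exact h3

theorem rp_mem_C (b : Bad d r) : r ^ p ∈ Subgroup.centralizer (W : Set P) := by
  apply d.mem_centralizer_of_θ (d.T.pow_mem b.hr p)
  have := d.θ_zpow b.hr (p : ℤ)
  rw [zpow_natCast, zpow_natCast] at this
  rw [this, b.x_pow]

theorem r_zpow_mem_C (b : Bad d r) {i : ℤ} (h : (p : ℤ) ∣ i) :
    r ^ i ∈ Subgroup.centralizer (W : Set P) := by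
  obtain ⟨k, rfl⟩ := h
  rw [zpow_mul, zpow_natCast]
  exact Subgroup.zpow_mem _ b.rp_mem_C k

/-- decomposition of the elements of `T`. -/
theorem T_decomp (b : Bad d r) {t : P} (ht : t ∈ d.T) :
    ∃ i j : ℤ, ∃ g ∈ Subgroup.centralizer (W : Set P), t = r ^ i * g * d.θ r ^ j := by
  obtain ⟨ζ, hζ, i, hi⟩ := d.S_decomp b.x_mem b.hx (d.θ_mem t)
  obtain ⟨j, hj⟩ := c.Z_gen b.z_mem b.z_ne hζ
  have hxT : d.θ r ∈ d.T := d.S_le_T b.x_mem
  have h1 : (r ^ i)⁻¹ ∈ d.T := d.T.inv_mem (d.T.zpow_mem b.hr i)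
  have h2 : (d.θ r ^ j)⁻¹ ∈ d.T := d.T.inv_mem (d.T.zpow_mem hxT j)
  refine ⟨i, j, (r ^ i)⁻¹ * t * (d.θ r ^ j)⁻¹, ?_, by group⟩
  apply d.mem_centralizer_of_θ (d.T.mul_mem (d.T.mul_mem h1 ht) h2)
  rw [d.θ_mul (d.T.mul_mem h1 ht) h2, d.θ_mul h1 ht, d.θ_inv (d.T.zpow_mem b.hr i),
    d.θ_inv (d.T.zpow_mem hxT j), d.θ_zpow b.hr, d.θ_zpow hxT, hi, ← hj]
  have h3 : (d.θ r ^ i)⁻¹ * (ζ * d.θ r ^ i) = ζ := by
    rw [c.Z_comm hζ]; group
  rw [h3]; group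

/-- `Y = C ⟨r⟩`. -/
def Y (_b : Bad d r) : Subgroup P := Subgroup.centralizer (W : Set P) ⊔ Subgroup.zpowers r

theorem Y_le_T (b : Bad d r) : b.Y ≤ d.T := by
  unfold Y
  apply sup_le d.centralizer_le_T
  rw [Subgroup.zpowers_le]
  exact b.hr

theorem Y_decomp (b : Bad d r) {u : P} (hu : u ∈ b.Y) :
    ∃ g ∈ Subgroup.centralizer (W : Set P), ∃ i : ℤ, u = g * r ^ i := by
  haveI := c.normal
  have h1 : u ∈ ((Subgroup.centralizer (W : Set P) ⊔ Subgroup.zpowers r : Subgroup P) : Set P) := hu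
  rw [Subgroup.normal_mul] at h1
  obtain ⟨g, hg, k, hk, rfl⟩ := h1
  obtain ⟨j, rfl⟩ := Subgroup.mem_zpowers_iff.1 hk
  exact ⟨g, hg, j, rfl⟩

theorem Y_omega (b : Bad d r) {u : P} (hu : u ∈ b.Y) (hup : u ^ p = 1) : u ∈ c.Z := by
  have hpp : p.Prime := hp.out
  obtain ⟨g, hg, i, rfl⟩ := b.Y_decomp hu
  have hW : g * r ^ i ∈ W := c.omega _ hup
  have h1 : d.θ (g * r ^ i) ∈ c.Z := c.comm_mem_Z hW d.hy
  rw [d.θ_mul (d.centralizer_le_T hg) (d.T.zpow_mem b.hr i), d.θ_centralizer hg, one_mul,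
    d.θ_zpow b.hr] at h1
  have h2 := dvd_of_zpow_mem hpp c.Z b.hx b.x_pow h1
  have h3 := b.r_zpow_mem_C h2
  exact c.mem_Z_of_mem_centralizer (Subgroup.mul_mem _ hg h3) hup

theorem Y_isCyclic (b : Bad d r) : IsCyclic b.Y :=
  c.isCyclic_of_omega_le _ c.Z (le_of_eq c.card_Z) (fun _ hu hup => b.Y_omega hu hup)

theorem Y_comm (b : Bad d r) {u v : P} (hu : u ∈ b.Y) (hv : v ∈ b.Y) : u * v = v * u := by
  haveI := b.Y_isCyclic
  have h := (IsCyclic.commGroup (α := b.Y)).mul_comm ⟨u, hu⟩ ⟨v, hv⟩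
  exact congrArg Subtype.val h

theorem T_comm (b : Bad d r) {t t' : P} (ht : t ∈ d.T) (ht' : t' ∈ d.T) : t * t' = t' * t := by
  have hcomm : ∀ u ∈ b.Y ⊔ S₁, ∀ v ∈ b.Y ⊔ S₁, u * v = v * u := by
    apply Cfsg.Agent.Lib.Helper26.comm_sup b.Y S₁
    · intro u hu v hv; exact b.Y_comm hu hv
    · intro u hu v hv; exact d.S_comm hu hv
    · intro u hu v hv
      exact ((d.mem_T.1 (b.Y_le_T hu)) v hv).symm
  have hle : d.T ≤ b.Y ⊔ S₁ := by
    intro t ht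
    obtain ⟨i, j, g, hg, rfl⟩ := b.T_decomp ht
    apply Subgroup.mul_mem
    · apply Subgroup.mem_sup_left
      apply Subgroup.mul_mem
      · exact Subgroup.mem_sup_right (Subgroup.zpow_mem _ (Subgroup.mem_zpowers r) i)
      · exact Subgroup.mem_sup_left hg
    · exact Subgroup.mem_sup_right (S₁.zpow_mem b.x_mem j)
  exact hcomm t (hle ht) t' (hle ht')

theorem p_dvd_card_C (_b : Bad d r) : p ∣ Nat.card (Subgroup.centralizer (W : Set P)) := by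
  have := Subgroup.card_dvd_of_le c.Z_le_centralizer
  rwa [c.card_Z] at this

theorem pow_n_S (b : Bad d r) {s : P} (hs : s ∈ S₁) :
    s ^ Nat.card (Subgroup.centralizer (W : Set P)) = 1 := by
  obtain ⟨k, hk⟩ := b.p_dvd_card_C
  rw [hk, pow_mul, c.exp s (d.le hs), one_pow]

omit hp in
theorem pow_n_C (_b : Bad d r) {g : P} (hg : g ∈ Subgroup.centralizer (W : Set P)) :
    g ^ Nat.card (Subgroup.centralizer (W : Set P)) = 1 := by
  have h := pow_card_eq_one' (G := ↥(Subgroup.centralizer (W : Set P))) (x := ⟨g, hg⟩)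
  have h' := congrArg Subtype.val h
  rwa [Subgroup.coe_pow] at h'

theorem r_pow_n_ne (b : Bad d r) : r ^ Nat.card (Subgroup.centralizer (W : Set P)) ≠ 1 := by
  intro hrn
  set n := Nat.card (Subgroup.centralizer (W : Set P)) with hn
  have hall : ∀ u : ↥b.Y, u ^ n = 1 := by
    intro u
    obtain ⟨g, hg, i, hu⟩ := b.Y_decomp u.2
    apply Subtype.ext
    rw [Subgroup.coe_pow, hu]
    have hgY : g ∈ b.Y := Subgroup.mem_sup_left hg
    have hrY : r ^ i ∈ b.Y :=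
      Subgroup.mem_sup_right (Subgroup.zpow_mem _ (Subgroup.mem_zpowers r) i)
    have hcomm : Commute g (r ^ i) := b.Y_comm hgY hrY
    rw [hcomm.mul_pow, b.pow_n_C hg, one_mul, ← zpow_natCast, ← zpow_mul, mul_comm, zpow_mul,
      zpow_natCast, hrn, one_zpow]
    rfl
  haveI := b.Y_isCyclic
  have h1 : Monoid.exponent ↥b.Y ∣ n := Monoid.exponent_dvd_of_forall_pow_eq_one hall
  rw [IsCyclic.exponent_eq_card] at h1
  have hCY : Subgroup.centralizer (W : Set P) ≤ b.Y := le_sup_left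
  have h2 : Subgroup.centralizer (W : Set P) = b.Y := by
    apply Subgroup.eq_of_le_of_card_ge hCY
    exact Nat.le_of_dvd Nat.card_pos h1
  have h3 : r ∈ Subgroup.centralizer (W : Set P) := by
    rw [h2]
    exact Subgroup.mem_sup_right (Subgroup.mem_zpowers r)
  apply b.hx
  rw [d.θ_centralizer h3]
  exact c.Z.one_mem

theorem r_pow_n_mem_Z (b : Bad d r) : r ^ Nat.card (Subgroup.centralizer (W : Set P)) ∈ c.Z := by
  obtain ⟨k, hk⟩ := b.p_dvd_card_C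
  apply c.mem_Z_of_mem_centralizer
  · rw [hk, pow_mul]
    exact Subgroup.pow_mem _ b.rp_mem_C k
  · rw [← pow_mul, mul_comm, pow_mul]
    exact b.pow_n_C b.rp_mem_C

/-- an exact conjugation formula. -/
theorem conj_formula (_b : Bad d r) {u s₁ : P} (hu : u ∈ d.T) (hs₁ : s₁ ∈ S₁) (β : ℤ) :
    u * (s₁ * y ^ β) * u⁻¹ * (s₁ * y ^ β)⁻¹
      = s₁ * ((d.θ u * y) ^ β * (y ^ β)⁻¹) * s₁⁻¹ := by
  have hc : s₁ * u = u * s₁ := (d.mem_T.1 hu) s₁ hs₁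
  have hconj : u * y ^ β * u⁻¹ = (d.θ u * y) ^ β := by
    rw [← conj_zpow]
    congr 1
    unfold θ; group
  calc u * (s₁ * y ^ β) * u⁻¹ * (s₁ * y ^ β)⁻¹
      = (u * s₁) * y ^ β * u⁻¹ * (y ^ β)⁻¹ * s₁⁻¹ := by group
    _ = (s₁ * u) * y ^ β * u⁻¹ * (y ^ β)⁻¹ * s₁⁻¹ := by rw [hc]
    _ = s₁ * (u * y ^ β * u⁻¹) * (y ^ β)⁻¹ * s₁⁻¹ := by group
    _ = s₁ * ((d.θ u * y) ^ β * (y ^ β)⁻¹) * s₁⁻¹ := by rw [hconj]; group

omit [Finite P] hp in
theorem map_θ (_b : Bad d r) (φ : MulAut P) (t : P) :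
    φ (d.θ t) = φ t * φ y * (φ t)⁻¹ * (φ y)⁻¹ := by
  unfold θ
  rw [map_mul, map_mul, map_mul, map_inv, map_inv]

/-- the action on `Z`: exact formula. -/
theorem phi_z (b : Bad d r) (φ : MulAut P) {α β : ℤ} {ζ₁ s₁ : P} (hζ₁ : ζ₁ ∈ c.Z)
    (hs₁ : s₁ ∈ S₁) (hφx : φ (d.θ r) = ζ₁ * d.θ r ^ α) (hφy : φ y = s₁ * y ^ β) :
    φ (d.θ (d.θ r)) = d.θ (d.θ r) ^ (α * β) := by
  have hxT : d.θ r ∈ d.T := d.S_le_T b.x_mem
  have huT : ζ₁ * d.θ r ^ α ∈ d.T :=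
    d.T.mul_mem (d.S_le_T (d.Z_le hζ₁)) (d.T.zpow_mem hxT α)
  have hθu : d.θ (ζ₁ * d.θ r ^ α) = d.θ (d.θ r) ^ α := by
    rw [d.θ_mul (d.S_le_T (d.Z_le hζ₁)) (d.T.zpow_mem hxT α),
      d.θ_centralizer (c.Z_le_centralizer hζ₁), one_mul, d.θ_zpow hxT]
  rw [b.map_θ, hφx, hφy, b.conj_formula huT hs₁ β, hθu]
  have hzc : Commute (d.θ (d.θ r) ^ α) y := c.Z_comm (c.Z.zpow_mem b.z_mem α) y
  rw [hzc.mul_zpow]
  have h5 : (d.θ (d.θ r) ^ α) ^ β * y ^ β * (y ^ β)⁻¹ = d.θ (d.θ r) ^ (α * β) := by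
    rw [mul_assoc, mul_inv_cancel, mul_one, ← zpow_mul]
  rw [h5]
  have hz2 : d.θ (d.θ r) ^ (α * β) ∈ c.Z := c.Z.zpow_mem b.z_mem _
  rw [← c.Z_comm hz2 s₁, mul_assoc, mul_inv_cancel, mul_one]

omit [Finite P] hp in
/-- modulo a normal subgroup `N`, `(s a) ^ j = a ^ j` for `s ∈ N`. -/
theorem zpow_mul_mem (N : Subgroup P) [N.Normal] {s a : P} (hs : s ∈ N) (j : ℤ) :
    (s * a) ^ j * (a ^ j)⁻¹ ∈ N := by
  rw [← QuotientGroup.eq_one_iff]
  have h1 : ((s : P) : P ⧸ N) = 1 := (QuotientGroup.eq_one_iff s).2 hs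
  rw [QuotientGroup.mk_mul, QuotientGroup.mk_inv, QuotientGroup.mk_zpow, QuotientGroup.mk_zpow,
    QuotientGroup.mk_mul, h1, one_mul, mul_inv_cancel]

/-- the relation `α ≡ χ β`. -/
theorem alpha_rel (b : Bad d r) (φ : MulAut P) {α β χ i : ℤ} {ζ₁ s₁ g : P} (hζ₁ : ζ₁ ∈ c.Z)
    (hs₁ : s₁ ∈ S₁) (hg : g ∈ Subgroup.centralizer (W : Set P))
    (hφx : φ (d.θ r) = ζ₁ * d.θ r ^ α) (hφy : φ y = s₁ * y ^ β)
    (hφr : φ r = r ^ χ * g * d.θ r ^ i) : (p : ℤ) ∣ α - χ * β := by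
  have hpp : p.Prime := hp.out
  haveI := c.Z_normal
  have hxT : d.θ r ∈ d.T := d.S_le_T b.x_mem
  have huT : φ r ∈ d.T := b.map_T φ b.hr
  -- `θ (φ r)`
  have hθu : d.θ (φ r) = d.θ r ^ χ * d.θ (d.θ r) ^ i := by
    rw [hφr, d.θ_mul (d.T.mul_mem (d.T.zpow_mem b.hr χ) (d.centralizer_le_T hg))
      (d.T.zpow_mem hxT i), d.θ_mul (d.T.zpow_mem b.hr χ) (d.centralizer_le_T hg),
      d.θ_centralizer hg, mul_one, d.θ_zpow b.hr, d.θ_zpow hxT]
  have hE := b.map_θ φ r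
  rw [hφy, b.conj_formula huT hs₁ β, hθu, hφx] at hE
  -- pass to the quotient by `Z`
  have hq := congrArg (fun a : P => (a : P ⧸ c.Z)) hE
  simp only [QuotientGroup.mk_mul, QuotientGroup.mk_inv, QuotientGroup.mk_zpow] at hq
  have hζ1 : ((ζ₁ : P) : P ⧸ c.Z) = 1 := (QuotientGroup.eq_one_iff ζ₁).2 hζ₁
  have hz1 : ((d.θ (d.θ r) : P) : P ⧸ c.Z) = 1 := (QuotientGroup.eq_one_iff _).2 b.z_mem
  rw [hζ1, hz1, one_mul, one_zpow, mul_one] at hq
  have hcxy : Commute ((d.θ r : P) : P ⧸ c.Z) ((y : P) : P ⧸ c.Z) := by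
    have h1 := c.comm_mem_Z (d.le b.x_mem) d.hy
    have h2 := (QuotientGroup.eq_one_iff _).2 h1
    simp only [QuotientGroup.mk_mul, QuotientGroup.mk_inv] at h2
    have h3 : ((d.θ r : P) : P ⧸ c.Z) * (y : P ⧸ c.Z)
        = (((d.θ r : P) : P ⧸ c.Z) * (y : P ⧸ c.Z) * ((d.θ r : P) : P ⧸ c.Z)⁻¹
          * ((y : P) : P ⧸ c.Z)⁻¹) * ((y : P ⧸ c.Z) * ((d.θ r : P) : P ⧸ c.Z)) := by group
    rw [h2, one_mul] at h3
    exact h3
  have hcxs : Commute ((s₁ : P) : P ⧸ c.Z) ((d.θ r : P) : P ⧸ c.Z) := by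
    have h1 := d.S_comm hs₁ b.x_mem
    have h2 := congrArg (fun a : P => (a : P ⧸ c.Z)) h1
    have h3 : ((s₁ : P) : P ⧸ c.Z) * ((d.θ r : P) : P ⧸ c.Z)
        = ((d.θ r : P) : P ⧸ c.Z) * ((s₁ : P) : P ⧸ c.Z) := by
      simpa only [QuotientGroup.mk_mul] using h2
    exact h3
  have e1 : (((d.θ r : P) : P ⧸ c.Z) ^ χ * ((y : P) : P ⧸ c.Z)) ^ β
      = (((d.θ r : P) : P ⧸ c.Z) ^ χ) ^ β * ((y : P) : P ⧸ c.Z) ^ β :=
    (hcxy.zpow_left χ).mul_zpow β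
  have e2 : (((d.θ r : P) : P ⧸ c.Z) ^ χ * ((y : P) : P ⧸ c.Z)) ^ β
      * (((y : P) : P ⧸ c.Z) ^ β)⁻¹ = ((d.θ r : P) : P ⧸ c.Z) ^ (χ * β) := by
    rw [e1, mul_assoc, mul_inv_cancel, mul_one, ← zpow_mul]
  rw [e2] at hq
  have h4 : ((s₁ : P) : P ⧸ c.Z) * ((d.θ r : P) : P ⧸ c.Z) ^ (χ * β) * ((s₁ : P) : P ⧸ c.Z)⁻¹
      = ((d.θ r : P) : P ⧸ c.Z) ^ (χ * β) := by
    rw [(hcxs.zpow_right (χ * β)).eq, mul_assoc, mul_inv_cancel, mul_one]
  rw [h4] at hq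
  have h5 : ((d.θ r : P) : P ⧸ c.Z) ^ (α - χ * β) = 1 := by
    rw [zpow_sub, hq, mul_inv_cancel]
  rw [← QuotientGroup.mk_zpow, QuotientGroup.eq_one_iff] at h5
  exact dvd_of_zpow_mem hpp c.Z b.hx b.x_pow h5

/-- the relation `γ ≡ χ`. -/
theorem chi_rel (b : Bad d r) (φ : MulAut P) {χ i γ : ℤ} {g : P}
    (hg : g ∈ Subgroup.centralizer (W : Set P)) (hφr : φ r = r ^ χ * g * d.θ r ^ i)
    (hγ : φ (d.θ (d.θ r)) = d.θ (d.θ r) ^ γ) : (p : ℤ) ∣ γ - χ := by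
  have hpp : p.Prime := hp.out
  set n := Nat.card (Subgroup.centralizer (W : Set P)) with hn
  have hxT : d.θ r ∈ d.T := d.S_le_T b.x_mem
  have h1 : φ (r ^ n) = (r ^ n) ^ χ := by
    rw [map_pow, hφr]
    have hc1 : Commute (r ^ χ) g :=
      b.T_comm (d.T.zpow_mem b.hr χ) (d.centralizer_le_T hg)
    have hc2 : Commute (r ^ χ * g) (d.θ r ^ i) :=
      b.T_comm (d.T.mul_mem (d.T.zpow_mem b.hr χ) (d.centralizer_le_T hg)) (d.T.zpow_mem hxT i)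
    rw [hc2.mul_pow, hc1.mul_pow, b.pow_n_C hg, b.pow_n_S (S₁.zpow_mem b.x_mem i), mul_one,
      mul_one, ← zpow_natCast, ← zpow_mul, mul_comm, zpow_mul, zpow_natCast]
  obtain ⟨e, he⟩ := c.Z_gen b.z_mem b.z_ne b.r_pow_n_mem_Z
  have h2 : φ (r ^ n) = (r ^ n) ^ γ := by
    rw [he, map_zpow, hγ, ← zpow_mul, ← zpow_mul, mul_comm]
  have h3 : (r ^ n) ^ (γ - χ) = 1 := by
    rw [zpow_sub, ← h1, ← h2, mul_inv_cancel]
  have h4 : r ^ n ∉ (⊥ : Subgroup P) := by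
    rw [Subgroup.mem_bot]; exact b.r_pow_n_ne
  have h5 : (r ^ n) ^ p = 1 := c.exp _ (c.Z_le b.r_pow_n_mem_Z)
  exact dvd_of_zpow_mem hpp ⊥ h4 h5 (by rw [h3]; exact Subgroup.one_mem _)

/-- iterating `φ` on `y`. -/
theorem beta_rel (b : Bad d r) (φ : MulAut P) {β : ℤ} {s₁ : P} (hs₁ : s₁ ∈ S₁)
    (hφy : φ y = s₁ * y ^ β) : ∀ j : ℕ, ∃ s ∈ S₁, (φ ^ j) y = s * y ^ (β ^ j) := by
  haveI := d.normal
  intro j
  induction j with
  | zero => exact ⟨1, S₁.one_mem, by simp⟩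
  | succ j ih =>
    obtain ⟨s, hs, hj⟩ := ih
    have h1 : (φ ^ (j + 1)) y = φ ((φ ^ j) y) := by
      rw [pow_succ']; rfl
    rw [h1, hj, map_mul, map_zpow, hφy]
    have h2 := zpow_mul_mem S₁ (a := y ^ β) hs₁ (β ^ j)
    refine ⟨φ s * ((s₁ * y ^ β) ^ (β ^ j) * ((y ^ β) ^ (β ^ j))⁻¹),
      S₁.mul_mem (b.map_S φ hs) h2, ?_⟩
    rw [pow_succ, mul_comm (β ^ j) β, zpow_mul]
    group

/-- an automorphism of odd order acts trivially on `W / S₁`. -/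
theorem phi_y (b : Bad d r) (φ : MulAut P) (hodd : Odd (orderOf φ)) : φ y * y⁻¹ ∈ S₁ := by
  have hpp : p.Prime := hp.out
  obtain ⟨s₁, hs₁, β, hφy⟩ := d.W_decomp (c.map_mem φ d.hy)
  obtain ⟨ζ₁, hζ₁, α, hφx⟩ := d.S_decomp b.x_mem b.hx (b.map_S φ b.x_mem)
  obtain ⟨χ, i, g, hg, hφr⟩ := b.T_decomp (b.map_T φ b.hr)
  obtain ⟨γ, hγ⟩ := c.Z_gen b.z_mem b.z_ne (c.Z_map_mem φ b.z_mem)
  -- the three relations
  have R1 : (p : ℤ) ∣ γ - α * β := by
    have h1 := b.phi_z φ hζ₁ hs₁ hφx hφy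
    rw [hγ] at h1
    have h3 : d.θ (d.θ r) ^ (γ - α * β) = 1 := by
      rw [zpow_sub, h1, mul_inv_cancel]
    have h4 : d.θ (d.θ r) ∉ (⊥ : Subgroup P) := by
      rw [Subgroup.mem_bot]; exact b.z_ne
    exact dvd_of_zpow_mem hpp ⊥ h4 b.z_pow (by rw [h3]; exact Subgroup.one_mem _)
  have R2 := b.alpha_rel φ hζ₁ hs₁ hg hφx hφy hφr
  have R3 := b.chi_rel φ hg hφr hγ
  have hα : ¬ (p : ℤ) ∣ α := by
    intro h
    have h1 : d.θ r ^ α = d.θ r ^ (0 : ℤ) := zpow_eq_of_dvd b.x_pow (by simpa using h)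
    rw [h1, zpow_zero, mul_one] at hφx
    have h2 : φ⁻¹ (φ (d.θ r)) ∈ c.Z := c.Z_map_mem φ⁻¹ (hφx ▸ hζ₁)
    rw [MulAut.inv_apply_self] at h2
    exact b.hx h2
  -- `β² ≡ 1`
  haveI : Fact p.Prime := ⟨hpp⟩
  have e1 : (γ : ZMod p) = α * β := by
    have := (ZMod.intCast_eq_intCast_iff_dvd_sub (α * β) γ p).2 R1
    push_cast at this
    exact this.symm
  have e2 : (α : ZMod p) = χ * β := by
    have := (ZMod.intCast_eq_intCast_iff_dvd_sub (χ * β) α p).2 R2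
    push_cast at this
    exact this.symm
  have e3 : (γ : ZMod p) = χ := by
    have := (ZMod.intCast_eq_intCast_iff_dvd_sub χ γ p).2 R3
    exact this.symm
  have e4 : (α : ZMod p) ≠ 0 := by
    intro h
    exact hα ((ZMod.intCast_zmod_eq_zero_iff_dvd α p).1 h)
  have e5 : (β : ZMod p) ^ 2 = 1 := by
    have h1 : (α : ZMod p) = α * (β : ZMod p) ^ 2 := by
      calc (α : ZMod p) = χ * β := e2
        _ = (α * β) * β := by rw [← e3, e1]
        _ = α * (β : ZMod p) ^ 2 := by ring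
    have h2 : (α : ZMod p) * ((β : ZMod p) ^ 2 - 1) = 0 := by
      rw [mul_sub, mul_one, ← h1, sub_self]
    rcases mul_eq_zero.1 h2 with h | h
    · exact absurd h e4
    · exact sub_eq_zero.1 h
  -- `β ^ N ≡ 1`
  obtain ⟨s, hs, hN⟩ := b.beta_rel φ hs₁ hφy (orderOf φ)
  rw [pow_orderOf_eq_one, MulAut.one_apply] at hN
  have h6 : y ^ (1 - β ^ orderOf φ) ∈ S₁ := by
    rw [zpow_sub, zpow_one]
    have : y * (y ^ (β ^ orderOf φ))⁻¹ = s := by
      nth_rewrite 1 [hN]; group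
    rw [this]; exact hs
  have h7 := dvd_of_zpow_mem hpp S₁ d.hyS d.y_pow h6
  have e6 : (β : ZMod p) ^ orderOf φ = 1 := by
    have := (ZMod.intCast_eq_intCast_iff_dvd_sub (β ^ orderOf φ) 1 p).2 h7
    push_cast at this
    exact this
  obtain ⟨k, hk⟩ := hodd
  have e7 : (β : ZMod p) = 1 := by
    rw [hk, pow_succ, pow_mul, e5, one_pow, one_mul] at e6
    exact e6
  have h8 : (p : ℤ) ∣ β - 1 := by
    have : ((β : ℤ) : ZMod p) = ((1 : ℤ) : ZMod p) := by push_cast; exact e7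
    exact (ZMod.intCast_eq_intCast_iff_dvd_sub 1 β p).1 this.symm
  have h9 : y ^ β = y ^ (1 : ℤ) := zpow_eq_of_dvd d.y_pow h8
  rw [hφy, h9, zpow_one, mul_assoc, mul_inv_cancel, mul_one]
  exact hs₁

/-- the bad case is impossible. -/
theorem false (b : Bad d r) (𝒜 : Set (MulAut P)) (hodd : ∀ φ ∈ 𝒜, Odd (orderOf φ))
    (hPA : ∀ T : Subgroup P, (∀ φ ∈ 𝒜, ∀ g, φ g * g⁻¹ ∈ T) → T = ⊤) : False := by
  haveI := d.normal
  have key : ∀ φ ∈ 𝒜, ∀ g, φ g * g⁻¹ ∈ d.T := by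
    intro φ hφ g
    obtain ⟨t, ht, j, rfl⟩ := d.P_decomp g
    have h1 := b.phi_y φ (hodd φ hφ)
    have h2 := zpow_mul_mem S₁ (a := y) h1 j
    have h3 : φ y * y⁻¹ * y = φ y := by group
    rw [h3] at h2
    have h4 : φ (t * y ^ j) * (t * y ^ j)⁻¹ = φ t * ((φ y) ^ j * (y ^ j)⁻¹) * t⁻¹ := by
      rw [map_mul, map_zpow]; group
    rw [h4]
    exact d.T.mul_mem (d.T.mul_mem (b.map_T φ ht) (d.S_le_T h2)) (d.T.inv_mem ht)
  have := hPA d.T key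
  apply d.y_not_mem_T
  rw [this]
  exact Subgroup.mem_top y

end Bad

end Data

/-- **Main theorem**: `P = W C_P(W)`. -/
theorem main (c : Ctx p W) (𝒜 : Set (MulAut P)) (hodd : ∀ φ ∈ 𝒜, Odd (orderOf φ))
    (hPA : ∀ T : Subgroup P, (∀ φ ∈ 𝒜, ∀ g, φ g * g⁻¹ ∈ T) → T = ⊤) :
    W ⊔ Subgroup.centralizer (W : Set P) = ⊤ := by
  obtain ⟨S₁, y, d⟩ := c.exists_data
  by_cases h : ∀ t ∈ d.T, d.θ t ∈ c.Z
  · exact d.good h
  · exfalso
    have h' : ∃ r, r ∈ d.T ∧ d.θ r ∉ c.Z := by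
      by_contra hcon
      apply h
      intro t ht
      by_contra htZ
      exact hcon ⟨t, ht, htZ⟩
    obtain ⟨r, hr, hx⟩ := h'
    exact Data.Bad.false ⟨hr, hx⟩ 𝒜 hodd hPA

end Ctx

end Cfsg.Agent.Lib.Helper40.ExtraCase
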