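import Mathlib
import Cfsg.Prelude.Def_CaseTheorems
import Cfsg.Prelude.Def_OddOrderLocal
import Cfsg.Prelude.Def_Solvable
import Cfsg.Agent.Lib.Helper40.Narrow
import Cfsg.Agent.Lib.Helper26.Rank2Amb
import Cfsg.Agent.Lib.Helper01.PCore
import Cfsg.Agent.Lib.Helper01.PPrimeCore
import Cfsg.Agent.Lib.Helper01.HallHigman
import Cfsg.Agent.Lib.Helper40.Cores
import Cfsg.Agent.Lib.Helper40.Sylow
import Cfsg.Agent.Lib.Helper32.PLength
import Cfsg.Agent.Lib.Helper31.KeyLemma2

set_option autoImplicit false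

/-!
# Narrow `p`-groups: producing the witness and the ambient form of the automorphism theorem

* `closure_comm_pow`: a subgroup generated by commuting elements of order dividing `p` is elementary
  abelian.
* `exists_wit`: a `p`-group of rank at least three with an elementary abelian subgroup `E₀` whose
  centralizer has rank at most two contains a witness in the sense of `Narrow.Wit`.
* `exists_wit_of_isNarrow`: the same from `Cfsg.IsNarrow`.
* `ambient`: the action of a subgroup `A ≤ N_G(R)` on such an `R`.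
-/

universe u

namespace Cfsg.Agent.Lib.Helper40.NarrowGlue

open Cfsg Subgroup
open scoped commutatorElement Pointwise

variable {R : Type*} [Group R]

theorem closure_comm_pow {p : ℕ} (S : Set R) (hc : ∀ a ∈ S, ∀ b ∈ S, a * b = b * a)
    (hp : ∀ a ∈ S, a ^ p = 1) :
    (∀ a ∈ closure S, ∀ b ∈ closure S, a * b = b * a) ∧ ∀ a ∈ closure S, a ^ p = 1 := by
  have h1 : closure S ≤ centralizer S := by
    rw [closure_le]
    intro a ha
    rw [SetLike.mem_coe, mem_centralizer_iff]
    intro h hh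
    exact hc h hh a ha
  have h2 : closure S ≤ centralizer (closure S : Set R) := by
    rw [closure_le]
    intro b hb
    rw [SetLike.mem_coe, mem_centralizer_iff]
    intro a ha
    have := h1 ha
    rw [mem_centralizer_iff] at this
    exact (this b hb).symm
  have hcomm : ∀ a ∈ closure S, ∀ b ∈ closure S, a * b = b * a := by
    intro a ha b hb
    have := h2 hb
    rw [mem_centralizer_iff] at this
    exact this a ha
  refine ⟨hcomm, ?_⟩
  intro a ha
  induction ha using closure_induction with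
  | mem x hx => exact hp x hx
  | one => exact one_pow p
  | mul x y hx hy ihx ihy =>
    have hxy : Commute x y := hcomm x hx y hy
    rw [hxy.mul_pow, ihx, ihy, one_mul]
  | inv x hx ih => rw [inv_pow, ih, inv_one]

theorem isMulCommutative_of_comm (A : Subgroup R) (h : ∀ a ∈ A, ∀ b ∈ A, a * b = b * a) :
    IsMulCommutative A :=
  ⟨⟨fun a b => Subtype.ext (h a a.2 b b.2)⟩⟩

/-- A `p`-group of rank at least three with an elementary abelian subgroup `E₀` whose centralizer
has rank at most two contains a witness. -/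
theorem exists_wit [Finite R] {p : ℕ} [hp : Fact p.Prime] (hR : IsPGroup p R)
    (hrk : ¬ PRankLE p 2 R) (E₀ : Subgroup R)
    (hE₀c : ∀ a ∈ E₀, ∀ b ∈ E₀, a * b = b * a) (hE₀p : ∀ a ∈ E₀, a ^ p = 1)
    (hC : ∀ A : Subgroup R, IsMulCommutative A → (∀ a ∈ A, a ^ p = 1) →
      (∀ a ∈ A, ∀ e ∈ E₀, a * e = e * a) → Nat.card A ≤ p ^ 2) :
    ∃ (x : R) (E : Subgroup R), Narrow.Wit p x E := by
  classical
  have hp1 : 1 < p := hp.out.one_lt
  have : Nontrivial R := by
    by_contra h
    rw [not_nontrivial_iff_subsingleton] at h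
    apply hrk
    intro A _ _
    have h1 : Nat.card A ≤ Nat.card R := Subgroup.card_le_card_group A
    have h2 : Nat.card R = 1 := Nat.card_of_subsingleton 1
    have h3 : 1 ≤ p ^ 2 := Nat.one_le_pow _ _ (by omega)
    omega
  -- a central element of order `p`
  obtain ⟨z, hzc, hzp, hz1⟩ : ∃ z : R, z ∈ center R ∧ z ^ p = 1 ∧ z ≠ 1 := by
    have := hR.center_nontrivial
    obtain ⟨k, hk⟩ := (hR.to_subgroup (center R)).exists_card_eq
    have hk0 : k ≠ 0 := by
      rintro rfl
      have : 1 < Nat.card (center R) := Finite.one_lt_card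
      rw [hk] at this
      simp at this
    have hdvd : p ∣ Nat.card (center R) := by
      rw [hk]; exact dvd_pow_self p hk0
    obtain ⟨z, hz⟩ := exists_prime_orderOf_dvd_card' p hdvd
    refine ⟨z.1, z.2, ?_, ?_⟩
    · have := pow_orderOf_eq_one z
      rw [hz] at this
      simpa using congrArg Subtype.val this
    · intro h
      have : z = 1 := Subtype.ext h
      rw [this, orderOf_one] at hz
      omega
  have hzcomm : ∀ g : R, g * z = z * g := fun g => mem_center_iff.mp hzc g
  -- an element of `E₀` outside the centre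
  obtain ⟨x, hxE, hxc⟩ : ∃ x ∈ E₀, x ∉ center R := by
    by_contra h
    push Not at h
    apply hrk
    intro A hA1 hA2
    exact hC A hA1 hA2 (fun a _ e he => mem_center_iff.mp (h e he) a)
  have hxp : x ^ p = 1 := hE₀p x hxE
  -- the subgroup generated by `x` and `z`
  have hSc : ∀ a ∈ ({x, z} : Set R), ∀ b ∈ ({x, z} : Set R), a * b = b * a := by
    intro a ha b hb
    rcases ha with rfl | rfl
    · rcases hb with rfl | rfl
      · rfl
      · exact hzcomm a
    · exact (hzcomm b).symm
  have hSp : ∀ a ∈ ({x, z} : Set R), a ^ p = 1 := by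
    intro a ha
    rcases ha with rfl | rfl
    · exact hxp
    · exact hzp
  obtain ⟨hEc, hEp⟩ := closure_comm_pow ({x, z} : Set R) hSc hSp
  set E : Subgroup R := closure ({x, z} : Set R) with hE
  have hxmem : x ∈ E := subset_closure (Set.mem_insert _ _)
  have hzmem : z ∈ E := subset_closure (Set.mem_insert_of_mem _ rfl)
  have hEcent : ∀ a ∈ E, ∀ e ∈ E₀, a * e = e * a := by
    intro a ha e he
    have hle : E ≤ centralizer {e} := by
      rw [hE, closure_le]
      intro b hb
      rw [SetLike.mem_coe, mem_centralizer_singleton_iff]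
      rcases hb with rfl | rfl
      · exact hE₀c _ hxE e he
      · exact (hzcomm e).symm
    exact mem_centralizer_singleton_iff.mp (hle ha)
  have hEle : Nat.card E ≤ p ^ 2 := hC E (isMulCommutative_of_comm E hEc) hEp hEcent
  have hEge : p ^ 2 ≤ Nat.card E := by
    obtain ⟨a, ha⟩ := (hR.to_subgroup E).exists_card_eq
    have hzle : zpowers z ≤ E := zpowers_le.mpr hzmem
    have hzcard : Nat.card (zpowers z) = p := by
      rw [Nat.card_zpowers]
      exact orderOf_eq_prime hzp hz1
    have hlt : p < Nat.card E := by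
      by_contra hle
      rw [not_lt] at hle
      have heq : zpowers z = E := eq_of_le_of_card_ge hzle (by rw [hzcard]; exact hle)
      apply hxc
      have : x ∈ zpowers z := by rw [heq]; exact hxmem
      exact (zpowers_le.mpr hzc) this
    rw [ha] at hlt ⊢
    have ha2 : 2 ≤ a := by
      by_contra h
      have : a ≤ 1 := by omega
      have := Nat.pow_le_pow_right hp.out.pos this
      rw [pow_one] at this
      omega
    exact Nat.pow_le_pow_right hp.out.pos ha2
  have hEcard : Nat.card E = p ^ 2 := le_antisymm hEle hEge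
  -- `E₀ ≤ E`
  have hE₀E : E₀ ≤ E := by
    have hS2c : ∀ a ∈ ((E₀ : Set R) ∪ {z}), ∀ b ∈ ((E₀ : Set R) ∪ {z}), a * b = b * a := by
      intro a ha b hb
      rcases ha with ha | rfl
      · rcases hb with hb | rfl
        · exact hE₀c a ha b hb
        · exact hzcomm a
      · exact (hzcomm b).symm
    have hS2p : ∀ a ∈ ((E₀ : Set R) ∪ {z}), a ^ p = 1 := by
      intro a ha
      rcases ha with ha | rfl
      · exact hE₀p a ha
      · exact hzp
    obtain ⟨hAc, hAp⟩ := closure_comm_pow ((E₀ : Set R) ∪ {z}) hS2c hS2p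
    set A₂ : Subgroup R := closure ((E₀ : Set R) ∪ {z}) with hA₂
    have hE₀A : E₀ ≤ A₂ := fun e he => subset_closure (Or.inl he)
    have hEA : E ≤ A₂ := by
      rw [hE, closure_le]
      intro b hb
      rcases hb with rfl | rfl
      · exact hE₀A hxE
      · exact subset_closure (Or.inr rfl)
    have hA₂card : Nat.card A₂ ≤ p ^ 2 :=
      hC A₂ (isMulCommutative_of_comm A₂ hAc) hAp (fun a ha e he => hAc a ha e (hE₀A he))
    have heq : E = A₂ := eq_of_le_of_card_ge hEA (by rw [hEcard]; exact hA₂card)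
    rw [heq]; exact hE₀A
  refine ⟨x, E, ⟨hxp, hEcard, ?_⟩⟩
  intro g hgx hgp
  have hS3 : ∀ a ∈ ({g, x, z} : Set R), a = g ∨ a = x ∨ a = z := by
    intro a ha
    simpa using ha
  have hS3c : ∀ a ∈ ({g, x, z} : Set R), ∀ b ∈ ({g, x, z} : Set R), a * b = b * a := by
    intro a ha b hb
    rcases hS3 a ha with rfl | rfl | rfl
    · rcases hS3 b hb with rfl | rfl | rfl
      · rfl
      · exact hgx
      · exact hzcomm a
    · rcases hS3 b hb with rfl | rfl | rfl
      · exact hgx.symm
      · rfl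
      · exact hzcomm a
    · exact (hzcomm b).symm
  have hS3p : ∀ a ∈ ({g, x, z} : Set R), a ^ p = 1 := by
    intro a ha
    rcases hS3 a ha with rfl | rfl | rfl
    · exact hgp
    · exact hxp
    · exact hzp
  obtain ⟨hAc, hAp⟩ := closure_comm_pow ({g, x, z} : Set R) hS3c hS3p
  set A₃ : Subgroup R := closure ({g, x, z} : Set R) with hA₃
  have hEA : E ≤ A₃ := by
    rw [hE]
    exact closure_mono (Set.subset_insert _ _)
  have hA₃card : Nat.card A₃ ≤ p ^ 2 :=
    hC A₃ (isMulCommutative_of_comm A₃ hAc) hAp (fun a ha e he => hAc a ha e (hEA (hE₀E he)))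
  have heq : E = A₃ := eq_of_le_of_card_ge hEA (by rw [hEcard]; exact hA₃card)
  rw [heq]
  exact subset_closure (Set.mem_insert _ _)

theorem comm_of_isCyclic (A : Subgroup R) [IsCyclic A] : ∀ a ∈ A, ∀ b ∈ A, a * b = b * a := by
  intro a ha b hb
  obtain ⟨g, hg⟩ := IsCyclic.exists_generator (α := A)
  obtain ⟨m, hm⟩ := Subgroup.mem_zpowers_iff.mp (hg ⟨a, ha⟩)
  obtain ⟨n, hn⟩ := Subgroup.mem_zpowers_iff.mp (hg ⟨b, hb⟩)
  have : (⟨a, ha⟩ : A) * ⟨b, hb⟩ = ⟨b, hb⟩ * ⟨a, ha⟩ := by
    rw [← hm, ← hn, ← zpow_add, ← zpow_add, add_comm]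
  exact congrArg Subtype.val this

/-- The witness for a narrow `p`-group of rank at least three. -/
theorem exists_wit_of_isNarrow [Finite R] {p : ℕ} [hp : Fact p.Prime] (hR : IsPGroup p R)
    (hn : IsNarrow p R) (hrk : ¬ PRankLE p 2 R) :
    ∃ (x : R) (E : Subgroup R), Narrow.Wit p x E := by
  classical
  rcases hn with h | ⟨R₀, R₁, hcard, hcyc, hdisj, hcomm, hsup⟩
  · exact absurd h hrk
  have hR₀p : ∀ a ∈ R₀, a ^ p = 1 := by
    intro a ha
    have := pow_card_eq_one' (G := R₀) (x := ⟨a, ha⟩)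
    rw [hcard] at this
    simpa using congrArg Subtype.val this
  have hR₀c : ∀ a ∈ R₀, ∀ b ∈ R₀, a * b = b * a := by
    have : IsCyclic R₀ := isCyclic_of_prime_card hcard
    exact comm_of_isCyclic R₀
  apply exists_wit hR hrk R₀ hR₀c hR₀p
  intro A _ hAp hAc
  have hA1 : A ≤ R₀ ⊔ R₁ := by
    rw [hsup]
    intro a ha
    rw [mem_centralizer_iff]
    intro e he
    exact (hAc a ha e he).symm
  have hnorm : R₁ ≤ normalizer (R₀ : Set R) := by
    refine le_trans ?_ (centralizer_le_normalizer _)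
    intro b hb
    rw [mem_centralizer_iff]
    intro a ha
    exact hcomm a ha b hb
  have hcoe : ((R₀ ⊔ R₁ : Subgroup R) : Set R) = (R₀ : Set R) * (R₁ : Set R) :=
    coe_mul_of_right_le_normalizer_left R₀ R₁ hnorm
  let W := {b : R₁ // b ^ p = 1}
  let f : R₀ × W → R := fun ab => (ab.1 : R) * ((ab.2.1 : R₁) : R)
  have hsub : (A : Set R) ⊆ Set.range f := by
    intro g hg
    have hg1 : g ∈ ((R₀ ⊔ R₁ : Subgroup R) : Set R) := hA1 hg
    rw [hcoe] at hg1
    obtain ⟨a, ha, b, hb, rfl⟩ := Set.mem_mul.mp hg1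
    have hab : Commute a b := hcomm a ha b hb
    have hbp : b ^ p = 1 := by
      have := hAp _ hg
      rw [hab.mul_pow, hR₀p a ha, one_mul] at this
      exact this
    exact ⟨(⟨a, ha⟩, ⟨⟨b, hb⟩, Subtype.ext (by simpa using hbp)⟩), rfl⟩
  have hWcard : Nat.card W ≤ p := by
    let _ := Fintype.ofFinite R₁
    have h := IsCyclic.card_pow_eq_one_le (α := R₁) (n := p) hp.out.pos
    have : Nat.card W = (Finset.univ.filter fun a : R₁ => a ^ p = 1).card := by
      rw [Nat.card_eq_fintype_card, Fintype.card_subtype]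
    rw [this]; exact h
  calc Nat.card A = Nat.card (A : Set R) := rfl
    _ ≤ Nat.card (Set.range f) := Nat.card_mono (Set.toFinite _) hsub
    _ ≤ Nat.card (R₀ × W) := Finite.card_range_le f
    _ = Nat.card R₀ * Nat.card W := Nat.card_prod _ _
    _ ≤ p * p := by rw [hcard]; exact Nat.mul_le_mul_left _ hWcard
    _ = p ^ 2 := (sq p).symm

section ambient

variable {G : Type u} [Group G]

/-- the ambient form of `Narrow.exists_normal_pSubgroup_mulAut`. -/
theorem ambient [Finite G] {p : ℕ} [Fact p.Prime] (hp2 : p ≠ 2) (P A : Subgroup G)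
    (hP : IsPGroup p P) (hrk : ¬ PRankLE p 2 P) {x : P} {E : Subgroup P} (w : Narrow.Wit p x E)
    (hA : A ≤ Subgroup.normalizer (P : Set G)) :
    (∀ c ∈ ⁅A, A⁆, ∃ k : ℕ, c ^ (p ^ k) ∈ Subgroup.centralizer (P : Set G)) ∧
      ∀ a ∈ A, ∃ k : ℕ, (a ^ (p - 1)) ^ (p ^ k) ∈ Subgroup.centralizer (P : Set G) := by
  obtain ⟨N, hNn, hNp, hNpow, hNcomm⟩ := Narrow.exists_normal_pSubgroup_mulAut hp2 hP hrk w
  set φ := Cfsg.Agent.Lib.Helper26.Rank2Amb.conjHom P A hA with hφ
  have key : ∀ a : A, φ a ∈ N → ∃ k : ℕ, (a : G) ^ (p ^ k) ∈ Subgroup.centralizer (P : Set G) := by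
    intro a ha
    obtain ⟨k, hk⟩ := hNp ⟨φ a, ha⟩
    refine ⟨k, ?_⟩
    have h1 : (φ a) ^ (p ^ k) = 1 := by simpa using congrArg Subtype.val hk
    have : a ^ (p ^ k) ∈ φ.ker := by
      rw [MonoidHom.mem_ker, map_pow, h1]
    rw [Cfsg.Agent.Lib.Helper26.Rank2Amb.mem_ker_conjHom] at this
    simpa using this
  constructor
  · intro c hc
    have hcA : c ∈ A := by
      have : ⁅A, A⁆ ≤ A := by
        rw [Subgroup.commutator_le]
        intro a ha b hb
        exact A.mul_mem (A.mul_mem (A.mul_mem ha hb) (A.inv_mem ha)) (A.inv_mem hb)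
      exact this hc
    have hc' : (⟨c, hcA⟩ : A) ∈ commutator A := by
      have := Subgroup.map_subtype_commutator A
      rw [← this] at hc
      obtain ⟨y, hy, hyc⟩ := hc
      have : y = ⟨c, hcA⟩ := Subtype.ext hyc
      rwa [this] at hy
    have hφc : φ ⟨c, hcA⟩ ∈ N := by
      have hle : commutator (MulAut P) ≤ N := by
        rw [commutator_def, Subgroup.commutator_le]
        intro a _ b _
        exact hNcomm a b
      apply hle
      rw [commutator_def] at hc' ⊢
      have := Subgroup.mem_map_of_mem φ hc'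
      rw [Subgroup.map_commutator] at this
      exact Subgroup.commutator_mono le_top le_top this
    exact key ⟨c, hcA⟩ hφc
  · intro a ha
    have h1 : φ (⟨a, ha⟩ ^ (p - 1)) ∈ N := by
      rw [map_pow]; exact hNpow _
    obtain ⟨k, hk⟩ := key (⟨a, ha⟩ ^ (p - 1)) h1
    exact ⟨k, by simpa using hk⟩

/-- In a solvable group `H` with `O_{p'}(H) = 1` whose `O_p(H)` is narrow of rank at least three,
the derived subgroup lies in `O_p(H)` and every prime divisor of `|H|` is at most `p`. -/
theorem core_facts_narrow {H : Type u} [Group H] [Finite H] [Group.IsSolvable H]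
    {p : ℕ} [hp : Fact p.Prime] (hp2 : p ≠ 2) (hO : pPrimeCore p H = ⊥)
    (hrk : ¬ PRankLE p 2 (pCore p H)) {x : pCore p H} {E : Subgroup (pCore p H)}
    (w : Narrow.Wit p x E) :
    commutator H ≤ pCore p H ∧ (∀ q : ℕ, q.Prime → q ∣ Nat.card H → q ≤ p) := by
  have hRn : (pCore p H).Normal := Cfsg.Agent.Lib.Helper01.pCore_normal p
  have hRp : IsPGroup p (pCore p H) := Cfsg.Agent.Lib.Helper01.pCore_isPGroup p
  have hA : (⊤ : Subgroup H) ≤ Subgroup.normalizer ((pCore p H : Subgroup H) : Set H) := by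
    rw [Subgroup.normalizer_eq_top]
  obtain ⟨h1, h2⟩ := ambient hp2 (pCore p H) ⊤ hRp hrk w hA
  have hC := Cfsg.Agent.Lib.Helper01.centralizer_pCore_le p hO
  have hpel : ∀ y ∈ pCore p H, ∃ j : ℕ, y ^ (p ^ j) = 1 := by
    intro y hy
    obtain ⟨j, hj⟩ := hRp ⟨y, hy⟩
    exact ⟨j, by simpa using congrArg Subtype.val hj⟩
  have hcomm : commutator H ≤ pCore p H := by
    have hDp : IsPGroup p (commutator H) := by
      intro c
      have hc : (c : H) ∈ ⁅(⊤ : Subgroup H), (⊤ : Subgroup H)⁆ := c.2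
      obtain ⟨k, hk⟩ := h1 _ hc
      obtain ⟨j, hj⟩ := hpel _ (hC hk)
      refine ⟨k + j, Subtype.ext ?_⟩
      rw [pow_add, pow_mul]
      simpa using hj
    exact Cfsg.Agent.Lib.Helper01.le_pCore inferInstance hDp
  refine ⟨hcomm, ?_⟩
  intro q hq hqd
  have : Fact q.Prime := ⟨hq⟩
  obtain ⟨y, hy⟩ := exists_prime_orderOf_dvd_card' q hqd
  obtain ⟨k, hk⟩ := h2 y (Subgroup.mem_top y)
  obtain ⟨j, hj⟩ := hpel _ (hC hk)
  have hpow : y ^ ((p - 1) * (p ^ k * p ^ j)) = 1 := by
    rw [pow_mul, pow_mul]; exact hj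
  have hd : q ∣ (p - 1) * (p ^ k * p ^ j) := hy ▸ orderOf_dvd_of_pow_eq_one hpow
  rcases (Nat.Prime.dvd_mul hq).1 hd with h | h
  · have hpos : 0 < p - 1 := by have := hp.out.one_lt; omega
    have := Nat.le_of_dvd hpos h
    omega
  · rw [← pow_add] at h
    have := (Nat.prime_dvd_prime_iff_eq hq hp.out).1 (hq.dvd_of_dvd_pow h)
    omega

end ambient

section transfer

theorem wit_map {R' : Type*} [Group R'] (e : R ≃* R') {p : ℕ} {x : R} {E : Subgroup R}
    (w : Narrow.Wit p x E) : Narrow.Wit p (e x) (E.map e.toMonoidHom) where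
  pow := by rw [← map_pow, w.pow, map_one]
  card := by
    rw [Subgroup.card_map_of_injective (f := e.toMonoidHom) e.injective]; exact w.card
  mem := by
    intro g hg hgp
    refine ⟨e.symm g, ?_, by simp⟩
    apply w.mem
    · apply e.injective
      rw [map_mul, map_mul, e.apply_symm_apply]; exact hg
    · apply e.injective
      rw [map_pow, e.apply_symm_apply, map_one]; exact hgp

theorem pRankLE_of_injective {H K : Type*} [Group H] [Group K] {p k : ℕ} (f : H →* K)
    (hf : Function.Injective f) (h : PRankLE p k K) : PRankLE p k H := by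
  intro A hAc hAp
  have h1 : IsMulCommutative (A.map f) := by
    refine ⟨⟨?_⟩⟩
    rintro ⟨_, a, ha, rfl⟩ ⟨_, b, hb, rfl⟩
    apply Subtype.ext
    have := hAc.is_comm.comm ⟨a, ha⟩ ⟨b, hb⟩
    have h2 : a * b = b * a := congrArg Subtype.val this
    change f a * f b = f b * f a
    rw [← map_mul, ← map_mul, h2]
  have h2 : ∀ y ∈ A.map f, y ^ p = 1 := by
    rintro _ ⟨a, ha, rfl⟩
    rw [← map_pow, hAp a ha, map_one]
  have := h (A.map f) h1 h2
  rwa [Subgroup.card_map_of_injective hf] at this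

/-- the `p`-rank of a finite group is that of a Sylow `p`-subgroup. -/
theorem pRankLE_of_sylow {G : Type*} [Group G] [Finite G] {p k : ℕ} [Fact p.Prime] (S : Sylow p G)
    (h : PRankLE p k ↥(S : Subgroup G)) : PRankLE p k G := by
  intro A hAc hAp
  have hA : IsPGroup p A := fun a => ⟨1, Subtype.ext (by simpa using hAp a.1 a.2)⟩
  obtain ⟨g, -, hg⟩ := Cfsg.Agent.Lib.Helper40.exists_conj_le_sylow_of_le ⊤ S le_top A hA le_top
  let f : A →* (S : Subgroup G) :=
    { toFun := fun a => ⟨g * a * g⁻¹, hg a a.2⟩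
      map_one' := Subtype.ext (by simp)
      map_mul' := fun a b => Subtype.ext (by simp [mul_assoc]) }
  have hf : Function.Injective f := by
    intro a b hab
    have : g * (a : G) * g⁻¹ = g * (b : G) * g⁻¹ := congrArg Subtype.val hab
    apply Subtype.ext
    simpa using this
  have h1 : PRankLE p k A := pRankLE_of_injective f hf h
  have h2 : IsMulCommutative (⊤ : Subgroup A) := by
    refine ⟨⟨fun a b => Subtype.ext ?_⟩⟩
    exact hAc.is_comm.comm a.1 b.1
  have h3 := h1 ⊤ h2 (fun a _ => Subtype.ext (by simpa using hAp a.1 a.2))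
  rwa [Subgroup.card_top] at h3

end transfer

section quotient

variable {G : Type u} [Group G] [Finite G]

/-- the index of `O_{p',p}(G)` is prime to `p` when `G` has `p`-length at most one. -/
theorem index_pPrimePCore_coprime {p : ℕ} [hp : Fact p.Prime] (hpl : PLengthLE p 1 G) :
    ((pPrimePCore p G).index).Coprime p := by
  obtain ⟨K, L, hK, hL, -, hKc, ⟨k, hk⟩, hLi⟩ :=
    Cfsg.Agent.Lib.Helper32.exists_of_pLengthLE_one p hpl
  have hle : L ≤ pPrimePCore p G :=
    Cfsg.Agent.Lib.Helper31.le_pPrimePCore_of_relIndex p K L hK hL hKc k hk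
  have hd : (pPrimePCore p G).index ∣ L.index := Subgroup.index_dvd_of_le hle
  exact ((Nat.Prime.coprime_iff_not_dvd hp.out).2 (fun h => hLi (h.trans hd))).symm

/-- `G` solvable with a narrow Sylow `p`-subgroup of rank at least three and `p`-length one:
`G / O_{p'}(G)` has its derived subgroup in `O_p` and all its prime divisors at most `p`. -/
theorem quotient_facts [Group.IsSolvable G] {p : ℕ} [hp : Fact p.Prime] (hp2 : p ≠ 2)
    (S : Sylow p G) (hS : IsNarrow p ↥(S : Subgroup G)) (hrS : ¬ PRankLE p 2 ↥(S : Subgroup G))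
    (hidx : ((pPrimePCore p G).index).Coprime p) :
    commutator (G ⧸ pPrimeCore p G) ≤ pCore p (G ⧸ pPrimeCore p G) ∧
      (∀ q : ℕ, q.Prime → q ∣ Nat.card (G ⧸ pPrimeCore p G) → q ≤ p) := by
  set K := pPrimeCore p G with hK
  set π := QuotientGroup.mk' K with hπ
  have hπs : Function.Surjective π := QuotientGroup.mk'_surjective K
  have hO : pPrimeCore p (G ⧸ K) = ⊥ := Cfsg.Agent.Lib.Helper01.pPrimeCore_quotient_eq_bot p
  have hPp : IsPGroup p (pCore p (G ⧸ K)) := Cfsg.Agent.Lib.Helper01.pCore_isPGroup p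
  have hidx' : ¬ p ∣ (pCore p (G ⧸ K)).index := by
    have h1 : (pPrimePCore p G).index = (pCore p (G ⧸ K)).index :=
      Subgroup.index_comap_of_surjective _ hπs
    rw [← h1]
    intro h
    have := Nat.Coprime.eq_one_of_dvd hidx.symm h
    exact hp.out.one_lt.ne' this
  -- the image of `S` is `O_p(G/K)`
  have hle1 : pCore p (G ⧸ K) ≤ (S : Subgroup G).map π :=
    Cfsg.Agent.Lib.Helper40.pCore_le_sylow' (S.mapSurjective hπs)
  have hle2 : (S : Subgroup G).map π ≤ pCore p (G ⧸ K) := by
    have : ((hPp.toSylow hidx' : Sylow p (G ⧸ K)) : Subgroup (G ⧸ K)).Normal := by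
      rw [IsPGroup.toSylow_coe]; infer_instance
    have := Cfsg.Agent.Lib.Helper40.le_normal_sylow (hPp.toSylow hidx') _ (S.isPGroup'.map π)
    rwa [IsPGroup.toSylow_coe] at this
  let f : (S : Subgroup G) →* pCore p (G ⧸ K) :=
    (π.comp (S : Subgroup G).subtype).codRestrict (pCore p (G ⧸ K))
      (fun s => hle2 (Subgroup.mem_map_of_mem π s.2))
  have hfinj : Function.Injective f := by
    rw [injective_iff_map_eq_one]
    intro s hs
    have h1 : π (s : G) = 1 := congrArg Subtype.val hs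
    have h2 : (s : G) ∈ K := (QuotientGroup.eq_one_iff _).1 h1
    have h3 : (s : G) ∈ (S : Subgroup G) ⊓ pPrimeCore p G := ⟨s.2, h2⟩
    rw [Cfsg.Agent.Lib.Helper40.sylow_inf_pPrimeCore] at h3
    exact Subtype.ext (Subgroup.mem_bot.1 h3)
  have hfsurj : Function.Surjective f := by
    rintro ⟨y, hy⟩
    obtain ⟨s, hs, rfl⟩ := hle1 hy
    exact ⟨⟨s, hs⟩, rfl⟩
  let e : (S : Subgroup G) ≃* pCore p (G ⧸ K) := MulEquiv.ofBijective f ⟨hfinj, hfsurj⟩
  obtain ⟨x, E, w⟩ := exists_wit_of_isNarrow S.isPGroup' hS hrS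
  have w' := wit_map e w
  have hrk : ¬ PRankLE p 2 (pCore p (G ⧸ K)) := fun h => hrS (pRankLE_of_injective f hfinj h)
  exact core_facts_narrow hp2 hO hrk w'

end quotient

end Cfsg.Agent.Lib.Helper40.NarrowGlue
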