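import Mathlib
import Cfsg.Agent.Lib.Helper15.BG142Defs2
import Cfsg.Agent.Lib.Helper31.BG12a
import Cfsg.Agent.Lib.Helper54.BG134A3a
import Cfsg.Agent.Lib.Helper55.Uniq2

/-!
# S1430 pack (architect helper15), keystone 143021 K-R1 (helper40): `exists_normal_compl_tau1`
A normal Hall `τ₁(M)'`-subgroup `U ≥ E'` of a complement `E` of `M_σ`, with `E = U K` for a Hall
`τ₁(M)`-subgroup `K` of `E`.
-/

set_option autoImplicit false

namespace Cfsg.Agent.Lib.Helper40.BG142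

open Cfsg Cfsg.Agent.Lib.Helper55 Cfsg.Agent.Lib.Helper31.BG134 Cfsg.Agent.Lib.Helper15.BG139
  Cfsg.Agent.Lib.Helper15.BG142

variable {G : Type*} [Group G] [Finite G]

theorem r1_card_mul_relIndex {E U : Subgroup G} (hUE : U ≤ E) :
    Nat.card U * U.relIndex E = Nat.card E := by
  have h := (U.subgroupOf E).card_mul_index
  rw [Nat.card_congr (Subgroup.subgroupOfEquivOfLe hUE).toEquiv] at h
  exact h

/-- two subgroups of `E` with trivial intersection and `|U| |K| = |E|` factorize `E` -/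
theorem r1_fac_of_card {E U K : Subgroup G} (hUE : U ≤ E) (hKE : K ≤ E) (hUK : U ⊓ K = ⊥)
    (hcard : Nat.card U * Nat.card K = Nat.card E) :
    ∀ e ∈ E, ∃ u ∈ U, ∃ k ∈ K, e = u * k := by
  classical
  let f : U × K → E := fun x => ⟨(x.1 : G) * (x.2 : G), E.mul_mem (hUE x.1.2) (hKE x.2.2)⟩
  have hinj : Function.Injective f := by
    rintro ⟨u₁, k₁⟩ ⟨u₂, k₂⟩ h
    have h' : (u₁ : G) * (k₁ : G) = (u₂ : G) * (k₂ : G) := congrArg Subtype.val h
    have hmem : (u₂ : G)⁻¹ * (u₁ : G) ∈ U ⊓ K := by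
      refine ⟨U.mul_mem (U.inv_mem u₂.2) u₁.2, ?_⟩
      have : (u₂ : G)⁻¹ * (u₁ : G) = (k₂ : G) * (k₁ : G)⁻¹ := by
        rw [inv_mul_eq_iff_eq_mul, ← mul_assoc, ← h', mul_assoc, mul_inv_cancel, mul_one]
      rw [this]
      exact K.mul_mem k₂.2 (K.inv_mem k₁.2)
    rw [hUK, Subgroup.mem_bot] at hmem
    have hu : (u₁ : G) = (u₂ : G) := by
      rw [inv_mul_eq_one] at hmem
      exact hmem.symm
    have hk : (k₁ : G) = (k₂ : G) := by
      rw [hu] at h'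
      exact mul_left_cancel h'
    exact Prod.ext (Subtype.ext hu) (Subtype.ext hk)
  have hbij : Function.Bijective f := by
    rw [Nat.bijective_iff_injective_and_card]
    exact ⟨hinj, by rw [Nat.card_prod, hcard]⟩
  intro e he
  obtain ⟨⟨u, k⟩, huk⟩ := hbij.2 ⟨e, he⟩
  exact ⟨u, u.2, k, k.2, (congrArg Subtype.val huk).symm⟩

theorem exists_normal_compl_tau1 (hG : IsMinSimpleOddOrder G) {M E K : Subgroup G} (hM : IsCoatom M)
    (hE : IsComplIn E (sigmaCore M) M) (hK : IsPiHallOf (tau1 M) K E) :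
    ∃ U : Subgroup G, U ≤ E ∧ ⁅E, E⁆ ≤ U ∧ U ⊓ K = ⊥ ∧ (∀ e ∈ E, ∃ u ∈ U, ∃ k ∈ K, e = u * k) ∧
      (∀ q : ℕ, q.Prime → q ∣ Nat.card U → q ∉ tau1 M) := by
  classical
  have hEM : E ≤ M := hE.1
  have hEtop : E ≠ ⊤ := by
    intro h
    apply hM.1
    rw [eq_top_iff, ← h]
    exact hEM
  have hsolv : Group.IsSolvable ↥E := ms_solvable hG hEtop
  have hcomm : ⁅E, E⁆ ≤ E := by
    rw [Subgroup.commutator_le]
    intro a ha b hb
    rw [commutatorElement_def]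
    exact E.mul_mem (E.mul_mem (E.mul_mem ha hb) (E.inv_mem ha)) (E.inv_mem hb)
  have hcommπ : ∀ p : ℕ, p.Prime → p ∣ Nat.card ↥⁅E, E⁆ → p ∈ {q : ℕ | q ∉ tau1 M} := by
    intro p _ hpd hp1
    have hle : ⁅E, E⁆ ≤ ⁅M, M⁆ := Subgroup.commutator_mono hEM hEM
    exact hp1.2.2.2.1 (hpd.trans (Subgroup.card_dvd_of_le hle))
  obtain ⟨U, hU, hcU⟩ := Cfsg.Agent.Lib.Helper54.BG134.exists_isPiHallOf_ge hsolv
    {q : ℕ | q ∉ tau1 M} hcomm hcommπ
  obtain ⟨hUE, hUπ, hUi⟩ := hU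
  obtain ⟨hKE, hKπ, hKi⟩ := hK
  have hUπ' : ∀ q : ℕ, q.Prime → q ∣ Nat.card U → q ∉ tau1 M := fun q hq hd => hUπ q hq hd
  -- coprimality
  have hcopUK : (Nat.card U).Coprime (Nat.card K) :=
    Nat.coprime_of_dvd fun p hp h1 h2 => hUπ' p hp h1 (hKπ p hp h2)
  have hUK : U ⊓ K = ⊥ := by
    rw [← Subgroup.card_eq_one]
    have h1 : Nat.card ↥(U ⊓ K) ∣ Nat.card U := Subgroup.card_dvd_of_le inf_le_left
    have h2 : Nat.card ↥(U ⊓ K) ∣ Nat.card K := Subgroup.card_dvd_of_le inf_le_right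
    exact Nat.eq_one_of_dvd_coprimes hcopUK h1 h2
  -- orders
  have hUc : Nat.card U * U.relIndex E = Nat.card E := r1_card_mul_relIndex hUE
  have hKc : Nat.card K * K.relIndex E = Nat.card E := r1_card_mul_relIndex hKE
  have hcop1 : (Nat.card U).Coprime (U.relIndex E) :=
    Nat.coprime_of_dvd fun p hp h1 h2 => hUi p hp (hUπ p hp h1) h2
  have hcop2 : (K.relIndex E).Coprime (U.relIndex E) :=
    Nat.coprime_of_dvd fun p hp h1 h2 => by
      by_cases hp1 : p ∈ tau1 M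
      · exact hKi p hp hp1 h1
      · exact hUi p hp hp1 h2
  have hd1 : Nat.card U ∣ K.relIndex E := by
    have : Nat.card U ∣ Nat.card K * K.relIndex E := by rw [hKc, ← hUc]; exact dvd_mul_right _ _
    exact hcopUK.dvd_of_dvd_mul_left this
  have hd2 : K.relIndex E ∣ Nat.card U := by
    have : K.relIndex E ∣ Nat.card U * U.relIndex E := by rw [hUc, ← hKc]; exact dvd_mul_left _ _
    exact hcop2.dvd_of_dvd_mul_right this
  have hcard : Nat.card U * Nat.card K = Nat.card E := by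
    rw [Nat.dvd_antisymm hd1 hd2, mul_comm]
    exact hKc
  exact ⟨U, hUE, hcU, hUK, r1_fac_of_card hUE hKE hUK hcard, hUπ'⟩

end Cfsg.Agent.Lib.Helper40.BG142
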