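import Mathlib
import Cfsg.Prelude.Def_Local
import Cfsg.Agent.Lib.Helper81.PSolvable

set_option autoImplicit false

namespace Cfsg.Agent.Lib.Helper40

variable {G : Type*} [Group G]

/-- Subgroups of `p`-solvable groups are `p`-solvable. -/
theorem isPSolvable_subgroup {p : ℕ} (hp : p.Prime) (hG : Cfsg.IsPSolvable p G) (K : Subgroup G) :
    Cfsg.IsPSolvable p ↥K := by
  obtain ⟨n, H, h0, hlast, hmono, hnorm, hstep⟩ := hG
  refine ⟨n, fun i => (H i).subgroupOf K, ?_, ?_, ?_, ?_, ?_⟩
  · simp [h0]
  · simp [hlast]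
  · intro i j hij
    exact Subgroup.comap_mono (hmono hij)
  · intro i
    haveI := hnorm i
    exact Subgroup.Normal.subgroupOf inferInstance K
  · intro i
    haveI := hnorm i.castSucc
    have h1 : ((H i.castSucc).subgroupOf K).relIndex ((H i.succ).subgroupOf K)
        = (H i.castSucc).relIndex (H i.succ ⊓ K) := by
      have := Subgroup.relIndex_comap (H := H i.castSucc) K.subtype ((H i.succ).subgroupOf K)
      rw [Subgroup.subgroupOf_map_subtype] at this
      exact this
    have h2 : (H i.castSucc).relIndex (H i.succ ⊓ K) ∣ (H i.castSucc).relIndex (H i.succ) :=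
      Cfsg.Agent.Lib.Helper81.relIndex_dvd_relIndex_of_normal _ _ _ inf_le_left
    rw [h1]
    exact Cfsg.Agent.Lib.Helper81.pow_or_coprime_of_dvd hp h2 (hstep i)

end Cfsg.Agent.Lib.Helper40
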