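import Mathlib

set_option autoImplicit false

/-!
# Norm surjectivity for finite commutative rings with an involution

`L` a commutative ring, `σ : L →+* L` an involutive ring homomorphism.
* `nilp_lift`: if `t + σ t = 1` then every `1 + w` with `w` nilpotent and `σ`-fixed is `c * σ c`.
-/

namespace Cfsg.Agent.Lib.Helper40.GUNorm

universe u

section NilpLift

variable {L : Type u} [CommRing L] (σ : L →+* L)

/-- successive approximation: `1 + w` (with `w` nilpotent, `σ`-fixed) is a norm. -/
theorem nilp_lift_aux (t : L) (ht : t + σ t = 1) :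
    ∀ (k : ℕ) (w : L), σ w = w → w ^ (2 ^ k) = 0 → ∃ c : L, c * σ c = 1 + w := by
  intro k
  induction k with
  | zero =>
    intro w _ hw0
    simp at hw0
    exact ⟨1, by simp [hw0]⟩
  | succ k ih =>
    intro w hw hw0
    -- first approximation
    set c₁ : L := 1 + t * w with hc₁
    set n₁ : L := c₁ * σ c₁ with hn₁
    have hn₁' : n₁ = 1 + w + t * σ t * w ^ 2 := by
      rw [hn₁, hc₁, map_add, map_one, map_mul, hw]
      have : σ t = 1 - t := by rw [← ht]; ring
      rw [this]; ring
    have hnil : IsNilpotent (n₁ - 1) := by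
      have hwn : IsNilpotent w := ⟨2 ^ (k + 1), hw0⟩
      have : n₁ - 1 = w * (1 + t * σ t * w) := by rw [hn₁']; ring
      rw [this]
      exact (Commute.all _ _).isNilpotent_mul_right hwn
    have hunit : IsUnit n₁ := by
      have := hnil.isUnit_add_one
      simpa using this
    obtain ⟨v, hv⟩ := hunit.exists_right_inv
    have hσn : σ n₁ = n₁ := by
      rw [hn₁']
      simp only [map_add, map_one, map_mul, map_pow, hw]
      have : σ t = 1 - t := by rw [← ht]; ring
      have h2 : σ (σ t) = t := by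
        rw [this, map_sub, map_one, this]; ring
      rw [h2]; ring
    have hσv : σ v = v := by
      have h1 : n₁ * σ v = 1 := by
        have := congrArg σ hv
        rwa [map_mul, map_one, hσn] at this
      calc σ v = (v * n₁) * σ v := by rw [mul_comm v n₁, hv, one_mul]
        _ = v * (n₁ * σ v) := by ring
        _ = v := by rw [h1, mul_one]
    set w' : L := -(t * σ t * w ^ 2 * v) with hw'
    have hσw' : σ w' = w' := by
      rw [hw']
      simp only [map_neg, map_mul, map_pow, hw, hσv]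
      have : σ t = 1 - t := by rw [← ht]; ring
      have h2 : σ (σ t) = t := by
        rw [this, map_sub, map_one, this]; ring
      rw [h2]; ring
    have hw'0 : w' ^ (2 ^ k) = 0 := by
      rw [hw', neg_pow, mul_pow, mul_pow, ← pow_mul, ← pow_succ', hw0]
      simp
    obtain ⟨c₂, hc₂⟩ := ih w' hσw' hw'0
    refine ⟨c₁ * c₂, ?_⟩
    rw [map_mul]
    calc c₁ * c₂ * (σ c₁ * σ c₂) = n₁ * (c₂ * σ c₂) := by rw [hn₁]; ring
      _ = n₁ * (1 + w') := by rw [hc₂]
      _ = n₁ - t * σ t * w ^ 2 * (n₁ * v) := by rw [hw']; ring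
      _ = 1 + w := by rw [hv, hn₁']; ring

theorem nilp_lift (t : L) (ht : t + σ t = 1) (w : L) (hw : σ w = w) (hn : IsNilpotent w) :
    ∃ c : L, c * σ c = 1 + w := by
  obtain ⟨m, hm⟩ := hn
  refine nilp_lift_aux σ t ht m w hw ?_
  have : m ≤ 2 ^ m := Nat.lt_two_pow_self.le
  exact pow_eq_zero_of_le this hm

end NilpLift


section FieldNorm

variable {F : Type u} [Field F] [Finite F] (σ : F →+* F)

/-- In a finite field with an involutive automorphism `σ ≠ id`, every `σ`-fixed element is a
norm `c * σ c`. -/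
theorem field_norm (hσ : ∀ x, σ (σ x) = x) (θ : F) (hθ : σ θ ≠ θ) (h : F) (hh : σ h = h) :
    ∃ c : F, c * σ c = h := by
  classical
  have : Fintype F := Fintype.ofFinite F
  set F₀ : Subfield F := σ.eqLocusField (RingHom.id F) with hF₀
  have hmem : ∀ x : F, x ∈ F₀ ↔ σ x = x := fun x => by
    rw [hF₀, RingHom.mem_eqLocusField]; rfl
  have : Fintype F₀ := Fintype.ofFinite F₀
  have hd : θ - σ θ ≠ 0 := fun h0 => hθ (sub_eq_zero.mp h0).symm
  -- the bijection F₀ × F₀ ≃ F
  have hbij : Function.Bijective (fun p : F₀ × F₀ => (p.1 : F) + (p.2 : F) * θ) := by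
    constructor
    · rintro ⟨a, b⟩ ⟨a', b'⟩ hab
      simp only at hab
      have ha := (hmem a).1 a.2
      have hb := (hmem b).1 b.2
      have ha' := (hmem a').1 a'.2
      have hb' := (hmem b').1 b'.2
      have h2 := congrArg σ hab
      simp only [map_add, map_mul, ha, hb, ha', hb'] at h2
      have h3 : ((b : F) - b') * (θ - σ θ) = 0 := by linear_combination hab - h2
      have h4 : (b : F) = b' := by
        rcases mul_eq_zero.mp h3 with h | h
        · exact sub_eq_zero.mp h
        · exact absurd h hd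
      have h5 : (a : F) = a' := by rw [h4] at hab; exact add_right_cancel hab
      exact Prod.ext (Subtype.ext h5) (Subtype.ext h4)
    · intro x
      set b : F := (x - σ x) / (θ - σ θ) with hb
      have hbσ : σ b = b := by
        rw [hb, map_div₀, map_sub, map_sub, hσ, hσ]
        rw [div_eq_div_iff (by intro h0; exact hd (by linear_combination -h0)) hd]
        ring
      have haσ : σ (x - b * θ) = x - b * θ := by
        rw [map_sub, map_mul, hbσ]
        have : b * (θ - σ θ) = x - σ x := by rw [hb]; field_simp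
        linear_combination this
      refine ⟨(⟨x - b * θ, (hmem _).2 haσ⟩, ⟨b, (hmem _).2 hbσ⟩), ?_⟩
      simp
  have hcard : Fintype.card F = Fintype.card F₀ ^ 2 := by
    rw [← Fintype.card_of_bijective hbij, Fintype.card_prod, sq]
  have hQ2 : 2 ≤ Fintype.card F₀ := Fintype.one_lt_card
  have hfin : Module.finrank F₀ F = 2 := by
    have h1 : Fintype.card F = Fintype.card F₀ ^ Module.finrank F₀ F := Module.card_eq_pow_finrank
    rw [hcard] at h1
    exact (Nat.pow_right_injective hQ2 h1).symm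
  -- σ as an algebra automorphism
  let σe : F ≃+* F := RingEquiv.ofBijective σ
    ⟨σ.injective, fun x => ⟨σ x, hσ x⟩⟩
  let σ' : F ≃ₐ[F₀] F := AlgEquiv.ofRingEquiv (f := σe) (fun x => (hmem x).1 x.2)
  have hσ'apply : ∀ x, σ' x = σ x := fun x => rfl
  obtain ⟨i, hi⟩ := (FiniteField.bijective_frobeniusAlgEquivOfAlgebraic_pow F₀ F).2 σ'
  have hi2 : i.1 < 2 := lt_of_lt_of_eq i.2 hfin
  have hfrob : ∀ x : F, σ x = x ^ Fintype.card F₀ := by
    intro x
    have hi' := hi
    simp only at hi'
    rcases Nat.lt_succ_iff_lt_or_eq.mp hi2 with h0 | h1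
    · have : i.1 = 0 := by omega
      rw [this, pow_zero] at hi'
      exfalso
      apply hθ
      rw [← hσ'apply, ← hi']; rfl
    · rw [h1, pow_one] at hi'
      rw [← hσ'apply, ← hi', FiniteField.coe_frobeniusAlgEquivOfAlgebraic]
  obtain ⟨c, hc⟩ := FiniteField.norm_surjective F₀ F ⟨h, (hmem h).2 hh⟩
  have hc2 := FiniteField.algebraMap_norm_eq_pow (K := F₀) (K' := F) (x := c)
  rw [hc] at hc2
  have hexp : (Nat.card F - 1) / (Nat.card F₀ - 1) = Fintype.card F₀ + 1 := by
    rw [Nat.card_eq_fintype_card, Nat.card_eq_fintype_card, hcard]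
    have : Fintype.card F₀ ^ 2 - 1 = (Fintype.card F₀ + 1) * (Fintype.card F₀ - 1) := by
      have h1 : 1 ≤ Fintype.card F₀ := by omega
      zify [h1, Nat.one_le_pow 2 _ (by omega : 0 < Fintype.card F₀)]
      ring
    rw [this, Nat.mul_div_cancel _ (by omega)]
  rw [hexp] at hc2
  refine ⟨c, ?_⟩
  rw [hfrob c, ← pow_succ']
  exact hc2.symm

end FieldNorm


/-- in a finite monoid some positive power of any element is idempotent -/
theorem exists_idem_pow {M : Type*} [Monoid M] [Finite M] (x : M) :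
    ∃ n : ℕ, 0 < n ∧ x ^ n * x ^ n = x ^ n := by
  obtain ⟨i, j, hij, hxy⟩ := Finite.exists_ne_map_eq_of_infinite (fun n : ℕ => x ^ n)
  wlog hlt : i < j generalizing i j
  · exact this j i hij.symm hxy.symm (lt_of_le_of_ne (not_lt.mp hlt) hij.symm)
  obtain ⟨d, rfl⟩ : ∃ d, j = i + d := ⟨j - i, by omega⟩
  have hd : 0 < d := by omega
  have h1 : ∀ m, i ≤ m → x ^ m = x ^ (m + d) := by
    intro m hm
    obtain ⟨r, rfl⟩ : ∃ r, m = i + r := ⟨m - i, by omega⟩
    rw [pow_add, hxy, ← pow_add]; congr 1; omega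
  have h2 : ∀ k m, i ≤ m → x ^ m = x ^ (m + k * d) := by
    intro k
    induction k with
    | zero => intro m _; simp
    | succ k ih =>
      intro m hm
      rw [ih m hm, h1 (m + k * d) (by omega)]
      congr 1; ring
  refine ⟨(i + 1) * d, Nat.mul_pos (by omega) hd, ?_⟩
  rw [← pow_add]
  have : i ≤ (i + 1) * d := by nlinarith
  exact (h2 (i + 1) _ this).symm

/-- The property: every `σ`-fixed unit is a norm. -/
def NormProp (L : Type u) [CommRing L] : Prop :=
  ∀ (σ : L →+* L), (∀ x, σ (σ x) = x) → ∀ θ : L, IsUnit (θ - σ θ) →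
    ∀ h : L, IsUnit h → σ h = h → ∃ c : L, c * σ c = h

theorem quot_step {L : Type u} [CommRing L] (I : Ideal L) (hP : NormProp (L ⧸ I))
    (σ : L →+* L) (hσ : ∀ x, σ (σ x) = x) (hI : ∀ x ∈ I, σ x ∈ I) (θ : L)
    (hθ : IsUnit (θ - σ θ)) (h : L) (hh : IsUnit h) (hfix : σ h = h) :
    ∃ c : L, c * σ c - h ∈ I := by
  have hle : I ≤ I.comap σ := fun x hx => hI x hx
  let σq : L ⧸ I →+* L ⧸ I := Ideal.quotientMap I σ hle
  have hσq : ∀ x, σq (Ideal.Quotient.mk I x) = Ideal.Quotient.mk I (σ x) := fun x =>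
    Ideal.quotientMap_mk
  obtain ⟨cq, hc⟩ := hP σq
    (by intro x; obtain ⟨x, rfl⟩ := Ideal.Quotient.mk_surjective x; rw [hσq, hσq, hσ])
    (Ideal.Quotient.mk I θ) (by rw [hσq, ← map_sub]; exact hθ.map _)
    (Ideal.Quotient.mk I h) (hh.map _) (by rw [hσq, hfix])
  obtain ⟨c, rfl⟩ := Ideal.Quotient.mk_surjective cq
  refine ⟨c, ?_⟩
  rw [hσq, ← map_mul] at hc
  exact Ideal.Quotient.eq.mp hc

theorem card_quot_lt {L : Type u} [CommRing L] [Finite L] (I : Ideal L) (x : L) (hx : x ∈ I)
    (hx0 : x ≠ 0) : Nat.card (L ⧸ I) < Nat.card L := by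
  classical
  have : Fintype L := Fintype.ofFinite L
  have : Fintype (L ⧸ I) := Fintype.ofFinite _
  rw [Nat.card_eq_fintype_card, Nat.card_eq_fintype_card]
  refine Fintype.card_lt_of_surjective_not_injective (Ideal.Quotient.mk I)
    Ideal.Quotient.mk_surjective ?_
  intro hinj
  apply hx0
  apply hinj
  rw [map_zero]
  exact Ideal.Quotient.eq_zero_iff_mem.mpr hx

/-- from `θ` with `θ - σ θ` a unit, an element `t` with `t + σ t = 1` -/
theorem exists_trace_one {L : Type u} [CommRing L] (σ : L →+* L) (θ : L)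
    (hθ : IsUnit (θ - σ θ)) (hσ : ∀ x, σ (σ x) = x) : ∃ t : L, t + σ t = 1 := by
  obtain ⟨v, hv⟩ := hθ.exists_right_inv
  have h1 : σ (θ - σ θ) = -(θ - σ θ) := by rw [map_sub, hσ]; ring
  have h2 : (θ - σ θ) * σ v = -1 := by
    have := congrArg σ hv
    rw [map_mul, map_one, h1] at this
    linear_combination -this
  have h3 : σ v = -v := by
    calc σ v = (v * (θ - σ θ)) * σ v := by rw [mul_comm v, hv, one_mul]
      _ = v * ((θ - σ θ) * σ v) := by ring
      _ = -v := by rw [h2]; ring
  refine ⟨θ * v, ?_⟩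
  rw [map_mul, h3]
  linear_combination hv

/-- lifting through a nilpotent error -/
theorem lift_nilp {L : Type u} [CommRing L] (σ : L →+* L) (hσ : ∀ x, σ (σ x) = x) (θ : L)
    (hθ : IsUnit (θ - σ θ)) (h : L) (hh : IsUnit h) (hfix : σ h = h) (c₀ : L)
    (hc₀ : IsNilpotent (c₀ * σ c₀ - h)) : ∃ c : L, c * σ c = h := by
  obtain ⟨t, ht⟩ := exists_trace_one σ θ hθ hσ
  obtain ⟨g, hg⟩ := hh.exists_right_inv
  have hσg : σ g = g := by
    have h1 : h * σ g = 1 := by
      have := congrArg σ hg
      rwa [map_mul, map_one, hfix] at this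
    calc σ g = (g * h) * σ g := by rw [mul_comm g, hg, one_mul]
      _ = g * (h * σ g) := by ring
      _ = g := by rw [h1, mul_one]
  set n₀ : L := c₀ * σ c₀ with hn₀
  have hσn₀ : σ n₀ = n₀ := by rw [hn₀, map_mul, hσ]; ring
  set w : L := g * (n₀ - h) with hw
  have hσw : σ w = w := by rw [hw, map_mul, map_sub, hσg, hσn₀, hfix]
  have hwn : IsNilpotent w := (Commute.all _ _).isNilpotent_mul_left hc₀
  have hn₀w : n₀ = h * (1 + w) := by
    rw [hw]
    linear_combination (-(n₀ - h)) * hg
  obtain ⟨c₁, hc₁⟩ := nilp_lift σ t ht w hσw hwn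
  have hu : IsUnit (1 + w) := by
    have := hwn.isUnit_add_one
    rwa [add_comm] at this
  obtain ⟨d, hd⟩ := hu.exists_right_inv
  -- d₁ := σ c₁ * d is an inverse of c₁
  set d₁ : L := σ c₁ * d with hd₁
  have hcd : c₁ * d₁ = 1 := by rw [hd₁, ← mul_assoc, hc₁, hd]
  refine ⟨c₀ * d₁, ?_⟩
  have hσcd : σ c₁ * σ d₁ = 1 := by rw [← map_mul, hcd, map_one]
  rw [map_mul]
  calc c₀ * d₁ * (σ c₀ * σ d₁) = n₀ * (d₁ * σ d₁) := by rw [hn₀]; ring
    _ = h * ((c₁ * σ c₁) * (d₁ * σ d₁)) := by rw [hn₀w, hc₁]; ring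
    _ = h * ((c₁ * d₁) * (σ c₁ * σ d₁)) := by ring
    _ = h := by rw [hcd, hσcd]; ring

theorem split_step {L : Type u} [CommRing L] (e : L) (he : e * e = e)
    (hP1 : NormProp (L ⧸ Ideal.span {e})) (hP2 : NormProp (L ⧸ Ideal.span {1 - e}))
    (σ : L →+* L) (hσ : ∀ x, σ (σ x) = x) (hσe : σ e = e) (θ : L)
    (hθ : IsUnit (θ - σ θ)) (h : L) (hh : IsUnit h) (hfix : σ h = h) :
    ∃ c : L, c * σ c = h := by
  obtain ⟨c₁, hc₁⟩ := quot_step (Ideal.span {e}) hP1 σ hσ (by
    intro x hx
    rw [Ideal.mem_span_singleton'] at hx ⊢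
    obtain ⟨a, rfl⟩ := hx
    exact ⟨σ a, by rw [map_mul, hσe]⟩) θ hθ h hh hfix
  obtain ⟨c₂, hc₂⟩ := quot_step (Ideal.span {1 - e}) hP2 σ hσ (by
    intro x hx
    rw [Ideal.mem_span_singleton'] at hx ⊢
    obtain ⟨a, rfl⟩ := hx
    exact ⟨σ a, by rw [map_mul, map_sub, map_one, hσe]⟩) θ hθ h hh hfix
  rw [Ideal.mem_span_singleton'] at hc₁ hc₂
  obtain ⟨a₁, ha₁⟩ := hc₁
  obtain ⟨a₂, ha₂⟩ := hc₂
  have e1 : (1 - e) * (1 - e) = 1 - e := by linear_combination he
  have e2 : e * (1 - e) = 0 := by linear_combination -he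
  have hN1 : c₁ * σ c₁ = h + a₁ * e := by linear_combination -ha₁
  have hN2 : c₂ * σ c₂ = h + a₂ * (1 - e) := by linear_combination -ha₂
  refine ⟨(1 - e) * c₁ + e * c₂, ?_⟩
  simp only [map_add, map_mul, map_sub, map_one, hσe]
  calc ((1 - e) * c₁ + e * c₂) * ((1 - e) * σ c₁ + e * σ c₂)
      = (1 - e) * (1 - e) * (c₁ * σ c₁) + e * (1 - e) * (c₁ * σ c₂ + c₂ * σ c₁)
        + e * e * (c₂ * σ c₂) := by ring
    _ = (1 - e) * (h + a₁ * e) + e * (h + a₂ * (1 - e)) := by
        rw [e1, e2, he, hN1, hN2]; ring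
    _ = h + (a₁ + a₂) * (e * (1 - e)) := by ring
    _ = h := by rw [e2]; ring


/-- **Norm surjectivity**: in a finite commutative ring with an involutive ring homomorphism `σ`
such that `θ - σ θ` is a unit for some `θ`, every `σ`-fixed unit is of the form `c * σ c`. -/
theorem normProp_of_card : ∀ (n : ℕ) (L : Type u) [CommRing L] [Finite L],
    Nat.card L = n → NormProp L := by
  intro n
  induction n using Nat.strong_induction_on with
  | _ n ih =>
  intro L _ _ hcard σ hσ θ hθ h hh hfix
  rcases subsingleton_or_nontrivial L with hs | hnt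
  · exact ⟨h, Subsingleton.elim _ _⟩
  by_cases hnil : ∃ x : L, x ≠ 0 ∧ IsNilpotent x
  · obtain ⟨x, hx0, hxn⟩ := hnil
    have hlt : Nat.card (L ⧸ nilradical L) < n := by
      rw [← hcard]
      exact card_quot_lt (nilradical L) x (mem_nilradical.mpr hxn) hx0
    have hfinq : Finite (L ⧸ nilradical L) :=
      Finite.of_surjective _ Ideal.Quotient.mk_surjective
    have hP := ih _ hlt (L ⧸ nilradical L) rfl
    obtain ⟨c₀, hc₀⟩ := quot_step (nilradical L) hP σ hσ (by
      intro y hy
      rw [mem_nilradical] at hy ⊢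
      exact hy.map σ) θ hθ h hh hfix
    exact lift_nilp σ hσ θ hθ h hh hfix c₀ (mem_nilradical.mp hc₀)
  · have hred : ∀ x : L, IsNilpotent x → x = 0 := by
      intro x hx
      by_contra h0
      exact hnil ⟨x, h0, hx⟩
    by_cases hid : ∃ e : L, e * e = e ∧ e ≠ 0 ∧ e ≠ 1
    · obtain ⟨e, he, he0, he1⟩ := hid
      -- a σ-fixed nontrivial idempotent gives a splitting
      have hsplit : ∀ f : L, f * f = f → f ≠ 0 → f ≠ 1 → σ f = f → ∃ c : L, c * σ c = h := by
        intro f hf hf0 hf1 hσf
        have hlt1 : Nat.card (L ⧸ Ideal.span {f}) < n := by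
          rw [← hcard]
          exact card_quot_lt _ f (Ideal.mem_span_singleton_self f) hf0
        have hlt2 : Nat.card (L ⧸ Ideal.span {1 - f}) < n := by
          rw [← hcard]
          exact card_quot_lt _ (1 - f) (Ideal.mem_span_singleton_self _)
            (fun h0 => hf1 (by linear_combination -h0))
        have hfin1 : Finite (L ⧸ Ideal.span {f}) :=
          Finite.of_surjective _ Ideal.Quotient.mk_surjective
        have hfin2 : Finite (L ⧸ Ideal.span {1 - f}) :=
          Finite.of_surjective _ Ideal.Quotient.mk_surjective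
        exact split_step f hf (ih _ hlt1 _ rfl) (ih _ hlt2 _ rfl) σ hσ hσf θ hθ h hh hfix
      have hσe : σ e * σ e = σ e := by rw [← map_mul, he]
      by_cases hf1 : e * σ e = 0
      · by_cases hf2 : e + σ e = 1
        · -- swapped idempotents
          refine ⟨h * e + σ e, ?_⟩
          rw [map_add, map_mul, hσ, hfix]
          calc (h * e + σ e) * (h * σ e + e)
              = h * h * (e * σ e) + h * (e * e) + h * (σ e * σ e) + e * σ e := by ring
            _ = h * (e + σ e) := by rw [hf1, he, hσe]; ring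
            _ = h := by rw [hf2, mul_one]
        · refine hsplit (e + σ e) ?_ ?_ hf2 ?_
          · calc (e + σ e) * (e + σ e) = e * e + σ e * σ e + 2 * (e * σ e) := by ring
              _ = e + σ e := by rw [he, hσe, hf1]; ring
          · intro h0
            apply he0
            have : e * e + e * σ e = 0 := by rw [← mul_add, h0, mul_zero]
            rw [he, hf1, add_zero] at this
            exact this
          · rw [map_add, hσ, add_comm]
      · refine hsplit (e * σ e) ?_ hf1 ?_ ?_
        · calc e * σ e * (e * σ e) = (e * e) * (σ e * σ e) := by ring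
            _ = e * σ e := by rw [he, hσe]
        · intro h1
          apply he1
          calc e = e * (e * σ e) := by rw [h1, mul_one]
            _ = (e * e) * σ e := by ring
            _ = 1 := by rw [he, h1]
        · rw [map_mul, hσ, mul_comm]
    · -- a field
      have hunit : ∀ x : L, x ≠ 0 → ∃ y, x * y = 1 := by
        intro x hx
        obtain ⟨m, hm, hidem⟩ := exists_idem_pow x
        have h0 : x ^ m ≠ 0 := fun h0 => hx (hred x ⟨m, h0⟩)
        have h1 : x ^ m = 1 := by
          by_contra h1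
          exact hid ⟨x ^ m, hidem, h0, h1⟩
        refine ⟨x ^ (m - 1), ?_⟩
        rw [← pow_succ', Nat.sub_add_cancel hm, h1]
      have hF : IsField L :=
        { exists_pair_ne := ⟨0, 1, zero_ne_one⟩
          mul_comm := mul_comm
          mul_inv_cancel := fun {a} ha => hunit a ha }
      letI : Field L := hF.toField
      have hθ' : σ θ ≠ θ := by
        intro h0
        rw [h0, sub_self] at hθ
        exact not_isUnit_zero hθ
      exact field_norm σ hσ θ hθ' h hfix

theorem norm_surjective {L : Type u} [CommRing L] [Finite L] (σ : L →+* L)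
    (hσ : ∀ x, σ (σ x) = x) (θ : L) (hθ : IsUnit (θ - σ θ)) (h : L) (hh : IsUnit h)
    (hfix : σ h = h) : ∃ c : L, c * σ c = h :=
  normProp_of_card _ L rfl σ hσ θ hθ h hh hfix


end Cfsg.Agent.Lib.Helper40.GUNorm
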