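import Mathlib
import Cfsg.Prelude.Def_LieClassical
import Cfsg.Agent.Lib.Helper40.GUNorm

set_option autoImplicit false

/-!
# Conjugacy in `GU_n(q)` is controlled by `GL_n(q²)`

If `A, B ∈ GU_n(q)` and `g A = B g` with `g ∈ GL_n(q²)`, then `h = g* g` is Hermitian and commutes
with `A`; by `GUNorm.norm_surjective` there is `C ∈ K[h]` with `C* C = h`, and `u = g C⁻¹` is unitary
with `u A = B u`.
-/

namespace Cfsg.Agent.Lib.Helper40.GUConj

open Matrix Polynomial

section adj

variable {K : Type*} [Field K] {n : ℕ} (φ : K →+* K)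

/-- the `φ`-conjugate transpose -/
def adj (M : Matrix (Fin n) (Fin n) K) : Matrix (Fin n) (Fin n) K := (φ.mapMatrix M)ᵀ

theorem adj_mul (M N : Matrix (Fin n) (Fin n) K) : adj φ (M * N) = adj φ N * adj φ M := by
  unfold adj; rw [map_mul, Matrix.transpose_mul]

theorem adj_add (M N : Matrix (Fin n) (Fin n) K) : adj φ (M + N) = adj φ M + adj φ N := by
  unfold adj; rw [map_add, Matrix.transpose_add]

theorem adj_one : adj φ (1 : Matrix (Fin n) (Fin n) K) = 1 := by
  unfold adj; rw [map_one, Matrix.transpose_one]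

theorem adj_zero : adj φ (0 : Matrix (Fin n) (Fin n) K) = 0 := by
  unfold adj; rw [map_zero, Matrix.transpose_zero]

theorem adj_pow (M : Matrix (Fin n) (Fin n) K) (k : ℕ) : adj φ (M ^ k) = adj φ M ^ k := by
  unfold adj; rw [map_pow, Matrix.transpose_pow]

theorem adj_smul (a : K) (M : Matrix (Fin n) (Fin n) K) : adj φ (a • M) = φ a • adj φ M := by
  unfold adj
  ext i j
  simp [RingHom.mapMatrix_apply]

theorem adj_adj (hφ : ∀ x, φ (φ x) = x) (M : Matrix (Fin n) (Fin n) K) :
    adj φ (adj φ M) = M := by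
  unfold adj
  ext i j
  simp [RingHom.mapMatrix_apply, hφ]

theorem det_adj (M : Matrix (Fin n) (Fin n) K) : (adj φ M).det = φ M.det := by
  unfold adj
  rw [Matrix.det_transpose, ← RingHom.map_det]

end adj


section sqrt

variable {K : Type*} [Field K] {n : ℕ} (φ : K →+* K)

theorem aeval_map_adj (h : Matrix (Fin n) (Fin n) K) (hh : adj φ h = h) (P : K[X]) :
    aeval h (P.map φ) = adj φ (aeval h P) := by
  induction P using Polynomial.induction_on' with
  | add p q hp hq => rw [Polynomial.map_add, map_add, map_add, hp, hq, adj_add]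
  | monomial k a =>
    rw [Polynomial.map_monomial, aeval_monomial, aeval_monomial, ← Algebra.smul_def,
      ← Algebra.smul_def, adj_smul, adj_pow, hh]

theorem commute_aeval (h A : Matrix (Fin n) (Fin n) K) (hA : Commute A h) (P : K[X]) :
    Commute A (aeval h P) := by
  induction P using Polynomial.induction_on' with
  | add p q hp hq => rw [map_add]; exact hp.add_right hq
  | monomial k a =>
    rw [aeval_monomial, ← Algebra.smul_def]
    exact (hA.pow_right k).smul_right a

/-- A Hermitian invertible matrix `h` over a finite field with involution `φ ≠ id` is of the form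
`C* C` with `C` a polynomial in `h` (so `C` commutes with everything commuting with `h`). -/
theorem exists_sqrt [Finite K] (hφ : ∀ x, φ (φ x) = x) (θ₀ : K) (hθ₀ : φ θ₀ ≠ θ₀)
    (h : Matrix (Fin n) (Fin n) K) (hh : adj φ h = h) (hdet : h.det ≠ 0) :
    ∃ C : Matrix (Fin n) (Fin n) K, adj φ C * C = h ∧
      ∀ A : Matrix (Fin n) (Fin n) K, Commute A h → Commute A C := by
  classical
  set f : K[X] →+* Matrix (Fin n) (Fin n) K := (aeval h : K[X] →ₐ[K] _).toRingHom with hf
  have hfP : ∀ P, f P = aeval h P := fun P => rfl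
  set I : Ideal K[X] := RingHom.ker f with hI
  set ev : K[X] ⧸ I →+* Matrix (Fin n) (Fin n) K := RingHom.kerLift f with hev
  have hevinj : Function.Injective ev := RingHom.kerLift_injective f
  have hevmk : ∀ P, ev (Ideal.Quotient.mk I P) = aeval h P := fun P => RingHom.kerLift_mk f P
  haveI : Finite (K[X] ⧸ I) := Finite.of_injective ev hevinj
  have hle : I ≤ I.comap (Polynomial.mapRingHom φ) := by
    intro P hP
    rw [Ideal.mem_comap, hI, RingHom.mem_ker, hfP, Polynomial.coe_mapRingHom,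
      aeval_map_adj φ h hh]
    rw [hI, RingHom.mem_ker, hfP] at hP
    rw [hP, adj_zero]
  set σ : K[X] ⧸ I →+* K[X] ⧸ I := Ideal.quotientMap I (Polynomial.mapRingHom φ) hle with hσdef
  have hσmk : ∀ P, σ (Ideal.Quotient.mk I P) = Ideal.Quotient.mk I (P.map φ) := fun P => by
    rw [hσdef, Ideal.quotientMap_mk, Polynomial.coe_mapRingHom]
  have hevσ : ∀ x, ev (σ x) = adj φ (ev x) := by
    intro x
    obtain ⟨P, rfl⟩ := Ideal.Quotient.mk_surjective x
    rw [hσmk, hevmk, hevmk, aeval_map_adj φ h hh]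
  have hσσ : ∀ x, σ (σ x) = x := by
    intro x
    apply hevinj
    rw [hevσ, hevσ, adj_adj φ hφ]
  set θ : K[X] ⧸ I := Ideal.Quotient.mk I (C θ₀) with hθ
  have hθu : IsUnit (θ - σ θ) := by
    rw [hθ, hσmk, Polynomial.map_C, ← map_sub, ← C_sub]
    apply IsUnit.map
    apply IsUnit.map
    exact isUnit_iff_ne_zero.mpr (fun h0 => hθ₀ (sub_eq_zero.mp h0).symm)
  set hL : K[X] ⧸ I := Ideal.Quotient.mk I X with hhL
  have hevhL : ev hL = h := by rw [hhL, hevmk, aeval_X]
  have hσhL : σ hL = hL := by rw [hhL, hσmk, Polynomial.map_X]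
  have hhLu : IsUnit hL := by
    obtain ⟨m, hm, hidem⟩ := GUNorm.exists_idem_pow hL
    have h1 : (h ^ m) * (h ^ m) = h ^ m := by
      rw [← hevhL, ← map_pow, ← map_mul, hidem]
    have h2 : IsUnit (h ^ m) := by
      rw [Matrix.isUnit_iff_isUnit_det, Matrix.det_pow]
      exact (isUnit_iff_ne_zero.mpr hdet).pow m
    have h3 : h ^ m = 1 := by
      obtain ⟨u, hu⟩ := h2
      rw [← hu] at h1 ⊢
      have := congrArg (fun x => (↑u⁻¹ : Matrix (Fin n) (Fin n) K) * x) h1
      simp only [← mul_assoc, Units.inv_mul, one_mul] at this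
      exact this
    have h4 : hL ^ m = 1 := by
      apply hevinj
      rw [map_pow, hevhL, h3, map_one]
    refine IsUnit.of_mul_eq_one (hL ^ (m - 1)) ?_
    rw [← pow_succ', Nat.sub_add_cancel hm, h4]
  obtain ⟨c, hc⟩ := GUNorm.norm_surjective σ hσσ θ hθu hL hhLu hσhL
  refine ⟨ev c, ?_, ?_⟩
  · rw [← hevσ, ← map_mul, mul_comm, hc, hevhL]
  · intro A hA
    obtain ⟨P, rfl⟩ := Ideal.Quotient.mk_surjective c
    rw [hevmk]
    exact commute_aeval h A hA P

end sqrt


section gu

variable {K : Type*} [Field K] {q : ℕ} {n : ℕ}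

theorem hermForm_eq_dot (φ : K →+* K) (hφ : ∀ x, φ x = x ^ q) (x y : Fin n → K) :
    Cfsg.hermForm n K q x y = x ⬝ᵥ (φ ∘ y) := by
  unfold Cfsg.hermForm dotProduct
  apply Finset.sum_congr rfl
  intro i _
  rw [Function.comp_apply, hφ]

theorem hermForm_mulVec_eq (φ : K →+* K) (hφ : ∀ x, φ x = x ^ q)
    (M : Matrix (Fin n) (Fin n) K) (u v : Fin n → K) :
    Cfsg.hermForm n K q (M *ᵥ u) (M *ᵥ v) = u ⬝ᵥ ((Mᵀ * M.map φ) *ᵥ (φ ∘ v)) := by
  rw [hermForm_eq_dot φ hφ]
  have h1 : φ ∘ (M *ᵥ v) = M.map φ *ᵥ (φ ∘ v) := by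
    funext i
    rw [Function.comp_apply, RingHom.map_mulVec]
  rw [h1, ← Matrix.mulVec_mulVec]
  calc (M *ᵥ u) ⬝ᵥ (M.map φ *ᵥ (φ ∘ v))
      = (u ᵥ* Mᵀ) ⬝ᵥ (M.map φ *ᵥ (φ ∘ v)) := by rw [Matrix.vecMul_transpose]
    _ = u ⬝ᵥ (Mᵀ *ᵥ (M.map φ *ᵥ (φ ∘ v))) := by rw [← Matrix.dotProduct_mulVec]

/-- membership in `GU` (same proof as `Helper51.mem_GU_iff_mul`, restated with `adj`) -/
theorem mem_GU_iff_adj (φ : K →+* K) (hφ : ∀ x, φ x = x ^ q) (g : GL (Fin n) K) :
    g ∈ Cfsg.GU n K q ↔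
      adj φ (g : Matrix (Fin n) (Fin n) K) * (g : Matrix (Fin n) (Fin n) K) = 1 := by
  have key : adj φ (g : Matrix (Fin n) (Fin n) K) * (g : Matrix (Fin n) (Fin n) K) = 1 ↔
      (g : Matrix (Fin n) (Fin n) K)ᵀ * (g : Matrix (Fin n) (Fin n) K).map φ = 1 := by
    unfold adj
    rw [RingHom.mapMatrix_apply]
    constructor
    · intro h
      have := congrArg Matrix.transpose h
      rwa [Matrix.transpose_mul, Matrix.transpose_transpose, Matrix.transpose_one] at this
    · intro h
      have := congrArg Matrix.transpose h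
      rwa [Matrix.transpose_mul, Matrix.transpose_transpose, Matrix.transpose_one] at this
  rw [key]
  constructor
  · intro hg
    ext a b
    have h := hg (Pi.single a 1) (Pi.single b 1)
    simp only [Units.coeHom_apply] at h
    rw [hermForm_mulVec_eq φ hφ, hermForm_eq_dot φ hφ] at h
    have h2 : φ ∘ (Pi.single b (1 : K) : Fin n → K) = Pi.single b 1 := by
      funext i
      by_cases hi : i = b
      · subst hi; simp
      · simp [hi]
    rw [h2, Matrix.mulVec_single_one, single_one_dotProduct, single_one_dotProduct] at h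
    rw [Matrix.one_apply]
    simpa [Pi.single_apply, eq_comm] using h
  · intro hg u v
    simp only [Units.coeHom_apply]
    rw [hermForm_mulVec_eq φ hφ, hg, Matrix.one_mulVec, hermForm_eq_dot φ hφ]

end gu


section main

variable {K : Type*} [Field K] [Fintype K] {q n : ℕ}

/-- If `|K| = q^2` then `x ↦ x^q` is a ring endomorphism of `K` (cf. `Helper19.exists_frobQ`). -/
theorem exists_frob (hK : Fintype.card K = q ^ 2) :
    ∃ φ : K →+* K, (∀ x, φ x = x ^ q) ∧ (∀ x, φ (φ x) = x) ∧ ∃ θ₀ : K, φ θ₀ ≠ θ₀ := by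
  obtain ⟨p, hchar⟩ := CharP.exists K
  have hp : p.Prime := CharP.char_is_prime K p
  have : Fact p.Prime := ⟨hp⟩
  obtain ⟨k, _, hk⟩ := FiniteField.card K p
  have hdvd : q ∣ p ^ (k : ℕ) := by
    rw [← hk, hK]; exact Dvd.intro_left (q ^ 1) (by ring)
  obtain ⟨j, _, hj⟩ := (Nat.dvd_prime_pow hp).mp hdvd
  have hφ : ∀ x, iterateFrobenius K p j x = x ^ q := by
    intro x
    rw [iterateFrobenius_def, hj]
  refine ⟨iterateFrobenius K p j, hφ, ?_, ?_⟩
  · intro x
    rw [hφ, hφ, ← pow_mul, ← sq, ← hK, FiniteField.pow_card]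
  · -- a generator of the cyclic group `Kˣ` is moved
    have hq1 : 1 < q := by
      have h1 : 1 < Fintype.card K := Fintype.one_lt_card
      rw [hK] at h1
      by_contra h
      push Not at h
      have : q ^ 2 ≤ 1 ^ 2 := Nat.pow_le_pow_left h 2
      omega
    obtain ⟨g, hg⟩ := IsCyclic.exists_generator (α := Kˣ)
    have hord : orderOf g = q ^ 2 - 1 := by
      rw [orderOf_eq_card_of_forall_mem_zpowers hg, Nat.card_units, Nat.card_eq_fintype_card, hK]
    refine ⟨(g : K), ?_⟩
    rw [hφ]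
    intro h0
    have h1 : g ^ (q - 1) = 1 := by
      apply Units.ext
      rw [Units.val_pow_eq_pow_val, Units.val_one]
      have h2 : (g : K) ^ (q - 1) * g = 1 * g := by
        rw [← pow_succ, Nat.sub_add_cancel hq1.le, h0, one_mul]
      exact mul_right_cancel₀ g.ne_zero h2
    have h3 := orderOf_dvd_of_pow_eq_one h1
    rw [hord] at h3
    have h4 := Nat.le_of_dvd (by omega) h3
    have h5 : q ≤ q ^ 2 := by nlinarith
    have h6 : q < q ^ 2 := by nlinarith
    omega

/-- **Conjugacy in `GU_n(q)` is controlled by `GL_n(q²)`.** -/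
theorem exists_unitary_conj (hK : Fintype.card K = q ^ 2) (A B g : GL (Fin n) K)
    (hA : A ∈ Cfsg.GU n K q) (hB : B ∈ Cfsg.GU n K q) (hg : g * A = B * g) :
    ∃ u : GL (Fin n) K, u ∈ Cfsg.GU n K q ∧ u * A = B * u := by
  obtain ⟨φ, hφ, hφφ, θ₀, hθ₀⟩ := exists_frob hK
  rw [mem_GU_iff_adj φ hφ] at hA hB
  set Am : Matrix (Fin n) (Fin n) K := (A : Matrix (Fin n) (Fin n) K) with hAm
  set Bm : Matrix (Fin n) (Fin n) K := (B : Matrix (Fin n) (Fin n) K) with hBm
  set gm : Matrix (Fin n) (Fin n) K := (g : Matrix (Fin n) (Fin n) K) with hgm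
  have hgm' : gm * Am = Bm * gm := by
    have := congrArg (fun x : GL (Fin n) K => (x : Matrix (Fin n) (Fin n) K)) hg
    simpa using this
  set h : Matrix (Fin n) (Fin n) K := adj φ gm * gm with hh
  have hadj : adj φ h = h := by rw [hh, adj_mul, adj_adj φ hφφ]
  have hgdet : gm.det ≠ 0 := by
    have : IsUnit gm := ⟨g, rfl⟩
    rw [Matrix.isUnit_iff_isUnit_det] at this
    exact this.ne_zero
  have hdet : h.det ≠ 0 := by
    rw [hh, Matrix.det_mul, det_adj]
    exact mul_ne_zero ((map_ne_zero φ).mpr hgdet) hgdet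
  have hA' : Am * adj φ Am = 1 := mul_eq_one_comm.mp hA
  have hcomm : Commute Am h := by
    have h1 : adj φ Am * adj φ gm = adj φ gm * adj φ Bm := by
      rw [← adj_mul, ← adj_mul, hgm']
    have h2 : adj φ Am * h * Am = h := by
      calc adj φ Am * h * Am = (adj φ Am * adj φ gm) * (gm * Am) := by
            rw [hh]; simp only [mul_assoc]
        _ = adj φ gm * (adj φ Bm * Bm) * gm := by rw [h1, hgm']; simp only [mul_assoc]
        _ = h := by rw [hB, mul_one]
    show Am * h = h * Am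
    calc Am * h = Am * (adj φ Am * h * Am) := by rw [h2]
      _ = (Am * adj φ Am) * h * Am := by simp only [mul_assoc]
      _ = h * Am := by rw [hA', one_mul]
  obtain ⟨C, hC, hCcomm⟩ := exists_sqrt φ hφφ θ₀ hθ₀ h hadj hdet
  have hCdet : C.det ≠ 0 := by
    intro h0
    apply hdet
    rw [← hC, Matrix.det_mul, h0, mul_zero]
  have hCu : IsUnit C := by
    rw [Matrix.isUnit_iff_isUnit_det]; exact isUnit_iff_ne_zero.mpr hCdet
  obtain ⟨Cu, hCu'⟩ := hCu
  have hAC : Commute Am C := hCcomm Am hcomm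
  set Ci : Matrix (Fin n) (Fin n) K := ((Cu⁻¹ : (Matrix (Fin n) (Fin n) K)ˣ) :
    Matrix (Fin n) (Fin n) K) with hCidef
  have hCi : C * Ci = 1 := by rw [← hCu', hCidef]; exact Cu.mul_inv
  have hval : ((g * Cu⁻¹ : GL (Fin n) K) : Matrix (Fin n) (Fin n) K) = gm * Ci := rfl
  refine ⟨g * Cu⁻¹, ?_, ?_⟩
  · rw [mem_GU_iff_adj φ hφ, hval, adj_mul]
    calc adj φ Ci * adj φ gm * (gm * Ci)
        = adj φ Ci * h * Ci := by
          rw [hh]; simp only [mul_assoc]
      _ = (adj φ Ci * adj φ C) * (C * Ci) := by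
          rw [← hC]; simp only [mul_assoc]
      _ = 1 := by rw [← adj_mul, hCi, adj_one, one_mul]
  · apply Units.ext
    have hCiA : Ci * Am = Am * Ci := by
      have h1 : Commute Am (↑Cu : Matrix (Fin n) (Fin n) K) := by rw [hCu']; exact hAC
      exact ((h1.units_inv_right).eq).symm
    show gm * Ci * Am = Bm * (gm * Ci)
    rw [mul_assoc, hCiA, ← mul_assoc, hgm', mul_assoc]

end main

end Cfsg.Agent.Lib.Helper40.GUConj
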