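import Mathlib

/-!
# S1904 (2-groups without SCN_3 admitting odd automorphisms): shared definitions
-/

set_option autoImplicit false

namespace Cfsg.Agent.Lib.Helper40.T1904

open scoped commutatorElement

variable {X : Type*} [Group X]

/-- `N` is invariant under the group `A` of automorphisms. -/
def Inv (A : Subgroup (MulAut X)) (N : Subgroup X) : Prop := ∀ φ ∈ A, ∀ n ∈ N, φ n ∈ N

/-- `N` is abelian. -/
def Ab (N : Subgroup X) : Prop := ∀ a ∈ N, ∀ b ∈ N, a * b = b * a

/-- `A` fixes `N` pointwise. -/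
def Fixes (A : Subgroup (MulAut X)) (N : Subgroup X) : Prop := ∀ φ ∈ A, ∀ n ∈ N, φ n = n

/-- `A` has no non-identity fixed point in `N`. -/
def Fpf (A : Subgroup (MulAut X)) (N : Subgroup X) : Prop := ∀ n ∈ N, (∀ φ ∈ A, φ n = n) → n = 1

/-- The standing hypotheses: `X` is a 2-group, `A` a group of automorphisms of odd order with
`[X, A] = X`, and every normal abelian subgroup of `X` has at most four elements of square one
(rank at most two). -/
structure Ctx (X : Type*) [Group X] (A : Subgroup (MulAut X)) : Prop where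
  h2 : IsPGroup 2 X
  hodd : Odd (Nat.card A)
  hgen : Subgroup.closure {g : X | ∃ φ ∈ A, ∃ x : X, g = x⁻¹ * φ x} = ⊤
  hR : ∀ N : Subgroup X, N.Normal → Ab N → Nat.card {t : X // t ∈ N ∧ t * t = 1} ≤ 4

/-- `X / Z(X)` is elementary abelian. -/
def EAmodZ (X : Type*) [Group X] : Prop :=
  (∀ x : X, x * x ∈ Subgroup.center X) ∧ ∀ x y : X, ⁅x, y⁆ ∈ Subgroup.center X

/-- `B` is maximal among the `A`-invariant normal abelian subgroups. -/
def MaxInv (A : Subgroup (MulAut X)) (B : Subgroup X) : Prop :=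
  B.Normal ∧ Ab B ∧ Inv A B ∧ ∀ N : Subgroup X, N.Normal → Ab N → Inv A N → B ≤ N → N = B

end Cfsg.Agent.Lib.Helper40.T1904
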