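import Mathlib
import Cfsg.Agent.Lib.Helper40.T1904Defs

/-!
# S1904: basic coprime-action lemmas
-/

set_option autoImplicit false

namespace Cfsg.Agent.Lib.Helper40.T1904

open scoped commutatorElement

variable {X : Type*} [Group X]

/-- A normal subgroup fixed pointwise by `A` is central. -/
theorem central_of_fixes {A : Subgroup (MulAut X)} (h : Ctx X A) (N : Subgroup X) (hNn : N.Normal)
    (hN : Fixes A N) : N ≤ Subgroup.center X := by
  intro n hn
  rw [Subgroup.mem_center_iff]
  have hcl : (⊤ : Subgroup X) ≤ Subgroup.centralizer {n} := by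
    rw [← h.hgen, Subgroup.closure_le]
    rintro g ⟨φ, hφ, x, rfl⟩
    rw [SetLike.mem_coe, Subgroup.mem_centralizer_iff]
    intro m hm
    rw [Set.mem_singleton_iff] at hm
    subst hm
    have h1 : φ (x * m * x⁻¹) = x * m * x⁻¹ := hN φ hφ _ (hNn.conj_mem m hn x)
    have h2 : φ m = m := hN φ hφ m hn
    rw [map_mul, map_mul, h2, map_inv] at h1
    calc m * (x⁻¹ * φ x) = x⁻¹ * (x * m * x⁻¹) * φ x := by group
      _ = x⁻¹ * (φ x * m * (φ x)⁻¹) * φ x := by rw [h1]
      _ = x⁻¹ * φ x * m := by group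
  intro g
  have hg : g ∈ Subgroup.centralizer {n} := hcl (Subgroup.mem_top g)
  rw [Subgroup.mem_centralizer_iff] at hg
  exact (hg n rfl).symm

theorem odd_orderOf {A : Subgroup (MulAut X)} (hodd : Odd (Nat.card A)) (φ : MulAut X) (hφ : φ ∈ A) :
    Odd (orderOf φ) := by
  have h1 : orderOf (⟨φ, hφ⟩ : A) ∣ Nat.card A := orderOf_dvd_natCard _
  have h2 : orderOf (⟨φ, hφ⟩ : A) = orderOf φ := by
    rw [← Subgroup.orderOf_coe]
  rw [h2] at h1
  exact Odd.of_dvd_nat hodd h1

theorem pow_apply_of_fix (φ : MulAut X) (n d : X) (hn : φ n = n * d) (hd : φ d = d) (j : ℕ) :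
    (φ ^ j) n = n * d ^ j := by
  induction j with
  | zero => simp
  | succ j ih =>
    rw [pow_succ', MulAut.mul_apply, ih, map_mul, map_pow, hd, hn, pow_succ', mul_assoc]

/-- an automorphism of odd order with `φ n = n * d`, `φ d = d`, `d * d = 1` fixes `n`. -/
theorem fix_of_sq (φ : MulAut X) (hodd : Odd (orderOf φ)) (n d : X) (hn : φ n = n * d) (hd : φ d = d)
    (hdd : d * d = 1) : d = 1 := by
  have h1 := pow_apply_of_fix φ n d hn hd (orderOf φ)
  rw [pow_orderOf_eq_one, MulAut.one_apply] at h1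
  have h2 : d ^ orderOf φ = 1 := by
    have := mul_left_cancel (a := n) (b := 1) (c := d ^ orderOf φ) (by rw [mul_one]; exact h1)
    exact this.symm
  obtain ⟨l, hl⟩ := hodd
  rw [hl, pow_succ, pow_mul, pow_two, hdd, one_pow, one_mul] at h2
  exact h2

/-- An `A`-invariant abelian subgroup of rank at most two is fixed pointwise or fixed-point-freely. -/
theorem dichotomy [Finite X] {A : Subgroup (MulAut X)} (h : Ctx X A) (N : Subgroup X) (hab : Ab N)
    (hN : Inv A N) (h4 : Nat.card {t : X // t ∈ N ∧ t * t = 1} ≤ 4) : Fixes A N ∨ Fpf A N := by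
  classical
  by_cases hf : Fpf A N
  · right; exact hf
  left
  unfold Fpf at hf
  push Not at hf
  obtain ⟨n0, hn0, hn0fix, hn01⟩ := hf
  -- an A-fixed involution
  obtain ⟨t0, ht0N, ht0fix, ht01, ht0sq⟩ : ∃ t0 ∈ N, (∀ φ ∈ A, φ t0 = t0) ∧ t0 ≠ 1 ∧ t0 * t0 = 1 := by
    obtain ⟨k, hk⟩ := (IsPGroup.iff_orderOf.mp h.h2) n0
    have hk0 : k ≠ 0 := by
      intro hk0
      rw [hk0, pow_zero, orderOf_eq_one_iff] at hk
      exact hn01 hk
    obtain ⟨k', rfl⟩ := Nat.exists_eq_succ_of_ne_zero hk0
    refine ⟨n0 ^ (2 ^ k'), N.pow_mem hn0 _, ?_, ?_, ?_⟩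
    · intro φ hφ
      rw [map_pow, hn0fix φ hφ]
    · apply pow_ne_one_of_lt_orderOf (by positivity)
      rw [hk, pow_succ]
      have : 0 < 2 ^ k' := by positivity
      omega
    · rw [← pow_add, ← two_mul, ← pow_succ', ← hk, pow_orderOf_eq_one]
  -- A fixes all elements of square one
  have hΩ : ∀ t ∈ N, t * t = 1 → ∀ φ ∈ A, φ t = t := by
    intro t htN htsq φ hφ
    by_cases ht1 : t = 1
    · rw [ht1, map_one]
    by_cases htt0 : t = t0
    · rw [htt0]; exact ht0fix φ hφ
    -- the four elements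
    have hcomm : t0 * t = t * t0 := hab t0 ht0N t htN
    have hprod : (t0 * t) * (t0 * t) = 1 := by
      calc (t0 * t) * (t0 * t) = t0 * (t * t0) * t := by group
        _ = t0 * (t0 * t) * t := by rw [hcomm]
        _ = (t0 * t0) * (t * t) := by group
        _ = 1 := by rw [ht0sq, htsq, one_mul]
    let S := {t : X // t ∈ N ∧ t * t = 1}
    have : Fintype S := Fintype.ofFinite S
    let e1 : S := ⟨1, N.one_mem, by simp⟩
    let e2 : S := ⟨t0, ht0N, ht0sq⟩
    let e3 : S := ⟨t, htN, htsq⟩
    let e4 : S := ⟨t0 * t, N.mul_mem ht0N htN, hprod⟩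
    have hφt : φ t ∈ N ∧ φ t * φ t = 1 := ⟨hN φ hφ t htN, by rw [← map_mul, htsq, map_one]⟩
    let e5 : S := ⟨φ t, hφt⟩
    have hT : ({e1, e2, e3, e4} : Finset S).card = 4 := by
      have d12 : e1 ≠ e2 := fun hh => ht01 (congrArg Subtype.val hh).symm
      have d13 : e1 ≠ e3 := fun hh => ht1 (congrArg Subtype.val hh).symm
      have d14 : e1 ≠ e4 := by
        intro hh
        have h1 : (1 : X) = t0 * t := congrArg Subtype.val hh
        apply htt0
        have : t0 * t = t0 * t0 := by rw [ht0sq, ← h1]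
        exact mul_left_cancel this
      have d23 : e2 ≠ e3 := fun hh => htt0 (congrArg Subtype.val hh).symm
      have d24 : e2 ≠ e4 := by
        intro hh
        have h1 : t0 = t0 * t := congrArg Subtype.val hh
        apply ht1
        have : t0 * t = t0 * 1 := by rw [mul_one, ← h1]
        exact mul_left_cancel this
      have d34 : e3 ≠ e4 := by
        intro hh
        have h1 : t = t0 * t := congrArg Subtype.val hh
        apply ht01
        have : t0 * t = 1 * t := by rw [one_mul, ← h1]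
        exact mul_right_cancel this
      rw [Finset.card_insert_of_notMem, Finset.card_insert_of_notMem, Finset.card_insert_of_notMem,
        Finset.card_singleton]
      · simp only [Finset.mem_singleton]; exact d34
      · simp only [Finset.mem_insert, Finset.mem_singleton, not_or]; exact ⟨d23, d24⟩
      · simp only [Finset.mem_insert, Finset.mem_singleton, not_or]; exact ⟨d12, d13, d14⟩
    have hTuniv : ({e1, e2, e3, e4} : Finset S) = Finset.univ := by
      apply Finset.eq_univ_of_card
      rw [hT]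
      apply le_antisymm
      · rw [← hT]; exact Finset.card_le_univ _
      · rw [← Nat.card_eq_fintype_card]; exact h4
    have h5 : e5 ∈ ({e1, e2, e3, e4} : Finset S) := by rw [hTuniv]; exact Finset.mem_univ _
    simp only [Finset.mem_insert, Finset.mem_singleton] at h5
    rcases h5 with h5 | h5 | h5 | h5
    · have : φ t = 1 := congrArg Subtype.val h5
      exact absurd ((map_eq_one_iff φ φ.injective).mp this) ht1
    · have : φ t = t0 := congrArg Subtype.val h5
      rw [← ht0fix φ hφ] at this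
      exact absurd (φ.injective this) htt0
    · exact congrArg Subtype.val h5
    · have h6 : φ t = t0 * t := congrArg Subtype.val h5
      have h7 : φ t = t * t0 := by rw [h6, hcomm]
      have := fix_of_sq φ (odd_orderOf h.hodd φ hφ) t t0 h7 (ht0fix φ hφ) ht0sq
      exact absurd this ht01
  -- all of N
  have hall : ∀ k : ℕ, ∀ n ∈ N, n ^ (2 ^ k) = 1 → ∀ φ ∈ A, φ n = n := by
    intro k
    induction k with
    | zero =>
      intro n _ hn φ _
      rw [pow_zero, pow_one] at hn
      rw [hn, map_one]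
    | succ k ih =>
      intro n hnN hn φ hφ
      have hnn : (n * n) ^ (2 ^ k) = 1 := by
        rw [← pow_two, ← pow_mul, ← pow_succ']; exact hn
      have h1 : φ (n * n) = n * n := ih (n * n) (N.mul_mem hnN hnN) hnn φ hφ
      set d := n⁻¹ * φ n with hd
      have hφnN : φ n ∈ N := hN φ hφ n hnN
      have hdN : d ∈ N := N.mul_mem (N.inv_mem hnN) hφnN
      have hc : φ n * n⁻¹ = n⁻¹ * φ n := hab _ hφnN _ (N.inv_mem hnN)
      have hdd : d * d = 1 := by
        calc d * d = n⁻¹ * (φ n * n⁻¹) * φ n := by rw [hd]; group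
          _ = n⁻¹ * (n⁻¹ * φ n) * φ n := by rw [hc]
          _ = (n * n)⁻¹ * (φ n * φ n) := by group
          _ = (n * n)⁻¹ * φ (n * n) := by rw [map_mul]
          _ = 1 := by rw [h1, inv_mul_cancel]
      have hφd : φ d = d := hΩ d hdN hdd φ hφ
      have hφn : φ n = n * d := by rw [hd]; group
      have := fix_of_sq φ (odd_orderOf h.hodd φ hφ) n d hφn hφd hdd
      rw [hφn, this, mul_one]
  intro φ hφ n hnN
  obtain ⟨k, hk⟩ := (IsPGroup.iff_orderOf.mp h.h2) n
  exact hall k n hnN (by rw [← hk, pow_orderOf_eq_one]) φ hφ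

/-- An `A`-invariant normal subgroup `N` with `X/N` abelian contains every element that is fixed by `A`
modulo `N` (coprime action on the abelian group `X/N`, which equals `[X/N, A]`). -/
theorem fix_quot [Finite X] {A : Subgroup (MulAut X)} (h : Ctx X A) (N : Subgroup X) (hNn : N.Normal)
    (hN : Inv A N) (hab : ∀ x y : X, ⁅x, y⁆ ∈ N) (x : X) (hx : ∀ φ ∈ A, x⁻¹ * φ x ∈ N) : x ∈ N := by
  classical
  have := hNn
  have hAfin : Finite A := by
    apply Nat.finite_of_card_ne_zero
    intro h0
    have := h.hodd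
    rw [h0] at this
    exact (Nat.not_odd_iff_even.mpr (by decide)) this
  have : Fintype A := Fintype.ofFinite A
  letI : CommGroup (X ⧸ N) :=
    { (inferInstance : Group (X ⧸ N)) with
      mul_comm := by
        intro a b
        induction a using QuotientGroup.induction_on with
        | H a =>
        induction b using QuotientGroup.induction_on with
        | H b =>
        rw [← QuotientGroup.mk_mul, ← QuotientGroup.mk_mul, QuotientGroup.eq]
        have := hab b⁻¹ a⁻¹
        rw [commutatorElement_def] at this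
        have h2 : (a * b)⁻¹ * (b * a) = b⁻¹ * a⁻¹ * b⁻¹⁻¹ * a⁻¹⁻¹ := by group
        rw [h2]; exact this }
  -- induced maps
  let bar : A → (X ⧸ N →* X ⧸ N) := fun φ =>
    QuotientGroup.map N N (φ.1 : X ≃* X).toMonoidHom (fun n hn => hN φ.1 φ.2 n hn)
  have hbar : ∀ (φ : A) (y : X), bar φ (QuotientGroup.mk y) = QuotientGroup.mk ((φ.1 : X ≃* X) y) := by
    intro φ y
    rfl
  let θ : X ⧸ N →* X ⧸ N := ∏ φ : A, bar φ
  have hθ : ∀ q, θ q = ∏ φ : A, bar φ q := by
    intro q
    simp [θ]
  -- θ ∘ bar φ0 = θ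
  have hθbar : ∀ (φ0 : A) (y : X), θ (QuotientGroup.mk ((φ0.1 : X ≃* X) y)) = θ (QuotientGroup.mk y) := by
    intro φ0 y
    rw [hθ, hθ]
    apply Fintype.prod_equiv (Equiv.mulRight φ0)
    intro φ
    rw [hbar, hbar]
    rfl
  -- θ kills everything
  have hker : ∀ y : X, θ (QuotientGroup.mk y) = 1 := by
    have hcl : (⊤ : Subgroup X) ≤ (θ.comp (QuotientGroup.mk' N)).ker := by
      rw [← h.hgen, Subgroup.closure_le]
      rintro g ⟨φ, hφ, y, rfl⟩
      rw [SetLike.mem_coe, MonoidHom.mem_ker, MonoidHom.comp_apply, QuotientGroup.mk'_apply,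
        QuotientGroup.mk_mul, map_mul, QuotientGroup.mk_inv, map_inv]
      have := hθbar ⟨φ, hφ⟩ y
      simp only at this
      rw [this, inv_mul_cancel]
    intro y
    have := hcl (Subgroup.mem_top y)
    rw [MonoidHom.mem_ker, MonoidHom.comp_apply, QuotientGroup.mk'_apply] at this
    exact this
  -- on x
  have hxθ : θ (QuotientGroup.mk x) = (QuotientGroup.mk x : X ⧸ N) ^ (Fintype.card A) := by
    rw [hθ]
    have : ∀ φ : A, bar φ (QuotientGroup.mk x) = (QuotientGroup.mk x : X ⧸ N) := by
      intro φ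
      rw [hbar]
      symm
      rw [QuotientGroup.eq]
      exact hx φ.1 φ.2
    rw [Finset.prod_congr rfl (fun φ _ => this φ), Finset.prod_const, Finset.card_univ]
  have h1 : (QuotientGroup.mk x : X ⧸ N) ^ (Nat.card A) = 1 := by
    rw [Nat.card_eq_fintype_card, ← hxθ, hker]
  obtain ⟨k, hk⟩ := (IsPGroup.iff_orderOf.mp h.h2) x
  have h2 : (QuotientGroup.mk x : X ⧸ N) ^ (2 ^ k) = 1 := by
    rw [← QuotientGroup.mk_pow, ← hk, pow_orderOf_eq_one, QuotientGroup.mk_one]
  have hcop : Nat.Coprime (Nat.card A) (2 ^ k) := by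
    apply Nat.Coprime.pow_right
    exact Nat.coprime_two_right.mpr h.hodd
  have h3 : orderOf (QuotientGroup.mk x : X ⧸ N) ∣ 1 := by
    rw [← Nat.Coprime.gcd_eq_one hcop]
    exact Nat.dvd_gcd (orderOf_dvd_of_pow_eq_one h1) (orderOf_dvd_of_pow_eq_one h2)
  have h4 : (QuotientGroup.mk x : X ⧸ N) = 1 := by
    rw [← orderOf_eq_one_iff]
    exact Nat.dvd_one.mp h3
  exact (QuotientGroup.eq_one_iff x).mp h4

end Cfsg.Agent.Lib.Helper40.T1904
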