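import Cfsg.Agent.Lib.Helper06.Hall4.Defs

/-!
# K-H4 pack (S4221, architect helper6), leaf 422125 K-H4-EV (helper40): `nfix_le_card`, `even_moved`
-/

set_option autoImplicit false
open Equiv

namespace Cfsg.Agent.Lib.Helper40.Hall4
open Cfsg.Agent.Lib.Helper06.Hall4

variable {α : Type*} [Fintype α] [DecidableEq α]

theorem nfix_eq_card_compl_support (t : Perm α) : nfix t = t.supportᶜ.card := by
  unfold nfix
  rw [← Set.ncard_coe_finset]
  congr 1
  ext j
  simp [Function.mem_fixedPoints, Function.IsFixedPt]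

theorem nfix_le_card (t : Perm α) : nfix t ≤ Fintype.card α := by
  rw [nfix_eq_card_compl_support]
  exact Finset.card_le_univ _

theorem even_moved (t : Perm α) (t2 : t * t = 1) : Even (Fintype.card α - nfix t) := by
  have h2 : t.supportᶜ.card ≡ Fintype.card α [MOD 2] :=
    Equiv.Perm.card_compl_support_modEq (p := 2) (n := 1) (σ := t) (by rw [pow_one, pow_two, t2])
  rw [← nfix_eq_card_compl_support] at h2
  rw [even_iff_two_dvd]
  exact (Nat.modEq_iff_dvd' (nfix_le_card t)).mp h2

end Cfsg.Agent.Lib.Helper40.Hall4
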