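import Mathlib

set_option autoImplicit false
set_option linter.style.haveILetI false

universe u

namespace Cfsg.Agent.Lib.Helper40.NF2

/-- additive automorphisms of a `ZMod r`-module are the linear automorphisms -/
noncomputable def addAutEquivLin (r : ℕ) (M : Type u) [AddCommGroup M] [Module (ZMod r) M] :
    AddAut M ≃ (M ≃ₗ[ZMod r] M) where
  toFun f := { f with map_smul' := fun c x => ZMod.map_smul f.toAddMonoidHom c x }
  invFun g := g.toAddEquiv
  left_inv f := by ext x; rfl
  right_inv g := by ext x; rfl

/-- the number of linear automorphisms of a finite vector space -/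
theorem card_linearEquiv_self {K : Type*} [Field K] [Fintype K] {M : Type u} [AddCommGroup M]
    [Module K M] [Finite M] (w : ℕ) (hfr : Module.finrank K M = w) :
    Nat.card (M ≃ₗ[K] M) = ∏ i ∈ Finset.range w, (Fintype.card K ^ w - Fintype.card K ^ i) := by
  classical
  haveI : Module.Finite K M := Module.Finite.of_finite
  let b : Module.Basis (Fin w) K M := Module.finBasisOfFinrankEq K M hfr
  let e3 : (M ≃ₗ[K] M) ≃ (M →ₗ[K] M)ˣ :=
    (LinearMap.GeneralLinearGroup.generalLinearEquiv K M).symm.toEquiv
  let e4 : (M →ₗ[K] M)ˣ ≃ (Matrix (Fin w) (Fin w) K)ˣ :=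
    (Units.mapEquiv (LinearMap.toMatrixAlgEquiv b).toMulEquiv).toEquiv
  have hc : Nat.card (M ≃ₗ[K] M) = Nat.card (GL (Fin w) K) :=
    Nat.card_congr (e3.trans e4)
  rw [hc, Matrix.card_GL_field,
    Fin.prod_univ_eq_prod_range (fun i => Fintype.card K ^ w - Fintype.card K ^ i) w]

theorem card_mulAut_dvd {X : Type u} [CommGroup X] [Finite X] (r w : ℕ) (hr : r.Prime)
    (hexp : ∀ x : X, x ^ r = 1) (hcard : Nat.card X = r ^ w) :
    Nat.card (MulAut X) ∣ ∏ i ∈ Finset.range w, (r ^ w - r ^ i) := by
  classical
  haveI : Fact r.Prime := ⟨hr⟩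
  letI : Module (ZMod r) (Additive X) := AddCommGroup.zmodModule (n := r) (by
    intro x
    have := hexp x.toMul
    exact congrArg Additive.ofMul this)
  haveI : Finite (Additive X) := inferInstanceAs (Finite X)
  -- finrank
  have hfr : Module.finrank (ZMod r) (Additive X) = w := by
    have hfin : Module.Finite (ZMod r) (Additive X) := Module.Finite.of_finite
    have h1 := @Module.natCard_eq_pow_finrank (ZMod r) (Additive X) _ _ _ hfin
    have h2 : Nat.card (Additive X) = Nat.card X := rfl
    rw [h2, hcard, Nat.card_eq_fintype_card, ZMod.card] at h1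
    exact (Nat.pow_right_injective hr.two_le h1).symm
  -- chain of equivalences
  let e1 : MulAut X ≃ AddAut (Additive X) := (AddAutAdditive X).symm.toEquiv
  let e2 := addAutEquivLin r (Additive X)
  have hc : Nat.card (MulAut X) = Nat.card (Additive X ≃ₗ[ZMod r] Additive X) :=
    Nat.card_congr (e1.trans e2)
  rw [hc, card_linearEquiv_self w hfr, ZMod.card]

end Cfsg.Agent.Lib.Helper40.NF2
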