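import Mathlib
import Cfsg.Prelude.Def_GeometricClasses
import Cfsg.Agent.Lib.Helper61.AschDefs
import Cfsg.Agent.Lib.Helper61.AschBasic
import Cfsg.Agent.Lib.Helper97.AschB5
import Cfsg.Agent.Lib.Helper46.AschODefs
import Cfsg.Agent.Lib.Helper46.AschOBasic
import Cfsg.Agent.Lib.Helper38.AschOB6a

/-!
# K-OEven-B6a (keystone 582608, architect helper46): the Gram matrix of the polar form in a tensor basis is a Kronecker
product `g₁ ⊗ g₂` of two invertible matrices, both symmetric or both skew (any characteristic, any dimension).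
Adapted from helper38's `AschOB6a.exists_tensor_forms` (same proof without the parity argument).
-/

set_option autoImplicit false
set_option linter.unusedSectionVars false

namespace Cfsg.Agent.Lib.Helper40.AschE

open Cfsg Cfsg.Geo Cfsg.Agent.Lib.Helper61.Asch Cfsg.Agent.Lib.Helper46.AschO
open Cfsg.Agent.Lib.Helper38.AschO (kron_symm_cases)
open scoped Matrix Kronecker MatrixGroups

variable {F : Type*} [Field F]

/-- K-OEven-B6a. -/
theorem exists_tensor_forms_even [Fintype F] {n : ℕ} (Q : (Fin n → F) → F)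
    (hQ : IsNondegenerateQuadraticForm Q)
    (A : Subalgebra F (Matrix (Fin n) (Fin n) F)) (hA : ∀ x ∈ A, adjQ Q x ∈ A) (a b : ℕ) (ha : 0 < a) (hb : 0 < b)
    (e : Fin n ≃ Fin a × Fin b) (P : GL (Fin n) F) (hT : IsTensorLeft A a b e P) :
    ∃ (g₁ : Matrix (Fin a) (Fin a) F) (g₂ : Matrix (Fin b) (Fin b) F) (ε : F), (ε = 1 ∨ ε = -1) ∧
      g₁ᵀ = ε • g₁ ∧ g₂ᵀ = ε • g₂ ∧ IsUnit g₁ ∧ IsUnit g₂ ∧
      ∀ x y : Fin a × Fin b → F,
        QuadraticMap.polar Q ((P : Matrix (Fin n) (Fin n) F) *ᵥ (x ∘ e))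
          ((P : Matrix (Fin n) (Fin n) F) *ᵥ (y ∘ e)) = formOfGram id (g₁ ⊗ₖ g₂) x y := by
  have hn : n = a * b := by
    have := Fintype.card_congr e
    simpa using this
  set Pm : Matrix (Fin n) (Fin n) F := (P : Matrix (Fin n) (Fin n) F) with hPm
  set Pi : Matrix (Fin n) (Fin n) F := ((P⁻¹ : GL (Fin n) F) : Matrix (Fin n) (Fin n) F) with hPi
  have hPiPm : Pi * Pm = 1 := by
    rw [hPi, hPm, ← Units.val_mul, inv_mul_cancel, Units.val_one]
  have hPmPi : Pm * Pi = 1 := by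
    rw [hPi, hPm, ← Units.val_mul, mul_inv_cancel, Units.val_one]
  set G : Matrix (Fin n) (Fin n) F := gramQ Q with hG
  have hGd : IsUnit G.det := isUnit_det_gramQ hQ
  have hGsymm : Gᵀ = G := gramQ_transpose Q
  set S : Matrix (Fin n) (Fin n) F := Pmᵀ * G * Pm with hS
  have hSsymm : Sᵀ = S := by
    rw [hS, Matrix.transpose_mul, Matrix.transpose_mul, Matrix.transpose_transpose, hGsymm, mul_assoc]
  have hSd : IsUnit S.det := by
    rw [hS, Matrix.det_mul, Matrix.det_mul, Matrix.det_transpose]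
    have hPd : IsUnit Pm.det := (Matrix.isUnit_iff_isUnit_det _).mp ⟨P, rfl⟩
    exact (hPd.mul hGd).mul hPd
  -- the Gram matrix in the tensor basis
  set G' : Matrix (Fin a × Fin b) (Fin a × Fin b) F := S.submatrix e.symm e.symm with hG'
  have hG'symm : G'ᵀ = G' := by
    rw [hG', Matrix.transpose_submatrix, hSsymm]
  have hG'd : IsUnit G'.det := by
    rw [hG', Matrix.det_submatrix_equiv_self]; exact hSd
  have hG'1 : G'⁻¹ * G' = 1 := Matrix.nonsing_inv_mul _ hG'd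
  have hG'2 : G' * G'⁻¹ = 1 := Matrix.mul_nonsing_inv _ hG'd
  have hSG' : S = G'.submatrix e e := by
    rw [hG', Matrix.submatrix_submatrix]; simp
  -- the key relation
  have hkey : ∀ x : Matrix (Fin a) (Fin a) F, ∃ y : Matrix (Fin a) (Fin a) F,
      G'⁻¹ * (x ⊗ₖ (1 : Matrix (Fin b) (Fin b) F)) * G' = y ⊗ₖ (1 : Matrix (Fin b) (Fin b) F) := by
    intro x
    have hmem : tensorLeft a b e P xᵀ ∈ A := (hT _).mpr ⟨xᵀ, rfl⟩
    obtain ⟨y, hy⟩ := (hT _).mp (hA _ hmem)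
    refine ⟨y, ?_⟩
    unfold adjQ tensorLeft at hy
    simp only [Matrix.reindex_apply, Equiv.symm_symm] at hy
    rw [← hPm, ← hPi, ← hG] at hy
    -- `G⁻¹ * (Pm * X * Pi)ᵀ * G = Pm * Y * Pi`
    have h1 : (Pm * (xᵀ ⊗ₖ (1 : Matrix (Fin b) (Fin b) F)).submatrix e e * Pi)ᵀ =
        Piᵀ * (x ⊗ₖ (1 : Matrix (Fin b) (Fin b) F)).submatrix e e * Pmᵀ := by
      rw [Matrix.transpose_mul, Matrix.transpose_mul, Matrix.transpose_submatrix,
        ← Matrix.kroneckerMap_transpose, Matrix.transpose_transpose, Matrix.transpose_one, mul_assoc]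
    rw [h1] at hy
    have h3 : (x ⊗ₖ (1 : Matrix (Fin b) (Fin b) F)).submatrix e e * S =
        S * (y ⊗ₖ (1 : Matrix (Fin b) (Fin b) F)).submatrix e e := by
      have h4 := congrArg (fun M => Pmᵀ * G * M * Pm) hy
      simp only at h4
      have hPT : Pmᵀ * Piᵀ = 1 := by rw [← Matrix.transpose_mul, hPiPm, Matrix.transpose_one]
      calc (x ⊗ₖ (1 : Matrix (Fin b) (Fin b) F)).submatrix e e * S
          = Pmᵀ * G * (G⁻¹ * (Piᵀ * (x ⊗ₖ (1 : Matrix (Fin b) (Fin b) F)).submatrix e e * Pmᵀ) * G) * Pm := by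
            rw [hS]
            have e1 : Pmᵀ * G * (G⁻¹ * (Piᵀ * (x ⊗ₖ (1 : Matrix (Fin b) (Fin b) F)).submatrix e e * Pmᵀ) * G) * Pm
                = Pmᵀ * (G * G⁻¹) * Piᵀ * (x ⊗ₖ (1 : Matrix (Fin b) (Fin b) F)).submatrix e e * (Pmᵀ * G * Pm) := by
              simp only [mul_assoc]
            rw [e1, Matrix.mul_nonsing_inv _ hGd, mul_one, hPT, one_mul]
        _ = Pmᵀ * G * (Pm * (y ⊗ₖ (1 : Matrix (Fin b) (Fin b) F)).submatrix e e * Pi) * Pm := h4
        _ = S * (y ⊗ₖ (1 : Matrix (Fin b) (Fin b) F)).submatrix e e := by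
            rw [hS]
            have e1 : Pmᵀ * G * (Pm * (y ⊗ₖ (1 : Matrix (Fin b) (Fin b) F)).submatrix e e * Pi) * Pm
                = Pmᵀ * G * Pm * (y ⊗ₖ (1 : Matrix (Fin b) (Fin b) F)).submatrix e e * (Pi * Pm) := by
              simp only [mul_assoc]
            rw [e1, hPiPm, mul_one]
    have h5 : (x ⊗ₖ (1 : Matrix (Fin b) (Fin b) F)) * G' = G' * (y ⊗ₖ (1 : Matrix (Fin b) (Fin b) F)) := by
      rw [hSG', Matrix.submatrix_mul_equiv, Matrix.submatrix_mul_equiv] at h3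
      have := congrArg (fun M => M.submatrix e.symm e.symm) h3
      simpa [Matrix.submatrix_submatrix] using this
    rw [mul_assoc, h5, ← mul_assoc, hG'1, one_mul]
  obtain ⟨u, v, huv⟩ := Cfsg.Agent.Lib.Helper97.Asch.kron_core ha hb G'⁻¹ G' hG'1 hG'2 hkey
  -- `G' = u⁻¹ ⊗ v⁻¹`
  set g : Matrix (Fin a) (Fin a) F := ((u⁻¹ : GL (Fin a) F) : Matrix (Fin a) (Fin a) F) with hg
  set h : Matrix (Fin b) (Fin b) F := ((v⁻¹ : GL (Fin b) F) : Matrix (Fin b) (Fin b) F) with hh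
  have hgu : IsUnit g := ⟨u⁻¹, rfl⟩
  have hhu : IsUnit h := ⟨v⁻¹, rfl⟩
  have hG'gh : G' = g ⊗ₖ h := by
    have e1 : G'⁻¹ * (g ⊗ₖ h) = 1 := by
      rw [huv, hg, hh, ← Matrix.mul_kronecker_mul, ← Units.val_mul, ← Units.val_mul, mul_inv_cancel,
        mul_inv_cancel, Units.val_one, Units.val_one, Matrix.one_kronecker_one]
    calc G' = G' * (G'⁻¹ * (g ⊗ₖ h)) := by rw [e1, mul_one]
      _ = g ⊗ₖ h := by rw [← mul_assoc, hG'2, one_mul]
  have hapos : Nonempty (Fin a) := ⟨⟨0, ha⟩⟩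
  have hbpos : Nonempty (Fin b) := ⟨⟨0, hb⟩⟩
  have hg0 : g ≠ 0 := by
    intro h0
    have : Nontrivial (Matrix (Fin a) (Fin a) F) := inferInstance
    exact hgu.ne_zero h0
  have hh0 : h ≠ 0 := by
    intro h0
    have : Nontrivial (Matrix (Fin b) (Fin b) F) := inferInstance
    exact hhu.ne_zero h0
  have hcases := kron_symm_cases g h hg0 hh0 (by rw [← hG'gh]; exact hG'symm)
  have hform : ∀ x y : Fin a × Fin b → F,
      QuadraticMap.polar Q (Pm *ᵥ (x ∘ e)) (Pm *ᵥ (y ∘ e)) = formOfGram id (g ⊗ₖ h) x y := by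
    intro x y
    rw [polar_eq_gram hQ, ← hG, ← hG'gh]
    unfold formOfGram
    have hL : (Pm *ᵥ (x ∘ e)) ⬝ᵥ (G *ᵥ (Pm *ᵥ (y ∘ e))) = (x ∘ e) ⬝ᵥ (S *ᵥ (y ∘ e)) := by
      rw [hS, ← Matrix.mulVec_mulVec, ← Matrix.mulVec_mulVec, Matrix.dotProduct_mulVec _ Pmᵀ,
        Matrix.vecMul_transpose]
    rw [hL, hSG']
    simp only [dotProduct, Matrix.mulVec, Matrix.submatrix_apply, Function.comp_apply, id]
    rw [← Equiv.sum_comp e]
    refine Finset.sum_congr rfl fun i _ => ?_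
    rw [Finset.mul_sum, ← Equiv.sum_comp e]
    refine Finset.sum_congr rfl fun j _ => ?_
    ring
  rcases hcases with hc | hc
  · exact ⟨g, h, 1, Or.inl rfl, by rw [one_smul]; exact hc.1, by rw [one_smul]; exact hc.2, hgu, hhu, hform⟩
  · exact ⟨g, h, -1, Or.inr rfl, by rw [neg_one_smul]; exact hc.1, by rw [neg_one_smul]; exact hc.2, hgu, hhu, hform⟩

end Cfsg.Agent.Lib.Helper40.AschE
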