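import Mathlib

set_option autoImplicit false

/-!
# Linear algebra toolkit: dimension counts for eigenspaces (for S5877)
-/

namespace Cfsg.Agent.Lib.Helper40.EigLA

open Module

variable {F : Type*} [Field F] {V : Type*} [AddCommGroup V] [Module F V] [FiniteDimensional F V]

/-- the dimension of a finite sup of an independent family is the sum of the dimensions -/
theorem finrank_biSup_of_indep {ι : Type*} [DecidableEq ι] (A : ι → Submodule F V)
    (hA : iSupIndep A) (s : Finset ι) :
    finrank F ↥(⨆ i ∈ s, A i) = ∑ i ∈ s, finrank F (A i) := by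
  induction s using Finset.induction_on with
  | empty => simp
  | insert a s ha ih =>
    rw [Finset.sum_insert ha, ← ih, Finset.iSup_insert]
    have hdisj : Disjoint (A a) (⨆ i ∈ s, A i) := by
      have := hA.disjoint_biSup (x := a) (y := (s : Set ι)) (by simpa using ha)
      simpa using this
    have h := Submodule.finrank_sup_add_finrank_inf_eq (A a) (⨆ i ∈ s, A i)
    rw [hdisj.eq_bot, finrank_bot, add_zero] at h
    exact h

/-- subadditivity of the dimension over a finite sup -/
theorem finrank_biSup_le {ι : Type*} [DecidableEq ι] (A : ι → Submodule F V) (s : Finset ι) :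
    finrank F ↥(⨆ i ∈ s, A i) ≤ ∑ i ∈ s, finrank F (A i) := by
  induction s using Finset.induction_on with
  | empty => simp
  | insert a s ha ih =>
    rw [Finset.sum_insert ha, Finset.iSup_insert]
    exact (Submodule.finrank_add_le_finrank_add_finrank _ _).trans (Nat.add_le_add_left ih _)

/-- eigenspaces for distinct eigenvalues inside a subspace `E`: the dimensions add up to at most `dim E` -/
theorem sum_finrank_inf_eigenspace_le (f : End F V) (E : Submodule F V) (s : Finset F) :
    ∑ μ ∈ s, finrank F ↥(E ⊓ f.eigenspace μ) ≤ finrank F E := by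
  classical
  have hind : iSupIndep (fun μ : F => E ⊓ f.eigenspace μ) :=
    (Module.End.eigenspaces_iSupIndep f).mono (fun μ => inf_le_right)
  rw [← finrank_biSup_of_indep _ hind s]
  apply Submodule.finrank_mono
  exact iSup₂_le (fun μ _ => inf_le_left)

/-- the same for the whole space -/
theorem sum_finrank_eigenspace_le (f : End F V) (s : Finset F) :
    ∑ μ ∈ s, finrank F ↥(f.eigenspace μ) ≤ finrank F V := by
  have h := sum_finrank_inf_eigenspace_le f ⊤ s
  have h2 : ∀ μ : F, finrank F ↥((⊤ : Submodule F V) ⊓ f.eigenspace μ) = finrank F ↥(f.eigenspace μ) :=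
    fun μ => by rw [top_inf_eq]
  simp only [h2, finrank_top] at h
  exact h

/-- a family of eigenvalues with fibres of size at most `m` -/
theorem sum_finrank_inf_eigenspace_fiber_le {ι : Type*} [DecidableEq ι] [DecidableEq F] (f : End F V)
    (E : Submodule F V) (s : Finset ι) (lam : ι → F) (m : ℕ)
    (hm : ∀ μ : F, (s.filter (fun i => lam i = μ)).card ≤ m) :
    ∑ i ∈ s, finrank F ↥(E ⊓ f.eigenspace (lam i)) ≤ m * finrank F E := by
  rw [Finset.sum_comp (fun μ => finrank F ↥(E ⊓ f.eigenspace μ)) lam]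
  calc ∑ μ ∈ s.image lam, (s.filter (fun i => lam i = μ)).card • finrank F ↥(E ⊓ f.eigenspace μ)
      ≤ ∑ μ ∈ s.image lam, m * finrank F ↥(E ⊓ f.eigenspace μ) := by
        apply Finset.sum_le_sum
        intro μ _
        rw [smul_eq_mul]
        exact Nat.mul_le_mul_right _ (hm μ)
    _ = m * ∑ μ ∈ s.image lam, finrank F ↥(E ⊓ f.eigenspace μ) := by rw [Finset.mul_sum]
    _ ≤ m * finrank F E := Nat.mul_le_mul_left _ (sum_finrank_inf_eigenspace_le f E _)

/-- the same for the whole space -/
theorem sum_finrank_eigenspace_fiber_le {ι : Type*} [DecidableEq ι] [DecidableEq F] (f : End F V)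
    (s : Finset ι) (lam : ι → F) (m : ℕ)
    (hm : ∀ μ : F, (s.filter (fun i => lam i = μ)).card ≤ m) :
    ∑ i ∈ s, finrank F ↥(f.eigenspace (lam i)) ≤ m * finrank F V := by
  have h := sum_finrank_inf_eigenspace_fiber_le f ⊤ s lam m hm
  have h2 : ∀ μ : F, finrank F ↥((⊤ : Submodule F V) ⊓ f.eigenspace μ) = finrank F ↥(f.eigenspace μ) :=
    fun μ => by rw [top_inf_eq]
  simp only [h2, finrank_top] at h
  exact h

/-- the intersection of two subspaces of dimension at least `w` has dimension at least `2 w - n` -/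
theorem le_finrank_inf_add (A B : Submodule F V) (w : ℕ) (hA : w ≤ finrank F A)
    (hB : w ≤ finrank F B) : 2 * w ≤ finrank F ↥(A ⊓ B) + finrank F V := by
  have h := Submodule.finrank_sup_add_finrank_inf_eq A B
  have h2 : finrank F ↥(A ⊔ B) ≤ finrank F V := Submodule.finrank_le _
  omega

/-- a nontrivial `r`-th root of unity (`r` prime) forces `r ≠ 0` in the field -/
theorem natCast_ne_zero_of_root {r : ℕ} (hr : r.Prime) (ζ : F) (hζ1 : ζ ≠ 1) (hζr : ζ ^ r = 1) :
    (r : F) ≠ 0 := by
  have hord : orderOf ζ = r := by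
    haveI : Fact r.Prime := ⟨hr⟩
    exact orderOf_eq_prime hζr hζ1
  have hprim : IsPrimitiveRoot ζ r := hord ▸ IsPrimitiveRoot.orderOf ζ
  haveI : NeZero r := ⟨hr.ne_zero⟩
  exact (hprim.neZero').out

/-- powers of a nontrivial root of unity of prime order -/
theorem pow_ne_one_of_root {r : ℕ} (hr : r.Prime) (ω : F) (hω1 : ω ≠ 1) (hωr : ω ^ r = 1) (k : ℕ)
    (hk0 : 0 < k) (hkr : k < r) : ω ^ k ≠ 1 := by
  intro h
  have hord : orderOf ω = r := by
    haveI : Fact r.Prime := ⟨hr⟩
    exact orderOf_eq_prime hωr hω1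
  have hdvd : r ∣ k := hord ▸ orderOf_dvd_of_pow_eq_one h
  exact absurd (Nat.le_of_dvd hk0 hdvd) (by omega)

/-- decomposition of an invariant subspace along the eigenspaces of an operator with `f ^ r = 1` -/
theorem finrank_le_sum_inf_eigenspace (f : End F V) (r : ℕ) (hr : r.Prime) (ζ : F) (hζ1 : ζ ≠ 1)
    (hζr : ζ ^ r = 1) (hf : f ^ r = 1) (U : Submodule F V) (hU : ∀ v ∈ U, f v ∈ U) :
    finrank F U ≤ ∑ j ∈ Finset.range r, finrank F ↥(U ⊓ f.eigenspace (ζ ^ j)) := by
  classical
  refine le_trans (Submodule.finrank_mono ?_)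
    (finrank_biSup_le (fun j => U ⊓ f.eigenspace (ζ ^ j)) (Finset.range r))
  intro v hv
  have hζ0 : ζ ≠ 0 := by
    intro h0
    rw [h0, zero_pow hr.ne_zero] at hζr
    exact zero_ne_one hζr
  set ω : F := ζ⁻¹ with hω
  have hζω : ζ * ω = 1 := mul_inv_cancel₀ hζ0
  have hωr : ω ^ r = 1 := by rw [hω, inv_pow, hζr, inv_one]
  have hω1 : ω ≠ 1 := by
    intro h
    apply hζ1
    rw [hω] at h
    exact inv_eq_one.mp h
  have hrF : (r : F) ≠ 0 := natCast_ne_zero_of_root hr ζ hζ1 hζr
  -- iterates stay in `U`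
  have hfk : ∀ k : ℕ, (f ^ k) v ∈ U := by
    intro k
    induction k with
    | zero => simpa using hv
    | succ k ih =>
      rw [pow_succ', Module.End.mul_apply]
      exact hU _ ih
  -- the (unnormalised) projections
  let a : ℕ → ℕ → V := fun j k => ω ^ (j * k) • (f ^ k) v
  let P : ℕ → V := fun j => ∑ k ∈ Finset.range r, a j k
  have hPU : ∀ j, P j ∈ U := fun j =>
    Submodule.sum_mem _ (fun k _ => Submodule.smul_mem _ _ (hfk k))
  have hPe : ∀ j, f (P j) = ζ ^ j • P j := by
    intro j
    have h1 : f (P j) = ζ ^ j • ∑ k ∈ Finset.range r, a j (k + 1) := by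
      simp only [P, a, map_sum, Finset.smul_sum]
      apply Finset.sum_congr rfl
      intro k _
      rw [map_smul, smul_smul, pow_succ' f k, Module.End.mul_apply]
      congr 1
      rw [mul_add, mul_one, pow_add, ← mul_assoc, mul_comm (ζ ^ j), mul_assoc, ← mul_pow, hζω, one_pow,
        mul_one]
    have h2 : ∑ k ∈ Finset.range r, a j (k + 1) = ∑ k ∈ Finset.range r, a j k := by
      have e1 := Finset.sum_range_succ' (fun k => a j k) r
      have e2 := Finset.sum_range_succ (fun k => a j k) r
      have e3 : a j r = a j 0 := by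
        simp only [a]
        rw [hf, pow_zero, mul_zero, pow_zero, pow_mul', hωr, one_pow]
      rw [e1, e3] at e2
      exact add_right_cancel e2
    rw [h1, h2]
  have hsum : ∑ j ∈ Finset.range r, P j = (r : F) • v := by
    simp only [P, a]
    rw [Finset.sum_comm]
    have h3 : ∀ k ∈ Finset.range r, ∑ j ∈ Finset.range r, ω ^ (j * k) • (f ^ k) v =
        (∑ j ∈ Finset.range r, (ω ^ k) ^ j) • (f ^ k) v := by
      intro k _
      rw [Finset.sum_smul]
      apply Finset.sum_congr rfl
      intro j _
      rw [← pow_mul, mul_comm]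
    rw [Finset.sum_congr rfl h3]
    rw [Finset.sum_eq_single 0]
    · simp
    · intro k hk hk0
      have hkr : k < r := Finset.mem_range.mp hk
      have hne : ω ^ k ≠ 1 := pow_ne_one_of_root hr ω hω1 hωr k (Nat.pos_of_ne_zero hk0) hkr
      rw [geom_sum_eq hne, ← pow_mul, mul_comm, pow_mul, hωr, one_pow, sub_self, zero_div, zero_smul]
    · intro h0
      exact absurd (Finset.mem_range.mpr hr.pos) h0
  have hv' : v = ∑ j ∈ Finset.range r, ((r : F)⁻¹ • P j) := by
    rw [← Finset.smul_sum, hsum, smul_smul, inv_mul_cancel₀ hrF, one_smul]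
  rw [hv']
  apply Submodule.sum_mem
  intro j hj
  apply Submodule.mem_iSup_of_mem j
  apply Submodule.mem_iSup_of_mem hj
  refine Submodule.mem_inf.mpr ⟨Submodule.smul_mem _ _ (hPU j), ?_⟩
  apply Submodule.smul_mem
  rw [Module.End.mem_eigenspace_iff]
  exact hPe j

end Cfsg.Agent.Lib.Helper40.EigLA
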