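import Mathlib
import Cfsg.Agent.Lib.Helper16.BG1363Defs
import Cfsg.Agent.Lib.Helper55.Basic
import Cfsg.Agent.Lib.Helper13.BG12B
import Cfsg.Agent.Lib.Helper71.BG11a
import Cfsg.Agent.S1350
import Cfsg.Agent.S1418
import Cfsg.Agent.S1420

/-!
# K-1435-P13a (keystone 143518, architect helper31, S1435): `compl_le_of_tau2`.
-/

set_option autoImplicit false

namespace Cfsg.Agent.Lib.Helper40.BG1435

open Cfsg Subgroup Cfsg.Agent.Lib.Helper55 Cfsg.Agent.Lib.Helper11.BG14D Cfsg.Agent.Lib.Helper16.BG1363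

variable {G : Type*} [Group G]

/-- an elementary abelian group of order `p ^ 2` is not cyclic -/
theorem not_isCyclic_of_elemAb_sq {p : ℕ} (hp : p.Prime) {D : Subgroup G} (hel : IsElementaryAbelian p D)
    (hc : Nat.card D = p ^ 2) : ¬ IsCyclic D := by
  intro hcyc
  obtain ⟨g, hg⟩ := IsCyclic.exists_generator (α := D)
  have h1 : orderOf g = Nat.card D := orderOf_eq_card_of_forall_mem_zpowers hg
  have h2 : g ^ p = 1 := by
    apply Subtype.ext
    have := hel.2 g.1 g.2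
    simpa using this
  have h3 : orderOf g ∣ p := orderOf_dvd_of_pow_eq_one h2
  have h4 : p ^ 2 ≤ p := by
    rw [← hc, ← h1]
    exact Nat.le_of_dvd hp.pos h3
  have h5 : p < p ^ 2 := by
    have := hp.one_lt
    nlinarith
  omega

variable [Finite G]

/-- KEYSTONE 143518  K-1435-P13a -/
theorem compl_le_of_tau2 (hG : IsMinSimpleOddOrder G) {M K H Ms E : Subgroup G} (hH : IsCoatom H)
    (pf : PF M K Ms) (hp : (Nat.card K).Prime) (hE : IsComplIn E (sigmaCore H) H) (hKE : K ≤ E)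
    (hτ : Nat.card K ∈ tau2 H) : E ≤ Ms := by
  have : Fact (Nat.card K).Prime := ⟨hp⟩
  have hHall : IsPiHallOf (sigma H) (sigmaCore H) H := (Cfsg.Agent.S1350.result hG H hH).1
  obtain ⟨D, hDE, hDel, hDc⟩ :=
    Cfsg.Agent.Lib.Helper13.BG12.exists_elemAb_sq_le_compl hG hH hHall hτ hE
  obtain ⟨⟨hEN, hXD⟩, -, -⟩ := Cfsg.Agent.S1418.result hG H hH E hE (Nat.card K) hτ D ⟨hDE, hDel, hDc⟩
  have hKD : K ≤ D := hXD K hKE rfl
  have hDcK : D ≤ centralizer (K : Set G) := by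
    intro d hd
    rw [mem_centralizer_iff]
    intro k hk
    have h : (⟨k, hKD hk⟩ : D) * ⟨d, hd⟩ = ⟨d, hd⟩ * ⟨k, hKD hk⟩ := hDel.1.is_comm.comm _ _
    exact congrArg Subtype.val h
  have hDMs : D ≤ Ms := hDcK.trans pf.hCK
  have hpσ : Nat.card K ∈ sigma Ms :=
    Cfsg.Agent.Lib.Helper71.BG11.sigmaCore_pi hG pf.hMs hp (Subgroup.card_dvd_of_le pf.hKMs)
  have hDnc : ¬ IsCyclic D := not_isCyclic_of_elemAb_sq hp hDel hDc
  have hDp : IsPGroup (Nat.card K) D := IsPGroup.of_card hDc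
  have hHallMs : IsPiHallOf (sigma Ms) (sigmaCore Ms) Ms := (Cfsg.Agent.S1350.result hG Ms pf.hMs).1
  obtain ⟨E', hE', -⟩ := Cfsg.Agent.Lib.Helper13.BG12.exists_complIn_ge hG pf.hMs hHallMs
    (K := ⊥) bot_le (by
      intro s hs hsd
      rw [Subgroup.card_bot] at hsd
      exact absurd (Nat.dvd_one.mp hsd) hs.one_lt.ne')
  have h20 := (Cfsg.Agent.S1420.result hG Ms pf.hMs E' hE').2.2.1 (Nat.card K) D hpσ hDp hDMs hDnc
  exact hEN.trans h20

end Cfsg.Agent.Lib.Helper40.BG1435
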