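import Mathlib

/-!
# Definitions for S3894 (no nilpotent minimal cover for `PSL_n(q) ≤ G ≤ PGL_n(q)`)

Everything is phrased on `GL (Fin n) F` and on plain matrices, so that the quotient
`GL (Fin n) F ⧸ center` only enters through the projection `prj`.
-/

set_option autoImplicit false

namespace Cfsg.Agent.Lib.Helper40.NilCov

open Matrix

/-- `PGL_n(F)`, in the shape used by the statement S3894 -/
abbrev PGL (n : ℕ) (F : Type*) [Field F] := GL (Fin n) F ⧸ Subgroup.center (GL (Fin n) F)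

/-- the projection `GL_n(F) → PGL_n(F)` -/
abbrev prj (n : ℕ) (F : Type*) [Field F] : GL (Fin n) F →* PGL n F :=
  QuotientGroup.mk' (Subgroup.center (GL (Fin n) F))

variable {n : ℕ} {F : Type*} [Field F]

/-- the matrix `g` maps the column vector `v` into the line `F v` -/
def FixesLine (g : Matrix (Fin n) (Fin n) F) (v : Fin n → F) : Prop := ∃ c : F, g *ᵥ v = c • v

/-- the matrix `g` maps the row vector `φ` into the line `F φ` -/
def FixesRow (g : Matrix (Fin n) (Fin n) F) (φ : Fin n → F) : Prop := ∃ c : F, φ ᵥ* g = c • φ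

/-- `g` has an eigenvector over `F` -/
def HasEig (g : Matrix (Fin n) (Fin n) F) : Prop := ∃ v : Fin n → F, v ≠ 0 ∧ FixesLine g v

/-- the nilpotent shift matrix: `shift e_j = e_{j-1}`, `shift e_0 = 0` -/
def shift (n : ℕ) (F : Type*) [Field F] : Matrix (Fin n) (Fin n) F :=
  Matrix.of fun i j => if (i : ℕ) + 1 = (j : ℕ) then 1 else 0

/-- the stabiliser in `GL_n(F)` of the line `F v` -/
def stabLine (v : Fin n → F) : Subgroup (GL (Fin n) F) where
  carrier := {g | FixesLine (g : Matrix (Fin n) (Fin n) F) v}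
  one_mem' := ⟨1, by simp⟩
  mul_mem' := by
    rintro g h ⟨c, hc⟩ ⟨d, hd⟩
    refine ⟨d * c, ?_⟩
    show ((g * h : GL (Fin n) F) : Matrix (Fin n) (Fin n) F) *ᵥ v = (d * c) • v
    rw [Matrix.GeneralLinearGroup.coe_mul, ← Matrix.mulVec_mulVec, hd, Matrix.mulVec_smul, hc,
      smul_smul]
  inv_mem' := by
    rintro g ⟨c, hc⟩
    have h1 : ((g⁻¹ : GL (Fin n) F) : Matrix (Fin n) (Fin n) F) *ᵥ
        ((g : Matrix (Fin n) (Fin n) F) *ᵥ v) = v := by
      rw [Matrix.mulVec_mulVec, ← Matrix.GeneralLinearGroup.coe_mul, inv_mul_cancel]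
      simp
    rw [hc, Matrix.mulVec_smul] at h1
    by_cases h0 : c = 0
    · refine ⟨0, ?_⟩
      have hv : v = 0 := by rw [← h1, h0, zero_smul]
      rw [hv]; simp
    · refine ⟨c⁻¹, ?_⟩
      show ((g⁻¹ : GL (Fin n) F) : Matrix (Fin n) (Fin n) F) *ᵥ v = c⁻¹ • v
      calc ((g⁻¹ : GL (Fin n) F) : Matrix (Fin n) (Fin n) F) *ᵥ v
          = c⁻¹ • (c • (((g⁻¹ : GL (Fin n) F) : Matrix (Fin n) (Fin n) F) *ᵥ v)) := by
            rw [smul_smul, inv_mul_cancel₀ h0, one_smul]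
        _ = c⁻¹ • v := by rw [h1]

theorem mem_stabLine {v : Fin n → F} {g : GL (Fin n) F} :
    g ∈ stabLine v ↔ FixesLine (g : Matrix (Fin n) (Fin n) F) v := Iff.rfl

/-- the "points": the line stabilisers in `GL_n(F)` -/
def Pts (n : ℕ) (F : Type*) [Field F] : Set (Subgroup (GL (Fin n) F)) :=
  {S | ∃ v : Fin n → F, v ≠ 0 ∧ S = stabLine v}

/-! ### `n = 2`: the nonsplit tori -/

/-- a `2 × 2` matrix without eigenvector over `F` -/
def IsIrr (g : Matrix (Fin 2) (Fin 2) F) : Prop :=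
  ∀ v : Fin 2 → F, v ≠ 0 → ∀ c : F, g *ᵥ v ≠ c • v

/-- the subalgebra `F[g] = F + F g` of `M_2(F)`, as a set -/
def Kset (g : Matrix (Fin 2) (Fin 2) F) : Set (Matrix (Fin 2) (Fin 2) F) :=
  {x | ∃ a b : F, x = a • (1 : Matrix (Fin 2) (Fin 2) F) + b • g}

/-- the elements of `GL_2(F)` normalising the set `K` of matrices -/
def normK (K : Set (Matrix (Fin 2) (Fin 2) F)) : Subgroup (GL (Fin 2) F) where
  carrier := {h | ∀ x : Matrix (Fin 2) (Fin 2) F,
    x ∈ K ↔ (h : Matrix (Fin 2) (Fin 2) F) * x * ((h⁻¹ : GL (Fin 2) F) : Matrix (Fin 2) (Fin 2) F) ∈ K}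
  one_mem' := by intro x; simp
  mul_mem' := by
    intro g h hg hh x
    have e : ((g * h : GL (Fin 2) F) : Matrix (Fin 2) (Fin 2) F) * x *
        (((g * h)⁻¹ : GL (Fin 2) F) : Matrix (Fin 2) (Fin 2) F) =
        (g : Matrix (Fin 2) (Fin 2) F) * ((h : Matrix (Fin 2) (Fin 2) F) * x *
          ((h⁻¹ : GL (Fin 2) F) : Matrix (Fin 2) (Fin 2) F)) *
          ((g⁻¹ : GL (Fin 2) F) : Matrix (Fin 2) (Fin 2) F) := by
      rw [_root_.mul_inv_rev, Matrix.GeneralLinearGroup.coe_mul, Matrix.GeneralLinearGroup.coe_mul]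
      simp only [Matrix.mul_assoc]
    show x ∈ K ↔ _ ∈ K
    rw [e, ← hg _, ← hh x]
  inv_mem' := by
    intro g hg x
    have e : (g : Matrix (Fin 2) (Fin 2) F) *
        (((g⁻¹ : GL (Fin 2) F) : Matrix (Fin 2) (Fin 2) F) * x *
          (((g⁻¹)⁻¹ : GL (Fin 2) F) : Matrix (Fin 2) (Fin 2) F)) *
          ((g⁻¹ : GL (Fin 2) F) : Matrix (Fin 2) (Fin 2) F) = x := by
      rw [inv_inv]
      have h1 : (g : Matrix (Fin 2) (Fin 2) F) * ((g⁻¹ : GL (Fin 2) F) : Matrix (Fin 2) (Fin 2) F) = 1 := by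
        rw [← Matrix.GeneralLinearGroup.coe_mul, mul_inv_cancel]; rfl
      calc (g : Matrix (Fin 2) (Fin 2) F) *
        (((g⁻¹ : GL (Fin 2) F) : Matrix (Fin 2) (Fin 2) F) * x * (g : Matrix (Fin 2) (Fin 2) F)) *
          ((g⁻¹ : GL (Fin 2) F) : Matrix (Fin 2) (Fin 2) F)
          = ((g : Matrix (Fin 2) (Fin 2) F) * ((g⁻¹ : GL (Fin 2) F) : Matrix (Fin 2) (Fin 2) F)) * x *
            ((g : Matrix (Fin 2) (Fin 2) F) * ((g⁻¹ : GL (Fin 2) F) : Matrix (Fin 2) (Fin 2) F)) := by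
            simp only [Matrix.mul_assoc]
        _ = x := by rw [h1]; simp
    show x ∈ K ↔ _ ∈ K
    have := hg (((g⁻¹ : GL (Fin 2) F) : Matrix (Fin 2) (Fin 2) F) * x *
          (((g⁻¹)⁻¹ : GL (Fin 2) F) : Matrix (Fin 2) (Fin 2) F))
    rw [e] at this
    exact this.symm

theorem mem_normK {K : Set (Matrix (Fin 2) (Fin 2) F)} {h : GL (Fin 2) F} :
    h ∈ normK K ↔ ∀ x : Matrix (Fin 2) (Fin 2) F,
      x ∈ K ↔ (h : Matrix (Fin 2) (Fin 2) F) * x *
        ((h⁻¹ : GL (Fin 2) F) : Matrix (Fin 2) (Fin 2) F) ∈ K := Iff.rfl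

/-- the "nonsplit tori": normalisers of the fields `F[g]`, `g` without eigenvector -/
def Tori (F : Type*) [Field F] : Set (Subgroup (GL (Fin 2) F)) :=
  {S | ∃ g : Matrix (Fin 2) (Fin 2) F, IsIrr g ∧ S = normK (Kset g)}

end Cfsg.Agent.Lib.Helper40.NilCov
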