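import Mathlib
import Cfsg.Agent.S3335

/-!
# K-S2037-B: a central extension of an alternating group by a group of order `≤ 2` in which
lifts of elements of order `≤ 2` have order `≤ 2` splits (via the Carmichael presentation S3335).
-/

set_option autoImplicit false

namespace Cfsg.Agent.Lib.Helper40.SchurTwo

/-- the Carmichael relators, exactly as in S3335 -/
abbrev carmRels (n : ℕ) : Set (FreeGroup (Fin (n - 2))) :=
  {g : FreeGroup (Fin (n - 2)) | ∃ i : Fin (n - 2), i.val = 0 ∧ g = FreeGroup.of i ^ 3} ∪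
   {g | ∃ i : Fin (n - 2), 1 ≤ i.val ∧ g = FreeGroup.of i ^ 2} ∪
   {g | ∃ i j : Fin (n - 2), j.val = i.val + 1 ∧ g = (FreeGroup.of i * FreeGroup.of j) ^ 3} ∪
   {g | ∃ i j : Fin (n - 2), i.val + 1 < j.val ∧ g = (FreeGroup.of i * FreeGroup.of j) ^ 2}

theorem cube_fix {E Q : Type*} [Group E] [Group Q] (ρ : E →* Q) (z : E)
    (hz2 : z * z = 1) (hzc : ∀ x : E, x * z = z * x)
    (hker : ∀ x : E, ρ x = 1 → x = 1 ∨ x = z) (x : E) (hx : ρ (x ^ 3) = 1) :
    ∃ ε : E, ρ ε = 1 ∧ (x * ε) ^ 3 = 1 := by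
  rcases hker _ hx with h | h
  · exact ⟨1, map_one ρ, by rw [mul_one, h]⟩
  · refine ⟨z, by rw [← h]; exact hx, ?_⟩
    have hc : Commute x z := hzc x
    rw [hc.mul_pow, h]
    have : z * z ^ 3 = (z * z) * (z * z) := by
      rw [pow_succ, pow_two, mul_assoc, mul_assoc]
    rw [this, hz2, mul_one]

/-- **K-S2037-B.** -/
theorem split_alt (n : ℕ) (hn : 3 ≤ n) {E Q : Type*} [Group E] [Group Q] (ρ : E →* Q)
    (hρ : Function.Surjective ρ) (e : Q ≃* alternatingGroup (Fin n)) (z : E)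
    (hz2 : z * z = 1) (hzc : ∀ x : E, x * z = z * x)
    (hker : ∀ x : E, ρ x = 1 → x = 1 ∨ x = z)
    (hsq : ∀ x : E, ρ x * ρ x = 1 → x * x = 1) :
    ∃ s : Q →* E, ∀ q : Q, ρ (s q) = q := by
  classical
  have hψ : Nonempty (PresentedGroup (carmRels n) ≃* alternatingGroup (Fin n)) :=
    Cfsg.Agent.S3335.result n hn
  obtain ⟨ψ⟩ := hψ
  have hm : 0 < n - 2 := by omega
  let Φ : PresentedGroup (carmRels n) →* Q := e.symm.toMonoidHom.comp ψ.toMonoidHom
  have hΦ : ∀ x, Φ x = e.symm (ψ x) := fun _ => rfl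
  let g : Fin (n - 2) → Q := fun i => Φ (PresentedGroup.of i)
  have hrelQ : ∀ r ∈ carmRels n, Φ (PresentedGroup.mk (carmRels n) r) = 1 := by
    intro r hr
    rw [PresentedGroup.one_of_mem hr, map_one]
  have hof : ∀ i : Fin (n - 2), PresentedGroup.mk (carmRels n) (FreeGroup.of i) =
      PresentedGroup.of i := fun _ => rfl
  have hg3 : ∀ i : Fin (n - 2), i.val = 0 → g i ^ 3 = 1 := by
    intro i hi
    have h1 := hrelQ (FreeGroup.of i ^ 3)
      (Or.inl (Or.inl (Or.inl ⟨i, hi, rfl⟩)))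
    rwa [map_pow, map_pow, hof] at h1
  have hg2 : ∀ i : Fin (n - 2), 1 ≤ i.val → g i ^ 2 = 1 := by
    intro i hi
    have h1 := hrelQ (FreeGroup.of i ^ 2)
      (Or.inl (Or.inl (Or.inr ⟨i, hi, rfl⟩)))
    rwa [map_pow, map_pow, hof] at h1
  have hgc : ∀ i j : Fin (n - 2), j.val = i.val + 1 → (g i * g j) ^ 3 = 1 := by
    intro i j hij
    have h1 := hrelQ ((FreeGroup.of i * FreeGroup.of j) ^ 3)
      (Or.inl (Or.inr ⟨i, j, hij, rfl⟩))
    rwa [map_pow, map_pow, map_mul, map_mul, hof, hof] at h1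
  have hgd : ∀ i j : Fin (n - 2), i.val + 1 < j.val → (g i * g j) ^ 2 = 1 := by
    intro i j hij
    have h1 := hrelQ ((FreeGroup.of i * FreeGroup.of j) ^ 2)
      (Or.inr ⟨i, j, hij, rfl⟩)
    rwa [map_pow, map_pow, map_mul, map_mul, hof, hof] at h1
  -- ℕ-indexed generators
  let G' : ℕ → Q := fun i => if h : i < n - 2 then g ⟨i, h⟩ else 1
  have hG' : ∀ (i : ℕ) (h : i < n - 2), G' i = g ⟨i, h⟩ := fun i h => dif_pos h
  -- the first lift
  have hx0 : ∃ x0 : E, ρ x0 = G' 0 ∧ x0 ^ 3 = 1 := by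
    obtain ⟨y0, hy0⟩ := hρ (G' 0)
    have h1 : ρ (y0 ^ 3) = 1 := by
      rw [map_pow, hy0, hG' 0 hm]
      exact hg3 ⟨0, hm⟩ rfl
    obtain ⟨ε, hε1, hε2⟩ := cube_fix ρ z hz2 hzc hker y0 h1
    exact ⟨y0 * ε, by rw [map_mul, hε1, mul_one, hy0], hε2⟩
  obtain ⟨x0, hx0ρ, hx03⟩ := hx0
  have hstep : ∀ (i : ℕ) (prev : E), ∃ y : E, ρ y = G' (i + 1) ∧
      (ρ prev = G' i → i + 1 < n - 2 → (prev * y) ^ 3 = 1) := by
    intro i prev
    obtain ⟨y0, hy0⟩ := hρ (G' (i + 1))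
    by_cases hcond : ρ prev = G' i ∧ i + 1 < n - 2
    · obtain ⟨hp, hi⟩ := hcond
      have hi' : i < n - 2 := by omega
      have h1 : ρ ((prev * y0) ^ 3) = 1 := by
        rw [map_pow, map_mul, hy0, hp, hG' i hi', hG' (i + 1) hi]
        exact hgc ⟨i, hi'⟩ ⟨i + 1, hi⟩ rfl
      obtain ⟨ε, hε1, hε2⟩ := cube_fix ρ z hz2 hzc hker (prev * y0) h1
      refine ⟨y0 * ε, by rw [map_mul, hε1, mul_one, hy0], fun _ _ => ?_⟩
      rw [← mul_assoc]
      exact hε2
    · exact ⟨y0, hy0, fun h1 h2 => absurd ⟨h1, h2⟩ hcond⟩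
  let L : ℕ → E := fun i => Nat.rec x0 (fun i prev => Classical.choose (hstep i prev)) i
  have hL0 : L 0 = x0 := rfl
  have hLs : ∀ i, L (i + 1) = Classical.choose (hstep i (L i)) := fun _ => rfl
  have hLρ : ∀ i, ρ (L i) = G' i := by
    intro i
    induction i with
    | zero => rw [hL0, hx0ρ]
    | succ i _ =>
      rw [hLs]
      exact (Classical.choose_spec (hstep i (L i))).1
  have hLc : ∀ i, i + 1 < n - 2 → (L i * L (i + 1)) ^ 3 = 1 := by
    intro i hi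
    rw [hLs]
    exact (Classical.choose_spec (hstep i (L i))).2 (hLρ i) hi
  let f : Fin (n - 2) → E := fun i => L i.val
  have hρf : ∀ i : Fin (n - 2), ρ (f i) = g i := by
    intro i
    show ρ (L i.val) = g i
    rw [hLρ, hG' i.val i.2]
  have hrel : ∀ r ∈ carmRels n, FreeGroup.lift f r = 1 := by
    intro r hr
    rcases hr with ((⟨i, hi, rfl⟩ | ⟨i, hi, rfl⟩) | ⟨i, j, hij, rfl⟩) | ⟨i, j, hij, rfl⟩
    · rw [map_pow, FreeGroup.lift_apply_of]
      show L i.val ^ 3 = 1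
      rw [hi, hL0, hx03]
    · rw [map_pow, FreeGroup.lift_apply_of, pow_two]
      apply hsq
      rw [hρf, ← pow_two]
      exact hg2 i hi
    · rw [map_pow, map_mul, FreeGroup.lift_apply_of, FreeGroup.lift_apply_of]
      show (L i.val * L j.val) ^ 3 = 1
      rw [hij]
      apply hLc
      have := j.2
      omega
    · rw [map_pow, map_mul, FreeGroup.lift_apply_of, FreeGroup.lift_apply_of, pow_two]
      apply hsq
      rw [map_mul, hρf, hρf, ← pow_two]
      exact hgd i j hij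
  let s0 : PresentedGroup (carmRels n) →* E := PresentedGroup.toGroup hrel
  have key : ρ.comp s0 = Φ := by
    apply PresentedGroup.ext
    intro i
    show ρ (PresentedGroup.toGroup hrel (PresentedGroup.of i)) = g i
    rw [PresentedGroup.toGroup.of]
    exact hρf i
  refine ⟨s0.comp (ψ.symm.toMonoidHom.comp e.toMonoidHom), fun q => ?_⟩
  have h1 : ρ ((s0.comp (ψ.symm.toMonoidHom.comp e.toMonoidHom)) q) =
      (ρ.comp s0) (ψ.symm (e q)) := rfl
  rw [h1, key, hΦ, MulEquiv.apply_symm_apply, MulEquiv.symm_apply_apply]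

end Cfsg.Agent.Lib.Helper40.SchurTwo
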