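import Cfsg.Agent.Lib.Helper40.OMb6
import Cfsg.Agent.Lib.Helper50.TypeCriteria
import Cfsg.Agent.Lib.Helper50.MinusLang

/-!
# K-OMb pack (S5991, architect helper32), leaf 599106 K-OMb-6 (helper40): `case_fix_minus`, exact spec signature.
Also a proof of the LEAF 1 statement `not_plus_QMinus` (named `omb6_not_plus_QMinus` here).
-/

set_option autoImplicit false

namespace Cfsg.Agent.Lib.Helper40.OMb

open Module Cfsg.Agent.Lib.Helper98.Elus Cfsg.Agent.Lib.Helper98.Sy Cfsg.Agent.Lib.Helper98.Oh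
  Cfsg.Agent.Lib.Helper69.OPb
open scoped MatrixGroups

universe u
variable {F : Type u} [Field F]

/-- the elliptic form is not of plus type (statement of LEAF 1 `not_plus_QMinus`) -/
theorem omb6_not_plus_QMinus [Fintype F] (h2 : (2 : F) ≠ 0) (d : ℕ) (hd : 1 ≤ d) (a b : F)
    (hab : ∀ x y : F, x ^ 2 + a * x * y + b * y ^ 2 = 0 → x = 0 ∧ y = 0) :
    ¬ Plus (QuadraticMap.polarBilin (Cfsg.Agent.Lib.Helper50.QMinus (d - 1) F a b)) ⊤ := by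
  rintro ⟨X, -, hX, hXd⟩
  have hfr := omb6_finrank (F := F) d hd
  rw [finrank_top, hfr] at hXd
  have hXd' : finrank F X = d := by omega
  have hX0 : ∀ x ∈ X, Cfsg.Agent.Lib.Helper50.QMinus (d - 1) F a b x = 0 := by
    intro x hx
    have h := hX x hx
    rw [QuadraticMap.polarBilin_apply_apply, QuadraticMap.polar_self, two_nsmul, ← two_mul] at h
    rcases mul_eq_zero.mp h with h | h
    · exact absurd h h2
    · exact h
  have hplus := Cfsg.Agent.Lib.Helper50.plusType_of_totally_singular d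
    (Cfsg.Agent.Lib.Helper50.QMinus (d - 1) F a b)
    (Cfsg.Agent.Lib.Helper50.QND_of_nondegenerate _
      (Cfsg.Agent.Lib.Helper50.QMinus_nondeg_of_anis (d - 1) a b hab)) hfr X (le_of_eq hXd'.symm) hX0
  have hd' : d = (d - 1) + 1 := by omega
  rw [hd'] at hplus
  exact Cfsg.Agent.Lib.Helper50.not_plus_of_anis (a := a) (b := b)
    (Cfsg.Agent.Lib.Helper50.QMinus (d - 1) F a b) (d - 1)
    (LinearEquiv.refl F _) (fun v => rfl) hab hplus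

/-- LEAF 6 -/
theorem case_fix_minus [Fintype F] {p : ℕ} [Fact p.Prime] [CharP F p] (hodd : Odd (Fintype.card F))
    (d m : ℕ) (hd : 1 ≤ d) (hm : Odd m) (hmd : m < d) (a b : F) (hab : ∀ x y : F, x ^ 2 + a * x * y + b * y ^ 2 = 0 → x = 0 ∧ y = 0)
    (W₀ : Submodule F (((Fin (d - 1) ⊕ Fin (d - 1)) ⊕ Fin 2) → F))
    (hW₀ : Module.finrank F ↥W₀ = m ∧ Cfsg.Geo.IsNondegenerateOn (QuadraticMap.polar (Cfsg.quadFormMinus (d - 1) F a b)) W₀)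
    (r : ℕ) [Fact r.Prime] (hrp : r ≠ p) (hr2 : 2 < r)
    (hcond : m % cOf (orderOf ((Fintype.card F : ℕ) : ZMod r)) <
        (2 * d) % cOf (orderOf ((Fintype.card F : ℕ) : ZMod r)) ∨
      ((2 * d) % cOf (orderOf ((Fintype.card F : ℕ) : ZMod r)) = 0 ∧
        (Odd (orderOf ((Fintype.card F : ℕ) : ZMod r)) ∨
          Even ((2 * d) / cOf (orderOf ((Fintype.card F : ℕ) : ZMod r))))))
    (x : GL ((Fin (d - 1) ⊕ Fin (d - 1)) ⊕ Fin 2) F) (hxΩ : x ∈ Cfsg.Geo.omegaGL (Cfsg.quadFormMinus (d - 1) F a b))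
    (hxr : ∃ z : F, ((x ^ r : GL ((Fin (d - 1) ⊕ Fin (d - 1)) ⊕ Fin 2) F) : Matrix ((Fin (d - 1) ⊕ Fin (d - 1)) ⊕ Fin 2) ((Fin (d - 1) ⊕ Fin (d - 1)) ⊕ Fin 2) F) = z • (1 : Matrix ((Fin (d - 1) ⊕ Fin (d - 1)) ⊕ Fin 2) ((Fin (d - 1) ⊕ Fin (d - 1)) ⊕ Fin 2) F))
    (hxns : ∀ z : F, (x : Matrix ((Fin (d - 1) ⊕ Fin (d - 1)) ⊕ Fin 2) ((Fin (d - 1) ⊕ Fin (d - 1)) ⊕ Fin 2) F) ≠ z • (1 : Matrix ((Fin (d - 1) ⊕ Fin (d - 1)) ⊕ Fin 2) ((Fin (d - 1) ⊕ Fin (d - 1)) ⊕ Fin 2) F)) :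
    ∃ W : Submodule F (((Fin (d - 1) ⊕ Fin (d - 1)) ⊕ Fin 2) → F), (Module.finrank F ↥W = m ∧ Cfsg.Geo.IsNondegenerateOn (QuadraticMap.polar (Cfsg.quadFormMinus (d - 1) F a b)) W ∧ Cfsg.Geo.AreIsometricFor (Cfsg.quadFormMinus (d - 1) F a b) W W₀) ∧ W.map (Matrix.toLin' (x : Matrix ((Fin (d - 1) ⊕ Fin (d - 1)) ⊕ Fin 2) ((Fin (d - 1) ⊕ Fin (d - 1)) ⊕ Fin 2) F)) ≤ W :=
  case_fix_minus_of hodd d m hd hm hmd a b hab (fun h2 => omb6_not_plus_QMinus h2 d hd a b hab)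
    W₀ hW₀ r hrp hr2 hcond x hxΩ hxr hxns

end Cfsg.Agent.Lib.Helper40.OMb
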