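import Mathlib
import Cfsg.Agent.S0572
import Cfsg.Agent.Lib.Helper13.KWGeneralB

/-!
# Products of an abelian group and a group of class two (Scott 13.3.4 type bound)

`G = A B`, `A` abelian, `B` of class at most two, `Ω` the number of prime factors of `|B'|`:
the derived series of `G` reaches `1` after `2 (1 + Ω)` steps.
-/

set_option autoImplicit false
open scoped commutatorElement

namespace Cfsg.Agent.Lib.Helper40.AbClassTwo

universe u

section general
variable {G : Type u} [Group G]

/-- shifting the derived series into a subgroup -/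
lemma ds_add_le (H : Subgroup G) (m : ℕ) (h : derivedSeries G m ≤ H) (k : ℕ) :
    derivedSeries G (m + k) ≤ (derivedSeries H k).map H.subtype := by
  induction k with
  | zero =>
    simp only [Nat.add_zero, derivedSeries_zero]
    rw [← MonoidHom.range_eq_map, Subgroup.range_subtype]
    exact h
  | succ k ih =>
    rw [← Nat.add_assoc, derivedSeries_succ, derivedSeries_succ, Subgroup.map_commutator]
    exact Subgroup.commutator_mono ih ih

/-- elementwise commutativity of a subgroup -/
def ElemComm (A : Subgroup G) : Prop := ∀ x ∈ A, ∀ y ∈ A, x * y = y * x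

/-- elementwise "class at most two" -/
def ClassTwo (B : Subgroup G) : Prop :=
  ∀ x ∈ B, ∀ y ∈ B, ∀ z ∈ B, ⁅x, y⁆ * z = z * ⁅x, y⁆

/-- The abstract core: in a metabelian group `Q = Ā ⊔ [B̄,B̄]` with `Ā` abelian and `B̄` of class two,
`B̄` is abelian. -/
theorem abstract_core (A B : Subgroup G) (hA : ElemComm A) (hB : ClassTwo B)
    (hgen : A ⊔ ⁅B, B⁆ = ⊤)
    (hmet : ∀ u ∈ commutator G, ∀ v ∈ commutator G, u * v = v * u) :
    ∀ x ∈ B, ∀ y ∈ B, x * y = y * x := by
  classical
  set C : Subgroup G := commutator G with hC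
  have hCn : C.Normal := by rw [hC]; infer_instance
  have hBC : ⁅B, B⁆ ≤ C := by
    rw [hC, commutator_def]; exact Subgroup.commutator_mono le_top le_top
  -- decomposition of every element
  have hdec : ∀ g : G, ∃ a ∈ A, ∃ m ∈ C, g = a * m := by
    intro g
    have hg : g ∈ A ⊔ C := by
      have : A ⊔ ⁅B, B⁆ ≤ A ⊔ C := sup_le_sup_left hBC A
      exact this (hgen ▸ Subgroup.mem_top g)
    have h2 : g ∈ ((A ⊔ C : Subgroup G) : Set G) := hg
    rw [Subgroup.mul_normal A C] at h2
    obtain ⟨a, ha, m, hm, hE⟩ := Set.mem_mul.mp h2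
    exact ⟨a, ha, m, hm, hE.symm⟩
  -- the generating set of the derived subgroup of B
  set S : Set G := {g | ∃ g₁ ∈ B, ∃ g₂ ∈ B, ⁅g₁, g₂⁆ = g} with hS
  have hSC : S ⊆ C := by
    rintro g ⟨g₁, -, g₂, -, rfl⟩
    rw [hC, commutator_def]
    exact Subgroup.commutator_mem_commutator (Subgroup.mem_top _) (Subgroup.mem_top _)
  set M : Subgroup G := Subgroup.normalClosure S with hM
  have hBM : ⁅B, B⁆ ≤ M := by
    rw [Subgroup.commutator_def]
    exact (Subgroup.closure_le _).mpr Subgroup.subset_normalClosure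
  -- (i) C ≤ M
  have hCM : C ≤ M := by
    have hdecM : ∀ g : G, ∃ a ∈ A, ∃ m ∈ M, g = a * m := by
      intro g
      have hg : g ∈ A ⊔ M := by
        have : A ⊔ ⁅B, B⁆ ≤ A ⊔ M := sup_le_sup_left hBM A
        exact this (hgen ▸ Subgroup.mem_top g)
      have h2 : g ∈ ((A ⊔ M : Subgroup G) : Set G) := hg
      rw [Subgroup.mul_normal A M] at h2
      obtain ⟨a, ha, m, hm, hE⟩ := Set.mem_mul.mp h2
      exact ⟨a, ha, m, hm, hE.symm⟩
    rw [hC, commutator_def, Subgroup.commutator_le]
    intro k₁ _ k₂ _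
    obtain ⟨a₁, ha₁, m₁, hm₁, rfl⟩ := hdecM k₁
    obtain ⟨a₂, ha₂, m₂, hm₂, rfl⟩ := hdecM k₂
    rw [← QuotientGroup.eq_one_iff (N := M), commutatorElement_def]
    have e1 : ((m₁ : G) : G ⧸ M) = 1 := (QuotientGroup.eq_one_iff _).mpr hm₁
    have e2 : ((m₂ : G) : G ⧸ M) = 1 := (QuotientGroup.eq_one_iff _).mpr hm₂
    simp only [QuotientGroup.mk_mul, QuotientGroup.mk_inv, e1, e2, mul_one]
    have hc : ((a₁ * a₂ : G) : G ⧸ M) = ((a₂ * a₁ : G) : G ⧸ M) := by rw [hA a₁ ha₁ a₂ ha₂]
    simp only [QuotientGroup.mk_mul] at hc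
    rw [hc]; group
  -- (ii) every element of B centralizes M
  have hcent : ∀ b ∈ B, ∀ m ∈ M, b * m = m * b := by
    intro b hb
    have hle : M ≤ Subgroup.centralizer ({b} : Set G) := by
      rw [hM, Subgroup.normalClosure]
      refine (Subgroup.closure_le _).mpr ?_
      intro x hx
      obtain ⟨c, hc, hconj⟩ := Group.mem_conjugatesOfSet_iff.mp hx
      obtain ⟨k, hk⟩ := isConj_iff.mp hconj
      subst hk
      have hcC : c ∈ C := hSC hc
      have hcb : c * b = b * c := by
        obtain ⟨g₁, hg₁, g₂, hg₂, rfl⟩ := hc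
        exact hB g₁ hg₁ g₂ hg₂ b hb
      set u : G := ⁅k⁻¹, b⁆ with hu
      have huC : u ∈ C := by
        rw [hu, hC, commutator_def]
        exact Subgroup.commutator_mem_commutator (Subgroup.mem_top _) (Subgroup.mem_top _)
      have huc : u * c = c * u := hmet u huC c hcC
      have e1 : b * k = k * u * b := by rw [hu, commutatorElement_def]; group
      have e2 : u * b * k⁻¹ = k⁻¹ * b := by rw [hu, commutatorElement_def]; group
      rw [SetLike.mem_coe, Subgroup.mem_centralizer_iff]
      intro y hy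
      rw [Set.mem_singleton_iff] at hy
      subst hy
      calc y * (k * c * k⁻¹) = (y * k) * c * k⁻¹ := by group
        _ = k * u * y * c * k⁻¹ := by rw [e1]
        _ = k * u * (c * y) * k⁻¹ := by rw [hcb]; group
        _ = k * (u * c) * y * k⁻¹ := by group
        _ = k * (c * u) * y * k⁻¹ := by rw [huc]
        _ = k * c * (u * y * k⁻¹) := by group
        _ = k * c * (k⁻¹ * y) := by rw [e2]
        _ = k * c * k⁻¹ * y := by group
    intro m hm
    have := hle hm
    rw [Subgroup.mem_centralizer_iff] at this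
    exact this b (Set.mem_singleton b)
  -- (iii) hence B centralizes C
  have hcentC : ∀ b ∈ B, ∀ m ∈ C, b * m = m * b := fun b hb m hm => hcent b hb m (hCM hm)
  -- (iv) B is abelian
  intro x hx y hy
  obtain ⟨a₁, ha₁, m₁, hm₁, hx'⟩ := hdec x
  obtain ⟨a₂, ha₂, m₂, hm₂, hy'⟩ := hdec y
  have ha₁c : ∀ m ∈ C, a₁ * m = m * a₁ := by
    intro m hm
    have h1 : a₁ = x * m₁⁻¹ := by rw [hx']; group
    have h2 := hcentC x hx m hm
    have h3 := hmet m₁⁻¹ (C.inv_mem hm₁) m hm
    calc a₁ * m = x * (m₁⁻¹ * m) := by rw [h1]; group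
      _ = x * (m * m₁⁻¹) := by rw [h3]
      _ = (x * m) * m₁⁻¹ := by group
      _ = m * x * m₁⁻¹ := by rw [h2]
      _ = m * a₁ := by rw [h1]; group
  have ha₂c : ∀ m ∈ C, a₂ * m = m * a₂ := by
    intro m hm
    have h1 : a₂ = y * m₂⁻¹ := by rw [hy']; group
    have h2 := hcentC y hy m hm
    have h3 := hmet m₂⁻¹ (C.inv_mem hm₂) m hm
    calc a₂ * m = y * (m₂⁻¹ * m) := by rw [h1]; group
      _ = y * (m * m₂⁻¹) := by rw [h3]
      _ = (y * m) * m₂⁻¹ := by group
      _ = m * y * m₂⁻¹ := by rw [h2]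
      _ = m * a₂ := by rw [h1]; group
  have h12 := hA a₁ ha₁ a₂ ha₂
  have hm12 := hmet m₁ hm₁ m₂ hm₂
  rw [hx', hy']
  calc a₁ * m₁ * (a₂ * m₂) = a₁ * (m₁ * a₂) * m₂ := by group
    _ = a₁ * (a₂ * m₁) * m₂ := by rw [ha₂c m₁ hm₁]
    _ = (a₁ * a₂) * (m₁ * m₂) := by group
    _ = (a₂ * a₁) * (m₂ * m₁) := by rw [h12, hm12]
    _ = a₂ * (a₁ * m₂) * m₁ := by group
    _ = a₂ * (m₂ * a₁) * m₁ := by rw [ha₁c m₂ hm₂]
    _ = a₂ * m₂ * (a₁ * m₁) := by group

lemma nilpotent_of_elemComm (A : Subgroup G) (hA : ElemComm A) : Group.IsNilpotent A := by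
  refine ⟨⟨1, ?_⟩⟩
  rw [Subgroup.upperCentralSeries_one, Subgroup.eq_top_iff']
  intro x
  rw [Subgroup.mem_center_iff]
  intro g
  exact Subtype.ext (hA g g.2 x x.2)

lemma nilpotent_of_classTwo (B : Subgroup G) (hB : ClassTwo B) : Group.IsNilpotent B := by
  refine ⟨⟨2, ?_⟩⟩
  rw [Subgroup.eq_top_iff']
  intro x
  rw [Subgroup.mem_upperCentralSeries_succ_iff]
  intro y
  rw [Subgroup.upperCentralSeries_one, Subgroup.mem_center_iff]
  intro g
  apply Subtype.ext
  have := hB x x.2 y y.2 g g.2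
  simpa [commutatorElement_def] using this.symm

/-- If `G = A B = ⟨A, B'⟩` with `A` abelian and `B` of class two (finite), then `B' = 1`. -/
theorem key [Finite G] (A B : Subgroup G) (hA : ElemComm A) (hB : ClassTwo B)
    (hAB : ∀ g : G, ∃ a ∈ A, ∃ b ∈ B, g = a * b) (hgen : A ⊔ ⁅B, B⁆ = ⊤) : ⁅B, B⁆ = ⊥ := by
  classical
  have hsolv : Group.IsSolvable G :=
    Cfsg.Agent.Lib.Helper13.kw_solvable A B
      ⟨nilpotent_of_elemComm A hA, nilpotent_of_classTwo B hB, hAB⟩
  set K2 : Subgroup G := derivedSeries G 2 with hK2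
  set π : G →* G ⧸ K2 := QuotientGroup.mk' K2 with hπ
  have hπs : Function.Surjective π := QuotientGroup.mk'_surjective K2
  -- hypotheses of the abstract core in the quotient
  have hA' : ElemComm (A.map π) := by
    rintro _ ⟨x, hx, rfl⟩ _ ⟨y, hy, rfl⟩
    rw [← map_mul, ← map_mul, hA x hx y hy]
  have hB' : ClassTwo (B.map π) := by
    rintro _ ⟨x, hx, rfl⟩ _ ⟨y, hy, rfl⟩ _ ⟨z, hz, rfl⟩
    rw [← map_commutatorElement, ← map_mul, ← map_mul, hB x hx y hy z hz]
  have hgen' : A.map π ⊔ ⁅B.map π, B.map π⁆ = ⊤ := by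
    rw [← Subgroup.map_commutator, ← Subgroup.map_sup, hgen, ← MonoidHom.range_eq_map,
      MonoidHom.range_eq_top]
    exact hπs
  have hmet : ∀ u ∈ commutator (G ⧸ K2), ∀ v ∈ commutator (G ⧸ K2), u * v = v * u := by
    have h2 : derivedSeries (G ⧸ K2) 2 = ⊥ := by
      rw [← map_derivedSeries_eq hπs 2, ← hK2, hπ, QuotientGroup.map_mk'_self]
    rw [derivedSeries_succ, derivedSeries_one, Subgroup.commutator_eq_bot_iff_le_centralizer] at h2
    intro u hu v hv
    have := h2 hu
    rw [Subgroup.mem_centralizer_iff] at this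
    exact (this v hv).symm
  have hcomm := abstract_core (A.map π) (B.map π) hA' hB' hgen' hmet
  -- hence B' ≤ K2
  have h1 : ⁅B, B⁆ ≤ K2 := by
    rw [Subgroup.commutator_le]
    intro x hx y hy
    rw [← QuotientGroup.eq_one_iff (N := K2)]
    change π ⁅x, y⁆ = 1
    rw [map_commutatorElement, commutatorElement_eq_one_iff_mul_comm]
    exact hcomm _ (Subgroup.mem_map_of_mem π hx) _ (Subgroup.mem_map_of_mem π hy)
  -- G / K2 is abelian
  have h2 : derivedSeries G 1 ≤ K2 := by
    rw [derivedSeries_one, commutator_def, Subgroup.commutator_le]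
    intro x _ y _
    have hx : x ∈ A ⊔ K2 := by
      have : A ⊔ ⁅B, B⁆ ≤ A ⊔ K2 := sup_le_sup_left h1 A
      exact this (hgen ▸ Subgroup.mem_top x)
    have hy : y ∈ A ⊔ K2 := by
      have : A ⊔ ⁅B, B⁆ ≤ A ⊔ K2 := sup_le_sup_left h1 A
      exact this (hgen ▸ Subgroup.mem_top y)
    have hx2 : x ∈ ((A ⊔ K2 : Subgroup G) : Set G) := hx
    have hy2 : y ∈ ((A ⊔ K2 : Subgroup G) : Set G) := hy
    rw [Subgroup.mul_normal A K2] at hx2 hy2
    obtain ⟨a₁, ha₁, m₁, hm₁, hE₁⟩ := Set.mem_mul.mp hx2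
    obtain ⟨a₂, ha₂, m₂, hm₂, hE₂⟩ := Set.mem_mul.mp hy2
    rw [← QuotientGroup.eq_one_iff (N := K2)]
    change π ⁅x, y⁆ = 1
    rw [map_commutatorElement, commutatorElement_eq_one_iff_mul_comm, ← hE₁, ← hE₂]
    have e1 : π m₁ = 1 := (QuotientGroup.eq_one_iff _).mpr hm₁
    have e2 : π m₂ = 1 := (QuotientGroup.eq_one_iff _).mpr hm₂
    change π (a₁ * m₁) * π (a₂ * m₂) = π (a₂ * m₂) * π (a₁ * m₁)
    rw [map_mul, map_mul, e1, e2, mul_one, mul_one, ← map_mul, ← map_mul, hA a₁ ha₁ a₂ ha₂]
  -- the derived series is stationary from 1 on, hence trivial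
  have h3 : ∀ j : ℕ, derivedSeries G 1 ≤ derivedSeries G (1 + j) := by
    intro j
    induction j with
    | zero => exact le_rfl
    | succ j ih =>
      calc derivedSeries G 1 ≤ derivedSeries G 2 := h2
        _ = ⁅derivedSeries G 1, derivedSeries G 1⁆ := derivedSeries_succ G 1
        _ ≤ ⁅derivedSeries G (1 + j), derivedSeries G (1 + j)⁆ := Subgroup.commutator_mono ih ih
        _ = derivedSeries G (1 + (j + 1)) := by rw [← Nat.add_assoc, derivedSeries_succ]
  obtain ⟨n, hn⟩ := hsolv.solvable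
  have h4 : derivedSeries G 1 = ⊥ := by
    rw [eq_bot_iff]
    calc derivedSeries G 1 ≤ derivedSeries G (1 + n) := h3 n
      _ ≤ derivedSeries G n := derivedSeries_antitone G (by omega)
      _ = ⊥ := hn
  rw [eq_bot_iff, ← h4, derivedSeries_one, commutator_def]
  exact Subgroup.commutator_mono le_top le_top

lemma card_commutator_subtype (B : Subgroup G) :
    Nat.card (commutator ↥B) = Nat.card (⁅B, B⁆ : Subgroup G) := by
  have h : (commutator ↥B).map B.subtype = ⁅B, B⁆ := by
    rw [commutator_def, Subgroup.map_commutator, ← MonoidHom.range_eq_map, Subgroup.range_subtype]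
  rw [← h]
  exact Nat.card_congr
    ((commutator ↥B).equivMapOfInjective B.subtype B.subtype_injective).toEquiv

lemma classTwo_of_le_center (B : Subgroup G) (hB : commutator ↥B ≤ Subgroup.center ↥B) :
    ClassTwo B := by
  intro x hx y hy z hz
  have h1 : ⁅(⟨x, hx⟩ : B), ⟨y, hy⟩⁆ ∈ commutator ↥B := by
    rw [commutator_def]
    exact Subgroup.commutator_mem_commutator (Subgroup.mem_top _) (Subgroup.mem_top _)
  have h2 := Subgroup.mem_center_iff.mp (hB h1) ⟨z, hz⟩
  have h3 := congrArg Subtype.val h2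
  simpa [commutatorElement_def] using h3.symm

lemma omega_lt {a b : ℕ} (hab : a ∣ b) (hne : a ≠ b) (hb : b ≠ 0) :
    a.primeFactorsList.length < b.primeFactorsList.length := by
  obtain ⟨c, rfl⟩ := hab
  have ha : a ≠ 0 := fun h => hb (by rw [h, zero_mul])
  have hc : c ≠ 0 := fun h => hb (by rw [h, mul_zero])
  have hc1 : c ≠ 1 := fun h => hne (by rw [h, mul_one])
  have hperm := Nat.perm_primeFactorsList_mul ha hc
  rw [hperm.length_eq, List.length_append]
  have : c.primeFactorsList ≠ [] := by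
    intro h
    rcases (Nat.primeFactorsList_eq_nil c).mp h with h | h
    · exact hc h
    · exact hc1 h
  have := List.length_pos_of_ne_nil this
  omega

lemma commutator_centralized (B : Subgroup G) (hB : ClassTwo B) {b c : G} (hb : b ∈ B)
    (hc : c ∈ (⁅B, B⁆ : Subgroup G)) : b * c * b⁻¹ = c := by
  have hle : (⁅B, B⁆ : Subgroup G) ≤ Subgroup.centralizer ({b} : Set G) := by
    rw [Subgroup.commutator_le]
    intro x hx y hy
    rw [Subgroup.mem_centralizer_iff]
    intro z hz
    rw [Set.mem_singleton_iff] at hz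
    subst hz
    exact (hB x hx y hy z hb).symm
  have := hle hc
  rw [Subgroup.mem_centralizer_iff] at this
  have h := this b (Set.mem_singleton b)
  rw [h]; group

end general

/-- The main induction. -/
theorem main : ∀ (n : ℕ) (G : Type u) [Group G] [Finite G] (A B : Subgroup G), ElemComm A →
    ClassTwo B → (∀ g : G, ∃ a ∈ A, ∃ b ∈ B, g = a * b) →
    (Nat.card (⁅B, B⁆ : Subgroup G)).primeFactorsList.length = n →
    derivedSeries G (2 * (1 + n)) = ⊥ := by
  intro n
  induction n using Nat.strong_induction_on with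
  | _ n ih =>
  intro G _ _ A B hA hB hAB hn
  classical
  by_cases hbot : (⁅B, B⁆ : Subgroup G) = ⊥
  · -- B abelian: Ito
    have hBc : ElemComm B := by
      intro x hx y hy
      have : ⁅x, y⁆ ∈ (⁅B, B⁆ : Subgroup G) := Subgroup.commutator_mem_commutator hx hy
      rw [hbot, Subgroup.mem_bot, commutatorElement_eq_one_iff_mul_comm] at this
      exact this
    have : IsMulCommutative A := ⟨⟨fun a b => Subtype.ext (hA a a.2 b b.2)⟩⟩
    have : IsMulCommutative B := ⟨⟨fun a b => Subtype.ext (hBc a a.2 b b.2)⟩⟩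
    have h2 := Cfsg.Agent.S0572.result A B hAB
    rw [eq_bot_iff, ← h2]
    exact derivedSeries_antitone G (by omega)
  · set Bd : Subgroup G := ⁅B, B⁆ with hBd
    set H0 : Subgroup G := A ⊔ Bd with hH0
    have hAH : A ≤ H0 := le_sup_left
    have hBdH : Bd ≤ H0 := le_sup_right
    set N0 : Subgroup G := Subgroup.normalClosure (Bd : Set G) with hN0
    have hBdN : Bd ≤ N0 := Subgroup.le_normalClosure
    -- N0 ≤ H0
    have hN0H : N0 ≤ H0 := by
      rw [hN0, Subgroup.normalClosure]
      refine (Subgroup.closure_le _).mpr ?_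
      intro x hx
      obtain ⟨c, hc, hconj⟩ := Group.mem_conjugatesOfSet_iff.mp hx
      obtain ⟨g, hg⟩ := isConj_iff.mp hconj
      obtain ⟨a, ha, b, hb, rfl⟩ := hAB g
      have e : a * b * c * (a * b)⁻¹ = a * (b * c * b⁻¹) * a⁻¹ := by group
      rw [e, commutator_centralized B hB hb hc] at hg
      rw [← hg]
      exact H0.mul_mem (H0.mul_mem (hAH ha) (hBdH hc)) (H0.inv_mem (hAH ha))
    -- G'' ≤ N0
    have hG2 : derivedSeries G 2 ≤ N0 := by
      set π : G →* G ⧸ N0 := QuotientGroup.mk' N0 with hπ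
      have hπs : Function.Surjective π := QuotientGroup.mk'_surjective N0
      have : IsMulCommutative (A.map π) := by
        refine ⟨⟨?_⟩⟩
        rintro ⟨_, x, hx, rfl⟩ ⟨_, y, hy, rfl⟩
        apply Subtype.ext
        change π x * π y = π y * π x
        rw [← map_mul, ← map_mul, hA x hx y hy]
      have : IsMulCommutative (B.map π) := by
        refine ⟨⟨?_⟩⟩
        rintro ⟨_, x, hx, rfl⟩ ⟨_, y, hy, rfl⟩
        apply Subtype.ext
        change π x * π y = π y * π x
        rw [← commutatorElement_eq_one_iff_mul_comm, ← map_commutatorElement]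
        exact (QuotientGroup.eq_one_iff _).mpr
          (hBdN (Subgroup.commutator_mem_commutator hx hy))
      have hfac : ∀ q : G ⧸ N0, ∃ a ∈ A.map π, ∃ b ∈ B.map π, q = a * b := by
        intro q
        obtain ⟨g, rfl⟩ := hπs q
        obtain ⟨a, ha, b, hb, rfl⟩ := hAB g
        exact ⟨π a, Subgroup.mem_map_of_mem π ha, π b, Subgroup.mem_map_of_mem π hb, map_mul π a b⟩
      have h2 := Cfsg.Agent.S0572.result (A.map π) (B.map π) hfac
      rw [← map_derivedSeries_eq hπs 2, Subgroup.map_eq_bot_iff, hπ, QuotientGroup.ker_mk'] at h2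
      exact h2
    have hG2H : derivedSeries G 2 ≤ H0 := hG2.trans hN0H
    -- the subgroup H0 as a group
    set A' : Subgroup H0 := A.subgroupOf H0 with hA'
    set B' : Subgroup H0 := B.subgroupOf H0 with hB'
    have hA'c : ElemComm A' := by
      intro x hx y hy
      apply Subtype.ext
      exact hA x (Subgroup.mem_subgroupOf.mp hx) y (Subgroup.mem_subgroupOf.mp hy)
    have hB'c : ClassTwo B' := by
      intro x hx y hy z hz
      apply Subtype.ext
      have := hB x (Subgroup.mem_subgroupOf.mp hx) y (Subgroup.mem_subgroupOf.mp hy) z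
        (Subgroup.mem_subgroupOf.mp hz)
      simpa [commutatorElement_def] using this
    have hAB' : ∀ g : H0, ∃ a ∈ A', ∃ b ∈ B', g = a * b := by
      intro g
      obtain ⟨a, ha, b, hb, hgab⟩ := hAB (g : G)
      have hbH : b ∈ H0 := by
        have : b = a⁻¹ * (g : G) := by rw [hgab]; group
        rw [this]
        exact H0.mul_mem (H0.inv_mem (hAH ha)) g.2
      refine ⟨⟨a, hAH ha⟩, Subgroup.mem_subgroupOf.mpr ha, ⟨b, hbH⟩,
        Subgroup.mem_subgroupOf.mpr hb, Subtype.ext hgab⟩
    set D1 : Subgroup H0 := ⁅B', B'⁆ with hD1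
    have hD1map : D1.map H0.subtype ≤ Bd := by
      rw [hD1, Subgroup.map_commutator, hB', Subgroup.subgroupOf_map_subtype]
      exact Subgroup.commutator_mono inf_le_left inf_le_left
    have hD1ne : D1.map H0.subtype ≠ Bd := by
      intro heq
      have htop : A' ⊔ D1 = ⊤ := by
        have h1 : (A ⊔ Bd).subgroupOf H0 = ⊤ := by rw [← hH0]; exact Subgroup.subgroupOf_self H0
        rw [Subgroup.subgroupOf_sup hAH hBdH] at h1
        have h2 : Bd.subgroupOf H0 = D1 := by
          rw [← heq, Subgroup.subgroupOf]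
          exact Subgroup.comap_map_eq_self_of_injective H0.subtype_injective D1
        rw [h2] at h1
        exact h1
      have hk : D1 = ⊥ := key A' B' hA'c hB'c hAB' htop
      apply hbot
      rw [← heq, hk, Subgroup.map_bot]
    have hcardD1 : Nat.card D1 = Nat.card (D1.map H0.subtype) :=
      Nat.card_congr (D1.equivMapOfInjective H0.subtype H0.subtype_injective).toEquiv
    have hlt : (Nat.card D1).primeFactorsList.length < n := by
      rw [← hn, hcardD1]
      apply omega_lt (Subgroup.card_dvd_of_le hD1map)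
      · intro hcard
        exact hD1ne (Subgroup.eq_of_le_of_card_ge hD1map hcard.ge)
      · exact Nat.card_pos.ne'
    have hih := ih _ hlt H0 A' B' hA'c hB'c hAB' rfl
    have hH0n : derivedSeries H0 (2 * n) = ⊥ := by
      rw [eq_bot_iff, ← hih]
      exact derivedSeries_antitone H0 (by omega)
    have hfin := ds_add_le H0 2 hG2H (2 * n)
    rw [hH0n, Subgroup.map_bot] at hfin
    have e : 2 * (1 + n) = 2 + 2 * n := by ring
    rw [e, eq_bot_iff]
    exact hfin

/-- **S0574**: `G = A B`, `A` abelian, `B` of class at most two: the derived series of `G`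
reaches `1` after `2 (1 + Ω(|B'|))` steps. -/
theorem derived_length {G : Type u} [Group G] [Finite G] (A B : Subgroup G) [IsMulCommutative A]
    (hB : commutator ↥B ≤ Subgroup.center ↥B)
    (hAB : ∀ g : G, ∃ a ∈ A, ∃ b ∈ B, g = a * b) :
    derivedSeries G (2 * (1 + (Nat.card ↥(commutator ↥B)).primeFactorsList.length)) = ⊥ := by
  rw [card_commutator_subtype]
  refine main _ G A B ?_ (classTwo_of_le_center B hB) hAB rfl
  intro x hx y hy
  exact congrArg Subtype.val ((IsMulCommutative.is_comm (M := A)).comm ⟨x, hx⟩ ⟨y, hy⟩)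

end Cfsg.Agent.Lib.Helper40.AbClassTwo
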