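import Mathlib
import Cfsg.Agent.Lib.Helper15.BG1379Defs
import Cfsg.Agent.Lib.Helper97.BG1366O
import Cfsg.Agent.Lib.Helper71.BG11a
import Cfsg.Agent.S1430

/-!
# K-1379-V9 (keystone 137909, architect helper15): `zhat_of_kap`.
A `κ`-configuration `g = x r` of `M` has an `M`-conjugate in `Ẑ = K K* - (K ∪ K*)`.
-/

set_option autoImplicit false

namespace Cfsg.Agent.Lib.Helper40.BG1379

open Cfsg Subgroup Cfsg.Agent.Lib.Helper11.BG14D Cfsg.Agent.Lib.Helper15.BG1379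

variable {G : Type*} [Group G] [Finite G]

/-- a Hall `κ(M)`-subgroup meets `M_σ` trivially -/
theorem kappaHall_inf_sigmaCore (hG : IsMinSimpleOddOrder G) {M K : Subgroup G} (hM : IsCoatom M)
    (hK : IsPiHallOf (kappa M) K M) : K ⊓ sigmaCore M = ⊥ := by
  by_contra hne
  have hcard : Nat.card ↥(K ⊓ sigmaCore M) ≠ 1 := fun h => hne (Subgroup.card_eq_one.mp h)
  obtain ⟨p, hp, hpd⟩ := Nat.exists_prime_and_dvd hcard
  have h1 : p ∈ kappa M := hK.2.1 p hp (hpd.trans (Subgroup.card_dvd_of_le inf_le_left))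
  have h2 : p ∈ sigma M :=
    Cfsg.Agent.Lib.Helper71.BG11.sigmaCore_pi hG hM hp (hpd.trans (Subgroup.card_dvd_of_le inf_le_right))
  exact h1.2.2.1 h2

/-- LEAF V9 (137909) -/
theorem zhat_of_kap (hG : IsMinSimpleOddOrder G) {M K : Subgroup G} (hM : IsCoatom M)
    (hK : IsPiHallOf (kappa M) K M) (hK1 : K ≠ ⊥) {g : G} (h : KapCfg M g) :
    ∃ m ∈ M, m * g * m⁻¹ ∈ Zhat M K := by
  obtain ⟨x, r, rfl, hx, hx1, hrM, hr1, hc, hκ⟩ := h
  have hsolv : Group.IsSolvable ↥M := hG.2.2.2 M hM.1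
  have hA : ∀ p : ℕ, p.Prime → p ∣ Nat.card ↥(zpowers r) → p ∈ kappa M := by
    intro p hp hpd
    rw [Nat.card_zpowers] at hpd
    exact hκ p hp hpd
  obtain ⟨m0, hm0, hle⟩ :=
    Cfsg.Agent.Lib.Helper97.BG1366.exists_cj_ge_of_hall hsolv hK (zpowers_le.mpr hrM) hA
  obtain ⟨k, hkK, hkr⟩ := hle (mem_zpowers r)
  have hkr' : m0 * k * m0⁻¹ = r := hkr
  have hbot := kappaHall_inf_sigmaCore hG hM hK
  have hk1 : k ≠ 1 := by
    intro h1
    apply hr1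
    rw [← hkr', h1, mul_one, mul_inv_cancel]
  -- the conjugate of x
  have hx' : m0⁻¹ * x * m0 ∈ sigmaCore M := by
    have hn := Cfsg.Agent.Lib.Helper71.BG11.le_normalizer_sigmaCore M (inv_mem hm0)
    have := (mem_normalizer_iff.mp hn x).mp hx
    rwa [inv_inv] at this
  have hx'1 : m0⁻¹ * x * m0 ≠ 1 := by
    intro h1
    apply hx1
    have : x = m0 * (m0⁻¹ * x * m0) * m0⁻¹ := by group
    rw [this, h1, mul_one, mul_inv_cancel]
  have hcomm : (m0⁻¹ * x * m0) * k = k * (m0⁻¹ * x * m0) := by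
    have hk : k = m0⁻¹ * r * m0 := by rw [← hkr']; group
    rw [hk]
    calc m0⁻¹ * x * m0 * (m0⁻¹ * r * m0) = m0⁻¹ * (x * r) * m0 := by group
      _ = m0⁻¹ * (r * x) * m0 := by rw [hc]
      _ = m0⁻¹ * r * m0 * (m0⁻¹ * x * m0) := by group
  have hxKs : m0⁻¹ * x * m0 ∈ Ks M K := by
    have h30 := (Cfsg.Agent.S1430.result hG M hM K hK hK1).1 k hkK hk1
    have : m0⁻¹ * x * m0 ∈ sigmaCore M ⊓ centralizer ({k} : Set G) :=
      ⟨hx', mem_centralizer_singleton_iff.mpr hcomm⟩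
    rw [h30] at this
    exact this
  have hprod : m0⁻¹ * (x * r) * m0⁻¹⁻¹ = (m0⁻¹ * x * m0) * k := by
    rw [← hkr']; group
  refine ⟨m0⁻¹, inv_mem hm0, ?_⟩
  rw [hprod]
  refine ⟨mul_mem (mem_sup_right hxKs) (mem_sup_left hkK), ?_⟩
  rintro (hK' | hKs')
  · -- x' ∈ K ⊓ M_σ = ⊥
    have hxK : m0⁻¹ * x * m0 ∈ K := by
      have := mul_mem hK' (inv_mem hkK)
      rwa [mul_inv_cancel_right] at this
    have : m0⁻¹ * x * m0 ∈ K ⊓ sigmaCore M := ⟨hxK, hx'⟩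
    rw [hbot, mem_bot] at this
    exact hx'1 this
  · -- k ∈ K ⊓ M_σ = ⊥
    have hkKs : k ∈ Ks M K := by
      have := mul_mem (inv_mem hxKs) hKs'
      rwa [inv_mul_cancel_left] at this
    have : k ∈ K ⊓ sigmaCore M := ⟨hkK, hkKs.1⟩
    rw [hbot, mem_bot] at this
    exact hk1 this

end Cfsg.Agent.Lib.Helper40.BG1379
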