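import Mathlib

/-!
# Generic group theory used for `K-S4284-A` (main case of the class sizes `{1, m, mn}` theorem)
-/

set_option autoImplicit false

namespace Cfsg.Agent.Lib.Helper40.CR2Base

open Subgroup
open scoped commutatorElement

variable {G : Type*} [Group G]

/-- (B1) commuting elements of coprime orders: `C(xh) = C(x) ⊓ C(h)`. -/
theorem centralizer_mul_eq_inf {x h : G} (hc : Commute x h)
    (hcop : (orderOf x).Coprime (orderOf h)) :
    centralizer ({x * h} : Set G) = centralizer ({x} : Set G) ⊓ centralizer ({h} : Set G) := by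
  apply le_antisymm
  · intro g hg
    rw [mem_centralizer_singleton_iff] at hg
    have hg' : Commute g (x * h) := hg
    have hpow : ∀ k : ℕ, Commute g ((x * h) ^ k) := fun k => hg'.pow_right k
    obtain ⟨j, hj⟩ := exists_pow_eq_self_of_coprime (x := x) (n := orderOf h) hcop.symm
    obtain ⟨i, hi⟩ := exists_pow_eq_self_of_coprime (x := h) (n := orderOf x) hcop
    have hx : ((x * h) ^ (orderOf h)) ^ j = x := by
      rw [hc.mul_pow, pow_orderOf_eq_one, mul_one, hj]
    have hh : ((x * h) ^ (orderOf x)) ^ i = h := by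
      rw [hc.mul_pow, pow_orderOf_eq_one, one_mul, hi]
    refine mem_inf.2 ⟨?_, ?_⟩
    · rw [mem_centralizer_singleton_iff]
      have := ((hpow (orderOf h)).pow_right j)
      rw [hx] at this
      exact this
    · rw [mem_centralizer_singleton_iff]
      have := ((hpow (orderOf x)).pow_right i)
      rw [hh] at this
      exact this
  · intro g hg
    obtain ⟨h1, h2⟩ := mem_inf.1 hg
    rw [mem_centralizer_singleton_iff] at h1 h2 ⊢
    exact (Commute.mul_right (show Commute g x from h1) (show Commute g h from h2))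

/-- elements of order prime to `p` lie in every normal subgroup of `p`-power index. -/
theorem mem_of_coprime_of_index_pow {p k : ℕ} (N : Subgroup G) [N.Normal] (hN : N.index = p ^ k)
    {x : G} (hx : (orderOf x).Coprime p) : x ∈ N := by
  have h1 : x ^ (p ^ k) ∈ N := hN ▸ N.pow_index_mem x
  obtain ⟨j, hj⟩ := exists_pow_eq_self_of_coprime (x := x) (n := p ^ k)
    (Nat.Coprime.pow_left k hx.symm)
  rw [← hj]
  exact N.pow_mem h1 j

/-- `|S N| = |S| |N|` for `N` normal and `S ∩ N = 1`. -/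
theorem card_sup_of_disjoint (S N : Subgroup G) [N.Normal] (h : S ⊓ N = ⊥) :
    Nat.card (S ⊔ N : Subgroup G) = Nat.card S * Nat.card N := by
  have h1 := relIndex_mul_relIndex ⊥ N (S ⊔ N) bot_le le_sup_right
  rw [relIndex_bot_left, relIndex_bot_left, relIndex_sup_right] at h1
  have h2 : N.relIndex S = Nat.card S := by
    rw [← inf_relIndex_right, inf_comm, h, relIndex_bot_left]
  rw [← h1, h2, mul_comm]

/-- a `p`-subgroup of `X` carrying the full `p`-part of `|X|`. -/
theorem exists_pSubgroup_le [Finite G] (p : ℕ) [Fact p.Prime] (X : Subgroup G) :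
    ∃ R : Subgroup G, R ≤ X ∧ IsPGroup p R ∧
      ∀ j : ℕ, p ^ j ∣ Nat.card X → p ^ j ∣ Nat.card R := by
  obtain ⟨R⟩ : Nonempty (Sylow p X) := inferInstance
  refine ⟨(R : Subgroup X).map X.subtype, map_subtype_le _, R.2.map _, fun j hj => ?_⟩
  have h := R.pow_dvd_card_of_pow_dvd_card hj
  have hc : Nat.card ((R : Subgroup X).map X.subtype) = Nat.card (R : Subgroup X) :=
    (Nat.card_congr
      ((R : Subgroup X).equivMapOfInjective X.subtype X.subtype_injective).toEquiv).symm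
  rw [hc]
  exact h

/-- cancelling `p`-powers against `p'`-numbers. -/
theorem eq_of_mul_pow_eq {p A B x y : ℕ} (hA : A.Coprime p) (hB : B.Coprime p)
    (h : A * p ^ x = B * p ^ y) : A = B ∧ p ^ x = p ^ y := by
  have h1 : A ∣ B := (Nat.Coprime.pow_right y hA).dvd_of_dvd_mul_right (Dvd.intro _ h)
  have h2 : B ∣ A := (Nat.Coprime.pow_right x hB).dvd_of_dvd_mul_right (Dvd.intro _ h.symm)
  have h3 : A = B := Nat.dvd_antisymm h1 h2
  refine ⟨h3, ?_⟩
  subst h3
  rcases Nat.eq_zero_or_pos A with h0 | h0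
  · subst h0
    have hp1 : p = 1 := by simpa using hA
    rw [hp1, one_pow, one_pow]
  · exact Nat.eq_of_mul_eq_mul_left h0 h

theorem crl {a a' b : G} (h : ⁅a', b⁆ ∈ center G) : ⁅a * a', b⁆ = ⁅a, b⁆ * ⁅a', b⁆ := by
  have h1 : ⁅a * a', b⁆ = a * ⁅a', b⁆ * a⁻¹ * ⁅a, b⁆ := by
    simp only [commutatorElement_def]; group
  rw [h1, mem_center_iff.mp h a, mul_assoc ⁅a', b⁆ a, mul_inv_cancel, mul_one]
  exact (mem_center_iff.mp h _).symm

theorem crr {a b b' : G} (h : ⁅a, b'⁆ ∈ center G) : ⁅a, b * b'⁆ = ⁅a, b⁆ * ⁅a, b'⁆ := by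
  have h1 : ⁅a, b * b'⁆ = a * b * a⁻¹ * ⁅a, b'⁆ * b⁻¹ := by
    simp only [commutatorElement_def]; group
  rw [h1, mul_assoc (a * b * a⁻¹), ← mem_center_iff.mp h b⁻¹, ← mul_assoc]
  rfl

theorem crl_pow {a b : G} (h : ⁅a, b⁆ ∈ center G) (k : ℕ) : ⁅a ^ k, b⁆ = ⁅a, b⁆ ^ k := by
  induction k with
  | zero => simp
  | succ k ih =>
    rw [pow_succ, crl h, ih, pow_succ]

theorem crr_pow {a b : G} (h : ⁅a, b⁆ ∈ center G) (k : ℕ) : ⁅a, b ^ k⁆ = ⁅a, b⁆ ^ k := by
  induction k with
  | zero => simp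
  | succ k ih =>
    rw [pow_succ, crr h, ih, pow_succ]

/-- In a finite `p`-group `P`, a normal subgroup `W ≤ P` of `G` not contained in the centre of `G`
contains a noncentral element all of whose commutators with `P` are central in `G`, and whose
`p`-th power is central in `G`. -/
theorem exists_central_commutators {p : ℕ} [Fact p.Prime] (P W : Subgroup G) [Finite P]
    (hP : IsPGroup p P) [W.Normal] (hWP : W ≤ P) (hW : ¬ W ≤ center G) :
    ∃ w ∈ W, w ∉ center G ∧ (∀ b ∈ P, ⁅w, b⁆ ∈ center G) ∧ w ^ p ∈ center G := by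
  have : Group.IsNilpotent P := hP.isNilpotent
  -- stage 1
  have stage1 : ∃ w ∈ W, w ∉ center G ∧ ∀ b ∈ P, ⁅w, b⁆ ∈ center G := by
    classical
    let Q : ℕ → Prop := fun i => ∃ x : P, x ∈ Subgroup.upperCentralSeries P i ∧ (x : G) ∈ W ∧
      (x : G) ∉ center G
    have hex : ∃ i, Q i := by
      obtain ⟨c, hc⟩ := Group.IsNilpotent.nilpotent P
      obtain ⟨u, huW, huZ⟩ := SetLike.not_le_iff_exists.1 hW
      exact ⟨c, ⟨u, hWP huW⟩, by rw [hc]; trivial, huW, huZ⟩
    have hmin : ∀ m, m < Nat.find hex → ¬ Q m := fun m => Nat.find_min hex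
    obtain ⟨x, hx, hxW, hxZ⟩ := Nat.find_spec hex
    rcases hi : Nat.find hex with _ | j
    · rw [hi, Subgroup.upperCentralSeries_zero, mem_bot] at hx
      exact absurd (by rw [hx]; exact one_mem _) hxZ
    · rw [hi, Subgroup.mem_upperCentralSeries_succ_iff] at hx
      refine ⟨x, hxW, hxZ, fun b hb => ?_⟩
      by_contra hcon
      have hlt : j < Nat.find hex := by rw [hi]; exact Nat.lt_succ_self j
      apply hmin j hlt
      refine ⟨⁅x, ⟨b, hb⟩⁆, hx ⟨b, hb⟩, ?_, hcon⟩
      have h1 : ((⁅x, ⟨b, hb⟩⁆ : P) : G) = ⁅(x : G), b⁆ := rfl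
      rw [h1, commutatorElement_def]
      have h2 : b * (x : G)⁻¹ * b⁻¹ ∈ W := by
        have := (inferInstance : W.Normal).conj_mem _ (W.inv_mem hxW) b
        exact this
      have h3 : (x : G) * b * (x : G)⁻¹ * b⁻¹ = (x : G) * (b * (x : G)⁻¹ * b⁻¹) := by group
      rw [h3]
      exact W.mul_mem hxW h2
  obtain ⟨w0, hw0W, hw0Z, hw0c⟩ := stage1
  -- stage 2 : p-th powers
  classical
  have hex : ∃ j : ℕ, w0 ^ (p ^ j) ∈ center G := by
    obtain ⟨k, hk⟩ := (IsPGroup.iff_orderOf.1 hP) ⟨w0, hWP hw0W⟩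
    refine ⟨k, ?_⟩
    have h1 : (⟨w0, hWP hw0W⟩ : P) ^ (p ^ k) = 1 := by
      rw [← hk]; exact pow_orderOf_eq_one _
    have h2 : w0 ^ (p ^ k) = 1 := by
      have := congrArg (fun y : P => (y : G)) h1
      simpa using this
    rw [h2]; exact one_mem _
  have hmin : ∀ m, m < Nat.find hex → ¬ (w0 ^ (p ^ m) ∈ center G) := fun m => Nat.find_min hex
  have hspec := Nat.find_spec hex
  rcases hi : Nat.find hex with _ | j
  · rw [hi, pow_zero, pow_one] at hspec
    exact absurd hspec hw0Z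
  · have hlt : j < Nat.find hex := by rw [hi]; exact Nat.lt_succ_self j
    refine ⟨w0 ^ (p ^ j), W.pow_mem hw0W _, hmin j hlt, fun b hb => ?_, ?_⟩
    · rw [crl_pow (hw0c b hb)]
      exact (center G).pow_mem (hw0c b hb) _
    · rw [← pow_mul, ← pow_succ, ← hi]
      exact hspec

end Cfsg.Agent.Lib.Helper40.CR2Base
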