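import Mathlib
import Cfsg.Agent.Lib.Helper74.CR2Defs
import Cfsg.Agent.Lib.Helper74.ClassMultiset
import Cfsg.Agent.Lib.Helper40.Cores
import Cfsg.Agent.Lib.Helper40.CR2Base
import Cfsg.Agent.S4035
import Cfsg.Agent.S4127

/-!
# `K-S4284-A` (main case), part 1: the normal `p`-complement `D`, `M = C_G(D)`
-/

set_option autoImplicit false

namespace Cfsg.Agent.Lib.Helper40.CR2

open Subgroup Cfsg.Agent.Lib.Helper74.CR2 Cfsg.Agent.Lib.Helper40.CR2Base

local notation "Cz(" x ")" => centralizer ({x} : Set _)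

variable {G : Type*} [Group G]

theorem Hyp_cases {m n : ℕ} (H : Hyp G m n) (x : G) :
    (Cz(x)).index = 1 ∨ (Cz(x)).index = m ∨ (Cz(x)).index = m * n := by
  have h1 : (Cz(x)).index ∈ Set.range (fun x : G => (centralizer ({x} : Set G)).index) := ⟨x, rfl⟩
  rw [H.h] at h1
  simpa using h1

theorem Hyp_exists_big {m n : ℕ} (H : Hyp G m n) : ∃ x : G, (Cz(x)).index = m * n := by
  have h1 : m * n ∈ Set.range (fun x : G => (centralizer ({x} : Set G)).index) := by
    rw [H.h]; simp
  obtain ⟨x, hx⟩ := h1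
  exact ⟨x, hx⟩

/-- the context: class sizes `{1, m, mn}`, `m = p ^ a`, `D` a normal `p`-complement. -/
structure Ctx (G : Type*) [Group G] (m n p a : ℕ) (D : Subgroup G) : Prop where
  H : Hyp G m n
  hma : m = p ^ a
  Dn : D.Normal
  Dcop : (Nat.card D).Coprime p
  Didx : ∃ k, D.index = p ^ k

namespace Ctx

variable {m n p a : ℕ} {D : Subgroup G}

theorem a_pos (c : Ctx G m n p a D) : 0 < a := by
  rcases Nat.eq_zero_or_pos a with h | h
  · have := c.H.hm
    rw [c.hma, h, pow_zero] at this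
    exact absurd this (lt_irrefl 1)
  · exact h

theorem m_pos (c : Ctx G m n p a D) : 0 < m := lt_trans Nat.zero_lt_one c.H.hm

theorem n_coprime (c : Ctx G m n p a D) : n.Coprime p := by
  have h1 : (p ^ a).Coprime n := c.hma ▸ c.H.hcop
  exact (Nat.Coprime.coprime_dvd_left (dvd_pow_self p c.a_pos.ne') h1).symm

theorem mn_not_dvd (c : Ctx G m n p a D) (k : ℕ) : ¬ m * n ∣ p ^ k := by
  intro h
  have h1 : n ∣ p ^ k := (Dvd.intro_left m rfl).trans h
  have h2 : n = 1 := Nat.Coprime.eq_one_of_dvd (Nat.Coprime.pow_right k c.n_coprime) h1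
  exact absurd c.H.hn (by rw [h2]; exact lt_irrefl 1)

theorem card_G (c : Ctx G m n p a D) : Nat.card D * D.index = Nat.card G := D.card_mul_index

variable [Finite G]

theorem le_centralizer_iff [Fact p.Prime] (c : Ctx G m n p a D) (g : G) :
    D ≤ Cz(g) ↔ ((Cz(g)).index = 1 ∨ (Cz(g)).index = m) := by
  constructor
  · intro h
    obtain ⟨k, hk⟩ := c.Didx
    have h1 : (Cz(g)).index ∣ p ^ k := hk ▸ index_dvd_of_le h
    rcases Hyp_cases c.H g with h2 | h2 | h2
    · exact Or.inl h2
    · exact Or.inr h2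
    · rw [h2] at h1
      exact absurd h1 (c.mn_not_dvd k)
  · intro h
    have h1 : (Cz(g)).index ∣ p ^ a := by
      rcases h with h | h
      · rw [h]; exact one_dvd _
      · rw [h, c.hma]
    haveI := c.Dn
    have h2 : (Cz(g)).relIndex D ∣ (Cz(g)).index := by
      rw [Cfsg.Agent.Lib.Helper40.relIndex_eq_relIndex_sup_of_normal]
      exact relIndex_dvd_index_of_le le_sup_left
    have h3 : (Cz(g)).relIndex D ∣ Nat.card D := relIndex_dvd_card _ _
    have h4 : (Cz(g)).relIndex D = 1 := by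
      have hc : (Nat.card D).Coprime (p ^ a) := Nat.Coprime.pow_right a c.Dcop
      exact Nat.eq_one_of_dvd_coprimes hc h3 (h2.trans h1)
    exact relIndex_eq_one.1 h4

theorem mem_M_iff [Fact p.Prime] (c : Ctx G m n p a D) (g : G) :
    g ∈ centralizer (D : Set G) ↔ ((Cz(g)).index = 1 ∨ (Cz(g)).index = m) := by
  rw [← c.le_centralizer_iff g]
  constructor
  · intro h d hd
    rw [mem_centralizer_singleton_iff]
    exact (mem_centralizer_iff.1 h) d hd
  · intro h
    rw [mem_centralizer_iff]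
    intro d hd
    exact mem_centralizer_singleton_iff.1 (h hd)

theorem m_dvd_idx (c : Ctx G m n p a D) {h : G} (hh : h ∉ center G) : m ∣ (Cz(h)).index := by
  rcases Hyp_cases c.H h with h2 | h2 | h2
  · exact absurd ((Cfsg.Agent.Lib.Helper74.cm_idx_eq_one_iff h).1 h2) hh
  · rw [h2]
  · rw [h2]; exact Dvd.intro _ rfl

/-- a `p`-subgroup of the centralizer of a noncentral element has order at most `|P| / m`. -/
theorem pbound [Fact p.Prime] (c : Ctx G m n p a D) (K : Subgroup G) (hK : IsPGroup p K) {h : G}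
    (hKh : K ≤ Cz(h)) (hh : h ∉ center G) : Nat.card K * m ∣ D.index := by
  obtain ⟨k, hk⟩ := c.Didx
  obtain ⟨i, hi⟩ := hK.exists_card_eq
  have h1 : Nat.card K ∣ Nat.card (Cz(h)) := card_dvd_of_le hKh
  have h2 : Nat.card (Cz(h)) * (Cz(h)).index = Nat.card G := (Cz(h)).card_mul_index
  have h3 : Nat.card K * m ∣ Nat.card D * D.index := by
    rw [c.card_G, ← h2]
    exact Nat.mul_dvd_mul h1 (c.m_dvd_idx hh)
  have h4 : (Nat.card K * m).Coprime (Nat.card D) := by
    rw [hi, c.hma, ← pow_add]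
    exact (Nat.Coprime.pow_right _ c.Dcop).symm
  exact h4.dvd_of_dvd_mul_left h3

theorem card_sylow [Fact p.Prime] (c : Ctx G m n p a D) (P : Sylow p G) :
    Nat.card P = D.index := by
  obtain ⟨k, hk⟩ := c.Didx
  obtain ⟨i, hi⟩ := P.2.exists_card_eq
  have h1 : p ^ k ∣ Nat.card P := by
    apply P.pow_dvd_card_of_pow_dvd_card
    rw [← c.card_G, hk]
    exact Dvd.intro_left _ rfl
  have h2 : Nat.card P ∣ p ^ k := by
    have h3 : Nat.card P ∣ Nat.card D * p ^ k := by
      rw [← hk, c.card_G]; exact card_subgroup_dvd_card _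
    have h4 : (Nat.card P).Coprime (Nat.card D) := by
      rw [hi]; exact (Nat.Coprime.pow_right _ c.Dcop).symm
    exact h4.dvd_of_dvd_mul_left h3
  rw [hk]
  exact Nat.dvd_antisymm h2 h1

theorem D_not_central [Fact p.Prime] (c : Ctx G m n p a D) : ¬ D ≤ center G := by
  intro h
  obtain ⟨x, hx⟩ := Hyp_exists_big c.H
  have h1 : D ≤ Cz(x) := by
    intro d hd
    rw [mem_centralizer_singleton_iff]
    exact (mem_center_iff.1 (h hd) x).symm
  have hm := c.H.hm
  have hn := c.H.hn
  rcases (c.le_centralizer_iff x).1 h1 with h2 | h2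
  · rw [hx] at h2
    have : 1 < m * n := by nlinarith
    omega
  · rw [hx] at h2
    have : m * 1 < m * n := Nat.mul_lt_mul_of_pos_left hn c.m_pos
    omega

end Ctx

end Cfsg.Agent.Lib.Helper40.CR2
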