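import Mathlib
import Cfsg.Agent.Lib.Helper74.NormArgument

/-!
# Norm argument: two elements acting on an abelian normal subgroup with small fixed points
-/

set_option autoImplicit false

namespace Cfsg.Agent.Lib.Helper40.CR2Norm

open Cfsg.Agent.Lib.Helper74

/-- `A` abelian normal, `d₁, d₂` induce commuting automorphisms of order dividing `p` on `A`
such that `d₁` and all `d₂ d₁ ^ j` have all their fixed points on `A` in the central
subgroup `Z`: then `u ^ p ∈ Z` for all `u ∈ A`. -/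
theorem pow_prime_mem_of_fixed {G : Type*} [Group G] (A : Subgroup G) [hAn : A.Normal]
    (hA : ∀ u ∈ A, ∀ v ∈ A, u * v = v * u) (Z : Subgroup G) (hZ : Z ≤ Subgroup.center G)
    (p : ℕ) (hp : p.Prime) (d₁ d₂ : G)
    (hd₁p : ∀ u ∈ A, d₁ ^ p * u = u * d₁ ^ p)
    (hd₂p : ∀ j : ℕ, ∀ u ∈ A, (d₂ * d₁ ^ j) ^ p * u = u * (d₂ * d₁ ^ j) ^ p)
    (hcomm : ∀ u ∈ A, (d₂⁻¹ * d₁⁻¹ * d₂ * d₁) * u = u * (d₂⁻¹ * d₁⁻¹ * d₂ * d₁))
    (hfix1 : ∀ u ∈ A, d₁ * u = u * d₁ → u ∈ Z)
    (hfix2 : ∀ j : ℕ, ∀ u ∈ A, (d₂ * d₁ ^ j) * u = u * (d₂ * d₁ ^ j) → u ∈ Z)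
    (u : G) (hu : u ∈ A) : u ^ p ∈ Z := by
  let _ : CommGroup ↥A :=
    { (inferInstance : Group ↥A) with mul_comm := fun a b => Subtype.ext (hA a a.2 b b.2) }
  let val : Additive ↥A → G := fun m => ((Additive.toMul m : ↥A) : G)
  have val_mem : ∀ m, val m ∈ A := fun m => (Additive.toMul m).2
  have val_inj : ∀ m₁ m₂, val m₁ = val m₂ → m₁ = m₂ := by
    intro m₁ m₂ h
    exact Additive.toMul.injective (Subtype.ext h)
  have val_add : ∀ m₁ m₂, val (m₁ + m₂) = val m₁ * val m₂ := fun _ _ => rfl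
  have val_zero : val 0 = 1 := rfl
  have val_nsmul : ∀ (n : ℕ) m, val (n • m) = val m ^ n := by
    intro n m
    induction n with
    | zero => simp [val_zero]
    | succ k ih => rw [succ_nsmul, val_add, ih, pow_succ]
  -- the conjugation endomorphisms
  let φfun : G → AddMonoid.End (Additive ↥A) := fun g =>
    { toFun := fun m => Additive.ofMul (⟨g * val m * g⁻¹, hAn.conj_mem _ (val_mem m) g⟩ : ↥A)
      map_zero' := by
        apply val_inj
        show g * 1 * g⁻¹ = 1
        group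
      map_add' := by
        intro m₁ m₂
        apply val_inj
        show g * (val m₁ * val m₂) * g⁻¹ = (g * val m₁ * g⁻¹) * (g * val m₂ * g⁻¹)
        group }
  let φ : G →* AddMonoid.End (Additive ↥A) :=
    { toFun := φfun
      map_one' := by
        apply AddMonoidHom.ext
        intro m
        apply val_inj
        show (1 : G) * val m * 1⁻¹ = val m
        group
      map_mul' := by
        intro g h
        apply AddMonoidHom.ext
        intro m
        apply val_inj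
        show (g * h) * val m * (g * h)⁻¹ = g * (h * val m * h⁻¹) * g⁻¹
        group }
  have val_φ' : ∀ g m, val (φ g m) = g * val m * g⁻¹ := fun _ _ => rfl
  have φ_of_cent : ∀ c : G, (∀ u ∈ A, c * u = u * c) → φ c = 1 := by
    intro c hc
    apply AddMonoidHom.ext
    intro m
    apply val_inj
    show c * val m * c⁻¹ = val m
    rw [hc (val m) (val_mem m)]
    group
  let Z' : AddSubgroup (Additive ↥A) :=
    { carrier := {m | val m ∈ Z}
      zero_mem' := Z.one_mem
      add_mem' := fun h₁ h₂ => Z.mul_mem h₁ h₂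
      neg_mem' := fun h => Z.inv_mem h }
  have mem_Z' : ∀ m, m ∈ Z' ↔ val m ∈ Z := fun _ => Iff.rfl
  have norm_mem : ∀ g : G, φ g ^ p = 1 → (∀ u ∈ A, g * u = u * g → u ∈ Z) →
      ∀ m, (∑ k ∈ Finset.range p, φ g ^ k) m ∈ Z' := by
    intro g hgp hfix m
    rw [mem_Z']
    apply hfix _ (val_mem _)
    have h1 : (φ g - 1) * ∑ k ∈ Finset.range p, φ g ^ k = 0 := by
      rw [mul_geom_sum, hgp, sub_self]
    have h2 : φ g * ∑ k ∈ Finset.range p, φ g ^ k = ∑ k ∈ Finset.range p, φ g ^ k := by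
      rw [sub_mul, one_mul, sub_eq_zero] at h1
      exact h1
    have h3 : val (φ g ((∑ k ∈ Finset.range p, φ g ^ k) m)) =
        val ((∑ k ∈ Finset.range p, φ g ^ k) m) := by
      have : φ g ((∑ k ∈ Finset.range p, φ g ^ k) m) =
          (φ g * ∑ k ∈ Finset.range p, φ g ^ k) m := rfl
      rw [this, h2]
    rw [val_φ'] at h3
    have h4 : g * val ((∑ k ∈ Finset.range p, φ g ^ k) m) =
        (g * val ((∑ k ∈ Finset.range p, φ g ^ k) m) * g⁻¹) * g := by group
    rw [h4, h3]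
  have hcommute : Commute (φ d₂) (φ d₁) := by
    show φ d₂ * φ d₁ = φ d₁ * φ d₂
    have e : d₂ * d₁ = d₁ * d₂ * (d₂⁻¹ * d₁⁻¹ * d₂ * d₁) := by group
    rw [← map_mul, e, map_mul, φ_of_cent _ hcomm, mul_one, map_mul]
  have htp : φ d₁ ^ p = 1 := by
    rw [← map_pow]
    exact φ_of_cent _ hd₁p
  have key := nsmul_mem_of_norms Z' p hp (φ d₂) (φ d₁) hcommute htp
    (by
      intro j m
      have e : φ d₂ * φ d₁ ^ j = φ (d₂ * d₁ ^ j) := by rw [map_mul, map_pow]
      rw [e]
      refine norm_mem _ ?_ (hfix2 j) m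
      rw [← map_pow]
      exact φ_of_cent _ (hd₂p j))
    (norm_mem d₁ htp hfix1)
    (by
      intro z hz
      rw [mem_Z'] at hz ⊢
      rw [val_φ']
      have := (Subgroup.mem_center_iff.mp (hZ hz)) d₂
      have e : d₂ * val z * d₂⁻¹ = val z := by rw [this]; group
      rw [e]
      exact hz)
    (Additive.ofMul (⟨u, hu⟩ : ↥A))
  rw [mem_Z', val_nsmul] at key
  exact key

end Cfsg.Agent.Lib.Helper40.CR2Norm
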