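import Mathlib
import Cfsg.Agent.Lib.Helper40.CR2Ctx

/-!
# `K-S4284-A` (main case), part 2: the centralizer of a small `p`-element (via S4035)
-/

set_option autoImplicit false

namespace Cfsg.Agent.Lib.Helper40.CR2

open Subgroup Cfsg.Agent.Lib.Helper74.CR2 Cfsg.Agent.Lib.Helper40.CR2Base

local notation "Cz(" x ")" => centralizer ({x} : Set _)

variable {G : Type*} [Group G] [Finite G] {m n p a : ℕ} {D : Subgroup G} [Fact p.Prime]

namespace Ctx

/-- Step 2: the centralizer of a small `p`-element `u` has a `p`-subgroup of order `|P| / m`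
centralizing `D`. -/
theorem exists_sylow_of_small (c : Ctx G m n p a D) {u : G} (hu : ∃ k : ℕ, orderOf u = p ^ k)
    (hidx : (Cz(u)).index = m) :
    ∃ S : Subgroup G, S ≤ Cz(u) ∧ IsPGroup p S ∧ Nat.card S * m = D.index ∧
      S ≤ centralizer (D : Set G) := by
  obtain ⟨k, hk⟩ := c.Didx
  set X : Subgroup G := Cz(u) with hX
  have hDX : D ≤ X := (c.le_centralizer_iff u).2 (Or.inr hidx)
  have hp : p.Prime := Fact.out
  have key : ∀ x : X, (orderOf x).Coprime p → ¬ p ∣ (ConjClasses.mk x).carrier.ncard := by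
    intro x hx hdvd
    have h1 : (ConjClasses.mk x).carrier.ncard = (centralizer ({x} : Set X)).index := by
      rw [Cfsg.Agent.Lib.Helper74.cm_idx_eq_card_carrier, Nat.card_coe_set_eq]
    have h2 : centralizer ({x} : Set X) = (Cz((x : G))).subgroupOf X := by
      ext y
      rw [mem_centralizer_singleton_iff, mem_subgroupOf, mem_centralizer_singleton_iff]
      constructor
      · intro h
        have := congrArg Subtype.val h
        simpa using this
      · intro h
        exact Subtype.ext (by simpa using h)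
    have hcomm : Commute u (x : G) := (mem_centralizer_singleton_iff.1 x.2).symm
    have hcop : (orderOf u).Coprime (orderOf (x : G)) := by
      obtain ⟨k', hk'⟩ := hu
      rw [hk', orderOf_coe]
      exact Nat.Coprime.pow_left k' hx.symm
    have h3 : (Cz((x : G))).relIndex X * X.index = (Cz(u * (x : G))).index := by
      rw [centralizer_mul_eq_inf hcomm hcop, ← inf_relIndex_right, inf_comm]
      exact relIndex_mul_index inf_le_left
    rw [h1, h2] at hdvd
    change p ∣ (Cz((x : G))).relIndex X at hdvd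
    rw [hidx] at h3
    obtain ⟨r, hr⟩ := hdvd
    rw [hr] at h3
    have hm := c.H.hm
    have hmpos := c.m_pos
    rcases Hyp_cases c.H (u * (x : G)) with h4 | h4 | h4
    · rw [h4] at h3
      have h5 : m ∣ 1 := Dvd.intro_left _ h3
      have := Nat.le_of_dvd Nat.one_pos h5
      omega
    · rw [h4] at h3
      have h5 : p * r = 1 := by
        have : p * r * m = 1 * m := by rw [h3, one_mul]
        exact Nat.eq_of_mul_eq_mul_right hmpos this
      have h6 : p ∣ 1 := Dvd.intro _ h5
      exact hp.one_lt.ne' (Nat.dvd_one.1 h6)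
    · rw [h4] at h3
      have h5 : p * r = n := by
        have : p * r * m = n * m := by rw [h3, mul_comm]
        exact Nat.eq_of_mul_eq_mul_right hmpos this
      have h6 : p ∣ n := Dvd.intro _ h5
      have h7 := c.n_coprime
      exact (Nat.Prime.coprime_iff_not_dvd hp).1 h7.symm h6
  obtain ⟨PX⟩ : Nonempty (Sylow p X) := inferInstance
  obtain ⟨hPXn, Hx, hHxn, hHxp, hinf, hsup⟩ := Cfsg.Agent.S4035.result key PX
  refine ⟨(PX : Subgroup X).map X.subtype, map_subtype_le _, PX.2.map _, ?_, ?_⟩
  · -- the order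
    have hc : Nat.card ((PX : Subgroup X).map X.subtype) = Nat.card (PX : Subgroup X) :=
      (Nat.card_congr
        ((PX : Subgroup X).equivMapOfInjective X.subtype X.subtype_injective).toEquiv).symm
    rw [hc, hk]
    obtain ⟨j, hj⟩ := PX.2.exists_card_eq
    have hXG : Nat.card X * m = Nat.card G := by rw [← hidx]; exact X.card_mul_index
    have h1 : Nat.card (PX : Subgroup X) * m ∣ p ^ k := by
      have h3 : Nat.card (PX : Subgroup X) * m ∣ Nat.card D * p ^ k := by
        rw [← hk, c.card_G, ← hXG]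
        exact Nat.mul_dvd_mul_right (card_subgroup_dvd_card _) m
      have h4 : (Nat.card (PX : Subgroup X) * m).Coprime (Nat.card D) := by
        rw [hj, c.hma, ← pow_add]
        exact (Nat.Coprime.pow_right _ c.Dcop).symm
      exact h4.dvd_of_dvd_mul_left h3
    have h2 : p ^ k ∣ Nat.card (PX : Subgroup X) * m := by
      have h3 : p ^ k ∣ Nat.card (PX : Subgroup X) * m * (PX : Subgroup X).index := by
        have : Nat.card (PX : Subgroup X) * m * (PX : Subgroup X).index = Nat.card G := by
          rw [mul_right_comm, (PX : Subgroup X).card_mul_index, hXG]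
        rw [this, ← c.card_G, hk]
        exact Dvd.intro_left _ rfl
      have h4 : (p ^ k).Coprime (PX : Subgroup X).index := by
        apply Nat.Coprime.pow_left
        exact (Nat.Prime.coprime_iff_not_dvd hp).2 PX.not_dvd_index
      exact h4.dvd_of_dvd_mul_right h3
    exact Nat.dvd_antisymm h1 h2
  · -- centralizes D
    have hHxi : Hx.index = Nat.card (PX : Subgroup X) := by
      rw [← relIndex_top_right, ← hsup, relIndex_sup_right, ← inf_relIndex_right, inf_comm, hinf,
        relIndex_bot_left]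
    obtain ⟨j, hj⟩ := PX.2.exists_card_eq
    rw [hj] at hHxi
    rintro y ⟨s, hs, rfl⟩
    rw [mem_centralizer_iff]
    intro d hd
    have hdH : (⟨d, hDX hd⟩ : X) ∈ Hx := by
      apply mem_of_coprime_of_index_pow Hx hHxi
      have h1 : orderOf (⟨d, hDX hd⟩ : X) = orderOf d := (orderOf_coe (⟨d, hDX hd⟩ : X)).symm
      rw [h1]
      have h2 : orderOf d ∣ Nat.card D := by
        have := orderOf_dvd_natCard (⟨d, hd⟩ : D)
        rwa [← orderOf_coe] at this
      exact Nat.Coprime.coprime_dvd_left h2 c.Dcop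
    have hcm := commute_of_normal_of_disjoint (PX : Subgroup X) Hx hPXn hHxn
      (disjoint_iff.2 hinf) s ⟨d, hDX hd⟩ hs hdH
    have := congrArg Subtype.val hcm.eq
    simpa using this.symm

/-- every `p`-element of `M = C_G(D)` lies in any `p`-subgroup of `M` of order `|P| / m`. -/
theorem pElt_mem_of (c : Ctx G m n p a D) (S : Subgroup G) (hS : IsPGroup p S)
    (hSc : Nat.card S * m = D.index) (hSM : S ≤ centralizer (D : Set G)) {g : G}
    (hg : g ∈ centralizer (D : Set G)) (hgp : ∃ k : ℕ, orderOf g = p ^ k) : g ∈ S := by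
  have := c.Dn
  obtain ⟨k, hk⟩ := c.Didx
  set M : Subgroup G := centralizer (D : Set G) with hM
  have hMn : M.Normal := normal_centralizer
  set N : Subgroup G := M ⊓ D with hN
  have hNn : N.Normal := inferInstance
  -- a noncentral element of D
  obtain ⟨h0, h0D, h0Z⟩ := SetLike.not_le_iff_exists.1 c.D_not_central
  have hMh0 : M ≤ Cz(h0) := by
    intro x hx
    rw [mem_centralizer_singleton_iff]
    exact ((mem_centralizer_iff.1 hx) h0 h0D).symm
  obtain ⟨R, hRM, hRp, hRdvd⟩ := exists_pSubgroup_le p M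
  have h1 : Nat.card R * m ∣ D.index := c.pbound R hRp (hRM.trans hMh0) h0Z
  rw [← hSc] at h1
  have h2 : Nat.card R ∣ Nat.card S := Nat.dvd_of_mul_dvd_mul_right c.m_pos h1
  -- |M| = |N| p^j
  have h3 : D.relIndex M ∣ p ^ k := hk ▸ relIndex_dvd_index_of_normal D M
  obtain ⟨j, _, hj⟩ := (Nat.dvd_prime_pow (Fact.out : p.Prime)).1 h3
  have h4 : Nat.card N * D.relIndex M = Nat.card M := by
    have := relIndex_mul_relIndex ⊥ N M bot_le inf_le_left
    rw [relIndex_bot_left, relIndex_bot_left, hN, inf_relIndex_left] at this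
    exact this
  have h5 : p ^ j ∣ Nat.card S := by
    apply dvd_trans _ h2
    apply hRdvd
    rw [← h4, hj]
    exact Dvd.intro_left _ rfl
  -- S ⊔ N = M
  have hNcop : (Nat.card N).Coprime p :=
    Nat.Coprime.coprime_dvd_left (card_dvd_of_le inf_le_right) c.Dcop
  obtain ⟨i, hi⟩ := hS.exists_card_eq
  have hSN : S ⊓ N = ⊥ := by
    apply inf_eq_bot_of_coprime
    rw [hi]
    exact (Nat.Coprime.pow_right _ hNcop).symm
  have h6 : Nat.card (S ⊔ N : Subgroup G) = Nat.card S * Nat.card N := card_sup_of_disjoint S N hSN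
  have h7 : S ⊔ N = M := by
    apply eq_of_le_of_card_ge (sup_le hSM inf_le_left)
    rw [h6, ← h4, hj, mul_comm]
    exact Nat.mul_le_mul_right _ (Nat.le_of_dvd Nat.card_pos h5)
  -- decompose g
  have hg' : g ∈ ((S ⊔ N : Subgroup G) : Set G) := by rw [h7]; exact hg
  rw [mul_normal] at hg'
  obtain ⟨s, hs, z, hz, hsz⟩ := hg'
  have hsz' : s * z = g := hsz
  subst hsz'
  have hzD : z ∈ D := hz.2
  have hcomm : Commute s z := ((mem_centralizer_iff.1 (hSM hs)) z hzD).symm
  obtain ⟨kg, hkg⟩ := hgp
  have hs1 : s ^ (p ^ i) = 1 := by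
    have h8 : (⟨s, hs⟩ : S) ^ (p ^ i) = 1 := by rw [← hi]; exact pow_card_eq_one'
    have := congrArg Subtype.val h8
    simpa using this
  have hz1 : z ^ (p ^ (i + kg)) = 1 := by
    have h8 : (s * z) ^ (p ^ (i + kg)) = 1 := by
      rw [pow_add, mul_comm (p ^ i) (p ^ kg), pow_mul, ← hkg, pow_orderOf_eq_one, one_pow]
    have h9 : s ^ (p ^ (i + kg)) = 1 := by
      rw [pow_add, pow_mul, hs1, one_pow]
    rw [hcomm.mul_pow, h9, one_mul] at h8
    exact h8
  have hz2 : orderOf z ∣ Nat.card D := by
    have := orderOf_dvd_natCard (⟨z, hzD⟩ : D)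
    rwa [← orderOf_coe] at this
  have hz3 : orderOf z = 1 := by
    have h9 : orderOf z ∣ p ^ (i + kg) := orderOf_dvd_of_pow_eq_one hz1
    have h10 : (Nat.card D).Coprime (p ^ (i + kg)) := Nat.Coprime.pow_right _ c.Dcop
    exact Nat.eq_one_of_dvd_coprimes h10 hz2 h9
  rw [orderOf_eq_one_iff] at hz3
  rw [hz3, mul_one]
  exact hs

end Ctx

end Cfsg.Agent.Lib.Helper40.CR2
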