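import Mathlib
import Cfsg.Agent.Lib.Helper40.CR2Step2

/-!
# `K-S4284-A` (main case), part 3: `W`, the abelian normal subgroup `M = W × D`
-/

set_option autoImplicit false

namespace Cfsg.Agent.Lib.Helper40.CR2

open Subgroup Cfsg.Agent.Lib.Helper74.CR2 Cfsg.Agent.Lib.Helper40.CR2Base

local notation "Cz(" x ")" => centralizer ({x} : Set _)

theorem orderOf_conj_eq {G : Type*} [Group G] (g x : G) : orderOf (g * x * g⁻¹) = orderOf x :=
  orderOf_injective (MulAut.conj g).toMonoidHom (MulAut.conj g).injective x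

/-- context with the normal abelian Sylow `p`-subgroup `W` of `M = C_G(D)`. -/
structure Ctx2 (G : Type*) [Group G] (m n p a : ℕ) (D W : Subgroup G) : Prop where
  c : Ctx G m n p a D
  Wn : W.Normal
  Wp : IsPGroup p W
  Wcard : Nat.card W * m = D.index
  WM : W ≤ centralizer (D : Set G)
  Wall : ∀ g ∈ centralizer (D : Set G), (∃ k : ℕ, orderOf g = p ^ k) → g ∈ W
  Wab : ∀ x ∈ W, ∀ y ∈ W, x * y = y * x
  Wnc : ¬ W ≤ center G

variable {G : Type*} [Group G] [Finite G] {m n p a : ℕ} {D W : Subgroup G} [Fact p.Prime]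

theorem Ctx.exists_Ctx2 (c : Ctx G m n p a D) {u : G} (hu : ∃ k : ℕ, orderOf u = p ^ k)
    (hidx : (Cz(u)).index = m) : ∃ W : Subgroup G, Ctx2 G m n p a D W := by
  have := c.Dn
  have hMn : (centralizer (D : Set G)).Normal := normal_centralizer
  obtain ⟨S, hSu, hSp, hSc, hSM⟩ := c.exists_sylow_of_small hu hidx
  have hall : ∀ g ∈ centralizer (D : Set G), (∃ k : ℕ, orderOf g = p ^ k) → g ∈ S :=
    fun g hg hgp => c.pElt_mem_of S hSp hSc hSM hg hgp
  have hpel : ∀ x ∈ S, ∃ k : ℕ, orderOf x = p ^ k := by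
    intro x hx
    obtain ⟨k, hk⟩ := (IsPGroup.iff_orderOf.1 hSp) ⟨x, hx⟩
    exact ⟨k, by rw [← hk, ← orderOf_coe]⟩
  have hm1 : m ≠ 1 := c.H.hm.ne'
  refine ⟨S, c, ⟨fun w hw g => ?_⟩, hSp, hSc, hSM, hall, ?_, ?_⟩
  · apply hall _ (hMn.conj_mem w (hSM hw) g)
    rw [orderOf_conj_eq]
    exact hpel w hw
  · intro x hx y hy
    by_cases hxZ : x ∈ center G
    · exact ((mem_center_iff.1 hxZ) y).symm
    · have hxi : (Cz(x)).index = m := by
        rcases (c.mem_M_iff x).1 (hSM hx) with h | h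
        · exact absurd ((Cfsg.Agent.Lib.Helper74.cm_idx_eq_one_iff x).1 h) hxZ
        · exact h
      obtain ⟨S', hS'x, hS'p, hS'c, hS'M⟩ := c.exists_sylow_of_small (hpel x hx) hxi
      have hy' : y ∈ S' := c.pElt_mem_of S' hS'p hS'c hS'M (hSM hy) (hpel y hy)
      exact (mem_centralizer_singleton_iff.1 (hS'x hy')).symm
  · intro hle
    have huM : u ∈ centralizer (D : Set G) := (c.mem_M_iff u).2 (Or.inr hidx)
    have huZ := hle (hall u huM hu)
    rw [← Cfsg.Agent.Lib.Helper74.cm_idx_eq_one_iff, hidx] at huZ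
    exact hm1 huZ

namespace Ctx2

theorem pElt_of_mem (c2 : Ctx2 G m n p a D W) {x : G} (hx : x ∈ W) :
    ∃ k : ℕ, orderOf x = p ^ k := by
  obtain ⟨k, hk⟩ := (IsPGroup.iff_orderOf.1 c2.Wp) ⟨x, hx⟩
  exact ⟨k, by rw [← hk, ← orderOf_coe]⟩

theorem not_mem_M (c2 : Ctx2 G m n p a D W) {t : G} (ht : ∃ k : ℕ, orderOf t = p ^ k)
    (htW : t ∉ W) : t ∉ centralizer (D : Set G) := fun h => htW (c2.Wall t h ht)

theorem big (c2 : Ctx2 G m n p a D W) {t : G} (ht : ∃ k : ℕ, orderOf t = p ^ k)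
    (htW : t ∉ W) : (Cz(t)).index = m * n := by
  rcases Hyp_cases c2.c.H t with h | h | h
  · exact absurd ((c2.c.mem_M_iff t).2 (Or.inl h)) (c2.not_mem_M ht htW)
  · exact absurd ((c2.c.mem_M_iff t).2 (Or.inr h)) (c2.not_mem_M ht htW)
  · exact h

theorem isPGroup_zpowers {t : G} (ht : ∃ k : ℕ, orderOf t = p ^ k) : IsPGroup p (zpowers t) := by
  obtain ⟨k, hk⟩ := ht
  exact IsPGroup.of_card (by rw [Nat.card_zpowers, hk])

/-- (3b) an element of `D` commuting with a `p`-element outside `W` is central. -/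
theorem central_of_commute (c2 : Ctx2 G m n p a D W) {t : G} (ht : ∃ k : ℕ, orderOf t = p ^ k)
    (htW : t ∉ W) {h : G} (hD : h ∈ D) (hc : h * t = t * h) : h ∈ center G := by
  by_contra hZ
  have := c2.Wn
  have hKp : IsPGroup p (zpowers t ⊔ W : Subgroup G) :=
    IsPGroup.to_sup_of_normal_right (isPGroup_zpowers ht) c2.Wp
  have hKh : zpowers t ⊔ W ≤ Cz(h) := by
    apply sup_le
    · rw [zpowers_le, mem_centralizer_singleton_iff]
      exact hc.symm
    · intro w hw
      rw [mem_centralizer_singleton_iff]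
      exact ((mem_centralizer_iff.1 (c2.WM hw)) h hD).symm
  have h1 := c2.c.pbound _ hKp hKh hZ
  rw [← c2.Wcard] at h1
  have h2 : Nat.card (zpowers t ⊔ W : Subgroup G) ∣ Nat.card W :=
    Nat.dvd_of_mul_dvd_mul_right c2.c.m_pos h1
  have h3 : W = zpowers t ⊔ W :=
    eq_of_le_of_card_ge le_sup_right (Nat.le_of_dvd Nat.card_pos h2)
  apply htW
  rw [h3]
  exact le_sup_left (a := zpowers t) (mem_zpowers t)

/-- (3c) `W` lies in every Sylow `p`-subgroup, properly. -/
theorem le_sylow (c2 : Ctx2 G m n p a D W) (Q : Sylow p G) : W ≤ Q := by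
  have := c2.Wn
  have h1 : IsPGroup p ((Q : Subgroup G) ⊔ W : Subgroup G) :=
    IsPGroup.to_sup_of_normal_right Q.2 c2.Wp
  have h2 := Q.is_maximal' h1 le_sup_left
  exact le_sup_right.trans h2.le

theorem exists_not_mem (c2 : Ctx2 G m n p a D W) (Q : Sylow p G) : ∃ t ∈ Q, t ∉ W := by
  have h1 : W < (Q : Subgroup G) := by
    refine lt_of_le_of_ne (c2.le_sylow Q) ?_
    intro h
    have h2 := c2.c.card_sylow Q
    rw [← h, ← c2.Wcard] at h2
    have hm := c2.c.H.hm
    have : Nat.card W * 1 < Nat.card W * m := Nat.mul_lt_mul_of_pos_left hm Nat.card_pos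
    omega
  obtain ⟨t, ht, htW⟩ := SetLike.exists_of_lt h1
  exact ⟨t, ht, htW⟩

theorem pElt_of_mem_sylow (Q : Sylow p G) {x : G} (hx : x ∈ Q) :
    ∃ k : ℕ, orderOf x = p ^ k := by
  obtain ⟨k, hk⟩ := (IsPGroup.iff_orderOf.1 Q.2) ⟨x, hx⟩
  exact ⟨k, by rw [← hk, ← orderOf_coe]⟩

/-- (3d') for a big element `g`, `|C_D(g)| n = |D|`. -/
theorem card_inf_big (c2 : Ctx2 G m n p a D W) {g : G} (hg : (Cz(g)).index = m * n) :
    Nat.card (Cz(g) ⊓ D : Subgroup G) * n = Nat.card D := by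
  have := c2.c.Dn
  obtain ⟨k, hk⟩ := c2.c.Didx
  set X : Subgroup G := Cz(g) with hX
  have h1 : Nat.card X * (m * n) = Nat.card D * p ^ k := by
    rw [← hg, ← hk, c2.c.card_G]; exact X.card_mul_index
  have h3 : D.relIndex X ∣ p ^ k := hk ▸ relIndex_dvd_index_of_normal D X
  obtain ⟨j, _, hj⟩ := (Nat.dvd_prime_pow (Fact.out : p.Prime)).1 h3
  have h4 : Nat.card (X ⊓ D : Subgroup G) * D.relIndex X = Nat.card X := by
    have := relIndex_mul_relIndex ⊥ (X ⊓ D) X bot_le inf_le_left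
    rw [relIndex_bot_left, relIndex_bot_left, inf_relIndex_left] at this
    exact this
  have h5 : Nat.card (X ⊓ D : Subgroup G) * n * p ^ (j + a) = Nat.card D * p ^ k := by
    rw [← h1, ← h4, hj, c2.c.hma, pow_add]; ring
  have h6 : (Nat.card (X ⊓ D : Subgroup G) * n).Coprime p := by
    apply Nat.Coprime.mul_left _ c2.c.n_coprime
    exact Nat.Coprime.coprime_dvd_left (card_dvd_of_le inf_le_right) c2.c.Dcop
  exact (eq_of_mul_pow_eq h6 c2.c.Dcop h5).1

theorem inf_eq_of_not_mem (c2 : Ctx2 G m n p a D W) {t : G} (ht : ∃ k : ℕ, orderOf t = p ^ k)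
    (htW : t ∉ W) : Cz(t) ⊓ D = D ⊓ center G := by
  ext h
  rw [mem_inf, mem_inf, mem_centralizer_singleton_iff]
  constructor
  · rintro ⟨h1, h2⟩
    exact ⟨h2, c2.central_of_commute ht htW h2 h1⟩
  · rintro ⟨h1, h2⟩
    exact ⟨(mem_center_iff.1 h2 t).symm, h1⟩

theorem card_DZ (c2 : Ctx2 G m n p a D W) :
    Nat.card (D ⊓ center G : Subgroup G) * n = Nat.card D := by
  obtain ⟨Q⟩ : Nonempty (Sylow p G) := inferInstance
  obtain ⟨t, htQ, htW⟩ := c2.exists_not_mem Q
  have ht := pElt_of_mem_sylow Q htQ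
  rw [← c2.inf_eq_of_not_mem ht htW]
  exact c2.card_inf_big (c2.big ht htW)

theorem idx_of_mem_D (c2 : Ctx2 G m n p a D W) {h : G} (hD : h ∈ D) (hZ : h ∉ center G) :
    (Cz(h)).index = m := by
  rcases Hyp_cases c2.c.H h with h1 | h1 | h1
  · exact absurd ((Cfsg.Agent.Lib.Helper74.cm_idx_eq_one_iff h).1 h1) hZ
  · exact h1
  · exfalso
    have h2 := c2.card_inf_big h1
    have h3 := c2.card_DZ
    have hn : 0 < n := lt_trans Nat.zero_lt_one c2.c.H.hn
    have h4 : Nat.card (Cz(h) ⊓ D : Subgroup G) = Nat.card (D ⊓ center G : Subgroup G) :=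
      Nat.eq_of_mul_eq_mul_right hn (h2.trans h3.symm)
    have h5 : D ⊓ center G ≤ Cz(h) ⊓ D := by
      intro x hx
      rw [mem_inf] at hx
      rw [mem_inf, mem_centralizer_singleton_iff]
      exact ⟨(mem_center_iff.1 hx.2 h).symm, hx.1⟩
    have h6 : D ⊓ center G = Cz(h) ⊓ D := eq_of_le_of_card_ge h5 h4.le
    have h7 : h ∈ Cz(h) ⊓ D := by
      rw [mem_inf, mem_centralizer_singleton_iff]
      exact ⟨rfl, hD⟩
    rw [← h6, mem_inf] at h7
    exact hZ h7.2

theorem D_le_M (c2 : Ctx2 G m n p a D W) : D ≤ centralizer (D : Set G) := by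
  intro h hD
  by_cases hZ : h ∈ center G
  · rw [mem_centralizer_iff]
    intro d _
    exact (mem_center_iff.1 hZ d)
  · exact (c2.c.mem_M_iff h).2 (Or.inr (c2.idx_of_mem_D hD hZ))

theorem W_inf_D (c2 : Ctx2 G m n p a D W) : W ⊓ D = ⊥ := by
  obtain ⟨i, hi⟩ := c2.Wp.exists_card_eq
  apply inf_eq_bot_of_coprime
  rw [hi]
  exact (Nat.Coprime.pow_right _ c2.c.Dcop).symm

theorem M_eq (c2 : Ctx2 G m n p a D W) : W ⊔ D = centralizer (D : Set G) := by
  have := c2.c.Dn
  obtain ⟨k, hk⟩ := c2.c.Didx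
  set M : Subgroup G := centralizer (D : Set G) with hM
  have h6 : Nat.card (W ⊔ D : Subgroup G) = Nat.card W * Nat.card D :=
    card_sup_of_disjoint W D c2.W_inf_D
  apply eq_of_le_of_card_ge (sup_le c2.WM c2.D_le_M)
  obtain ⟨R, hRM, hRp, hRdvd⟩ := exists_pSubgroup_le p M
  have hRW : R ≤ W := by
    intro x hx
    apply c2.Wall x (hRM hx)
    obtain ⟨k', hk'⟩ := (IsPGroup.iff_orderOf.1 hRp) ⟨x, hx⟩
    exact ⟨k', by rw [← hk', ← orderOf_coe]⟩
  have h3 : D.relIndex M ∣ p ^ k := hk ▸ relIndex_dvd_index_of_normal D M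
  obtain ⟨j, _, hj⟩ := (Nat.dvd_prime_pow (Fact.out : p.Prime)).1 h3
  have h4 : Nat.card D * D.relIndex M = Nat.card M := by
    have := relIndex_mul_relIndex ⊥ D M bot_le c2.D_le_M
    rw [relIndex_bot_left, relIndex_bot_left] at this
    exact this
  have h5 : p ^ j ∣ Nat.card W := by
    apply dvd_trans _ (card_dvd_of_le hRW)
    apply hRdvd
    rw [← h4, hj]
    exact Dvd.intro_left _ rfl
  rw [h6, ← h4, hj, mul_comm]
  exact Nat.mul_le_mul_right _ (Nat.le_of_dvd Nat.card_pos h5)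

theorem M_index (c2 : Ctx2 G m n p a D W) : (centralizer (D : Set G)).index = m := by
  have := c2.c.Dn
  have h1 : Nat.card (centralizer (D : Set G)) = Nat.card W * Nat.card D := by
    rw [← c2.M_eq]; exact card_sup_of_disjoint W D c2.W_inf_D
  have h2 := (centralizer (D : Set G)).card_mul_index
  rw [← c2.c.card_G, ← c2.Wcard, h1] at h2
  have h3 : Nat.card W * Nat.card D * (centralizer (D : Set G)).index =
      Nat.card W * Nat.card D * m := by rw [h2]; ring
  exact Nat.eq_of_mul_eq_mul_left (Nat.mul_pos Nat.card_pos Nat.card_pos) h3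

theorem M_comm (c2 : Ctx2 G m n p a D W) :
    ∀ x ∈ centralizer (D : Set G), ∀ y ∈ centralizer (D : Set G), x * y = y * x := by
  have hWD : D ≤ centralizer (W : Set G) := le_centralizer_iff.1 c2.WM
  have hWW : W ≤ centralizer (W : Set G) := by
    intro x hx
    rw [mem_centralizer_iff]
    intro y hy
    exact c2.Wab y hy x hx
  have h1 : W ⊔ D ≤ centralizer ((W ⊔ D : Subgroup G) : Set G) := by
    apply sup_le
    · rw [le_centralizer_iff]
      exact sup_le hWW hWD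
    · rw [le_centralizer_iff]
      exact sup_le c2.WM c2.D_le_M
  rw [c2.M_eq] at h1
  intro x hx y hy
  exact ((mem_centralizer_iff.1 (h1 hx)) y hy).symm

theorem Cz_eq_M (c2 : Ctx2 G m n p a D W) {w : G} (hw : w ∈ centralizer (D : Set G))
    (hZ : w ∉ center G) : Cz(w) = centralizer (D : Set G) := by
  have h1 : centralizer (D : Set G) ≤ Cz(w) := by
    intro x hx
    rw [mem_centralizer_singleton_iff]
    exact c2.M_comm x hx w hw
  have hwi : (Cz(w)).index = m := by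
    rcases (c2.c.mem_M_iff w).1 hw with h | h
    · exact absurd ((Cfsg.Agent.Lib.Helper74.cm_idx_eq_one_iff w).1 h) hZ
    · exact h
  have h2 := relIndex_mul_index h1
  rw [hwi, c2.M_index] at h2
  have h3 : (centralizer (D : Set G)).relIndex (Cz(w)) = 1 := by
    have : (centralizer (D : Set G)).relIndex (Cz(w)) * m = 1 * m := by rw [h2, one_mul]
    exact Nat.eq_of_mul_eq_mul_right c2.c.m_pos this
  exact le_antisymm (relIndex_eq_one.1 h3) h1

end Ctx2

end Cfsg.Agent.Lib.Helper40.CR2
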