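import Mathlib
import Cfsg.Agent.Lib.Helper40.CR2Step3
import Cfsg.Agent.Lib.Helper40.CR2Norm
import Cfsg.Agent.Lib.Helper66.ConjFixed

/-!
# `K-S4284-A` (main case), part 4: `m = p` and `m ∣ n - 1`
-/

set_option autoImplicit false

namespace Cfsg.Agent.Lib.Helper40.CR2

open Subgroup Cfsg.Agent.Lib.Helper74.CR2 Cfsg.Agent.Lib.Helper40.CR2Base
open scoped commutatorElement

local notation "Cz(" x ")" => centralizer ({x} : Set _)

variable {G : Type*} [Group G] [Finite G] {m n p a : ℕ} {D W : Subgroup G} [Fact p.Prime]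

namespace Ctx2

theorem D_abelian (c2 : Ctx2 G m n p a D W) : ∀ u ∈ D, ∀ v ∈ D, u * v = v * u :=
  fun u hu v hv => (mem_centralizer_iff.1 (c2.D_le_M hv)) u hu

theorem orderOf_coprime_of_mem_D (c2 : Ctx2 G m n p a D W) {z : G} (hz : z ∈ D) :
    (orderOf z).Coprime p := by
  have hz2 : orderOf z ∣ Nat.card D := by
    have := orderOf_dvd_natCard (⟨z, hz⟩ : D)
    rwa [← orderOf_coe] at this
  exact Nat.Coprime.coprime_dvd_left hz2 c2.c.Dcop

/-- the key facts on a Sylow `p`-subgroup `P`: `P / W` is elementary abelian. -/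
theorem sylow_quot (c2 : Ctx2 G m n p a D W) (P : Sylow p G) :
    (∀ b ∈ P, b ^ p ∈ W) ∧ ∀ b₁ ∈ P, ∀ b₂ ∈ P, b₂⁻¹ * b₁⁻¹ * b₂ * b₁ ∈ W := by
  have := c2.Wn
  have hWP := c2.le_sylow P
  obtain ⟨w, hwW, hwZ, hwc, hwp⟩ := exists_central_commutators (P : Subgroup G) W P.2 hWP c2.Wnc
  have hCw : Cz(w) = centralizer (D : Set G) := c2.Cz_eq_M (c2.WM hwW) hwZ
  have hker : ∀ x ∈ P, ⁅w, x⁆ = 1 → x ∈ W := by
    intro x hx h1
    rw [commutatorElement_eq_one_iff_mul_comm] at h1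
    have h2 : x ∈ Cz(w) := by
      rw [mem_centralizer_singleton_iff]; exact h1.symm
    rw [hCw] at h2
    exact c2.Wall x h2 (pElt_of_mem_sylow P hx)
  have hinv : ∀ b ∈ P, ⁅w, b⁻¹⁆ = ⁅w, b⁆⁻¹ := by
    intro b hb
    have h1 : ⁅w, b * b⁻¹⁆ = ⁅w, b⁆ * ⁅w, b⁻¹⁆ := crr (hwc _ (inv_mem hb))
    rw [mul_inv_cancel, commutatorElement_one_right] at h1
    exact (inv_eq_of_mul_eq_one_right h1.symm).symm
  refine ⟨fun b hb => ?_, fun b₁ hb₁ b₂ hb₂ => ?_⟩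
  · apply hker _ (pow_mem hb p)
    rw [crr_pow (hwc b hb), ← crl_pow (hwc b hb)]
    rw [commutatorElement_eq_one_iff_mul_comm]
    exact ((mem_center_iff.1 hwp) b).symm
  · apply hker _ (mul_mem (mul_mem (mul_mem (inv_mem hb₂) (inv_mem hb₁)) hb₂) hb₁)
    rw [crr (hwc _ hb₁), crr (hwc _ hb₂), crr (hwc _ (inv_mem hb₁)), hinv b₂ hb₂, hinv b₁ hb₁]
    have hz1 := hwc b₁ hb₁
    have hz2 := hwc b₂ hb₂
    have h1 : ⁅w, b₁⁆⁻¹ * ⁅w, b₂⁆ = ⁅w, b₂⁆ * ⁅w, b₁⁆⁻¹ :=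
      ((mem_center_iff.1 hz2) _)
    rw [mul_assoc ⁅w, b₂⁆⁻¹, h1]
    group

/-- `W`-cosets of a cyclic extension: `|⟨t⟩ W| ∣ p |W|` if `t ^ p ∈ W`. -/
theorem card_zpowers_sup_dvd (c2 : Ctx2 G m n p a D W) {t : G} (ht : ∃ k : ℕ, orderOf t = p ^ k)
    (htp : t ^ p ∈ W) : Nat.card (zpowers t ⊔ W : Subgroup G) ∣ Nat.card W * p := by
  have := c2.Wn
  have hp : p.Prime := Fact.out
  have h1 := relIndex_mul_relIndex ⊥ W (zpowers t ⊔ W) bot_le le_sup_right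
  rw [relIndex_bot_left, relIndex_bot_left, relIndex_sup_right] at h1
  rw [← h1]
  apply Nat.mul_dvd_mul_left
  have h2 : W.relIndex (zpowers t) ∣ (zpowers (t ^ p)).relIndex (zpowers t) :=
    relIndex_dvd_of_le_left _ (zpowers_le.2 htp)
  apply h2.trans
  have h3 := relIndex_mul_relIndex ⊥ (zpowers (t ^ p)) (zpowers t) bot_le
    (zpowers_le.2 (pow_mem (mem_zpowers t) p))
  rw [relIndex_bot_left, relIndex_bot_left, Nat.card_zpowers, Nat.card_zpowers] at h3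
  obtain ⟨k, hk⟩ := ht
  rcases Nat.eq_zero_or_pos k with hk0 | hk0
  · -- t = 1
    rw [hk0, pow_zero, orderOf_eq_one_iff] at hk
    subst hk
    rw [one_pow, relIndex_self]
    exact one_dvd _
  · have hdvd : p ∣ orderOf t := by rw [hk]; exact dvd_pow_self p hk0.ne'
    rw [orderOf_pow_of_dvd hp.pos.ne' hdvd] at h3
    obtain ⟨q, hq⟩ := hdvd
    rw [hq, Nat.mul_div_cancel_left _ hp.pos] at h3
    have hq0 : 0 < q := by
      rcases Nat.eq_zero_or_pos q with h | h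
      · rw [h, mul_zero] at hq
        exact absurd hq (orderOf_pos t).ne'
      · exact h
    have h4 : (zpowers (t ^ p)).relIndex (zpowers t) = p := by
      have : q * (zpowers (t ^ p)).relIndex (zpowers t) = q * p := by rw [h3, mul_comm]
      exact Nat.eq_of_mul_eq_mul_left hq0 this
    rw [h4]

/-- Step 5: `m = p`. -/
theorem a_eq_one (c2 : Ctx2 G m n p a D W) : a = 1 := by
  have := c2.Wn
  have := c2.c.Dn
  have hp : p.Prime := Fact.out
  by_contra ha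
  have ha2 : 2 ≤ a := by have := c2.c.a_pos; omega
  obtain ⟨P⟩ : Nonempty (Sylow p G) := inferInstance
  have hWP := c2.le_sylow P
  obtain ⟨hpow, hcm⟩ := c2.sylow_quot P
  obtain ⟨t₁, ht₁P, ht₁W⟩ := c2.exists_not_mem P
  have ht₁ := pElt_of_mem_sylow P ht₁P
  -- the subgroup ⟨t₁⟩ W is proper in P
  have hK1 : zpowers t₁ ⊔ W ≤ (P : Subgroup G) := sup_le (zpowers_le.2 ht₁P) hWP
  have hK1lt : zpowers t₁ ⊔ W < (P : Subgroup G) := by
    refine lt_of_le_of_ne hK1 ?_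
    intro h
    have h1 := c2.card_zpowers_sup_dvd ht₁ (hpow t₁ ht₁P)
    rw [h, c2.c.card_sylow P, ← c2.Wcard, c2.c.hma] at h1
    have h2 : p ^ a ∣ p := Nat.dvd_of_mul_dvd_mul_left Nat.card_pos h1
    have h3 : p ^ 2 ∣ p := (pow_dvd_pow p ha2).trans h2
    have h4 := Nat.le_of_dvd hp.pos h3
    have h5 : p * 2 ≤ p * p := Nat.mul_le_mul_left p hp.two_le
    have h6 : p ^ 2 = p * p := sq p
    have h7 := hp.pos
    omega
  obtain ⟨t₂, ht₂P, ht₂K⟩ := SetLike.exists_of_lt hK1lt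
  have ht₂j : ∀ j : ℕ, t₂ * t₁ ^ j ∉ W := by
    intro j h
    apply ht₂K
    have h1 : t₂ = (t₂ * t₁ ^ j) * (t₁ ^ j)⁻¹ := by group
    rw [h1]
    exact mul_mem (le_sup_right (a := zpowers t₁) h)
      (inv_mem (le_sup_left (b := W) (pow_mem (mem_zpowers t₁) j)))
  have hcent : ∀ x ∈ W, ∀ u ∈ D, x * u = u * x := fun x hx u hu =>
    ((mem_centralizer_iff.1 (c2.WM hx)) u hu).symm
  have key : ∀ u ∈ D, u ^ p ∈ D ⊓ center G := by
    intro u hu
    refine Cfsg.Agent.Lib.Helper40.CR2Norm.pow_prime_mem_of_fixed D c2.D_abelian (D ⊓ center G)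
      inf_le_right p hp t₁ t₂ (hcent _ (hpow t₁ ht₁P)) ?_ (hcent _ (hcm t₁ ht₁P t₂ ht₂P)) ?_ ?_ u hu
    · intro j
      exact hcent _ (hpow _ (mul_mem ht₂P (pow_mem ht₁P j)))
    · intro v hv hc
      exact mem_inf.2 ⟨hv, c2.central_of_commute ht₁ ht₁W hv hc.symm⟩
    · intro j v hv hc
      exact mem_inf.2 ⟨hv, c2.central_of_commute
        (pElt_of_mem_sylow P (mul_mem ht₂P (pow_mem ht₁P j))) (ht₂j j) hv hc.symm⟩
  apply c2.c.D_not_central
  intro u hu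
  have h1 : u ^ p ∈ center G := (mem_inf.1 (key u hu)).2
  obtain ⟨j, hj⟩ := exists_pow_eq_self_of_coprime (x := u) (n := p)
    (c2.orderOf_coprime_of_mem_D hu).symm
  rw [← hj]
  exact pow_mem h1 j

theorem m_eq_p (c2 : Ctx2 G m n p a D W) : m = p := by
  rw [c2.c.hma, c2.a_eq_one, pow_one]

/-- Step 4: `p ∣ n - 1`. -/
theorem p_dvd_pred (c2 : Ctx2 G m n p a D W) : p ∣ n - 1 := by
  have := c2.c.Dn
  obtain ⟨Q⟩ : Nonempty (Sylow p G) := inferInstance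
  obtain ⟨t, htQ, htW⟩ := c2.exists_not_mem Q
  have ht := pElt_of_mem_sylow Q htQ
  have h1 := Cfsg.Agent.Lib.Helper66.card_modEq_card_inf_centralizer_singleton t D
    (isPGroup_zpowers ht) (by rw [normalizer_eq_top]; exact mem_top t)
  rw [inf_comm, c2.inf_eq_of_not_mem ht htW, ← c2.card_DZ] at h1
  have hn : 1 ≤ n := c2.c.H.hn.le
  have h2 : Nat.card (D ⊓ center G : Subgroup G) ≤ Nat.card (D ⊓ center G : Subgroup G) * n :=
    Nat.le_mul_of_pos_right _ hn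
  have h3 := (Nat.modEq_iff_dvd' h2).1 h1.symm
  rw [← Nat.mul_sub_one] at h3
  have h4 : (Nat.card (D ⊓ center G : Subgroup G)).Coprime p :=
    Nat.Coprime.coprime_dvd_left (card_dvd_of_le inf_le_left) c2.c.Dcop
  exact h4.symm.dvd_of_dvd_mul_left h3

end Ctx2

end Cfsg.Agent.Lib.Helper40.CR2
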