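import Mathlib
import Cfsg.Agent.Lib.Helper40.CR2Step5
import Cfsg.Agent.Lib.Helper80.PGroup

/-!
# `K-S4284-A` (main case), part 5: the derived group of a Sylow `p`-subgroup, and the assembly
-/

set_option autoImplicit false

namespace Cfsg.Agent.Lib.Helper40.CR2

open Subgroup Cfsg.Agent.Lib.Helper74.CR2 Cfsg.Agent.Lib.Helper40.CR2Base

local notation "Cz(" x ")" => centralizer ({x} : Set _)

variable {G : Type*} [Group G] [Finite G] {m n p a : ℕ} {D W : Subgroup G} [Fact p.Prime]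

namespace Ctx2

/-- (6b) the order of the centralizer of a `p`-element outside `W`. -/
theorem card_Cz_of_not_mem (c2 : Ctx2 G m n p a D W) {t : G} (ht : ∃ k : ℕ, orderOf t = p ^ k)
    (htW : t ∉ W) : Nat.card (Cz(t)) = Nat.card (D ⊓ center G : Subgroup G) * Nat.card W := by
  have h1 := (Cz(t)).card_mul_index
  rw [c2.big ht htW, ← c2.c.card_G, ← c2.card_DZ, ← c2.Wcard] at h1
  have hn : 0 < n := lt_trans Nat.zero_lt_one c2.c.H.hn
  have h2 : Nat.card (Cz(t)) * (m * n) =
      Nat.card (D ⊓ center G : Subgroup G) * Nat.card W * (m * n) := by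
    rw [h1]; ring
  exact Nat.eq_of_mul_eq_mul_right (Nat.mul_pos c2.c.m_pos hn) h2

/-- (6c) `|W : C_W(t)| = p` for a `p`-element `t` outside `W`. -/
theorem relIndex_Cz_of_not_mem (c2 : Ctx2 G m n p a D W) {t : G}
    (ht : ∃ k : ℕ, orderOf t = p ^ k) (htW : t ∉ W) : (Cz(t)).relIndex W = p := by
  have := c2.Wn
  have hp : p.Prime := Fact.out
  obtain ⟨R, hRX, hRp, hRdvd⟩ := exists_pSubgroup_le p (Cz(t))
  obtain ⟨i, hi⟩ := c2.Wp.exists_card_eq
  have h1 : Nat.card W ∣ Nat.card R := by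
    rw [hi]
    apply hRdvd
    rw [c2.card_Cz_of_not_mem ht htW, hi]
    exact Dvd.intro_left _ rfl
  have h2 : IsPGroup p (R ⊔ W : Subgroup G) := IsPGroup.to_sup_of_normal_right hRp c2.Wp
  obtain ⟨Q1, hQ1⟩ := h2.exists_le_sylow
  have h3 : Nat.card (R ⊔ W : Subgroup G) ∣ Nat.card W * p := by
    have := card_dvd_of_le hQ1
    rwa [c2.c.card_sylow Q1, ← c2.Wcard, c2.m_eq_p] at this
  have h4 : Nat.card R * R.relIndex W = Nat.card (R ⊔ W : Subgroup G) := by
    have := relIndex_mul_relIndex ⊥ R (R ⊔ W) bot_le le_sup_left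
    rw [relIndex_bot_left, relIndex_bot_left,
      ← Cfsg.Agent.Lib.Helper40.relIndex_eq_relIndex_sup_of_normal] at this
    exact this
  have h5 : R.relIndex W ∣ p := by
    have h6 : Nat.card W * R.relIndex W ∣ Nat.card W * p :=
      (Nat.mul_dvd_mul_right h1 _).trans (h4 ▸ h3)
    exact Nat.dvd_of_mul_dvd_mul_left Nat.card_pos h6
  have h6 : (Cz(t)).relIndex W ∣ p := (relIndex_dvd_of_le_left W hRX).trans h5
  rcases (Nat.dvd_prime hp).1 h6 with h7 | h7
  · exfalso
    rw [relIndex_eq_one] at h7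
    obtain ⟨w, hwW, hwZ⟩ := SetLike.not_le_iff_exists.1 c2.Wnc
    have h8 : w * t = t * w := mem_centralizer_singleton_iff.1 (h7 hwW)
    have h9 : t ∈ Cz(w) := by
      rw [mem_centralizer_singleton_iff]; exact h8.symm
    rw [c2.Cz_eq_M (c2.WM hwW) hwZ] at h9
    exact c2.not_mem_M ht htW h9
  · exact h7

/-- Step 6: the derived group of every Sylow `p`-subgroup has order `p`. -/
theorem card_commutator_sylow (c2 : Ctx2 G m n p a D W) (Q : Sylow p G) :
    Nat.card (commutator (Q : Subgroup G)) = p := by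
  have := c2.Wn
  have hp : p.Prime := Fact.out
  have hWQ := c2.le_sylow Q
  obtain ⟨t, htQ, htW⟩ := c2.exists_not_mem Q
  have ht := pElt_of_mem_sylow Q htQ
  obtain ⟨w, hwW, hwZ⟩ := SetLike.not_le_iff_exists.1 c2.Wnc
  have hCw := c2.Cz_eq_M (c2.WM hwW) hwZ
  -- Q = ⟨t⟩ W
  have hQeq : zpowers t ⊔ W = (Q : Subgroup G) := by
    have hle : zpowers t ⊔ W ≤ (Q : Subgroup G) := sup_le (zpowers_le.2 htQ) hWQ
    apply eq_of_le_of_card_ge hle
    have hKp : IsPGroup p (zpowers t ⊔ W : Subgroup G) :=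
      IsPGroup.to_sup_of_normal_right (isPGroup_zpowers ht) c2.Wp
    obtain ⟨x, hx⟩ := hKp.exists_card_eq
    obtain ⟨i, hi⟩ := c2.Wp.exists_card_eq
    have hlt : Nat.card W < Nat.card (zpowers t ⊔ W : Subgroup G) := by
      apply lt_of_le_of_ne (Nat.le_of_dvd Nat.card_pos (card_dvd_of_le le_sup_right))
      intro h
      have h3 : W = zpowers t ⊔ W := eq_of_le_of_card_ge le_sup_right h.ge
      apply htW
      rw [h3]
      exact le_sup_left (a := zpowers t) (mem_zpowers t)
    rw [c2.c.card_sylow Q, ← c2.Wcard, c2.m_eq_p]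
    rw [hx, hi] at hlt ⊢
    have hix : i < x := (Nat.pow_lt_pow_iff_right hp.one_lt).1 hlt
    calc p ^ i * p = p ^ (i + 1) := (pow_succ p i).symm
      _ ≤ p ^ x := Nat.pow_le_pow_right hp.pos hix
  -- the centre of Q
  have hmap : (center (Q : Subgroup G)).map (Q : Subgroup G).subtype = W ⊓ Cz(t) := by
    ext y
    rw [mem_map, mem_inf, mem_centralizer_singleton_iff]
    constructor
    · rintro ⟨x, hx, rfl⟩
      rw [mem_center_iff] at hx
      have h1 : ∀ z (hz : z ∈ (Q : Subgroup G)), z * (x : G) = (x : G) * z := by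
        intro z hz
        have := congrArg Subtype.val (hx ⟨z, hz⟩)
        simpa using this
      refine ⟨?_, ?_⟩
      · apply c2.Wall _ _ (pElt_of_mem_sylow Q x.2)
        rw [← hCw, mem_centralizer_singleton_iff]
        exact (h1 w (hWQ hwW)).symm
      · exact (h1 t htQ).symm
    · rintro ⟨hyW, hyt⟩
      have hyQ : y ∈ (Q : Subgroup G) := hWQ hyW
      refine ⟨⟨y, hyQ⟩, ?_, rfl⟩
      rw [mem_center_iff]
      intro z
      apply Subtype.ext
      have hz : (z : G) ∈ zpowers t ⊔ W := by rw [hQeq]; exact z.2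
      have hle : zpowers t ⊔ W ≤ Cz(y) := by
        apply sup_le
        · rw [zpowers_le, mem_centralizer_singleton_iff]
          exact hyt.symm
        · intro v hv
          rw [mem_centralizer_singleton_iff]
          exact c2.Wab v hv y hyW
      exact mem_centralizer_singleton_iff.1 (hle hz)
  have hcardZ : Nat.card (center (Q : Subgroup G)) = Nat.card (W ⊓ Cz(t) : Subgroup G) := by
    rw [← hmap]
    exact Nat.card_congr ((center (Q : Subgroup G)).equivMapOfInjective (Q : Subgroup G).subtype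
      (Q : Subgroup G).subtype_injective).toEquiv
  have h5 : Nat.card (W ⊓ Cz(t) : Subgroup G) * p = Nat.card W := by
    have := relIndex_mul_relIndex ⊥ (W ⊓ Cz(t)) W bot_le inf_le_left
    rw [relIndex_bot_left, relIndex_bot_left, inf_relIndex_left,
      c2.relIndex_Cz_of_not_mem ht htW] at this
    exact this
  have hidx : (center (Q : Subgroup G)).index = p ^ 2 := by
    have h6 := (center (Q : Subgroup G)).card_mul_index
    rw [hcardZ, c2.c.card_sylow Q, ← c2.Wcard, c2.m_eq_p, ← h5] at h6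
    have h7 : Nat.card (W ⊓ Cz(t) : Subgroup G) * (center (Q : Subgroup G)).index =
        Nat.card (W ⊓ Cz(t) : Subgroup G) * p ^ 2 := by rw [h6]; ring
    exact Nat.eq_of_mul_eq_mul_left Nat.card_pos h7
  exact Cfsg.Agent.Lib.Helper80.card_commutator_of_index_center hidx

end Ctx2

theorem Hyp_n_coprime {m n : ℕ} (H : Hyp G m n) (p a : ℕ) (hma : m = p ^ a) : n.Coprime p := by
  have ha : a ≠ 0 := by
    intro h
    have := H.hm
    rw [hma, h, pow_zero] at this
    exact lt_irrefl 1 this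
  have h1 : (p ^ a).Coprime n := hma ▸ H.hcop
  exact (Nat.Coprime.coprime_dvd_left (dvd_pow_self p ha) h1).symm

/-- **K-S4284-A** (main case). -/
theorem main_case {G : Type*} [Group G] [Finite G] {m n : ℕ} (H : Hyp G m n)
    (p : ℕ) [Fact p.Prime] (a : ℕ) (hma : m = p ^ a)
    (u : G) (hu : ∃ k : ℕ, orderOf u = p ^ k) (hidx : (centralizer ({u} : Set G)).index = m) :
    Concl G m n := by
  have hp : p.Prime := Fact.out
  have hnp := Hyp_n_coprime H p a hma
  have hmax : ∀ y : G, ¬ p ^ (a + 1) ∣ (centralizer ({y} : Set G)).index := by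
    intro y hdvd
    rcases Hyp_cases H y with h | h | h
    · rw [h, Nat.dvd_one] at hdvd
      have : 1 < p ^ (a + 1) := Nat.one_lt_pow (Nat.succ_ne_zero a) hp.one_lt
      omega
    · rw [h, hma, Nat.pow_dvd_pow_iff_le_right hp.one_lt] at hdvd
      omega
    · rw [h, hma, pow_succ, Nat.mul_dvd_mul_iff_left (pow_pos hp.pos a)] at hdvd
      exact (Nat.Prime.coprime_iff_not_dvd hp).1 hnp.symm hdvd
  obtain ⟨P, N, hNn, hc⟩ := Cfsg.Agent.S4127.result p a hmax ⟨u, hu, by rw [hidx, hma]⟩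
  obtain ⟨k, hk⟩ := P.2.exists_card_eq
  have c : Ctx G m n p a N :=
    { H := H
      hma := hma
      Dn := hNn
      Dcop := by
        rw [← hc.index_eq_card]
        exact ((Nat.Prime.coprime_iff_not_dvd hp).2 P.not_dvd_index).symm
      Didx := ⟨k, by rw [hc.symm.index_eq_card, hk]⟩ }
  obtain ⟨W, c2⟩ := c.exists_Ctx2 hu hidx
  have hmp : m = p := c2.m_eq_p
  have hMn : (centralizer (N : Set G)).Normal := normal_centralizer
  refine ⟨hmp ▸ hp, hmp ▸ c2.p_dvd_pred, ⟨centralizer (N : Set G), hMn, ?_, c2.M_index, ?_⟩,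
    ⟨N, hNn, ?_, ?_⟩, ?_⟩
  · ext x
    exact c.mem_M_iff x
  · exact ⟨⟨fun x y => Subtype.ext (c2.M_comm x x.2 y y.2)⟩⟩
  · rw [hmp]; exact c.Dcop
  · obtain ⟨k', hk'⟩ := c.Didx
    exact ⟨k', by rw [hmp, hk']⟩
  · subst hmp
    intro Q
    exact c2.card_commutator_sylow Q

end Cfsg.Agent.Lib.Helper40.CR2
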