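import Mathlib

set_option autoImplicit false

namespace Cfsg.Agent.Lib.Helper40

open Polynomial in
/-- In characteristic `p`, for `c ^ p = 1`: `(c - 1) ^ p = 0` and `(c - 1) ^ (p - 1) = ∑ c ^ i`. -/
theorem sub_one_pow_identities {p : ℕ} [Fact p.Prime] {R : Type*} [Ring R] [Algebra (ZMod p) R]
    (c : R) (hc : c ^ p = 1) :
    (c - 1) ^ p = 0 ∧ (c - 1) ^ (p - 1) = ∑ i ∈ Finset.range p, c ^ i := by
  have hp : p.Prime := Fact.out
  have h1 : ((X : (ZMod p)[X]) - 1) ^ p = X ^ p - 1 := by
    rw [sub_pow_char, one_pow]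
  have h2 : (∑ i ∈ Finset.range p, (X : (ZMod p)[X]) ^ i) * (X - 1) = X ^ p - 1 := geom_sum_mul X p
  have h3 : ((X : (ZMod p)[X]) - 1) ^ (p - 1) = ∑ i ∈ Finset.range p, X ^ i := by
    have hne : (X : (ZMod p)[X]) - 1 ≠ 0 := by
      have := X_sub_C_ne_zero (1 : ZMod p)
      simpa using this
    apply mul_right_cancel₀ hne
    rw [h2, ← h1, ← pow_succ, Nat.sub_add_cancel hp.one_le]
  constructor
  · have := congrArg (aeval c) h1
    simpa [hc] using this
  · have := congrArg (aeval c) h3
    simpa using this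

/-- A chain argument: if `T ^ n = 0`, `W` is `T`-invariant and `T ^ (n-1) v ∉ W`, then
`dim W + n ≤ dim V`. -/
theorem finrank_add_le_of_nilpotent {K V : Type*} [Field K] [AddCommGroup V] [Module K V]
    [FiniteDimensional K V] (T : Module.End K V) (W : Submodule K V) (hW : ∀ w ∈ W, T w ∈ W)
    (n : ℕ) (hT : T ^ n = 0) (v : V) (hv : (T ^ (n - 1)) v ∉ W) :
    Module.finrank K W + n ≤ Module.finrank K V := by
  have hWpow : ∀ j : ℕ, ∀ w ∈ W, (T ^ j) w ∈ W := by
    intro j
    induction j with
    | zero => intro w hw; simpa using hw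
    | succ j ih =>
      intro w hw
      rw [pow_succ', Module.End.mul_apply]
      exact hW _ (ih w hw)
  let Kc : ℕ → Submodule K V := fun i => W.comap (T ^ i)
  have hKmem : ∀ i u, u ∈ Kc i ↔ (T ^ i) u ∈ W := fun i u => Iff.rfl
  have hmono : ∀ i, Kc i ≤ Kc (i + 1) := by
    intro i u hu
    rw [hKmem] at hu ⊢
    rw [pow_succ', Module.End.mul_apply]
    exact hW _ hu
  have hstab : ∀ i, Kc i = Kc (i + 1) → ∀ j, Kc (i + j) = Kc i := by
    intro i heq j
    induction j with
    | zero => rfl
    | succ j ih =>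
      ext u
      rw [hKmem, ← add_assoc, pow_succ, Module.End.mul_apply, ← hKmem, ih, hKmem,
        ← Module.End.mul_apply, ← pow_succ, ← hKmem, ← heq]
  have hn0 : n ≠ 0 := by
    rintro rfl
    apply hv
    have : (T ^ 0 : Module.End K V) = 0 := hT
    simp only [Nat.zero_sub, this, LinearMap.zero_apply]
    exact W.zero_mem
  have hstrict : ∀ i, i < n → Kc i < Kc (i + 1) := by
    intro i hi
    refine lt_of_le_of_ne (hmono i) (fun heq => hv ?_)
    have h1 : Kc n = Kc i := by
      have := hstab i heq (n - i)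
      rwa [Nat.add_sub_cancel' hi.le] at this
    have h2 : v ∈ Kc n := by
      rw [hKmem, hT, LinearMap.zero_apply]; exact W.zero_mem
    rw [h1, hKmem] at h2
    have h3 := hWpow (n - 1 - i) _ h2
    rw [← Module.End.mul_apply, ← pow_add] at h3
    have : n - 1 - i + i = n - 1 := by omega
    rwa [this] at h3
  have hrank : ∀ i, i ≤ n → Module.finrank K W + i ≤ Module.finrank K (Kc i) := by
    intro i
    induction i with
    | zero =>
      intro _
      have : Kc 0 = W := by
        ext u; rw [hKmem]; simp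
      rw [this, add_zero]
    | succ i ih =>
      intro hi
      have h1 := ih (by omega)
      have h2 := Submodule.finrank_lt_finrank_of_lt (hstrict i (by omega))
      omega
  have := hrank n le_rfl
  have h2 := Submodule.finrank_le (Kc n)
  omega

/-- The counting consequence for an automorphism of order `p` on an `𝔽_p`-space. -/
theorem card_ge_of_cyclic_action {p : ℕ} [Fact p.Prime] {V : Type*} [AddCommGroup V]
    [Module (ZMod p) V] [Finite V] (c : Module.End (ZMod p) V) (hc : c ^ p = 1)
    (W : Submodule (ZMod p) V) (hW : ∀ w ∈ W, c w ∈ W) (x : V)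
    (hx : (∑ i ∈ Finset.range p, c ^ i) x ∉ W) : p ^ p * Nat.card W ≤ Nat.card V := by
  obtain ⟨h1, h2⟩ := sub_one_pow_identities c hc
  have hW' : ∀ w ∈ W, (c - 1) w ∈ W := by
    intro w hw
    rw [LinearMap.sub_apply]
    exact W.sub_mem (hW w hw) (by simpa using hw)
  have := finrank_add_le_of_nilpotent (c - 1) W hW' p h1 x (by rw [h2]; exact hx)
  rw [Module.natCard_eq_pow_finrank (K := ZMod p) (V := V),
    Module.natCard_eq_pow_finrank (K := ZMod p) (V := W), Nat.card_zmod, ← pow_add]
  exact Nat.pow_le_pow_right (Fact.out : p.Prime).pos (by omega)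

end Cfsg.Agent.Lib.Helper40
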