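import Mathlib
import Cfsg.Agent.Lib.Helper40.NilpChain

set_option autoImplicit false

namespace Cfsg.Agent.Lib.Helper40
namespace ElemAb

variable {A : Type*} [CommGroup A] {p : ℕ} [Fact p.Prime]

/-- the `ZMod p`-module structure on an abelian group of exponent `p`. -/
@[reducible] def zmodModule (hexp : ∀ a : A, a ^ p = 1) : Module (ZMod p) (Additive A) :=
  AddCommGroup.zmodModule (n := p) (fun v => by
    have : p • v = Additive.ofMul (v.toMul ^ p) := rfl
    rw [this, hexp]; rfl)

/-- a hyperplane avoiding a given non-identity element. -/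
theorem exists_hyperplane [Finite A] (hexp : ∀ a : A, a ^ p = 1) (n₀ : A) (hn : n₀ ≠ 1) :
    ∃ B : Subgroup A, n₀ ∉ B ∧ Nat.card B * p = Nat.card A := by
  have _inst : Module (ZMod p) (Additive A) := zmodModule hexp
  have hv : (Additive.ofMul n₀ : Additive A) ≠ 0 := fun h => hn (by simpa using h)
  obtain ⟨f, hf⟩ := Module.Projective.exists_dual_eq_one (V := Additive A) (ZMod p) hv
  let ψ : A →* Multiplicative (ZMod p) := AddMonoidHom.toMultiplicativeRight f.toAddMonoidHom
  have hψ : ∀ a : A, ψ a = Multiplicative.ofAdd (f (Additive.ofMul a)) := fun a => rfl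
  refine ⟨ψ.ker, ?_, ?_⟩
  · rw [MonoidHom.mem_ker, hψ, hf]
    intro h
    have : (1 : ZMod p) = 0 := by simpa using h
    exact one_ne_zero this
  · have hsurj : Function.Surjective ψ := by
      intro r
      refine ⟨(r.toAdd • (Additive.ofMul n₀ : Additive A)).toMul, ?_⟩
      rw [hψ]
      simp only [ofMul_toMul, map_smul, hf, smul_eq_mul, mul_one, ofAdd_toAdd]
    have h1 := Subgroup.index_ker ψ
    rw [MonoidHom.range_eq_top.mpr hsurj, Subgroup.card_top, Nat.card_eq_fintype_card,
      Fintype.card_multiplicative, ZMod.card] at h1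
    have h2 := Subgroup.card_mul_index ψ.ker
    rw [h1] at h2
    exact h2

/-- counting bound for an automorphism of order dividing `p`. -/
theorem card_bound [Finite A] (hexp : ∀ a : A, a ^ p = 1) (c₀ : A →* A)
    (hc : ∀ a, c₀^[p] a = a) (C : Subgroup A) (hC : ∀ a ∈ C, c₀ a ∈ C) (x₀ : A)
    (hx : ∏ i ∈ Finset.range p, c₀^[i] x₀ ∉ C) : p ^ p * Nat.card C ≤ Nat.card A := by
  have _inst : Module (ZMod p) (Additive A) := zmodModule hexp
  let c : Additive A →ₗ[ZMod p] Additive A := (MonoidHom.toAdditive c₀).toZModLinearMap p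
  have hcapp : ∀ v : Additive A, c v = Additive.ofMul (c₀ v.toMul) := fun v => rfl
  have hcpow : ∀ (i : ℕ) (v : Additive A), (c ^ i) v = Additive.ofMul (c₀^[i] v.toMul) := by
    intro i
    induction i with
    | zero => intro v; simp
    | succ i ih =>
      intro v
      rw [pow_succ', Module.End.mul_apply, ih, hcapp, Function.iterate_succ_apply']
      rfl
  have hcp : c ^ p = 1 := by
    ext v
    rw [hcpow, hc]; rfl
  let W : Submodule (ZMod p) (Additive A) := AddSubgroup.toZModSubmodule p (Subgroup.toAddSubgroup C)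
  have hWmem : ∀ v : Additive A, v ∈ W ↔ v.toMul ∈ C := fun v => Iff.rfl
  have hW : ∀ w ∈ W, c w ∈ W := by
    intro w hw
    rw [hWmem] at hw ⊢
    rw [hcapp]
    exact hC _ hw
  have hxW : (∑ i ∈ Finset.range p, c ^ i) (Additive.ofMul x₀) ∉ W := by
    rw [hWmem, LinearMap.sum_apply, toMul_sum]
    have : ∏ i ∈ Finset.range p, ((c ^ i) (Additive.ofMul x₀)).toMul =
        ∏ i ∈ Finset.range p, c₀^[i] x₀ := by
      apply Finset.prod_congr rfl
      intro i _
      rw [hcpow]; rfl
    rw [this]; exact hx
  have := card_ge_of_cyclic_action c hcp W hW (Additive.ofMul x₀) hxW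
  have e1 : Nat.card W = Nat.card C := Nat.card_congr (Equiv.refl _)
  have e2 : Nat.card (Additive A) = Nat.card A := Nat.card_congr Additive.toMul
  rw [e1, e2] at this
  exact this

end ElemAb
end Cfsg.Agent.Lib.Helper40
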