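import Mathlib
import Cfsg.Agent.Lib.Helper40.ExtraCase
import Cfsg.Agent.Lib.Helper26.Rank2Amb

set_option autoImplicit false

/-!
# The extraspecial case of Bender-Glauberman 4.9, ambient form

`R`, `A`, `W` subgroups of a finite group `G`: `R` a `p`-group (`p` odd), `W ≤ R` nonabelian of order
`p ^ 3` and exponent `p` containing every element of `R` of order dividing `p`, `A ≤ N_G(R)` of odd
order with `[R, A] = R`. Then `R = W R₂` with `R₂ = C_R(W)` cyclic, `[W, R₂] = 1`, `Ω₁(R₂) = W'`.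
-/

namespace Cfsg.Agent.Lib.Helper40.ExtraCase

open Subgroup
open scoped commutatorElement

theorem central_product_of_omega {G : Type*} [Group G] [Finite G] (p : ℕ) [Fact p.Prime]
    (hp : p ≠ 2) (R A W : Subgroup G) (hR : IsPGroup p R) (hWR : W ≤ R)
    (hWcard : Nat.card W = p ^ 3) (hWnc : ¬ IsMulCommutative W) (hWexp : ∀ w ∈ W, w ^ p = 1)
    (hΩ : ∀ g ∈ R, g ^ p = 1 → g ∈ W) (hA : A ≤ Subgroup.normalizer (R : Set G))
    (hAodd : Odd (Nat.card A)) (hRA : ⁅R, A⁆ = R) :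
    ∃ R₂ : Subgroup G, W ⊔ R₂ = R ∧ (∀ a ∈ W, ∀ b ∈ R₂, a * b = b * a) ∧ IsCyclic R₂ ∧
      Subgroup.closure {x : G | x ∈ R₂ ∧ x ^ p = 1} = ⁅W, W⁆ := by
  classical
  set W' : Subgroup ↥R := W.subgroupOf R with hW'
  have hmap : W'.map R.subtype = W := by
    rw [hW', Subgroup.subgroupOf_map_subtype]
    exact inf_eq_left.2 hWR
  have hnc : ∃ a ∈ W, ∃ b ∈ W, a * b ≠ b * a := by
    by_contra hcon
    apply hWnc
    constructor
    constructor
    intro a b
    by_contra hab
    exact hcon ⟨a, a.2, b, b.2, fun h => hab (Subtype.ext h)⟩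
  have ctx : Ctx p W' := by
    refine ⟨hR, hp, ?_, ?_, ?_, ?_⟩
    · rw [← hWcard]
      exact Nat.card_congr (Subgroup.subgroupOfEquivOfLe hWR).toEquiv
    · obtain ⟨a, ha, b, hb, hab⟩ := hnc
      refine ⟨⟨a, hWR ha⟩, ?_, ⟨b, hWR hb⟩, ?_, ?_⟩
      · exact Subgroup.mem_subgroupOf.2 ha
      · exact Subgroup.mem_subgroupOf.2 hb
      · intro h
        exact hab (congrArg Subtype.val h)
    · intro w hw
      apply Subtype.ext
      rw [Subgroup.coe_pow]
      exact hWexp _ (Subgroup.mem_subgroupOf.1 hw)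
    · intro g hg
      rw [Subgroup.mem_subgroupOf]
      apply hΩ _ g.2
      have := congrArg Subtype.val hg
      rwa [Subgroup.coe_pow] at this
  set φ := Cfsg.Agent.Lib.Helper26.Rank2Amb.conjHom R A hA with hφ
  have hodd : ∀ ψ ∈ Set.range φ, Odd (orderOf ψ) := by
    rintro _ ⟨a, rfl⟩
    have h1 : orderOf (φ a) ∣ orderOf a := orderOf_map_dvd φ a
    have h2 : orderOf a ∣ Nat.card A := orderOf_dvd_natCard a
    exact Odd.of_dvd_nat hAodd (h1.trans h2)
  have hPA : ∀ T : Subgroup ↥R, (∀ ψ ∈ Set.range φ, ∀ g, ψ g * g⁻¹ ∈ T) → T = ⊤ := by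
    intro T hT
    have hle : ⁅R, A⁆ ≤ T.map R.subtype := by
      rw [Subgroup.commutator_le]
      intro g hg a ha
      have h1 := hT (φ ⟨a, ha⟩) ⟨⟨a, ha⟩, rfl⟩ ⟨g, hg⟩
      have h2 := T.inv_mem h1
      refine ⟨_, h2, ?_⟩
      simp only [Subgroup.coe_subtype, Subgroup.coe_inv, Subgroup.coe_mul,
        Cfsg.Agent.Lib.Helper26.Rank2Amb.conjHom_apply, hφ]
      rw [commutatorElement_def]
      group
    rw [hRA] at hle
    rw [eq_top_iff]
    intro x _
    obtain ⟨t, ht, htx⟩ := hle x.2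
    have : t = x := Subtype.ext htx
    rwa [this] at ht
  have hmain := ctx.main (Set.range φ) hodd hPA
  set C' : Subgroup ↥R := Subgroup.centralizer (W' : Set ↥R) with hC'
  refine ⟨C'.map R.subtype, ?_, ?_, ?_, ?_⟩
  · rw [← hmap, ← Subgroup.map_sup, hmain, ← MonoidHom.range_eq_map, Subgroup.range_subtype]
  · rintro a ha _ ⟨b, hb, rfl⟩
    have h1 : (⟨a, hWR ha⟩ : ↥R) ∈ W' := Subgroup.mem_subgroupOf.2 ha
    have h2 := (Subgroup.mem_centralizer_iff.1 hb) _ h1
    exact congrArg Subtype.val h2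
  · haveI := ctx.centralizer_isCyclic
    exact isCyclic_of_surjective (C'.equivMapOfInjective R.subtype (Subgroup.subtype_injective _))
      (C'.equivMapOfInjective R.subtype (Subgroup.subtype_injective _)).surjective
  · have hZmap : ctx.Z.map R.subtype = ⁅W, W⁆ := by
      unfold Ctx.Z
      rw [Subgroup.map_commutator, hmap]
    apply le_antisymm
    · rw [Subgroup.closure_le]
      rintro x ⟨⟨c', hc', rfl⟩, hxp⟩
      rw [← hZmap]
      refine ⟨c', ?_, rfl⟩
      apply ctx.mem_Z_of_mem_centralizer hc'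
      apply Subtype.ext
      rw [Subgroup.coe_pow]
      exact hxp
    · rw [← hZmap]
      rintro _ ⟨z', hz', rfl⟩
      apply Subgroup.subset_closure
      refine ⟨⟨z', ctx.Z_le_centralizer hz', rfl⟩, ?_⟩
      have := ctx.exp z' (ctx.Z_le hz')
      have h2 := congrArg Subtype.val this
      rwa [Subgroup.coe_pow] at h2

end Cfsg.Agent.Lib.Helper40.ExtraCase
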