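import Mathlib
import Cfsg.Prelude.Def_GeometricClasses
import Cfsg.Agent.Lib.Helper40.EigLA

set_option autoImplicit false

/-!
# Matrix groups acting on column vectors: scalars, eigenspaces permuted by elements commuting up to a
scalar (toolkit for S5877)
-/

namespace Cfsg.Agent.Lib.Helper40.ExtraGL

open Module
open scoped commutatorElement

variable {F : Type*} [Field F] {n : ℕ}

/-- the general linear group on `Fin n` -/
abbrev GLn (n : ℕ) (F : Type*) [Field F] := Matrix.GeneralLinearGroup (Fin n) F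

/-- the linear map of a matrix group element -/
noncomputable def act (a : GLn n F) : End F (Fin n → F) :=
  Matrix.toLin' (a : Matrix (Fin n) (Fin n) F)

theorem act_mul (a b : GLn n F) : act (a * b) = act a * act b := by
  unfold act
  rw [Units.val_mul, Matrix.toLin'_mul]
  rfl

theorem act_one : act (1 : GLn n F) = 1 := by
  unfold act
  rw [Units.val_one, Matrix.toLin'_one]
  rfl

theorem act_mul_apply (a b : GLn n F) (v : Fin n → F) : act (a * b) v = act a (act b v) := by
  rw [act_mul]; rfl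

theorem act_one_apply (v : Fin n → F) : act (1 : GLn n F) v = v := by
  rw [act_one]; rfl

theorem act_inv_apply (a : GLn n F) (v : Fin n → F) : act a⁻¹ (act a v) = v := by
  rw [← act_mul_apply, inv_mul_cancel, act_one_apply]

theorem act_apply_inv (a : GLn n F) (v : Fin n → F) : act a (act a⁻¹ v) = v := by
  rw [← act_mul_apply, mul_inv_cancel, act_one_apply]

theorem act_pow (a : GLn n F) (k : ℕ) : act (a ^ k) = act a ^ k := by
  induction k with
  | zero => rw [pow_zero, pow_zero, act_one]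
  | succ k ih => rw [pow_succ, pow_succ, act_mul, ih]

/-- the linear automorphism of a matrix group element -/
noncomputable def actE (a : GLn n F) : (Fin n → F) ≃ₗ[F] (Fin n → F) :=
  LinearEquiv.ofLinear (act a) (act a⁻¹)
    (LinearMap.ext fun v => act_apply_inv a v) (LinearMap.ext fun v => act_inv_apply a v)

theorem actE_apply (a : GLn n F) (v : Fin n → F) : actE a v = act a v := rfl

theorem act_injective (a : GLn n F) : Function.Injective (act a) := (actE a).injective

/-- scalar matrices -/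
noncomputable def sc : Fˣ →* GLn n F :=
  Units.map (Matrix.scalar (Fin n) : F →+* Matrix (Fin n) (Fin n) F).toMonoidHom

theorem sc_val (k : Fˣ) : ((sc k : GLn n F) : Matrix (Fin n) (Fin n) F) = Matrix.scalar (Fin n) (k : F) :=
  rfl

theorem act_sc (k : Fˣ) (v : Fin n → F) : act (sc k : GLn n F) v = (k : F) • v := by
  unfold act
  rw [sc_val, Matrix.toLin'_apply]
  ext i
  simp [Matrix.mulVec, dotProduct, Matrix.scalar_apply, Matrix.diagonal_apply]

theorem sc_comm (k : Fˣ) (a : GLn n F) : sc k * a = a * sc k := by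
  apply Units.ext
  rw [Units.val_mul, Units.val_mul, sc_val]
  exact (Matrix.scalar_commute (k : F) (fun _ => Commute.all _ _) _).eq

theorem sc_mem_center (k : Fˣ) : (sc k : GLn n F) ∈ Subgroup.center (GLn n F) := by
  rw [Subgroup.mem_center_iff]
  intro a
  exact (sc_comm k a).symm

theorem mem_scalars_iff_sc (a : GLn n F) : a ∈ Cfsg.Geo.scalars (Fin n) F ↔ ∃ k : Fˣ, sc k = a :=
  Iff.rfl

theorem sc_mem_scalars (k : Fˣ) : (sc k : GLn n F) ∈ Cfsg.Geo.scalars (Fin n) F := ⟨k, rfl⟩

theorem sc_injective (hn : 0 < n) : Function.Injective (sc : Fˣ → GLn n F) := by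
  intro k k' h
  have h1 := congrArg (fun a : GLn n F => (a : Matrix (Fin n) (Fin n) F) ⟨0, hn⟩ ⟨0, hn⟩) h
  simp only [sc_val, Matrix.scalar_apply, Matrix.diagonal_apply_eq] at h1
  exact Units.ext h1

theorem mem_eigenspace_act (a : GLn n F) (μ : F) (v : Fin n → F) :
    v ∈ (act a).eigenspace μ ↔ act a v = μ • v := Module.End.mem_eigenspace_iff

theorem finrank_le_n (U : Submodule F (Fin n → F)) : finrank F U ≤ n := by
  have := Submodule.finrank_le U
  simpa using this

/-! ### elements commuting up to a scalar -/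

theorem comm_eq_sc_iff (a b : GLn n F) (k : Fˣ) : ⁅a, b⁆ = sc k ↔ a * b = sc k * (b * a) := by
  rw [commutatorElement_def]
  constructor
  · intro h
    calc a * b = (a * b * a⁻¹ * b⁻¹) * (b * a) := by group
      _ = sc k * (b * a) := by rw [h]
  · intro h
    rw [h]
    group

theorem commSc_pow_right {a b : GLn n F} {k : Fˣ} (h : a * b = sc k * (b * a)) (m : ℕ) :
    a * b ^ m = sc (k ^ m) * (b ^ m * a) := by
  have h1 : SemiconjBy a b (sc k * b) := by
    show a * b = sc k * b * a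
    rw [h, mul_assoc]
  have h2 := h1.pow_right m
  have h3 : (sc k * b) ^ m = sc (k ^ m) * b ^ m := by
    rw [(show Commute (sc k) b from sc_comm k b).mul_pow, map_pow]
  rw [h3] at h2
  have h4 : a * b ^ m = sc (k ^ m) * b ^ m * a := h2
  rw [h4, mul_assoc]

theorem commSc_symm {a b : GLn n F} {k : Fˣ} (h : a * b = sc k * (b * a)) :
    b * a = sc k⁻¹ * (a * b) := by
  rw [h, ← mul_assoc, ← map_mul, inv_mul_cancel, map_one, one_mul]

theorem commSc_pow_left {a b : GLn n F} {k : Fˣ} (h : a * b = sc k * (b * a)) (m : ℕ) :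
    a ^ m * b = sc (k ^ m) * (b * a ^ m) := by
  have h1 := commSc_pow_right (commSc_symm h) m
  rw [h1, ← mul_assoc, ← map_mul, inv_pow, mul_inv_cancel, map_one, one_mul]

/-- if `a b = k b a`, then `a` maps the `μ`-eigenspace of `b` into the `k⁻¹ μ`-eigenspace -/
theorem act_act_of_commSc {a b : GLn n F} {k : Fˣ} (h : a * b = sc k * (b * a)) {μ : F}
    {v : Fin n → F} (hv : act b v = μ • v) :
    act b (act a v) = (((k⁻¹ : Fˣ) : F) * μ) • act a v := by
  have e : act (a * b) v = act (sc k * (b * a)) v := by rw [h]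
  rw [act_mul_apply, hv, map_smul, act_mul_apply, act_sc, act_mul_apply] at e
  rw [mul_smul, e, smul_smul, Units.inv_mul, one_smul]

/-- two elements commuting up to a scalar with a common nonzero fixed vector commute -/
theorem comm_of_common_fixed {a b : GLn n F} {k : Fˣ} (h : a * b = sc k * (b * a))
    {v : Fin n → F} (hv0 : v ≠ 0) (ha : act a v = v) (hb : act b v = v) : a * b = b * a := by
  have e : act (a * b) v = act (sc k * (b * a)) v := by rw [h]
  rw [act_mul_apply, hb, ha, act_mul_apply, act_sc, act_mul_apply, ha, hb] at e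
  have h1 : ((k : F) - 1) • v = 0 := by rw [sub_smul, one_smul, ← e, sub_self]
  rcases smul_eq_zero.mp h1 with h2 | h2
  · have hk : k = 1 := Units.ext (by rw [Units.val_one]; exact sub_eq_zero.mp h2)
    rw [h, hk, map_one, one_mul]
  · exact absurd h2 hv0

theorem eigenspace_zero_eq_bot (b : GLn n F) : (act b).eigenspace 0 = ⊥ := by
  rw [eq_bot_iff]
  intro v hv
  rw [mem_eigenspace_act, zero_smul] at hv
  rw [Submodule.mem_bot]
  have := act_inv_apply b v
  rw [hv, map_zero] at this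
  exact this.symm

/-- the image of an eigenspace under `a` with `a b = k b a` -/
theorem finrank_eigenspace_le_of_commSc {a b : GLn n F} {k : Fˣ} (h : a * b = sc k * (b * a)) (μ : F) :
    finrank F ((act b).eigenspace μ) ≤ finrank F ((act b).eigenspace (((k⁻¹ : Fˣ) : F) * μ)) := by
  have hle : ((act b).eigenspace μ).map (actE a : (Fin n → F) →ₗ[F] (Fin n → F)) ≤
      (act b).eigenspace (((k⁻¹ : Fˣ) : F) * μ) := by
    rintro _ ⟨v, hv, rfl⟩
    rw [SetLike.mem_coe, mem_eigenspace_act] at hv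
    rw [mem_eigenspace_act]
    exact act_act_of_commSc h hv
  have := Submodule.finrank_mono hle
  rwa [LinearEquiv.finrank_map_eq] at this

/-- `a b = k b a` with `k ≠ 1`: eigenspaces of `b` have dimension at most `n / 2` -/
theorem two_mul_finrank_eigenspace_le {a b : GLn n F} {k : Fˣ} (h : a * b = sc k * (b * a))
    (hk : k ≠ 1) (μ : F) : 2 * finrank F ((act b).eigenspace μ) ≤ n := by
  classical
  by_cases hμ : μ = 0
  · rw [hμ, eigenspace_zero_eq_bot, finrank_bot]; omega
  have hne : μ ≠ ((k⁻¹ : Fˣ) : F) * μ := by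
    intro he
    have h1 : ((k⁻¹ : Fˣ) : F) = 1 := by
      have : (1 : F) * μ = ((k⁻¹ : Fˣ) : F) * μ := by rw [one_mul]; exact he
      exact (mul_right_cancel₀ hμ this).symm
    apply hk
    have h2 : k⁻¹ = 1 := Units.ext (by rw [Units.val_one]; exact h1)
    exact inv_eq_one.mp h2
  have h1 := EigLA.sum_finrank_eigenspace_le (act b) ({μ, ((k⁻¹ : Fˣ) : F) * μ} : Finset F)
  rw [Finset.sum_pair hne] at h1
  have h2 := finrank_eigenspace_le_of_commSc h μ
  have h3 : finrank F (Fin n → F) = n := by simp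
  omega

/-- `a b = k b a` with `k` of prime order `r`: eigenspaces of `b` have dimension at most `n / r` -/
theorem prime_mul_finrank_eigenspace_le {a b : GLn n F} {k : Fˣ} (h : a * b = sc k * (b * a))
    (hk : k ≠ 1) {r : ℕ} (hr : r.Prime) (hkr : k ^ r = 1) (μ : F) :
    r * finrank F ((act b).eigenspace μ) ≤ n := by
  classical
  by_cases hμ : μ = 0
  · rw [hμ, eigenspace_zero_eq_bot, finrank_bot]; omega
  have hord : orderOf k = r := by
    haveI : Fact r.Prime := ⟨hr⟩
    exact orderOf_eq_prime hkr hk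
  have h1 : ∀ i : ℕ, finrank F ((act b).eigenspace μ) ≤
      finrank F ((act b).eigenspace ((((k ^ i)⁻¹ : Fˣ) : F) * μ)) :=
    fun i => finrank_eigenspace_le_of_commSc (commSc_pow_left h i) μ
  have h2 := EigLA.sum_finrank_eigenspace_fiber_le (act b) (Finset.range r)
    (fun i => (((k ^ i)⁻¹ : Fˣ) : F) * μ) 1 (by
      intro ν
      rw [Finset.card_le_one]
      intro i hi j hj
      rw [Finset.mem_filter, Finset.mem_range] at hi hj
      have e : (((k ^ i)⁻¹ : Fˣ) : F) * μ = (((k ^ j)⁻¹ : Fˣ) : F) * μ := by rw [hi.2, hj.2]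
      have e2 : (k ^ i)⁻¹ = (k ^ j)⁻¹ := Units.ext (mul_right_cancel₀ hμ e)
      have e3 : k ^ i = k ^ j := inv_injective e2
      have e4 : i ≡ j [MOD r] := hord ▸ pow_eq_pow_iff_modEq.mp e3
      exact Nat.ModEq.eq_of_lt_of_lt e4 hi.1 hj.1)
  have h3 : finrank F (Fin n → F) = n := by simp
  rw [h3, one_mul] at h2
  calc r * finrank F ((act b).eigenspace μ)
      = ∑ _i ∈ Finset.range r, finrank F ((act b).eigenspace μ) := by
        rw [Finset.sum_const, Finset.card_range, smul_eq_mul]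
    _ ≤ ∑ i ∈ Finset.range r, finrank F ((act b).eigenspace ((((k ^ i)⁻¹ : Fˣ) : F) * μ)) :=
        Finset.sum_le_sum (fun i _ => h1 i)
    _ ≤ n := h2

/-! ### the configuration -/

/-- `L ≥ R, scalars` is a subgroup of `GL_n(F)` whose commutators are scalars of order dividing `r`, and
the centralizer of `R` consists of scalars. -/
structure Cfg (R L : Subgroup (GLn n F)) (r : ℕ) : Prop where
  hr : r.Prime
  hn : 0 < n
  hRL : R ≤ L
  hSL : Cfsg.Geo.scalars (Fin n) F ≤ L
  comm : ∀ a ∈ L, ∀ b ∈ L, ∃ k : Fˣ, a * b = sc k * (b * a) ∧ k ^ r = 1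
  cent : ∀ a : GLn n F, (∀ b ∈ R, a * b = b * a) → ∃ k : Fˣ, sc k = a
  pgrp : ∀ a ∈ L, ∃ m : ℕ, ∃ k : Fˣ, a ^ (r ^ m) = sc k
  root : ∃ a ∈ R, ∃ b ∈ R, ∃ ζ : Fˣ, a * b = sc ζ * (b * a) ∧ ζ ≠ 1 ∧ ζ ^ r = 1

theorem sc_mul_mul (k₁ k₂ : Fˣ) (a b : GLn n F) :
    (a * sc k₁) * (b * sc k₂) = sc (k₁ * k₂) * (a * b) := by
  calc (a * sc k₁) * (b * sc k₂) = (sc k₁ * a) * (sc k₂ * b) := by rw [sc_comm, sc_comm]
    _ = sc k₁ * (a * sc k₂) * b := by simp only [mul_assoc]
    _ = sc k₁ * (sc k₂ * a) * b := by rw [sc_comm k₂ a]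
    _ = sc (k₁ * k₂) * (a * b) := by rw [map_mul]; simp only [mul_assoc]

/-- the centralizer of an absolutely irreducible group consists of scalars -/
theorem exists_sc_of_commute (R : Subgroup (GLn n F))
    (hirr : Cfsg.Geo.ActsAbsolutelyIrreducibly (Cfsg.Geo.matrixSet R)) (a : GLn n F)
    (h : ∀ b ∈ R, a * b = b * a) : ∃ k : Fˣ, sc k = a := by
  obtain ⟨c, hc⟩ := hirr.2 (a : Matrix (Fin n) (Fin n) F) (by
    rintro _ ⟨b, hb, rfl⟩
    have := congrArg (fun x : GLn n F => (x : Matrix (Fin n) (Fin n) F)) (h b hb)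
    simpa using this)
  by_cases hc0 : c = 0
  · -- the matrix ring is trivial
    rw [hc0, zero_smul] at hc
    have h1 : (1 : Matrix (Fin n) (Fin n) F) = 0 := by
      have := a.val_inv
      rw [hc, zero_mul] at this
      exact this.symm
    refine ⟨1, Units.ext ?_⟩
    have hs : ∀ M : Matrix (Fin n) (Fin n) F, M = 0 := fun M => by
      rw [← mul_one M, h1, mul_zero]
    rw [hs ((sc (1 : Fˣ) : GLn n F) : Matrix (Fin n) (Fin n) F), hs (a : Matrix (Fin n) (Fin n) F)]
  · refine ⟨Units.mk0 c hc0, Units.ext ?_⟩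
    rw [sc_val, hc, Units.val_mk0, Matrix.smul_one_eq_diagonal]
    rfl

/-- the degree is positive when the centre of `R` has prime order -/
theorem pos_of_card_center (R : Subgroup (GLn n F)) {r : ℕ} (hr : r.Prime)
    (hZ : Nat.card (Subgroup.center R) = r) : 0 < n := by
  by_contra hn
  have hn0 : n = 0 := by omega
  subst hn0
  have hsub : Subsingleton (GLn 0 F) := ⟨fun a b => Units.ext (Subsingleton.elim _ _)⟩
  have hsub2 : Subsingleton (Subgroup.center R) := ⟨fun a b => Subtype.ext (Subtype.ext (Subsingleton.elim _ _))⟩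
  have h1 : Nat.card (Subgroup.center R) = 1 := Nat.card_unique
  rw [h1] at hZ
  exact hr.one_lt.ne hZ

theorem cfg_of_hyps (R : Subgroup (GLn n F)) {r : ℕ} (hr : r.Prime) (hR : IsPGroup r R)
    (hZ : Nat.card (Subgroup.center R) = r) (hext : commutator R = Subgroup.center R)
    (hirr : Cfsg.Geo.ActsAbsolutelyIrreducibly (Cfsg.Geo.matrixSet R)) :
    Cfg R (R ⊔ Cfsg.Geo.scalars (Fin n) F) r := by
  have hn : 0 < n := pos_of_card_center R hr hZ
  have hcent := exists_sc_of_commute R hirr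
  -- commutators inside `R`
  have hcommR : ∀ a ∈ R, ∀ b ∈ R, ∃ k : Fˣ, a * b = sc k * (b * a) ∧ (sc k : GLn n F) ^ r = 1 := by
    intro a ha b hb
    have hmem : ⁅(⟨a, ha⟩ : R), ⟨b, hb⟩⁆ ∈ commutator R := by
      rw [commutator_def]
      exact Subgroup.commutator_mem_commutator (Subgroup.mem_top _) (Subgroup.mem_top _)
    rw [hext] at hmem
    have hz : ∀ c ∈ R, ⁅a, b⁆ * c = c * ⁅a, b⁆ := by
      intro c hc
      have := Subgroup.mem_center_iff.mp hmem ⟨c, hc⟩
      have h2 := congrArg (Subtype.val : R → GLn n F) this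
      exact h2.symm
    obtain ⟨k, hk⟩ := hcent ⁅a, b⁆ hz
    refine ⟨k, (comm_eq_sc_iff a b k).mp hk.symm, ?_⟩
    have hpow : (⟨⁅(⟨a, ha⟩ : R), ⟨b, hb⟩⁆, hmem⟩ : Subgroup.center R) ^ r = 1 := by
      rw [← hZ]; exact pow_card_eq_one'
    have h3 := congrArg (fun z : Subgroup.center R => ((z : R) : GLn n F)) hpow
    simp only [Subgroup.coe_pow, Subgroup.coe_one] at h3
    rw [hk]
    exact h3
  have hdec : ∀ a ∈ R ⊔ Cfsg.Geo.scalars (Fin n) F, ∃ a₀ ∈ R, ∃ k : Fˣ, a = a₀ * sc k := by
    intro a ha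
    obtain ⟨a₀, ha₀, z, ⟨k, hk⟩, rfl⟩ := Subgroup.mem_sup_of_normal_right.mp ha
    exact ⟨a₀, ha₀, k, by rw [← hk]; rfl⟩
  refine ⟨hr, hn, le_sup_left, le_sup_right, ?_, hcent, ?_, ?_⟩
  · intro a ha b hb
    obtain ⟨a₀, ha₀, k₁, rfl⟩ := hdec a ha
    obtain ⟨b₀, hb₀, k₂, rfl⟩ := hdec b hb
    obtain ⟨k, hk, hkr⟩ := hcommR a₀ ha₀ b₀ hb₀
    refine ⟨k, ?_, ?_⟩
    · rw [sc_mul_mul, sc_mul_mul, hk, mul_comm k₂ k₁]
      simp only [← mul_assoc]
      rw [sc_comm k (sc (k₁ * k₂))]
    · apply sc_injective hn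
      rw [map_pow, map_one]; exact hkr
  · intro a ha
    obtain ⟨a₀, ha₀, k, rfl⟩ := hdec a ha
    obtain ⟨m, hm⟩ := hR ⟨a₀, ha₀⟩
    have hm' : a₀ ^ (r ^ m) = 1 := by
      have := congrArg (Subtype.val : R → GLn n F) hm
      simpa using this
    refine ⟨m, k ^ (r ^ m), ?_⟩
    rw [(show Commute a₀ (sc k) from (sc_comm k a₀).symm).mul_pow, hm', one_mul, map_pow]
  · -- a nontrivial commutator
    by_contra hno
    push Not at hno
    have hab : ∀ a ∈ R, ∀ b ∈ R, a * b = b * a := by
      intro a ha b hb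
      obtain ⟨k, hk, hkr⟩ := hcommR a ha b hb
      by_cases hk1 : k = 1
      · rw [hk, hk1, map_one, one_mul]
      · exfalso
        refine hno a ha b hb k hk hk1 ?_
        apply sc_injective hn
        rw [map_pow, map_one]; exact hkr
    have hcomm : commutator R = ⊥ := by
      rw [commutator_eq_bot_iff, isMulCommutative_iff]
      intro a b
      apply Subtype.ext
      exact hab a a.2 b b.2
    rw [hcomm] at hext
    rw [← hext, Subgroup.card_bot] at hZ
    exact hr.one_lt.ne hZ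

namespace Cfg

variable {R L : Subgroup (GLn n F)} {r : ℕ}

theorem sc_mem (h : Cfg R L r) (k : Fˣ) : (sc k : GLn n F) ∈ L := h.hSL (sc_mem_scalars k)

/-- an element of `L` that is not a scalar fails to commute with some element of `R`, up to a scalar of
order `r` -/
theorem exists_commSc_ne (h : Cfg R L r) {a : GLn n F} (ha : a ∈ L) (hns : ¬ ∃ k : Fˣ, sc k = a) :
    ∃ b ∈ R, ∃ k : Fˣ, b * a = sc k * (a * b) ∧ k ≠ 1 ∧ k ^ r = 1 := by
  by_contra hno
  apply hns
  apply h.cent
  intro b hb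
  obtain ⟨k, hk, hkr⟩ := h.comm b (h.hRL hb) a ha
  by_cases hk1 : k = 1
  · rw [hk1, map_one, one_mul] at hk
    exact hk.symm
  · exact absurd ⟨b, hb, k, hk, hk1, hkr⟩ hno

/-- a nontrivial element of `L` has fixed space of dimension at most `n / r` -/
theorem fix_le (h : Cfg R L r) {a : GLn n F} (ha : a ∈ L) (ha1 : a ≠ 1) :
    r * finrank F ((act a).eigenspace 1) ≤ n := by
  by_cases hs : ∃ k : Fˣ, sc k = a
  · obtain ⟨k, rfl⟩ := hs
    have hk1 : k ≠ 1 := by
      intro hk
      apply ha1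
      rw [hk, map_one]
    have hbot : (act (sc k : GLn n F)).eigenspace 1 = ⊥ := by
      rw [eq_bot_iff]
      intro v hv
      rw [mem_eigenspace_act, act_sc, one_smul] at hv
      rw [Submodule.mem_bot]
      have h1 : ((k : F) - 1) • v = 0 := by rw [sub_smul, one_smul, hv, sub_self]
      rcases smul_eq_zero.mp h1 with h2 | h2
      · exact absurd (Units.ext (by rw [Units.val_one]; exact sub_eq_zero.mp h2)) hk1
      · exact h2
    rw [hbot, finrank_bot]; omega
  · obtain ⟨b, _, k, hk, hk1, hkr⟩ := h.exists_commSc_ne ha hs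
    exact prime_mul_finrank_eigenspace_le hk hk1 h.hr hkr 1

/-- `r`-th powers of elements of `L` are scalars -/
theorem pow_eq_sc (h : Cfg R L r) {a : GLn n F} (ha : a ∈ L) : ∃ k : Fˣ, sc k = a ^ r := by
  apply h.cent
  intro b hb
  obtain ⟨k, hk, hkr⟩ := h.comm a ha b (h.hRL hb)
  rw [commSc_pow_left hk r, hkr, map_one, one_mul]

/-- `r` divides the degree -/
theorem dvd_degree (h : Cfg R L r) : r ∣ n := by
  obtain ⟨a, _, b, _, ζ, hab, hζ1, hζr⟩ := h.root
  have hc : ⁅a, b⁆ = sc ζ := (comm_eq_sc_iff a b ζ).mpr hab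
  have hd1 : Matrix.GeneralLinearGroup.det ⁅a, b⁆ = (1 : Fˣ) := by
    rw [map_commutatorElement]
    exact commutatorElement_eq_one_iff_commute.mpr (Commute.all _ _)
  have hdet : (1 : F) = ((Matrix.GeneralLinearGroup.det (sc ζ : GLn n F) : Fˣ) : F) := by
    rw [← hc, hd1, Units.val_one]
  have h2 : ((Matrix.GeneralLinearGroup.det (sc ζ : GLn n F) : Fˣ) : F) = (ζ : F) ^ n := by
    rw [Matrix.GeneralLinearGroup.val_det_apply, sc_val]
    simp
  rw [h2] at hdet
  have h3 : ζ ^ n = 1 := Units.ext (by rw [Units.val_pow_eq_pow_val, Units.val_one]; exact hdet.symm)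
  have hord : orderOf ζ = r := by
    haveI : Fact r.Prime := ⟨h.hr⟩
    exact orderOf_eq_prime hζr hζ1
  rw [← hord]
  exact orderOf_dvd_of_pow_eq_one h3

end Cfg

end Cfsg.Agent.Lib.Helper40.ExtraGL
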