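import Mathlib
import Cfsg.Prelude.Def_GeometricClasses
import Cfsg.Agent.Lib.Helper40.ExtraGL

set_option autoImplicit false

/-!
# Eigenspaces of a prime order element normalizing an extraspecial-type group `L` modulo scalars:
the basic bound and the case of order prime to `r` (for S5877)
-/

namespace Cfsg.Agent.Lib.Helper40.ExtraOrd

open Module
open scoped commutatorElement
open Cfsg.Agent.Lib.Helper40.ExtraGL

section Calc

variable {Γ : Type*} [Group Γ]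

theorem cm_left {a a' b : Γ} (h : ⁅a', b⁆ ∈ Subgroup.center Γ) : ⁅a * a', b⁆ = ⁅a, b⁆ * ⁅a', b⁆ := by
  have h1 : ⁅a * a', b⁆ = a * ⁅a', b⁆ * a⁻¹ * ⁅a, b⁆ := by
    simp only [commutatorElement_def]; group
  rw [h1, Subgroup.mem_center_iff.mp h a, mul_assoc ⁅a', b⁆ a, mul_inv_cancel, mul_one]
  exact (Subgroup.mem_center_iff.mp h _).symm

theorem cm_right {a b b' : Γ} (h : ⁅a, b'⁆ ∈ Subgroup.center Γ) : ⁅a, b * b'⁆ = ⁅a, b⁆ * ⁅a, b'⁆ := by
  have h1 : ⁅a, b * b'⁆ = a * b * a⁻¹ * ⁅a, b'⁆ * b⁻¹ := by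
    simp only [commutatorElement_def]; group
  rw [h1, mul_assoc (a * b * a⁻¹), ← Subgroup.mem_center_iff.mp h b⁻¹, ← mul_assoc]
  rfl

theorem cm_inv_right {a b : Γ} (h : ⁅a, b⁆ ∈ Subgroup.center Γ) : ⁅a, b⁻¹⁆ = ⁅a, b⁆⁻¹ := by
  have h1 : ⁅a, b⁻¹⁆ = b⁻¹ * ⁅a, b⁆⁻¹ * b := by
    simp only [commutatorElement_def]; group
  have h2 : ⁅a, b⁆⁻¹ ∈ Subgroup.center Γ := Subgroup.inv_mem _ h
  rw [h1, Subgroup.mem_center_iff.mp h2 b⁻¹, mul_assoc, inv_mul_cancel, mul_one]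

theorem cm_inv_left {a b : Γ} (h : ⁅a, b⁆ ∈ Subgroup.center Γ) : ⁅a⁻¹, b⁆ = ⁅a, b⁆⁻¹ := by
  have h1 : ⁅a⁻¹, b⁆ = a⁻¹ * ⁅a, b⁆⁻¹ * a := by
    simp only [commutatorElement_def]; group
  have h2 : ⁅a, b⁆⁻¹ ∈ Subgroup.center Γ := Subgroup.inv_mem _ h
  rw [h1, Subgroup.mem_center_iff.mp h2 a⁻¹, mul_assoc, inv_mul_cancel, mul_one]

theorem cm_conj {a b : Γ} (g : Γ) (h : ⁅a, b⁆ ∈ Subgroup.center Γ) :
    ⁅g * a * g⁻¹, g * b * g⁻¹⁆ = ⁅a, b⁆ := by
  have h1 : ⁅g * a * g⁻¹, g * b * g⁻¹⁆ = g * ⁅a, b⁆ * g⁻¹ := by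
    simp only [commutatorElement_def]; group
  rw [h1, Subgroup.mem_center_iff.mp h g, mul_assoc, mul_inv_cancel, mul_one]

theorem cm_self (a : Γ) : ⁅a, a⁆ = 1 := by
  simp

theorem cm_symm (a b : Γ) : ⁅b, a⁆ = ⁅a, b⁆⁻¹ := by
  simp only [commutatorElement_def]; group

theorem cm_eq_one_iff (a b : Γ) : ⁅a, b⁆ = 1 ↔ a * b = b * a :=
  commutatorElement_eq_one_iff_mul_comm

/-- the cyclic identity in a subgroup with central commutators -/
theorem cm_cyclic {L : Subgroup Γ} (hL : ∀ a ∈ L, ∀ b ∈ L, ⁅a, b⁆ ∈ Subgroup.center Γ) {a b c : Γ}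
    (ha : a ∈ L) (hb : b ∈ L) (hc : c ∈ L) :
    ⁅a * b⁻¹, a * c⁻¹⁆ = ⁅a, b⁆ * ⁅b, c⁆ * ⁅c, a⁆ := by
  have hbi : b⁻¹ ∈ L := L.inv_mem hb
  have hci : c⁻¹ ∈ L := L.inv_mem hc
  rw [cm_left (hL _ hbi _ (L.mul_mem ha hci)), cm_right (hL _ ha _ hci), cm_self, one_mul,
    cm_right (hL _ hbi _ hci), cm_inv_right (hL _ ha _ hc), cm_inv_left (hL _ hb _ ha),
    cm_inv_left (hL _ hb _ hci), cm_inv_right (hL _ hb _ hc), inv_inv, cm_symm a b, inv_inv,
    ← cm_symm a c]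
  exact (Subgroup.mem_center_iff.mp (hL _ hc _ ha) _).symm

end Calc

section Main

variable {F : Type*} [Field F] {n : ℕ} {R L : Subgroup (GLn n F)} {r : ℕ}

theorem act_pow_eigen {g : GLn n F} {c : F} {v : Fin n → F} (hv : act g v = c • v) (d : ℕ) :
    act (g ^ d) v = c ^ d • v := by
  induction d with
  | zero => rw [pow_zero, pow_zero, act_one_apply, one_smul]
  | succ d ih => rw [pow_succ, act_mul_apply, hv, map_smul, ih, smul_smul, pow_succ, mul_comm]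

theorem act_inv_eigen {g : GLn n F} {c : F} (hc : c ≠ 0) {v : Fin n → F} (hv : act g v = c • v) :
    act g⁻¹ v = c⁻¹ • v := by
  have h1 := act_inv_apply g v
  rw [hv, map_smul] at h1
  calc act g⁻¹ v = c⁻¹ • (c • act g⁻¹ v) := by rw [smul_smul, inv_mul_cancel₀ hc, one_smul]
    _ = c⁻¹ • v := by rw [h1]

/-- the commutator `x g^d x⁻¹ g^{-d}` fixes `W ∩ xW` pointwise, `W` an eigenspace of `g` -/
theorem comm_fix {x g : GLn n F} {c : F} (hc : c ≠ 0) (d : ℕ) {u v : Fin n → F}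
    (hu : act g u = c • u) (hv : act g v = c • v) (hxu : act x u = v) :
    act (x * g ^ d * x⁻¹ * (g ^ d)⁻¹) v = v := by
  have h1 : act (g ^ d)⁻¹ v = (c ^ d)⁻¹ • v :=
    act_inv_eigen (pow_ne_zero d hc) (act_pow_eigen hv d)
  have h2 : act x⁻¹ v = u := by rw [← hxu, act_inv_apply]
  have h3 : act (x * g ^ d * x⁻¹) v = c ^ d • v := by
    rw [act_mul_apply, h2, act_mul_apply, act_pow_eigen hu d, map_smul, hxu]
  rw [act_mul_apply, h1, map_smul, h3, smul_smul, inv_mul_cancel₀ (pow_ne_zero d hc), one_smul]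

theorem conj_pow_mem {g : GLn n F} (hgN : g ∈ Subgroup.normalizer (L : Set (GLn n F))) (d : ℕ)
    {a : GLn n F} (ha : a ∈ L) : g ^ d * a * (g ^ d)⁻¹ ∈ L :=
  (Subgroup.mem_normalizer_iff.mp (Subgroup.pow_mem _ hgN d) a).mp ha

theorem conj_mem {g : GLn n F} (hgN : g ∈ Subgroup.normalizer (L : Set (GLn n F)))
    {a : GLn n F} (ha : a ∈ L) : g * a * g⁻¹ ∈ L :=
  (Subgroup.mem_normalizer_iff.mp hgN a).mp ha

theorem conj_inv_mem {g : GLn n F} (hgN : g ∈ Subgroup.normalizer (L : Set (GLn n F)))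
    {a : GLn n F} (ha : a ∈ L) : g⁻¹ * a * g ∈ L := by
  have := (Subgroup.mem_normalizer_iff.mp (Subgroup.inv_mem _ hgN) a).mp ha
  rwa [inv_inv] at this

theorem comm_pow_mem {g : GLn n F} (hgN : g ∈ Subgroup.normalizer (L : Set (GLn n F))) (d : ℕ)
    {x : GLn n F} (hx : x ∈ L) : x * g ^ d * x⁻¹ * (g ^ d)⁻¹ ∈ L := by
  have h1 := conj_pow_mem hgN d (L.inv_mem hx)
  have h2 : x * g ^ d * x⁻¹ * (g ^ d)⁻¹ = x * (g ^ d * x⁻¹ * (g ^ d)⁻¹) := by group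
  rw [h2]
  exact L.mul_mem hx h1

/-- the basic bound `2 r w ≤ (r + 1) n` -/
theorem basic_bound (h : Cfg R L r) {g : GLn n F}
    (hgN : g ∈ Subgroup.normalizer (L : Set (GLn n F))) (hns : ¬ ∃ k : Fˣ, sc k = g) (c : F) :
    r * (2 * finrank F ((act g).eigenspace c)) ≤ (r + 1) * n := by
  by_cases hc : c = 0
  · rw [hc, eigenspace_zero_eq_bot, finrank_bot]; simp
  obtain ⟨x, hxR, hxg⟩ : ∃ x ∈ R, g * x ≠ x * g := by
    by_contra hno
    push Not at hno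
    exact hns (h.cent g hno)
  have hxL : x ∈ L := h.hRL hxR
  have hmem := comm_pow_mem hgN 1 hxL
  have hne : x * g ^ 1 * x⁻¹ * (g ^ 1)⁻¹ ≠ 1 := by
    intro h1
    apply hxg
    rw [pow_one] at h1
    have : ⁅x, g⁆ = 1 := h1
    exact (commutatorElement_eq_one_iff_mul_comm.mp this).symm
  have hle : (act g).eigenspace c ⊓ ((act g).eigenspace c).map (actE x : (Fin n → F) →ₗ[F] (Fin n → F)) ≤
      (act (x * g ^ 1 * x⁻¹ * (g ^ 1)⁻¹)).eigenspace 1 := by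
    rintro v ⟨hvW, u, huW, rfl⟩
    rw [SetLike.mem_coe, mem_eigenspace_act] at hvW huW
    rw [mem_eigenspace_act, one_smul]
    exact comm_fix hc 1 huW hvW rfl
  have h1 := h.fix_le hmem hne
  have h2 := EigLA.le_finrank_inf_add ((act g).eigenspace c)
    (((act g).eigenspace c).map (actE x : (Fin n → F) →ₗ[F] (Fin n → F)))
    (finrank F ((act g).eigenspace c)) le_rfl (by rw [LinearEquiv.finrank_map_eq])
  have h3 := Submodule.finrank_mono hle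
  have h4 : finrank F (Fin n → F) = n := by simp
  rw [h4] at h2
  have h5 : r * (2 * finrank F ((act g).eigenspace c)) ≤
      r * (finrank F ((act (x * g ^ 1 * x⁻¹ * (g ^ 1)⁻¹)).eigenspace 1) + n) :=
    Nat.mul_le_mul_left _ (h2.trans (Nat.add_le_add_right h3 _))
  rw [Nat.mul_add] at h5
  rw [Nat.add_mul, one_mul]
  omega

theorem comm_central (h : Cfg R L r) {a b : GLn n F} (ha : a ∈ L) (hb : b ∈ L) :
    ⁅a, b⁆ ∈ Subgroup.center (GLn n F) := by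
  obtain ⟨k, hk, _⟩ := h.comm a ha b hb
  rw [(comm_eq_sc_iff a b k).mpr hk]
  exact sc_mem_center k

theorem comm_pow_eq_one (h : Cfg R L r) {a b : GLn n F} (ha : a ∈ L) (hb : b ∈ L) :
    ⁅a, b⁆ ^ r = 1 := by
  obtain ⟨k, hk, hkr⟩ := h.comm a ha b hb
  rw [(comm_eq_sc_iff a b k).mpr hk, ← map_pow, hkr, map_one]

/-- a nonzero vector in `W ∩ xW` when `2 dim W > n` -/
theorem exists_ne_zero_inf {g x : GLn n F} {c : F}
    (hlt : n < 2 * finrank F ((act g).eigenspace c)) :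
    ∃ u v : Fin n → F, v ≠ 0 ∧ act g u = c • u ∧ act g v = c • v ∧ act x u = v := by
  have h2 := EigLA.le_finrank_inf_add ((act g).eigenspace c)
    (((act g).eigenspace c).map (actE x : (Fin n → F) →ₗ[F] (Fin n → F)))
    (finrank F ((act g).eigenspace c)) le_rfl (by rw [LinearEquiv.finrank_map_eq])
  have h4 : finrank F (Fin n → F) = n := by simp
  rw [h4] at h2
  have hpos : 0 < finrank F ↥((act g).eigenspace c ⊓
      ((act g).eigenspace c).map (actE x : (Fin n → F) →ₗ[F] (Fin n → F))) := by omega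
  obtain ⟨⟨v, hv⟩, hv0⟩ := Module.finrank_pos_iff_exists_ne_zero.mp hpos
  obtain ⟨hvW, u, huW, hxu⟩ := hv
  rw [SetLike.mem_coe, mem_eigenspace_act] at hvW huW
  exact ⟨u, v, fun h0 => hv0 (Subtype.ext h0), huW, hvW, hxu⟩

/-- elements of order `ϖ` (odd, different from `r`): eigenspaces have dimension at most `n / 2` -/
theorem odd_ne_bound (h : Cfg R L r) {g : GLn n F}
    (hgN : g ∈ Subgroup.normalizer (L : Set (GLn n F))) (hns : ¬ ∃ k : Fˣ, sc k = g)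
    {ϖ : ℕ} (hϖ : ϖ.Prime) (hϖ2 : ϖ ≠ 2) (hϖr : ϖ ≠ r) (hord : g ^ ϖ = 1) (c : F) :
    2 * finrank F ((act g).eigenspace c) ≤ n := by
  by_contra hlt
  push Not at hlt
  have hc : c ≠ 0 := by
    intro hc
    rw [hc, eigenspace_zero_eq_bot, finrank_bot] at hlt
    omega
  have hcen : ∀ a ∈ L, ∀ b ∈ L, ⁅a, b⁆ ∈ Subgroup.center (GLn n F) :=
    fun a ha b hb => comm_central h ha hb
  -- Step A: the commutators `[x, g^d]` pairwise commute
  have hA : ∀ x ∈ L, ∀ d e : ℕ, (x * g ^ d * x⁻¹ * (g ^ d)⁻¹) * (x * g ^ e * x⁻¹ * (g ^ e)⁻¹) =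
      (x * g ^ e * x⁻¹ * (g ^ e)⁻¹) * (x * g ^ d * x⁻¹ * (g ^ d)⁻¹) := by
    intro x hx d e
    obtain ⟨u, v, hv0, hu, hv, hxu⟩ := exists_ne_zero_inf (x := x) hlt
    obtain ⟨k, hk, _⟩ := h.comm _ (comm_pow_mem hgN d hx) _ (comm_pow_mem hgN e hx)
    exact comm_of_common_fixed hk hv0 (comm_fix hc d hu hv hxu) (comm_fix hc e hu hv hxu)
  -- Step B, C: `x` commutes with `g x g⁻¹`
  have hC : ∀ x ∈ L, ⁅x, g * x * g⁻¹⁆ = 1 := by
    intro x hx
    have hcj : ∀ d : ℕ, g ^ d * x * (g ^ d)⁻¹ ∈ L := fun d => conj_pow_mem hgN d hx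
    have hrec : ∀ d : ℕ, ⁅x, g ^ (d + 1) * x * (g ^ (d + 1))⁻¹⁆ =
        ⁅x, g ^ d * x * (g ^ d)⁻¹⁆ * ⁅x, g ^ 1 * x * (g ^ 1)⁻¹⁆ := by
      intro d
      have hcomm := hA x hx d (d + 1)
      have e1 : ∀ m : ℕ, x * g ^ m * x⁻¹ * (g ^ m)⁻¹ = x * (g ^ m * x * (g ^ m)⁻¹)⁻¹ := by
        intro m; group
      rw [e1 d, e1 (d + 1)] at hcomm
      have hcyc := cm_cyclic hcen hx (hcj d) (hcj (d + 1))
      rw [(cm_eq_one_iff _ _).mpr hcomm] at hcyc
      have e2 : g ^ (d + 1) * x * (g ^ (d + 1))⁻¹ = g ^ d * (g ^ 1 * x * (g ^ 1)⁻¹) * (g ^ d)⁻¹ := by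
        rw [pow_succ]; group
      have e3 : ⁅g ^ d * x * (g ^ d)⁻¹, g ^ (d + 1) * x * (g ^ (d + 1))⁻¹⁆ =
          ⁅x, g ^ 1 * x * (g ^ 1)⁻¹⁆ := by
        rw [e2]; exact cm_conj (g ^ d) (hcen _ hx _ (hcj 1))
      rw [e3, cm_symm x (g ^ (d + 1) * x * (g ^ (d + 1))⁻¹)] at hcyc
      exact (mul_inv_eq_one.mp hcyc.symm).symm
    have hpow : ∀ d : ℕ, ⁅x, g ^ d * x * (g ^ d)⁻¹⁆ = ⁅x, g ^ 1 * x * (g ^ 1)⁻¹⁆ ^ d := by
      intro d
      induction d with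
      | zero => simp
      | succ d ih => rw [hrec d, ih]; exact (pow_succ _ d).symm
    have h1 : ⁅x, g ^ 1 * x * (g ^ 1)⁻¹⁆ ^ ϖ = 1 := by
      rw [← hpow ϖ, hord]; simp
    have h2 : ⁅x, g ^ 1 * x * (g ^ 1)⁻¹⁆ ^ r = 1 := comm_pow_eq_one h hx (hcj 1)
    have h3 := pow_gcd_eq_one.mpr ⟨h1, h2⟩
    have h4 : Nat.gcd ϖ r = 1 := (Nat.coprime_primes hϖ h.hr).mpr hϖr
    rw [h4, pow_one, pow_one] at h3
    exact h3
  -- Step D: polarization
  have hD : ∀ a ∈ L, ∀ b ∈ L, ⁅a, g * b * g⁻¹⁆ * ⁅b, g * a * g⁻¹⁆ = 1 := by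
    intro a ha b hb
    have hab := hC (a * b) (L.mul_mem ha hb)
    have ha' := conj_mem hgN ha
    have hb' := conj_mem hgN hb
    have e : g * (a * b) * g⁻¹ = (g * a * g⁻¹) * (g * b * g⁻¹) := by group
    rw [e, cm_left (hcen _ hb _ (L.mul_mem ha' hb')), cm_right (hcen _ ha _ hb'),
      cm_right (hcen _ hb _ hb'), hC a ha, hC b hb, one_mul, mul_one] at hab
    exact hab
  -- `g²` acts trivially modulo scalars
  have hD2 : ∀ b ∈ L, ∃ k : Fˣ, (g * g) * b = sc k * (b * (g * g)) := by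
    intro b hb
    have hb' := conj_mem hgN hb
    have hb'' := conj_inv_mem hgN hb
    have hm : ∀ a ∈ R, (g * b * g⁻¹) * (g⁻¹ * b * g)⁻¹ * a = a * ((g * b * g⁻¹) * (g⁻¹ * b * g)⁻¹) := by
      intro a haR
      have ha := h.hRL haR
      have e1 : ⁅a, g⁻¹ * b * g⁆ = ⁅a, g * b * g⁻¹⁆ := by
        have e2 := cm_conj g (hcen _ ha _ hb'')
        have e3 : g * (g⁻¹ * b * g) * g⁻¹ = b := by group
        rw [e3] at e2
        rw [← e2, cm_symm b (g * a * g⁻¹)]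
        exact (mul_eq_one_iff_eq_inv.mp (hD a ha b hb)).symm
      have e4 : ⁅a, (g * b * g⁻¹) * (g⁻¹ * b * g)⁻¹⁆ = 1 := by
        rw [cm_right (hcen _ ha _ (L.inv_mem hb'')), cm_inv_right (hcen _ ha _ hb''), e1,
          mul_inv_cancel]
      exact ((cm_eq_one_iff _ _).mp e4).symm
    obtain ⟨k, hk⟩ := h.cent _ hm
    refine ⟨k, ?_⟩
    have e5 : g * b * g⁻¹ = sc k * (g⁻¹ * b * g) := by
      rw [hk]; group
    calc (g * g) * b = g * (g * b * g⁻¹) * g := by group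
      _ = g * (sc k * (g⁻¹ * b * g)) * g := by rw [e5]
      _ = sc k * (g * (g⁻¹ * b * g) * g) := by
          rw [← mul_assoc g (sc k), ← sc_comm k g]; simp only [mul_assoc]
      _ = sc k * (b * (g * g)) := by
          congr 1; group
  -- `g` acts trivially modulo scalars
  have hE : ∀ b ∈ L, ∃ k : Fˣ, g * b = sc k * (b * g) := by
    intro b hb
    obtain ⟨k, hk⟩ := hD2 b hb
    obtain ⟨t, ht⟩ : ∃ t, ϖ = 2 * t + 1 := by
      rcases hϖ.eq_two_or_odd' with h2 | h2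
      · exact absurd h2 hϖ2
      · exact h2
    have hg : (g * g) ^ (t + 1) = g := by
      rw [← pow_two, ← pow_mul, show 2 * (t + 1) = ϖ + 1 by omega, pow_succ, hord, one_mul]
    have := commSc_pow_left hk (t + 1)
    rw [hg] at this
    exact ⟨_, this⟩
  -- conclusion
  obtain ⟨b, hbR, hbg⟩ : ∃ b ∈ R, g * b ≠ b * g := by
    by_contra hno
    push Not at hno
    exact hns (h.cent g hno)
  obtain ⟨k, hk⟩ := hE b (h.hRL hbR)
  have hk1 : k⁻¹ ≠ 1 := by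
    intro hk1
    apply hbg
    rw [hk, inv_eq_one.mp hk1, map_one, one_mul]
  have := two_mul_finrank_eigenspace_le (commSc_symm hk) hk1 c
  omega

end Main

end Cfsg.Agent.Lib.Helper40.ExtraOrd
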