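import Mathlib
import Cfsg.Prelude.Def_GeometricClasses
import Cfsg.Agent.Lib.Helper40.ExtraOrd
import Cfsg.Agent.Lib.Helper55.Coprime

set_option autoImplicit false

/-!
# Eigenspaces of an element of order `r` normalizing an extraspecial-type `r`-group `L` modulo scalars
(for S5877)
-/

namespace Cfsg.Agent.Lib.Helper40.ExtraEq

open Module
open scoped commutatorElement
open Cfsg.Agent.Lib.Helper40.ExtraGL
open Cfsg.Agent.Lib.Helper40.ExtraOrd

variable {F : Type*} [Field F] {n : ℕ} {R L : Subgroup (GLn n F)} {r : ℕ}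

/-- if `g` of order `r` does not act trivially on `L` modulo scalars, some commutator `[a, g]` is not a
scalar but commutes with `g` modulo scalars (fixed point of an `r`-group on an `r`-group, in `PGL`). -/
theorem exists_second_fixed [Fintype F] (h : Cfg R L r) {g : GLn n F}
    (hgN : g ∈ Subgroup.normalizer (L : Set (GLn n F))) (hgr : g ^ r = 1)
    (hT : ∃ b ∈ L, ¬ ∃ k : Fˣ, sc k = ⁅b, g⁆) :
    ∃ a ∈ L, (¬ ∃ k : Fˣ, sc k = ⁅a, g⁆) ∧ ∃ μ : Fˣ, sc μ = ⁅⁅a, g⁆, g⁆ := by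
  classical
  haveI : Fact r.Prime := ⟨h.hr⟩
  haveI : Finite (GLn n F) := inferInstance
  let π : GLn n F →* GLn n F ⧸ Cfsg.Geo.scalars (Fin n) F :=
    QuotientGroup.mk' (Cfsg.Geo.scalars (Fin n) F)
  have hπ1 : ∀ a : GLn n F, π a = 1 ↔ ∃ k : Fˣ, sc k = a := fun a => by
    show (QuotientGroup.mk' (Cfsg.Geo.scalars (Fin n) F)) a = 1 ↔ _
    rw [QuotientGroup.mk'_apply, QuotientGroup.eq_one_iff]
    exact mem_scalars_iff_sc a
  have hπc : ∀ a b : GLn n F, π ⁅a, b⁆ = ⁅π a, π b⁆ := fun a b => map_commutatorElement π a b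
  have hcommA : ∀ p ∈ L.map π, ∀ q ∈ L.map π, p * q = q * p := by
    rintro _ ⟨a, ha, rfl⟩ _ ⟨b, hb, rfl⟩
    obtain ⟨k, hk, _⟩ := h.comm a ha b hb
    rw [← map_mul, ← map_mul, hk, map_mul, (hπ1 _).mpr ⟨k, rfl⟩, one_mul]
  have hconj : ∀ p ∈ L.map π, π g * p * (π g)⁻¹ ∈ L.map π := by
    rintro _ ⟨a, ha, rfl⟩
    exact ⟨g * a * g⁻¹, conj_mem hgN ha, by rw [map_mul, map_mul, map_inv]⟩
  have hconj' : ∀ p ∈ L.map π, (π g)⁻¹ * p * π g ∈ L.map π := by
    rintro _ ⟨a, ha, rfl⟩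
    exact ⟨g⁻¹ * a * g, conj_inv_mem hgN ha, by rw [map_mul, map_mul, map_inv]⟩
  have hφmem : ∀ p ∈ L.map π, ⁅p, π g⁆ ∈ L.map π := by
    intro p hp
    have e : ⁅p, π g⁆ = p * (π g * p⁻¹ * (π g)⁻¹) := by rw [commutatorElement_def]; group
    rw [e]
    exact (L.map π).mul_mem hp (hconj _ ((L.map π).inv_mem hp))
  let φ : ↥(L.map π) →* GLn n F ⧸ Cfsg.Geo.scalars (Fin n) F :=
    MonoidHom.mk' (fun p => ⁅(p : GLn n F ⧸ Cfsg.Geo.scalars (Fin n) F), π g⁆) (by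
      intro p q
      show ⁅((p * q : ↥(L.map π)) : GLn n F ⧸ Cfsg.Geo.scalars (Fin n) F), π g⁆ =
        ⁅(p : GLn n F ⧸ Cfsg.Geo.scalars (Fin n) F), π g⁆ *
          ⁅(q : GLn n F ⧸ Cfsg.Geo.scalars (Fin n) F), π g⁆
      rw [Subgroup.coe_mul]
      have e1 : ⁅(p : GLn n F ⧸ Cfsg.Geo.scalars (Fin n) F) * q, π g⁆ =
          p * ⁅(q : GLn n F ⧸ Cfsg.Geo.scalars (Fin n) F), π g⁆ *
            (p : GLn n F ⧸ Cfsg.Geo.scalars (Fin n) F)⁻¹ *
            ⁅(p : GLn n F ⧸ Cfsg.Geo.scalars (Fin n) F), π g⁆ := by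
        simp only [commutatorElement_def]; group
      rw [e1, hcommA _ p.2 _ (hφmem _ q.2), mul_assoc _ (p : GLn n F ⧸ Cfsg.Geo.scalars (Fin n) F),
        mul_inv_cancel, mul_one]
      exact hcommA _ (hφmem _ q.2) _ (hφmem _ p.2))
  have hφ : ∀ p : ↥(L.map π), φ p = ⁅(p : GLn n F ⧸ Cfsg.Geo.scalars (Fin n) F), π g⁆ := fun _ => rfl
  have hBA : φ.range ≤ L.map π := by
    rintro _ ⟨p, rfl⟩
    exact hφmem p p.2
  have hBne : φ.range ≠ ⊥ := by
    obtain ⟨b, hb, hbns⟩ := hT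
    intro hbot
    apply hbns
    have hmem : φ ⟨π b, Subgroup.mem_map_of_mem π hb⟩ ∈ φ.range := ⟨_, rfl⟩
    rw [hbot, Subgroup.mem_bot, hφ] at hmem
    have : π ⁅b, g⁆ = 1 := by rw [hπc]; exact hmem
    exact (hπ1 _).mp this
  have hA : IsPGroup r ↥(L.map π) := by
    rintro ⟨_, a, ha, rfl⟩
    obtain ⟨m, k, hk⟩ := h.pgrp a ha
    refine ⟨m, Subtype.ext ?_⟩
    rw [Subgroup.coe_pow, Subgroup.coe_one]
    show π a ^ r ^ m = 1
    rw [← map_pow, hk]
    exact (hπ1 _).mpr ⟨k, rfl⟩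
  have hB : IsPGroup r ↥φ.range := hA.to_le hBA
  have hγr : π g ^ r = 1 := by rw [← map_pow, hgr, map_one]
  have hQ : IsPGroup r ↥(Subgroup.zpowers (π g)) := by
    rintro ⟨y, hy⟩
    obtain ⟨j, rfl⟩ := Subgroup.mem_zpowers_iff.mp hy
    refine ⟨1, Subtype.ext ?_⟩
    rw [Subgroup.coe_pow, Subgroup.coe_one, pow_one]
    show (π g ^ j) ^ r = 1
    rw [← zpow_natCast, ← zpow_mul, mul_comm, zpow_mul, zpow_natCast, hγr, one_zpow]
  have hN : Subgroup.zpowers (π g) ≤ Subgroup.normalizer (φ.range : Set _) := by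
    rw [Subgroup.zpowers_le, Subgroup.mem_normalizer_iff]
    intro q
    constructor
    · rintro ⟨p, rfl⟩
      refine ⟨⟨π g * p * (π g)⁻¹, hconj _ p.2⟩, ?_⟩
      rw [hφ, hφ]
      simp only [commutatorElement_def]; group
    · rintro ⟨p, hp⟩
      refine ⟨⟨(π g)⁻¹ * p * π g, hconj' _ p.2⟩, ?_⟩
      rw [hφ] at hp ⊢
      have : q = (π g)⁻¹ * ⁅(p : GLn n F ⧸ Cfsg.Geo.scalars (Fin n) F), π g⁆ * π g := by
        rw [hp]; group
      rw [this]
      simp only [commutatorElement_def]; group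
  have key := Cfsg.Agent.Lib.Helper55.inf_centralizer_ne_bot_of_le_normalizer hQ hB hBne hN
  obtain ⟨⟨q, hq⟩, hq1⟩ := (Subgroup.ne_bot_iff_exists_ne_one).mp key
  obtain ⟨hqB, hqC⟩ := Subgroup.mem_inf.mp hq
  obtain ⟨⟨_, a, ha, rfl⟩, hpq⟩ := hqB
  rw [hφ] at hpq
  have hq1' : q ≠ 1 := fun h1 => hq1 (Subtype.ext h1)
  have hqg : π g * q = q * π g :=
    Subgroup.mem_centralizer_iff.mp hqC (π g) (Subgroup.mem_zpowers _)
  refine ⟨a, ha, ?_, ?_⟩
  · intro hs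
    apply hq1'
    rw [← hpq]
    show ⁅π a, π g⁆ = 1
    rw [← hπc]
    exact (hπ1 _).mpr hs
  · apply (hπ1 _).mp
    rw [hπc, hπc]
    have : ⁅π a, π g⁆ = q := hpq
    rw [this]
    exact (commutatorElement_eq_one_iff_mul_comm).mpr hqg.symm

/-- the conjugates `a^i g a^{-i}` when `a g a⁻¹ = y g`, `a y a⁻¹ = σ y`, `σ = ρ²`, `ρ^r = 1` -/
theorem conj_pow_formula {a y g : GLn n F} {σ ρ : Fˣ} (hr : 0 < r) (hy : a * g * a⁻¹ = y * g)
    (hay : a * y = sc σ * (y * a)) (hρ2 : ρ ^ 2 = σ) (hρr : ρ ^ r = 1) (i : ℕ) :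
    a ^ i * g * (a ^ i)⁻¹ = sc (ρ ^ (i * i + (r - 1) * i)) * (y ^ i * g) := by
  induction i with
  | zero => simp
  | succ i ih =>
    have e1 : a ^ (i + 1) * g * (a ^ (i + 1))⁻¹ = a * (a ^ i * g * (a ^ i)⁻¹) * a⁻¹ := by
      rw [pow_succ', mul_inv_rev]; simp only [mul_assoc]
    have e2 : a * y * a⁻¹ = sc σ * y := by
      rw [hay]; simp only [mul_assoc, mul_inv_cancel, mul_one]
    have e3 : a * (y ^ i * g) * a⁻¹ = sc (σ ^ i) * (y ^ (i + 1) * g) := by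
      have : a * (y ^ i * g) * a⁻¹ = (a * y * a⁻¹) ^ i * (a * g * a⁻¹) := by
        rw [conj_pow]; group
      rw [this, e2, hy, (show Commute (sc σ) y from sc_comm σ y).mul_pow, ← map_pow, pow_succ]
      simp only [mul_assoc]
    have e4 : ρ ^ (i * i + (r - 1) * i) * σ ^ i = ρ ^ ((i + 1) * (i + 1) + (r - 1) * (i + 1)) := by
      rw [← hρ2, ← pow_mul, ← pow_add]
      have : (i + 1) * (i + 1) + (r - 1) * (i + 1) = (i * i + (r - 1) * i + 2 * i) + r := by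
        have : r - 1 + 1 = r := by omega
        nlinarith
      rw [this, pow_add _ _ r, hρr, mul_one]
    rw [e1, ih]
    calc a * (sc (ρ ^ (i * i + (r - 1) * i)) * (y ^ i * g)) * a⁻¹
        = sc (ρ ^ (i * i + (r - 1) * i)) * (a * (y ^ i * g) * a⁻¹) := by
          rw [← mul_assoc a, ← sc_comm _ a]; simp only [mul_assoc]
      _ = sc (ρ ^ (i * i + (r - 1) * i)) * (sc (σ ^ i) * (y ^ (i + 1) * g)) := by rw [e3]
      _ = sc (ρ ^ ((i + 1) * (i + 1) + (r - 1) * (i + 1))) * (y ^ (i + 1) * g) := by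
          rw [← mul_assoc, ← map_mul, e4]

/-- the core of the count: decomposition of the eigenspaces of the conjugates along the eigenspaces
of `y` -/
theorem count_core (hr : r.Prime) {g y : GLn n F} (hyg : y * g = g * y) (hyr : y ^ r = 1)
    (ζ : Fˣ) (hζ1 : ζ ≠ 1) (hζr : ζ ^ r = 1) (c : F) (w : ℕ)
    (G : ℕ → GLn n F) (t : ℕ → Fˣ) (hG : ∀ i, G i = sc (t i) * (y ^ i * g))
    (hw : ∀ i, w ≤ finrank F ((act (G i)).eigenspace c)) :
    r * w ≤ ∑ j ∈ Finset.range r, ∑ i ∈ Finset.range r,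
      finrank F ↥((act y).eigenspace (((ζ ^ j : Fˣ) : F)) ⊓
        (act g).eigenspace (c * (((t i * (ζ ^ j) ^ i)⁻¹ : Fˣ) : F))) := by
  have hζ1' : ((ζ : Fˣ) : F) ≠ 1 := fun h1 => hζ1 (Units.ext (by rw [Units.val_one]; exact h1))
  have hζr' : ((ζ : Fˣ) : F) ^ r = 1 := by
    rw [← Units.val_pow_eq_pow_val, hζr, Units.val_one]
  have hyr' : act y ^ r = 1 := by rw [← act_pow, hyr, act_one]
  -- `y` commutes with each `G i`
  have hyG : ∀ i, y * G i = G i * y := by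
    intro i
    rw [hG i]
    have c1 : Commute y (sc (t i)) := (sc_comm (t i) y).symm
    have c2 : Commute y (y ^ i) := (Commute.refl y).pow_right i
    have c3 : Commute y g := hyg
    exact (c1.mul_right (c2.mul_right c3)).eq
  have hstep : ∀ i ∈ Finset.range r, finrank F ((act (G i)).eigenspace c) ≤
      ∑ j ∈ Finset.range r, finrank F ↥((act y).eigenspace (((ζ ^ j : Fˣ) : F)) ⊓
        (act g).eigenspace (c * (((t i * (ζ ^ j) ^ i)⁻¹ : Fˣ) : F))) := by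
    intro i _
    have hinv : ∀ v ∈ (act (G i)).eigenspace c, act y v ∈ (act (G i)).eigenspace c := by
      intro v hv
      rw [mem_eigenspace_act] at hv ⊢
      rw [← act_mul_apply, ← hyG i, act_mul_apply, hv, map_smul]
    have h1 := EigLA.finrank_le_sum_inf_eigenspace (act y) r hr (ζ : F) hζ1' hζr' hyr'
      ((act (G i)).eigenspace c) hinv
    refine h1.trans (Finset.sum_le_sum ?_)
    intro j _
    apply Submodule.finrank_mono
    intro v hv
    obtain ⟨hvW, hvE⟩ := Submodule.mem_inf.mp hv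
    have hvE' : v ∈ (act y).eigenspace (((ζ ^ j : Fˣ) : F)) := by
      rw [Units.val_pow_eq_pow_val]; exact hvE
    refine Submodule.mem_inf.mpr ⟨hvE', ?_⟩
    rw [mem_eigenspace_act] at hvW hvE' ⊢
    -- `act g v` is an eigenvector of `y`
    have hgv : act y (act g v) = (((ζ ^ j : Fˣ) : F)) • act g v := by
      rw [← act_mul_apply, hyg, act_mul_apply, hvE', map_smul]
    have hgv' := act_pow_eigen hgv i
    rw [hG i, act_mul_apply, act_sc, act_mul_apply, hgv', smul_smul] at hvW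
    -- hvW : (t i * (ζ^j)^i) • act g v = c • v
    have hu : (((t i * (ζ ^ j) ^ i : Fˣ)) : F) • act g v = c • v := by
      rw [Units.val_mul, Units.val_pow_eq_pow_val]; exact hvW
    calc act g v = (((t i * (ζ ^ j) ^ i)⁻¹ : Fˣ) : F) • ((((t i * (ζ ^ j) ^ i : Fˣ)) : F) • act g v) := by
          rw [smul_smul, Units.inv_mul, one_smul]
      _ = (c * (((t i * (ζ ^ j) ^ i)⁻¹ : Fˣ) : F)) • v := by rw [hu, smul_smul, mul_comm]
  calc r * w = ∑ _i ∈ Finset.range r, w := by rw [Finset.sum_const, Finset.card_range, smul_eq_mul]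
    _ ≤ ∑ i ∈ Finset.range r, finrank F ((act (G i)).eigenspace c) :=
        Finset.sum_le_sum (fun i _ => hw i)
    _ ≤ ∑ i ∈ Finset.range r, ∑ j ∈ Finset.range r,
          finrank F ↥((act y).eigenspace (((ζ ^ j : Fˣ) : F)) ⊓
            (act g).eigenspace (c * (((t i * (ζ ^ j) ^ i)⁻¹ : Fˣ) : F))) := Finset.sum_le_sum hstep
    _ = _ := Finset.sum_comm

/-- the eigenspaces of `y` for the powers of a root of unity of order `r` -/
theorem sum_eigenspace_pow_le (hr : r.Prime) (y : GLn n F) (ζ : Fˣ) (hζ1 : ζ ≠ 1) (hζr : ζ ^ r = 1) :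
    ∑ j ∈ Finset.range r, finrank F ((act y).eigenspace (((ζ ^ j : Fˣ) : F))) ≤ n := by
  classical
  have hord : orderOf ζ = r := by
    haveI : Fact r.Prime := ⟨hr⟩
    exact orderOf_eq_prime hζr hζ1
  have h2 := EigLA.sum_finrank_eigenspace_fiber_le (act y) (Finset.range r)
    (fun j => (((ζ ^ j : Fˣ) : F))) 1 (by
      intro ν
      rw [Finset.card_le_one]
      intro i hi j hj
      rw [Finset.mem_filter, Finset.mem_range] at hi hj
      have e : ζ ^ i = ζ ^ j := Units.ext (by rw [hi.2, hj.2])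
      have e4 : i ≡ j [MOD r] := hord ▸ pow_eq_pow_iff_modEq.mp e
      exact Nat.ModEq.eq_of_lt_of_lt e4 hi.1 hj.1)
  have h3 : finrank F (Fin n → F) = n := by simp
  rw [h3, one_mul] at h2
  exact h2

/-- the quadratic congruence behind the fibre count -/
theorem quad_aux (hr : r.Prime) {j i₁ i₂ : ℕ} (h1 : i₁ < r) (h2 : i₂ < r) (hne : i₁ ≠ i₂)
    (hmod : i₁ * i₁ + (r - 1) * i₁ + j * i₁ ≡ i₂ * i₂ + (r - 1) * i₂ + j * i₂ [MOD r]) :
    (i₁ : ZMod r) + (i₂ : ZMod r) - 1 + (j : ZMod r) = 0 := by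
  haveI : Fact r.Prime := ⟨hr⟩
  have e := (ZMod.natCast_eq_natCast_iff _ _ _).mpr hmod
  push_cast [Nat.cast_sub hr.one_le, ZMod.natCast_self] at e
  have hne' : (i₁ : ZMod r) - (i₂ : ZMod r) ≠ 0 := by
    intro h0
    apply hne
    have := (ZMod.natCast_eq_natCast_iff _ _ _).mp (sub_eq_zero.mp h0)
    exact Nat.ModEq.eq_of_lt_of_lt this h1 h2
  have hprod : ((i₁ : ZMod r) - (i₂ : ZMod r)) * ((i₁ : ZMod r) + (i₂ : ZMod r) - 1 + (j : ZMod r)) = 0 := by
    linear_combination e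
  rcases mul_eq_zero.mp hprod with h0 | h0
  · exact absurd h0 hne'
  · exact h0

/-- Case A of the count: `σ ≠ 1` -/
theorem bound_caseA (hr : r.Prime) {g y : GLn n F} (hyg : y * g = g * y) (hyr : y ^ r = 1)
    (ρ : Fˣ) (hρ1 : ρ ≠ 1) (hρr : ρ ^ r = 1) (c : F) (hc : c ≠ 0) (w : ℕ) (G : ℕ → GLn n F)
    (hG : ∀ i, G i = sc (ρ ^ (i * i + (r - 1) * i)) * (y ^ i * g))
    (hw : ∀ i, w ≤ finrank F ((act (G i)).eigenspace c)) : r * w ≤ 2 * n := by
  classical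
  have hord : orderOf ρ = r := by
    haveI : Fact r.Prime := ⟨hr⟩
    exact orderOf_eq_prime hρr hρ1
  have h1 := count_core hr hyg hyr ρ hρ1 hρr c w G (fun i => ρ ^ (i * i + (r - 1) * i)) hG hw
  have hfib : ∀ j : ℕ, ∀ ν : F, ((Finset.range r).filter (fun i =>
      c * ((((ρ ^ (i * i + (r - 1) * i)) * (ρ ^ j) ^ i)⁻¹ : Fˣ) : F) = ν)).card ≤ 2 := by
    intro j ν
    by_contra hgt
    push Not at hgt
    obtain ⟨i₁, m1, i₂, m2, i₃, m3, h12, h13, h23⟩ := Finset.two_lt_card.mp hgt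
    rw [Finset.mem_filter, Finset.mem_range] at m1 m2 m3
    have key : ∀ i i' : ℕ, c * ((((ρ ^ (i * i + (r - 1) * i)) * (ρ ^ j) ^ i)⁻¹ : Fˣ) : F) = ν →
        c * ((((ρ ^ (i' * i' + (r - 1) * i')) * (ρ ^ j) ^ i')⁻¹ : Fˣ) : F) = ν →
        i * i + (r - 1) * i + j * i ≡ i' * i' + (r - 1) * i' + j * i' [MOD r] := by
      intro i i' hi hi'
      have e1 : (((ρ ^ (i * i + (r - 1) * i)) * (ρ ^ j) ^ i)⁻¹ : Fˣ) =
          (((ρ ^ (i' * i' + (r - 1) * i')) * (ρ ^ j) ^ i')⁻¹ : Fˣ) :=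
        Units.ext (mul_left_cancel₀ hc (hi.trans hi'.symm))
      have e2 := inv_injective e1
      rw [← pow_mul, ← pow_add, ← pow_mul, ← pow_add] at e2
      have e3 := pow_eq_pow_iff_modEq.mp e2
      rw [hord] at e3
      exact e3
    have q12 := quad_aux hr m1.1 m2.1 h12 (key i₁ i₂ m1.2 m2.2)
    have q13 := quad_aux hr m1.1 m3.1 h13 (key i₁ i₃ m1.2 m3.2)
    have e23 : (i₂ : ZMod r) = (i₃ : ZMod r) := by linear_combination q12 - q13
    have := (ZMod.natCast_eq_natCast_iff _ _ _).mp e23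
    exact h23 (Nat.ModEq.eq_of_lt_of_lt this m2.1 m3.1)
  have h2 : ∀ j ∈ Finset.range r, ∑ i ∈ Finset.range r,
      finrank F ↥((act y).eigenspace (((ρ ^ j : Fˣ) : F)) ⊓
        (act g).eigenspace (c * ((((ρ ^ (i * i + (r - 1) * i)) * (ρ ^ j) ^ i)⁻¹ : Fˣ) : F))) ≤
      2 * finrank F ((act y).eigenspace (((ρ ^ j : Fˣ) : F))) := by
    intro j _
    exact EigLA.sum_finrank_inf_eigenspace_fiber_le (act g) _ (Finset.range r)
      (fun i => c * ((((ρ ^ (i * i + (r - 1) * i)) * (ρ ^ j) ^ i)⁻¹ : Fˣ) : F)) 2 (hfib j)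
  have h3 := sum_eigenspace_pow_le hr y ρ hρ1 hρr
  calc r * w ≤ _ := h1
    _ ≤ ∑ j ∈ Finset.range r, 2 * finrank F ((act y).eigenspace (((ρ ^ j : Fˣ) : F))) :=
        Finset.sum_le_sum h2
    _ = 2 * ∑ j ∈ Finset.range r, finrank F ((act y).eigenspace (((ρ ^ j : Fˣ) : F))) := by
        rw [Finset.mul_sum]
    _ ≤ 2 * n := Nat.mul_le_mul_left _ h3

/-- Case B of the count: `σ = 1` -/
theorem bound_caseB (hr : r.Prime) {g y : GLn n F} (hyg : y * g = g * y) (hyr : y ^ r = 1)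
    (ζ : Fˣ) (hζ1 : ζ ≠ 1) (hζr : ζ ^ r = 1) (c : F) (hc : c ≠ 0) (w : ℕ) (G : ℕ → GLn n F)
    (hG : ∀ i, G i = sc 1 * (y ^ i * g))
    (hw : ∀ i, w ≤ finrank F ((act (G i)).eigenspace c))
    (hfix : r * finrank F ((act y).eigenspace 1) ≤ n) : r * w ≤ 2 * n := by
  classical
  have hord : orderOf ζ = r := by
    haveI : Fact r.Prime := ⟨hr⟩
    exact orderOf_eq_prime hζr hζ1
  have h1 := count_core hr hyg hyr ζ hζ1 hζr c w G (fun _ => 1) hG hw
  obtain ⟨r', hr'⟩ : ∃ r', r = r' + 1 := ⟨r - 1, by have := hr.one_le; omega⟩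
  -- fibres of size one for `0 < j < r`
  have hfib : ∀ j : ℕ, 0 < j → j < r → ∀ ν : F, ((Finset.range r).filter (fun i =>
      c * ((((1 : Fˣ) * (ζ ^ j) ^ i)⁻¹ : Fˣ) : F) = ν)).card ≤ 1 := by
    intro j hj0 hjr ν
    rw [Finset.card_le_one]
    intro i hi i' hi'
    rw [Finset.mem_filter, Finset.mem_range] at hi hi'
    have e1 : (((1 : Fˣ) * (ζ ^ j) ^ i)⁻¹ : Fˣ) = (((1 : Fˣ) * (ζ ^ j) ^ i')⁻¹ : Fˣ) :=
      Units.ext (mul_left_cancel₀ hc (hi.2.trans hi'.2.symm))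
    have e2 := inv_injective e1
    rw [one_mul, one_mul, ← pow_mul, ← pow_mul] at e2
    have e3 := pow_eq_pow_iff_modEq.mp e2
    rw [hord] at e3
    have hcop : Nat.gcd r j = 1 := by
      have : Nat.Coprime r j := (Nat.Prime.coprime_iff_not_dvd hr).mpr
        (fun hd => absurd (Nat.le_of_dvd hj0 hd) (by omega))
      exact this
    have e4 := Nat.ModEq.cancel_left_of_coprime hcop e3
    exact Nat.ModEq.eq_of_lt_of_lt e4 hi.1 hi'.1
  have h2 : ∀ j ∈ Finset.range r', ∑ i ∈ Finset.range r,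
      finrank F ↥((act y).eigenspace (((ζ ^ (j + 1) : Fˣ) : F)) ⊓
        (act g).eigenspace (c * ((((1 : Fˣ) * (ζ ^ (j + 1)) ^ i)⁻¹ : Fˣ) : F))) ≤
      1 * finrank F ((act y).eigenspace (((ζ ^ (j + 1) : Fˣ) : F))) := by
    intro j hj
    rw [Finset.mem_range] at hj
    exact EigLA.sum_finrank_inf_eigenspace_fiber_le (act g) _ (Finset.range r)
      (fun i => c * ((((1 : Fˣ) * (ζ ^ (j + 1)) ^ i)⁻¹ : Fˣ) : F)) 1
      (hfib (j + 1) (Nat.succ_pos j) (by omega))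
  have h0 : ∑ i ∈ Finset.range r,
      finrank F ↥((act y).eigenspace (((ζ ^ 0 : Fˣ) : F)) ⊓
        (act g).eigenspace (c * ((((1 : Fˣ) * (ζ ^ 0) ^ i)⁻¹ : Fˣ) : F))) ≤ n := by
    have e0 : (((ζ ^ 0 : Fˣ) : F)) = 1 := by rw [pow_zero, Units.val_one]
    calc ∑ i ∈ Finset.range r,
          finrank F ↥((act y).eigenspace (((ζ ^ 0 : Fˣ) : F)) ⊓
            (act g).eigenspace (c * ((((1 : Fˣ) * (ζ ^ 0) ^ i)⁻¹ : Fˣ) : F)))
        ≤ ∑ _i ∈ Finset.range r, finrank F ((act y).eigenspace (((ζ ^ 0 : Fˣ) : F))) :=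
          Finset.sum_le_sum (fun i _ => Submodule.finrank_mono inf_le_left)
      _ = r * finrank F ((act y).eigenspace (((ζ ^ 0 : Fˣ) : F))) := by
          rw [Finset.sum_const, Finset.card_range, smul_eq_mul]
      _ ≤ n := by rw [e0]; exact hfix
  have h3 := sum_eigenspace_pow_le hr y ζ hζ1 hζr
  rw [hr', Finset.sum_range_succ'] at h3
  have h3' : ∑ j ∈ Finset.range r', finrank F ((act y).eigenspace (((ζ ^ (j + 1) : Fˣ) : F))) ≤ n :=
    le_trans (Nat.le_add_right _ _) h3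
  have h1' : r * w ≤ ∑ j ∈ Finset.range (r' + 1), ∑ i ∈ Finset.range r,
      finrank F ↥((act y).eigenspace (((ζ ^ j : Fˣ) : F)) ⊓
        (act g).eigenspace (c * ((((1 : Fˣ) * (ζ ^ j) ^ i)⁻¹ : Fˣ) : F))) := by
    rw [← hr']; exact h1
  rw [Finset.sum_range_succ'] at h1'
  have h4 : ∑ j ∈ Finset.range r', ∑ i ∈ Finset.range r,
      finrank F ↥((act y).eigenspace (((ζ ^ (j + 1) : Fˣ) : F)) ⊓
        (act g).eigenspace (c * ((((1 : Fˣ) * (ζ ^ (j + 1)) ^ i)⁻¹ : Fˣ) : F))) ≤ n := by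
    refine le_trans (Finset.sum_le_sum h2) ?_
    simp only [one_mul]
    exact h3'
  omega

/-- a scalar relation `b g = k g b` with `g ^ r = 1` has `k ^ r = 1` -/
theorem pow_eq_one_of_commSc (hn : 0 < n) {b g : GLn n F} {k : Fˣ} (hk : b * g = sc k * (g * b))
    (hgr : g ^ r = 1) : k ^ r = 1 := by
  have h1 := commSc_pow_right hk r
  rw [hgr, mul_one, one_mul] at h1
  apply sc_injective hn
  rw [map_one]
  have : sc (k ^ r) * b = 1 * b := by rw [one_mul]; exact h1.symm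
  exact mul_right_cancel this

/-- elements of order `r` (odd): eigenspaces have dimension at most `2 n / r` -/
theorem eq_prime_bound [Fintype F] (h : Cfg R L r) (hr2 : r ≠ 2) {g : GLn n F}
    (hgN : g ∈ Subgroup.normalizer (L : Set (GLn n F))) (hns : ¬ ∃ k : Fˣ, sc k = g)
    (hgr : g ^ r = 1) (c : F) : r * finrank F ((act g).eigenspace c) ≤ 2 * n := by
  have hr := h.hr
  by_cases hc : c = 0
  · rw [hc, eigenspace_zero_eq_bot, finrank_bot]; omega
  by_cases hT : ∃ b ∈ L, ¬ ∃ k : Fˣ, sc k = ⁅b, g⁆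
  swap
  · -- `g` acts trivially modulo scalars
    push Not at hT
    obtain ⟨b, hbR, hbg⟩ : ∃ b ∈ R, g * b ≠ b * g := by
      by_contra hno
      push Not at hno
      exact hns (h.cent g hno)
    obtain ⟨k, hk⟩ := hT b (h.hRL hbR)
    have hk' : b * g = sc k * (g * b) := (comm_eq_sc_iff b g k).mp hk.symm
    have hk1 : k ≠ 1 := by
      intro h1
      apply hbg
      rw [hk', h1, map_one, one_mul]
    have hkr := pow_eq_one_of_commSc h.hn hk' hgr
    have := prime_mul_finrank_eigenspace_le hk' hk1 hr hkr c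
    omega
  obtain ⟨a, ha, hyns, μ, hμ⟩ := exists_second_fixed h hgN hgr hT
  have hyL : ⁅a, g⁆ ∈ L := by
    have := comm_pow_mem hgN 1 ha
    rw [pow_one] at this
    exact this
  have hμ' : ⁅a, g⁆ * g = sc μ * (g * ⁅a, g⁆) := (comm_eq_sc_iff _ g μ).mp hμ.symm
  by_cases hμ1 : μ = 1
  swap
  · have hμr := pow_eq_one_of_commSc h.hn hμ' hgr
    have := prime_mul_finrank_eigenspace_le hμ' hμ1 hr hμr c
    omega
  rw [hμ1, map_one, one_mul] at hμ'
  -- `y = [a, g]` commutes with `g`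
  obtain ⟨σ, hσ, hσr⟩ := h.comm a ha ⁅a, g⁆ hyL
  have hy : a * g * a⁻¹ = ⁅a, g⁆ * g := by rw [commutatorElement_def]; group
  have hodd : ∃ t, r = 2 * t + 1 := by
    rcases hr.eq_two_or_odd' with h2 | h2
    · exact absurd h2 hr2
    · exact h2
  obtain ⟨t, ht⟩ := hodd
  have hρ2 : (σ ^ (t + 1)) ^ 2 = σ := by
    rw [← pow_mul, show (t + 1) * 2 = r + 1 by omega, pow_succ, hσr, one_mul]
  have hρr : (σ ^ (t + 1)) ^ r = 1 := by
    rw [← pow_mul, mul_comm, pow_mul, hσr, one_pow]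
  have hform := conj_pow_formula (r := r) hr.pos hy hσ hρ2 hρr
  -- `y ^ r = 1`
  have hyr : ⁅a, g⁆ ^ r = 1 := by
    obtain ⟨k', hk'⟩ := h.pow_eq_sc ha
    have h1 := hform r
    rw [← hk'] at h1
    have h2 : sc k' * g * (sc k' : GLn n F)⁻¹ = g := by
      rw [sc_comm k' g, mul_assoc, mul_inv_cancel, mul_one]
    have h3 : (σ ^ (t + 1)) ^ (r * r + (r - 1) * r) = 1 := by
      rw [← Nat.add_mul, mul_comm, pow_mul, hρr, one_pow]
    rw [h2, h3, map_one, one_mul] at h1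
    have : 1 * g = ⁅a, g⁆ ^ r * g := by rw [one_mul]; exact h1
    exact (mul_right_cancel this).symm
  -- the eigenspaces of the conjugates
  have hw : ∀ i : ℕ, finrank F ((act g).eigenspace c) ≤
      finrank F ((act (a ^ i * g * (a ^ i)⁻¹)).eigenspace c) := by
    intro i
    have hle : ((act g).eigenspace c).map (actE (a ^ i) : (Fin n → F) →ₗ[F] (Fin n → F)) ≤
        (act (a ^ i * g * (a ^ i)⁻¹)).eigenspace c := by
      rintro _ ⟨u, hu, rfl⟩
      rw [SetLike.mem_coe, mem_eigenspace_act] at hu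
      rw [mem_eigenspace_act]
      show act (a ^ i * g * (a ^ i)⁻¹) (act (a ^ i) u) = c • act (a ^ i) u
      rw [act_mul_apply, act_inv_apply, act_mul_apply, hu, map_smul]
    have := Submodule.finrank_mono hle
    rwa [LinearEquiv.finrank_map_eq] at this
  have hy1 : ⁅a, g⁆ ≠ 1 := by
    intro h1
    apply hyns
    exact ⟨1, by rw [map_one, h1]⟩
  by_cases hσ1 : σ = 1
  · -- Case B
    obtain ⟨_, _, _, _, ζ, _, hζ1, hζr⟩ := h.root
    have hG : ∀ i, a ^ i * g * (a ^ i)⁻¹ = sc 1 * (⁅a, g⁆ ^ i * g) := by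
      intro i
      rw [hform i, hσ1, one_pow, one_pow]
    exact bound_caseB hr hμ' hyr ζ hζ1 hζr c hc _ _ hG hw (h.fix_le hyL hy1)
  · -- Case A
    have hρ1 : σ ^ (t + 1) ≠ 1 := by
      intro h1
      apply hσ1
      rw [← hρ2, h1, one_pow]
    exact bound_caseA hr hμ' hyr (σ ^ (t + 1)) hρ1 hρr c hc _ _ hform hw

end Cfsg.Agent.Lib.Helper40.ExtraEq
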