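import Mathlib
import Cfsg.Prelude.Def_CaseTheorems
import Cfsg.Prelude.Def_OddOrderLocal
import Cfsg.Prelude.Def_Solvable
import Cfsg.Prelude.Def_Transfer
import Cfsg.Agent.Lib.Helper40.NarrowGlue
import Cfsg.Agent.Lib.Helper26.Rank2Amb
import Cfsg.Agent.Lib.Helper61.PrimeAction
import Cfsg.Agent.Lib.Helper70.Hypercenter
import Cfsg.Agent.Lib.Helper13.Fitting
import Cfsg.Agent.Lib.Helper01.Fitting

set_option autoImplicit false

/-!
# The derived subgroup inside the Fitting subgroup

* `commutator_le_fitting_of_action`: in a finite solvable group `G`, if every element of `G'` acts on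
  each `O_q(G)` as a `q`-element, then `G' ≤ F(G)`.
* `action_claim`: the hypothesis holds for odd order `G` when `F(G) ∩ C_G(E)` has rank at most two
  for an elementary abelian `p`-subgroup `E` of `F(G)`.
-/

universe u

namespace Cfsg.Agent.Lib.Helper40.FittingDerived

open Cfsg Subgroup
open scoped commutatorElement

variable {G : Type u} [Group G]

theorem card_le_of_pRankLE_of_le {p k : ℕ} (M X : Subgroup G) (hXM : X ≤ M)
    (h : PRankLE p k ↥M) (hXc : ∀ a ∈ X, ∀ b ∈ X, a * b = b * a) (hXp : ∀ a ∈ X, a ^ p = 1) :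
    Nat.card X ≤ p ^ k := by
  have h1 : IsMulCommutative (X.subgroupOf M) := by
    refine ⟨⟨fun a b => Subtype.ext (Subtype.ext ?_)⟩⟩
    exact hXc _ (mem_subgroupOf.1 a.2) _ (mem_subgroupOf.1 b.2)
  have h2 : ∀ a ∈ X.subgroupOf M, a ^ p = 1 := by
    intro a ha
    apply Subtype.ext
    have := hXp _ (mem_subgroupOf.1 ha)
    simpa using this
  have h3 := h (X.subgroupOf M) h1 h2
  rwa [Nat.card_congr (subgroupOfEquivOfLe hXM).toEquiv] at h3

theorem commutator_le_fitting_of_action [Finite G] [Group.IsSolvable G]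
    (h : ∀ q : ℕ, q.Prime → ∀ c ∈ commutator G,
      ∃ k : ℕ, c ^ (q ^ k) ∈ centralizer (pCore q G : Set G)) :
    commutator G ≤ fittingSubgroup G := by
  classical
  have hFn : (fittingSubgroup G).Normal := Cfsg.Agent.Lib.Helper13.fittingSubgroup_normal
  -- centralizing all the `O_ℓ` means centralizing `F`
  have hcent : ∀ x : G, (∀ ℓ : ℕ, ℓ.Prime → x ∈ centralizer (pCore ℓ G : Set G)) →
      x ∈ fittingSubgroup G := by
    intro x hx
    apply Cfsg.Agent.Lib.Helper13.centralizer_fittingSubgroup_le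
    rw [mem_centralizer_iff]
    have hle : fittingSubgroup G ≤ centralizer {x} := by
      rw [Cfsg.Agent.Lib.Helper01.fitting_eq_iSup_pCore]
      apply iSup_le
      intro ℓ y hy
      rw [mem_centralizer_singleton_iff]
      have := hx ℓ ℓ.2
      rw [mem_centralizer_iff] at this
      exact this y hy
    intro f hf
    have := hle hf
    rw [mem_centralizer_singleton_iff] at this
    exact this
  have hMr : ∀ r : ℕ, r.Prime → ∀ e ∈ commutator G,
      (∀ ℓ : ℕ, ℓ.Prime → ℓ ≠ r → e ∈ centralizer (pCore ℓ G : Set G)) →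
      e ∈ fittingSubgroup G := by
    intro r hr e heD hecent
    have : Fact r.Prime := ⟨hr⟩
    set M : Subgroup G := commutator G ⊓
      ⨅ ℓ : {ℓ : ℕ // ℓ.Prime ∧ ℓ ≠ r}, centralizer (pCore (ℓ : ℕ) G : Set G) with hM
    have hMn : M.Normal := by
      have : ∀ ℓ : {ℓ : ℕ // ℓ.Prime ∧ ℓ ≠ r},
          (centralizer (pCore (ℓ : ℕ) G : Set G)).Normal := fun ℓ => Subgroup.normal_centralizer
      have : (⨅ ℓ : {ℓ : ℕ // ℓ.Prime ∧ ℓ ≠ r},
          centralizer (pCore (ℓ : ℕ) G : Set G)).Normal := Subgroup.normal_iInf_normal this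
      have : (commutator G).Normal := by rw [commutator_def]; infer_instance
      infer_instance
    have hDq : ∀ d ∈ M, ∃ a : ℕ, d ^ r ^ a ∈ fittingSubgroup G := by
      intro d hd
      obtain ⟨k, hk⟩ := h r hr d hd.1
      refine ⟨k, hcent _ ?_⟩
      intro ℓ hℓ
      by_cases hℓr : ℓ = r
      · subst hℓr; exact hk
      · have := (Subgroup.mem_iInf.1 hd.2) ⟨ℓ, hℓ, hℓr⟩
        exact Subgroup.pow_mem _ this _
    have hle := Cfsg.Agent.Lib.Helper61.PrimeAction.inf_centralizers_le_fitting r M hDq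
    have heM : e ∈ M := ⟨heD, Subgroup.mem_iInf.2 (fun ℓ => hecent ℓ ℓ.2.1 ℓ.2.2)⟩
    exact hle ⟨heM, heM.2⟩
  intro c hc
  by_contra hcF
  have hπ : (QuotientGroup.mk' (fittingSubgroup G) c) ≠ 1 :=
    fun h1 => hcF ((QuotientGroup.eq_one_iff c).1 h1)
  have hord : orderOf (QuotientGroup.mk' (fittingSubgroup G) c) ≠ 1 :=
    fun h1 => hπ (orderOf_eq_one_iff.1 h1)
  obtain ⟨r, hr, hrd⟩ := Nat.exists_prime_and_dvd hord
  have ho : orderOf c ≠ 0 := (orderOf_pos c).ne'
  obtain ⟨a, s, hs, hos⟩ := Nat.exists_eq_pow_mul_and_not_dvd ho r hr.ne_one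
  have hes : (c ^ s) ^ (r ^ a) = 1 := by
    rw [← pow_mul, mul_comm, ← hos]; exact pow_orderOf_eq_one c
  have heD : c ^ s ∈ commutator G := Subgroup.pow_mem _ hc _
  have heF : c ^ s ∈ fittingSubgroup G := by
    apply hMr r hr _ heD
    intro ℓ hℓ hℓr
    obtain ⟨k, hk⟩ := h ℓ hℓ _ heD
    have hcop : (ℓ ^ k).Coprime (orderOf (c ^ s)) := by
      have hdvd : orderOf (c ^ s) ∣ r ^ a := orderOf_dvd_of_pow_eq_one hes
      apply Nat.Coprime.coprime_dvd_right hdvd
      exact Nat.Coprime.pow _ _ ((Nat.coprime_primes hℓ hr).2 hℓr)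
    obtain ⟨m, hm⟩ := exists_pow_eq_self_of_coprime hcop
    rw [← hm]
    exact Subgroup.pow_mem _ hk _
  have h1 : (QuotientGroup.mk' (fittingSubgroup G) c) ^ s = 1 := by
    rw [← map_pow]; exact (QuotientGroup.eq_one_iff _).2 heF
  have h2 : orderOf (QuotientGroup.mk' (fittingSubgroup G) c) ∣ s := orderOf_dvd_of_pow_eq_one h1
  exact hs (hrd.trans h2)

theorem action_claim [Finite G] [Group.IsSolvable G] (hodd : Odd (Nat.card G)) (p : ℕ)
    [hp : Fact p.Prime] (E : Subgroup G) (hE : E ≤ fittingSubgroup G)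
    (hEe : IsElementaryAbelian p E)
    (hr : RankLE 2 ↥(fittingSubgroup G ⊓ centralizer (E : Set G))) (q : ℕ) (hq : q.Prime) :
    ∀ c ∈ commutator G, ∃ k : ℕ, c ^ (q ^ k) ∈ centralizer (pCore q G : Set G) := by
  classical
  have : Fact q.Prime := ⟨hq⟩
  have hPq : IsPGroup q (pCore q G) := Cfsg.Agent.Lib.Helper01.pCore_isPGroup q
  have hA : (⊤ : Subgroup G) ≤ normalizer ((pCore q G : Subgroup G) : Set G) := by
    rw [Subgroup.normalizer_eq_top]
  have hAs : Group.IsSolvable (⊤ : Subgroup G) :=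
    Group.isSolvable_of_isSolvable_injective (f := (⊤ : Subgroup G).subtype)
      (Subgroup.subtype_injective _)
  have hAodd : Odd (Nat.card (⊤ : Subgroup G)) := by rw [Subgroup.card_top]; exact hodd
  by_cases hq2 : q = 2
  · subst hq2
    have hbot : pCore 2 G = ⊥ := by
      obtain ⟨k, hk⟩ := hPq.exists_card_eq
      have hd : Nat.card (pCore 2 G) ∣ Nat.card G := Subgroup.card_subgroup_dvd_card _
      have hk0 : k = 0 := by
        by_contra hk0
        have : 2 ∣ Nat.card G := (dvd_pow_self 2 hk0).trans (hk ▸ hd)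
        obtain ⟨m, hm⟩ := hodd
        omega
      rw [hk0, pow_zero] at hk
      exact Subgroup.card_eq_one.1 hk
    intro c _
    refine ⟨0, ?_⟩
    rw [hbot, mem_centralizer_iff]
    intro y hy
    have : y = 1 := by simpa using hy
    rw [this, one_mul, mul_one]
  by_cases hrk : PRankLE q 2 (pCore q G)
  · exact (Cfsg.Agent.Lib.Helper26.Rank2Amb.ambient hq2 (pCore q G) ⊤ hPq hrk hA hAs hAodd).1
  -- `E ≤ O_p(G)`
  have hEP : E ≤ pCore p G := by
    intro e he
    by_cases he1 : e = 1
    · rw [he1]; exact one_mem _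
    have ho : orderOf e = p := orderOf_eq_prime (hEe.2 e he) he1
    obtain ⟨W, hWn, hWp, heW⟩ :=
      Cfsg.Agent.Lib.Helper70.exists_normal_pgroup_of_mem_fitting (hE he) ho
    exact Cfsg.Agent.Lib.Helper01.le_pCore hWn hWp heW
  have hqp : q = p := by
    by_contra hne
    apply hrk
    have hle : pCore q G ≤ fittingSubgroup G ⊓ centralizer (E : Set G) := by
      refine le_inf (Cfsg.Agent.Lib.Helper01.pCore_le_fitting q) ?_
      intro y hy
      rw [mem_centralizer_iff]
      intro e he
      have hdis : Disjoint (pCore p G) (pCore q G) :=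
        IsPGroup.disjoint_of_ne p q (fun h => hne h.symm) _ _
          (Cfsg.Agent.Lib.Helper01.pCore_isPGroup p) hPq
      exact Subgroup.commute_of_normal_of_disjoint _ _ inferInstance inferInstance hdis e y
        (hEP he) hy
    exact NarrowGlue.pRankLE_of_injective (Subgroup.inclusion hle)
      (Subgroup.inclusion_injective hle) (hr q hq)
  subst hqp
  have hq2' : q ≠ 2 := hq2
  obtain ⟨x, E', w⟩ := NarrowGlue.exists_wit hPq hrk (E.subgroupOf (pCore q G))
    (by
      intro a ha b hb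
      apply Subtype.ext
      have := hEe.1.is_comm.comm ⟨a.1, mem_subgroupOf.1 ha⟩ ⟨b.1, mem_subgroupOf.1 hb⟩
      have h2 : (a : G) * (b : G) = (b : G) * (a : G) := by
        simpa using congrArg Subtype.val this
      simpa using h2)
    (by
      intro a ha
      apply Subtype.ext
      have := hEe.2 a.1 (mem_subgroupOf.1 ha)
      simpa using this)
    (by
      intro A hAc hAp hAE
      set X : Subgroup G := A.map (pCore q G).subtype with hX
      have hXle : X ≤ fittingSubgroup G ⊓ centralizer (E : Set G) := by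
        rintro _ ⟨a, ha, rfl⟩
        refine Subgroup.mem_inf.2 ⟨Cfsg.Agent.Lib.Helper01.pCore_le_fitting q a.2, ?_⟩
        rw [mem_centralizer_iff]
        intro e he
        have := hAE a ha ⟨e, hEP he⟩ (mem_subgroupOf.2 he)
        exact (congrArg Subtype.val this).symm
      have hXc : ∀ a ∈ X, ∀ b ∈ X, a * b = b * a := by
        rintro _ ⟨a, ha, rfl⟩ _ ⟨b, hb, rfl⟩
        have := hAc.is_comm.comm ⟨a, ha⟩ ⟨b, hb⟩
        have h2 : a * b = b * a := congrArg Subtype.val this
        exact congrArg Subtype.val h2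
      have hXp : ∀ a ∈ X, a ^ q = 1 := by
        rintro _ ⟨a, ha, rfl⟩
        have := hAp a ha
        simpa using congrArg Subtype.val this
      have := card_le_of_pRankLE_of_le _ X hXle (hr q hq) hXc hXp
      rwa [hX, Subgroup.card_map_of_injective (Subgroup.subtype_injective _)] at this)
  exact (NarrowGlue.ambient hq2' (pCore q G) ⊤ hPq hrk w hA).1

end Cfsg.Agent.Lib.Helper40.FittingDerived
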