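import Mathlib
import Cfsg.Agent.Lib.Helper72.G42Defs
import Cfsg.Agent.Lib.Helper62.Small120

/-!
# K-G42 pack (S2553), leaf L3b: `exists_orbit`

A nontrivial perfect permutation group on 8 points has exactly one nontrivial orbit, of size `≥ 5`:
on an orbit of size `≤ 4` the image is a perfect subgroup of a solvable group (order `≤ 24 < 60`),
so it is trivial; the complement of an orbit of size `≥ 5` has at most 3 points.
-/

set_option autoImplicit false

namespace Cfsg.Agent.Lib.Helper40.G42

open Cfsg.Agent.Lib.Helper72.G42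

theorem perfect_top {G : Type*} [Group G] (N : Subgroup G) (h : ⁅N, N⁆ = N) :
    commutator ↥N = ⊤ := by
  apply Subgroup.map_injective N.subtype_injective
  rw [commutator_def, Subgroup.map_commutator, ← MonoidHom.range_eq_map, Subgroup.range_subtype, h]

theorem hom_trivial {A B : Type*} [Group A] [Group B] [Group.IsSolvable B]
    (hA : commutator A = ⊤) (f : A →* B) (a : A) : f a = 1 := by
  by_contra hne
  have hR : f.range ≠ ⊥ := by
    intro h
    apply hne
    have : f a ∈ f.range := ⟨a, rfl⟩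
    rw [h] at this
    exact Subgroup.mem_bot.1 this
  have hlt := Group.IsSolvable.commutator_lt_of_ne_bot hR
  rw [MonoidHom.range_eq_map, ← Subgroup.map_commutator, ← commutator_def, hA] at hlt
  exact lt_irrefl _ hlt

/-- a perfect group fixes every point in an orbit of size `≤ 4` -/
theorem fixes_of_small_orbit (N : Subgroup (Equiv.Perm (Fin 8))) (hperf : ⁅N, N⁆ = N) (x : Fin 8)
    (hx : Nat.card ↥(MulAction.orbit ↥N x) ≤ 4) : ∀ n ∈ N, n x = x := by
  intro n hn
  have hcard : Nat.card (Equiv.Perm ↥(MulAction.orbit ↥N x)) < 60 := by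
    rw [Nat.card_perm]
    calc (Nat.card ↥(MulAction.orbit ↥N x)).factorial ≤ (4 : ℕ).factorial :=
          Nat.factorial_le hx
      _ < 60 := by decide
  have : Group.IsSolvable (Equiv.Perm ↥(MulAction.orbit ↥N x)) :=
    Cfsg.Agent.Lib.Helper62.Small120.solvable_of_card_lt_sixty _ hcard _ rfl
  have h1 := hom_trivial (perfect_top N hperf)
    (MulAction.toPermHom ↥N ↥(MulAction.orbit ↥N x)) ⟨n, hn⟩
  have h2 := congrArg (fun σ => (σ ⟨x, MulAction.mem_orbit_self x⟩ : Fin 8)) h1
  simpa using h2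

/-- 255304 L3b -/
theorem exists_orbit (N : Subgroup (Equiv.Perm (Fin 8))) (hN1 : N ≠ ⊥) (hperf : ⁅N, N⁆ = N) :
    ∃ Δ : Finset (Fin 8), 5 ≤ Δ.card ∧ (∀ n ∈ N, ∀ x, x ∉ Δ → n x = x) ∧
      (∀ x ∈ Δ, ∀ y ∈ Δ, ∃ n ∈ N, n x = y) := by
  classical
  -- the orbit of a point as a finset
  set orb : Fin 8 → Finset (Fin 8) :=
    fun x => Finset.univ.filter (fun y => y ∈ MulAction.orbit ↥N x) with horb
  have hmem : ∀ x y, y ∈ orb x ↔ y ∈ MulAction.orbit ↥N x := by
    intro x y
    simp [horb]
  have hcardorb : ∀ x, Nat.card ↥(MulAction.orbit ↥N x) = (orb x).card := by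
    intro x
    rw [Nat.card_eq_fintype_card]
    exact Fintype.card_of_subtype (orb x) (hmem x)
  -- a moved point
  obtain ⟨⟨n, hnN⟩, hn1⟩ := (Subgroup.ne_bot_iff_exists_ne_one).1 hN1
  have hn1' : n ≠ 1 := fun h => hn1 (Subtype.ext h)
  obtain ⟨x, hx⟩ : ∃ x, n x ≠ x := by
    by_contra hcon
    simp only [not_exists, not_not] at hcon
    exact hn1' (Equiv.ext hcon)
  have h5 : 5 ≤ (orb x).card := by
    by_contra hlt
    have hle : Nat.card ↥(MulAction.orbit ↥N x) ≤ 4 := by
      rw [hcardorb x]; omega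
    exact hx (fixes_of_small_orbit N hperf x hle n hnN)
  refine ⟨orb x, h5, ?_, ?_⟩
  · intro m hm y hy
    -- the orbit of `y` is disjoint from the orbit of `x`
    have hdisj : Disjoint (orb y) (orb x) := by
      rw [Finset.disjoint_left]
      intro z hzy hzx
      rw [hmem] at hzy hzx
      apply hy
      rw [hmem]
      have e1 := MulAction.orbit_eq_iff.2 hzy
      have e2 := MulAction.orbit_eq_iff.2 hzx
      rw [← e2, e1]
      exact MulAction.mem_orbit_self y
    have hle : (orb y).card + (orb x).card ≤ 8 := by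
      rw [← Finset.card_union_of_disjoint hdisj]
      calc (orb y ∪ orb x).card ≤ (Finset.univ : Finset (Fin 8)).card :=
            Finset.card_le_card (Finset.subset_univ _)
        _ = 8 := by simp
    have hle4 : Nat.card ↥(MulAction.orbit ↥N y) ≤ 4 := by
      rw [hcardorb y]; omega
    exact fixes_of_small_orbit N hperf y hle4 m hm
  · intro a ha b hb
    rw [hmem] at ha hb
    obtain ⟨g, hg⟩ := MulAction.mem_orbit_iff.1 ha
    obtain ⟨h, hh⟩ := MulAction.mem_orbit_iff.1 hb
    refine ⟨((h * g⁻¹ : ↥N) : Equiv.Perm (Fin 8)), (h * g⁻¹).2, ?_⟩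
    have hg' : (g : Equiv.Perm (Fin 8)) x = a := hg
    have hh' : (h : Equiv.Perm (Fin 8)) x = b := hh
    rw [← hg', ← hh']
    simp

end Cfsg.Agent.Lib.Helper40.G42
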