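import Mathlib
import Cfsg.Prelude.Def_LieClassical
import Cfsg.Agent.Lib.Helper40.GUNorm
import Cfsg.Agent.Lib.Helper40.GUConj

set_option autoImplicit false

/-!
# Matrices similar to unitary matrices

* `hilbert90`: in a finite commutative ring with involution `σ` (and `θ - σ θ` a unit), every `x`
  with `x * σ x = 1` is `c / σ c` for a unit `c` (counting, from `GUNorm.norm_surjective`).
* `exists_h90_matrix`: matrix version for a semilinear anti-automorphism `T` with `T x = x ^ k`.
* `exists_unitary_of_sim`: if `adj A * g * A = g` for an invertible `g` then `A` is conjugate to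
  a unitary matrix.
-/

namespace Cfsg.Agent.Lib.Helper40.GUSim

open Cfsg.Agent.Lib.Helper40.GUNorm Cfsg.Agent.Lib.Helper40.GUConj

universe u

section H90

variable {L : Type u} [CommRing L] [Finite L] (σ : L →+* L)

/-- **Hilbert 90** for a finite commutative ring with involution. -/
theorem hilbert90 (hσ : ∀ x, σ (σ x) = x) (θ : L) (hθ : IsUnit (θ - σ θ)) (x : L)
    (hx : x * σ x = 1) : ∃ c : L, IsUnit c ∧ c = σ c * x := by
  classical
  let σu : Lˣ →* Lˣ := Units.map (σ : L →* L)
  have hσu : ∀ c : Lˣ, ((σu c : Lˣ) : L) = σ (c : L) := fun c => rfl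
  let Nh : Lˣ →* Lˣ := MonoidHom.id Lˣ * σu
  let Dh : Lˣ →* Lˣ := MonoidHom.id Lˣ / σu
  have hNh : ∀ c, Nh c = c * σu c := fun c => rfl
  have hDh : ∀ c, Dh c = c / σu c := fun c => rfl
  have hσσu : ∀ c : Lˣ, σu (σu c) = c := fun c => Units.ext (by rw [hσu, hσu, hσ])
  -- range of the norm = fixed units = kernel of D
  have hrange : Nh.range = Dh.ker := by
    ext u
    rw [MonoidHom.mem_range, MonoidHom.mem_ker, hDh, div_eq_one]
    constructor
    · rintro ⟨c, rfl⟩
      rw [hNh, map_mul, hσσu, mul_comm]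
    · intro hu
      have hfix : σ (u : L) = u := by rw [← hσu, ← hu]
      obtain ⟨c, hc⟩ := norm_surjective σ hσ θ hθ (u : L) u.isUnit hfix
      have hcu : IsUnit c := by
        refine IsUnit.of_mul_eq_one (σ c * (↑u⁻¹ : L)) ?_
        rw [← mul_assoc, hc, Units.mul_inv]
      obtain ⟨cu, rfl⟩ := hcu
      refine ⟨cu, ?_⟩
      apply Units.ext
      rw [hNh, Units.val_mul, hσu, hc]
  have hle : Dh.range ≤ Nh.ker := by
    rintro _ ⟨c, rfl⟩
    rw [MonoidHom.mem_ker, hNh, hDh, map_div, hσσu]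
    rw [div_mul_div_comm, mul_comm, div_self']
  have hcard1 : Nat.card Nh.ker * Nat.card Nh.range = Nat.card Lˣ := by
    rw [← Subgroup.index_ker, Subgroup.card_mul_index]
  have hcard2 : Nat.card Dh.ker * Nat.card Dh.range = Nat.card Lˣ := by
    rw [← Subgroup.index_ker, Subgroup.card_mul_index]
  have hpos : 0 < Nat.card Dh.ker := Nat.card_pos
  have hcardeq : Nat.card Nh.ker = Nat.card Dh.range := by
    rw [hrange] at hcard1
    have : Nat.card Dh.ker * Nat.card Dh.range = Nat.card Dh.ker * Nat.card Nh.ker := by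
      rw [hcard2, mul_comm, hcard1]
    exact (Nat.eq_of_mul_eq_mul_left hpos this).symm
  have heq : Dh.range = Nh.ker := Subgroup.eq_of_le_of_card_ge hle hcardeq.le
  have hxu : IsUnit x := IsUnit.of_mul_eq_one _ hx
  obtain ⟨xu, rfl⟩ := hxu
  have hmem : xu ∈ Nh.ker := by
    rw [MonoidHom.mem_ker, hNh]
    apply Units.ext
    rw [Units.val_mul, hσu, hx, Units.val_one]
  rw [← heq] at hmem
  obtain ⟨c, hc⟩ := hmem
  refine ⟨(c : L), c.isUnit, ?_⟩
  rw [hDh, div_eq_iff_eq_mul] at hc
  have := congrArg (fun u : Lˣ => (u : L)) hc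
  simp only [Units.val_mul, hσu] at this
  rw [mul_comm]; exact this

end H90

section H90Matrix

open Matrix Polynomial

variable {K : Type*} [Field K] {n : ℕ} (φ : K →+* K)
  (T : Matrix (Fin n) (Fin n) K → Matrix (Fin n) (Fin n) K)

theorem T_zero (hT_add : ∀ a b, T (a + b) = T a + T b) : T 0 = 0 := by
  have := hT_add 0 0
  rw [add_zero] at this
  exact left_eq_add.mp this

theorem T_pow (hT_mul : ∀ a b, T (a * b) = T b * T a) (hT_one : T 1 = 1)
    (y : Matrix (Fin n) (Fin n) K) (j : ℕ) : T (y ^ j) = T y ^ j := by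
  induction j with
  | zero => rw [pow_zero, pow_zero, hT_one]
  | succ j ih => rw [pow_succ, hT_mul, ih, pow_succ']

theorem aeval_T (hT_add : ∀ a b, T (a + b) = T a + T b)
    (hT_mul : ∀ a b, T (a * b) = T b * T a) (hT_one : T 1 = 1)
    (hT_smul : ∀ (a : K) r, T (a • r) = φ a • T r)
    (y : Matrix (Fin n) (Fin n) K) (P : K[X]) :
    aeval (T y) (P.map φ) = T (aeval y P) := by
  induction P using Polynomial.induction_on' with
  | add p q hp hq => rw [Polynomial.map_add, map_add, map_add, hp, hq, hT_add]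
  | monomial j a =>
    rw [Polynomial.map_monomial, aeval_monomial, aeval_monomial, ← Algebra.smul_def,
      ← Algebra.smul_def, hT_smul, T_pow T hT_mul hT_one]

/-- Hilbert 90 inside `K[x]` for a `φ`-semilinear anti-automorphism `T` of the matrix ring
with `T x = x ^ k` and `T (T x) = x`. -/
theorem exists_h90_matrix [Finite K] (hφ : ∀ x, φ (φ x) = x) (θ₀ : K) (hθ₀ : φ θ₀ ≠ θ₀)
    (hT_add : ∀ a b, T (a + b) = T a + T b)
    (hT_mul : ∀ a b, T (a * b) = T b * T a) (hT_one : T 1 = 1)
    (hT_smul : ∀ (a : K) r, T (a • r) = φ a • T r)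
    (x : Matrix (Fin n) (Fin n) K) (k : ℕ) (hTx : T x = x ^ k) (hTTx : T (T x) = x)
    (hx : x * T x = 1) :
    ∃ c : Matrix (Fin n) (Fin n) K, IsUnit c ∧ c = T c * x ∧
      ∀ A : Matrix (Fin n) (Fin n) K, Commute A x → Commute A c := by
  classical
  set f : K[X] →+* Matrix (Fin n) (Fin n) K := (aeval x : K[X] →ₐ[K] _).toRingHom with hf
  have hfP : ∀ P, f P = aeval x P := fun P => rfl
  set I : Ideal K[X] := RingHom.ker f with hI
  set ev : K[X] ⧸ I →+* Matrix (Fin n) (Fin n) K := RingHom.kerLift f with hev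
  have hevinj : Function.Injective ev := RingHom.kerLift_injective f
  have hevmk : ∀ P, ev (Ideal.Quotient.mk I P) = aeval x P := fun P => RingHom.kerLift_mk f P
  have hfin : Finite (K[X] ⧸ I) := Finite.of_injective ev hevinj
  set σ₀ : K[X] →+* K[X] :=
    (Polynomial.compRingHom (X ^ k)).comp (Polynomial.mapRingHom φ) with hσ₀
  have hσ₀P : ∀ P : K[X], σ₀ P = (P.map φ).comp (X ^ k) := fun P => rfl
  have hkey : ∀ P : K[X], aeval x (σ₀ P) = T (aeval x P) := by
    intro P
    rw [hσ₀P, aeval_comp, map_pow, aeval_X, ← hTx, aeval_T φ T hT_add hT_mul hT_one hT_smul]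
  have hle : I ≤ I.comap σ₀ := by
    intro P hP
    rw [Ideal.mem_comap, hI, RingHom.mem_ker, hfP, hkey]
    rw [hI, RingHom.mem_ker, hfP] at hP
    rw [hP, T_zero T hT_add]
  set σ : K[X] ⧸ I →+* K[X] ⧸ I := Ideal.quotientMap I σ₀ hle with hσdef
  have hσmk : ∀ P, σ (Ideal.Quotient.mk I P) = Ideal.Quotient.mk I (σ₀ P) := fun P => by
    rw [hσdef, Ideal.quotientMap_mk]
  have hevσ : ∀ y, ev (σ y) = T (ev y) := by
    intro y
    obtain ⟨P, rfl⟩ := Ideal.Quotient.mk_surjective y
    rw [hσmk, hevmk, hevmk, hkey]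
  have hTT : ∀ P : K[X], T (T (aeval x P)) = aeval x P := by
    intro P
    rw [← aeval_T φ T hT_add hT_mul hT_one hT_smul, ← aeval_T φ T hT_add hT_mul hT_one hT_smul,
      hTTx, Polynomial.map_map]
    have : φ.comp φ = RingHom.id K := RingHom.ext hφ
    rw [this, Polynomial.map_id]
  have hσσ : ∀ y, σ (σ y) = y := by
    intro y
    apply hevinj
    rw [hevσ, hevσ]
    obtain ⟨P, rfl⟩ := Ideal.Quotient.mk_surjective y
    rw [hevmk, hTT]
  set θ : K[X] ⧸ I := Ideal.Quotient.mk I (C θ₀) with hθ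
  have hθu : IsUnit (θ - σ θ) := by
    have h1 : σ₀ (C θ₀) = C (φ θ₀) := by
      rw [hσ₀P, Polynomial.map_C, Polynomial.C_comp]
    rw [hθ, hσmk, h1, ← map_sub, ← C_sub]
    apply IsUnit.map
    apply IsUnit.map
    exact isUnit_iff_ne_zero.mpr (fun h0 => hθ₀ (sub_eq_zero.mp h0).symm)
  set xL : K[X] ⧸ I := Ideal.Quotient.mk I X with hxL
  have hevxL : ev xL = x := by rw [hxL, hevmk, aeval_X]
  have hxLσ : xL * σ xL = 1 := by
    apply hevinj
    rw [map_mul, hevσ, hevxL, hx, map_one]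
  obtain ⟨c, hcu, hc⟩ := hilbert90 σ hσσ θ hθu xL hxLσ
  refine ⟨ev c, hcu.map ev, ?_, ?_⟩
  · rw [← hevσ, ← hevxL, ← map_mul, ← hc]
  · intro A hA
    obtain ⟨P, rfl⟩ := Ideal.Quotient.mk_surjective c
    rw [hevmk]
    exact commute_aeval x A hA P

end H90Matrix

section Sim

open Matrix

variable {K : Type*} [Field K] [Fintype K] {q n : ℕ}

/-- If `g` is invertible with `A* g A = g` then `A` is `GL`-conjugate to a unitary matrix. -/
theorem exists_unitary_of_sim (hK : Fintype.card K = q ^ 2) (φ : K →+* K)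
    (hφ : ∀ x, φ x = x ^ q) (hφφ : ∀ x, φ (φ x) = x) (θ₀ : K) (hθ₀ : φ θ₀ ≠ θ₀)
    (A : GL (Fin n) K) (gu : (Matrix (Fin n) (Fin n) K)ˣ)
    (hS : adj φ (A : Matrix (Fin n) (Fin n) K) * (gu : Matrix (Fin n) (Fin n) K) *
      (A : Matrix (Fin n) (Fin n) K) = (gu : Matrix (Fin n) (Fin n) K)) :
    ∃ B : GL (Fin n) K, B ∈ Cfsg.GU n K q ∧ IsConj A B := by
  classical
  set Am : Matrix (Fin n) (Fin n) K := (A : Matrix (Fin n) (Fin n) K) with hAm
  set g : Matrix (Fin n) (Fin n) K := (gu : Matrix (Fin n) (Fin n) K) with hg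
  set gi : Matrix (Fin n) (Fin n) K := ((gu⁻¹ : (Matrix (Fin n) (Fin n) K)ˣ) :
    Matrix (Fin n) (Fin n) K) with hgi
  have hggi : g * gi = 1 := gu.mul_inv
  have hgig : gi * g = 1 := gu.inv_mul
  have hagi : adj φ g * adj φ gi = 1 := by rw [← adj_mul, hgig, adj_one]
  have hagi' : adj φ gi * adj φ g = 1 := by rw [← adj_mul, hggi, adj_one]
  -- the twisted anti-involution
  set T : Matrix (Fin n) (Fin n) K → Matrix (Fin n) (Fin n) K := fun y => gi * adj φ y * g
    with hT
  have hT_add : ∀ a b, T (a + b) = T a + T b := by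
    intro a b; simp only [hT, adj_add, mul_add, add_mul]
  have hT_mul : ∀ a b, T (a * b) = T b * T a := by
    intro a b
    simp only [hT, adj_mul]
    calc gi * (adj φ b * adj φ a) * g = gi * adj φ b * 1 * adj φ a * g := by
          simp only [mul_one, mul_assoc]
      _ = gi * adj φ b * g * (gi * adj φ a * g) := by rw [← hggi]; simp only [mul_assoc]
  have hT_one : T 1 = 1 := by simp only [hT, adj_one, mul_one, hgig]
  have hT_smul : ∀ (a : K) r, T (a • r) = φ a • T r := by
    intro a r; simp only [hT, adj_smul, Matrix.mul_smul, Matrix.smul_mul]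
  set x : Matrix (Fin n) (Fin n) K := gi * adj φ g with hx
  have hTx : T x = adj φ gi * g := by
    simp only [hT, hx, adj_mul, adj_adj φ hφφ]
    calc gi * (g * adj φ gi) * g = (gi * g) * adj φ gi * g := by simp only [mul_assoc]
      _ = adj φ gi * g := by rw [hgig, one_mul]
  have hxT : x * T x = 1 := by
    rw [hTx, hx]
    calc gi * adj φ g * (adj φ gi * g) = gi * (adj φ g * adj φ gi) * g := by
          simp only [mul_assoc]
      _ = 1 := by rw [hagi, mul_one, hgig]
  have hTTx : T (T x) = x := by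
    rw [hTx]
    simp only [hT, adj_mul, adj_adj φ hφφ]
    calc gi * (adj φ g * gi) * g = gi * adj φ g * (gi * g) := by simp only [mul_assoc]
      _ = x := by rw [hgig, mul_one]
  -- `T x` is a power of `x`
  have hxu : IsUnit x := IsUnit.of_mul_eq_one _ hxT
  obtain ⟨xu, hxu'⟩ := hxu
  have hfo : IsOfFinOrder xu := isOfFinOrder_of_finite xu
  have hm : 0 < orderOf xu := hfo.orderOf_pos
  have hxm : x ^ orderOf xu = 1 := by
    rw [← hxu', ← Units.val_pow_eq_pow_val, pow_orderOf_eq_one, Units.val_one]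
  have hTxk : T x = x ^ (orderOf xu - 1) := by
    have key : ∀ y : Matrix (Fin n) (Fin n) K, x * y = 1 → y = x ^ (orderOf xu - 1) := by
      intro y hy
      calc y = x ^ orderOf xu * y := by rw [hxm, one_mul]
        _ = x ^ (orderOf xu - 1 + 1) * y := by rw [Nat.sub_add_cancel hm]
        _ = x ^ (orderOf xu - 1) * (x * y) := by rw [pow_succ, mul_assoc]
        _ = x ^ (orderOf xu - 1) := by rw [hy, mul_one]
    exact key _ hxT
  -- `x` commutes with `A`
  have hS' : adj φ Am * adj φ g * Am = adj φ g := by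
    have := congrArg (adj φ) hS
    rw [adj_mul, adj_mul, adj_adj φ hφφ, ← mul_assoc] at this
    exact this
  have hAx : Commute Am x := by
    have hunit : IsUnit (adj φ Am * g) := by
      rw [Matrix.isUnit_iff_isUnit_det, Matrix.det_mul, det_adj]
      have hA1 : IsUnit Am := ⟨A, rfl⟩
      have hg1 : IsUnit g := ⟨gu, rfl⟩
      rw [Matrix.isUnit_iff_isUnit_det] at hA1 hg1
      exact (hA1.map φ).mul hg1
    have h1 : adj φ Am * g * (Am * x) = adj φ g := by
      rw [← mul_assoc, hS, hx, ← mul_assoc, hggi, one_mul]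
    have h2 : adj φ Am * g * (x * Am) = adj φ g := by
      rw [hx]
      calc adj φ Am * g * (gi * adj φ g * Am) = adj φ Am * (g * gi) * adj φ g * Am := by
            simp only [mul_assoc]
        _ = adj φ g := by rw [hggi, mul_one, hS']
    exact hunit.mul_left_cancel (h1.trans h2.symm)
  obtain ⟨c, hcu, hc, hccomm⟩ := exists_h90_matrix φ T hφφ θ₀ hθ₀ hT_add hT_mul hT_one hT_smul x
    (orderOf xu - 1) hTxk hTTx hxT
  have hAc : Commute Am c := hccomm Am hAx
  -- the invariant Hermitian form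
  set h : Matrix (Fin n) (Fin n) K := g * c with hh
  have hadj : adj φ h = h := by
    rw [hh, adj_mul]
    have h1 : g * T c = adj φ c * g := by
      simp only [hT]
      calc g * (gi * adj φ c * g) = (g * gi) * adj φ c * g := by simp only [mul_assoc]
        _ = adj φ c * g := by rw [hggi, one_mul]
    calc adj φ c * adj φ g = adj φ c * (g * gi) * adj φ g := by rw [hggi, mul_one]
      _ = (adj φ c * g) * x := by rw [hx]; simp only [mul_assoc]
      _ = g * (T c * x) := by rw [← h1]; simp only [mul_assoc]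
      _ = g * c := by rw [← hc]
  have hdet : h.det ≠ 0 := by
    have hg1 : IsUnit g := ⟨gu, rfl⟩
    have : IsUnit h := hg1.mul hcu
    rw [Matrix.isUnit_iff_isUnit_det] at this
    exact this.ne_zero
  have hinv : adj φ Am * h * Am = h := by
    rw [hh]
    calc adj φ Am * (g * c) * Am = adj φ Am * g * (c * Am) := by simp only [mul_assoc]
      _ = (adj φ Am * g * Am) * c := by rw [← hAc.eq]; simp only [mul_assoc]
      _ = g * c := by rw [hS]
  obtain ⟨C, hC, -⟩ := exists_sqrt φ hφφ θ₀ hθ₀ h hadj hdet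
  have hCdet : C.det ≠ 0 := by
    intro h0
    apply hdet
    rw [← hC, Matrix.det_mul, h0, mul_zero]
  have hCu : IsUnit C := by
    rw [Matrix.isUnit_iff_isUnit_det]; exact isUnit_iff_ne_zero.mpr hCdet
  obtain ⟨Cu, hCu'⟩ := hCu
  set Ci : Matrix (Fin n) (Fin n) K := ((Cu⁻¹ : (Matrix (Fin n) (Fin n) K)ˣ) :
    Matrix (Fin n) (Fin n) K) with hCidef
  have hCi : C * Ci = 1 := by rw [← hCu', hCidef]; exact Cu.mul_inv
  refine ⟨Cu * A * Cu⁻¹, ?_, ?_⟩
  · rw [mem_GU_iff_adj φ hφ]
    have hval : ((Cu * A * Cu⁻¹ : GL (Fin n) K) : Matrix (Fin n) (Fin n) K) = C * Am * Ci := by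
      rw [← hCu']; rfl
    rw [hval, adj_mul, adj_mul]
    calc adj φ Ci * (adj φ Am * adj φ C) * (C * Am * Ci)
        = adj φ Ci * (adj φ Am * (adj φ C * C) * Am) * Ci := by simp only [mul_assoc]
      _ = adj φ Ci * (adj φ C * C) * Ci := by rw [hC, hinv]
      _ = (adj φ Ci * adj φ C) * (C * Ci) := by simp only [mul_assoc]
      _ = 1 := by rw [← adj_mul, hCi, adj_one, one_mul]
  · rw [isConj_iff]
    exact ⟨Cu, rfl⟩

end Sim

end Cfsg.Agent.Lib.Helper40.GUSim
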