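import Mathlib
import Cfsg.Prelude.Def_Blocks
import Cfsg.Agent.Lib.Helper70.IPDefs
import Cfsg.Agent.Lib.Helper83.Quotient

set_option autoImplicit false

/-!
# K-IP LEAF QUOT (keystone 446302, S4463): `DegLE` passes to quotients (inflation)
-/

namespace Cfsg.Agent.Lib.Helper40.IP

open Cfsg Cfsg.Agent.Lib.Helper70.IP

universe u

/-- 446302 IP-QUOT (EASY): degrees of a quotient. -/
theorem degLE_quotient {G : Type u} [Group G] [Finite G] (b : ℕ) (hb : DegLE G b)
    (K : Subgroup G) [K.Normal] : DegLE (G ⧸ K) b := by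
  intro ψ
  have hirr : IsIrrCharacter G (fun g : G => (ψ : G ⧸ K → ℂ) (QuotientGroup.mk g)) :=
    Cfsg.Agent.Lib.Helper83.isIrrCharacter_inflate K ψ.2
  have h1 := hb ⟨_, hirr⟩
  have hdeg : charDegree (fun g : G => (ψ : G ⧸ K → ℂ) (QuotientGroup.mk g)) =
      charDegree (ψ : G ⧸ K → ℂ) := rfl
  rw [hdeg] at h1
  exact h1

end Cfsg.Agent.Lib.Helper40.IP
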