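import Mathlib

set_option autoImplicit false

namespace Cfsg.Agent.Lib.Helper40

section basic
variable {S : Type*} [Group S]

theorem inv_sq_one {x : S} (hx : orderOf x = 2) : x * x = 1 := by
  have := pow_orderOf_eq_one x
  rwa [hx, pow_two] at this

theorem inv_inv_self {x : S} (hx : orderOf x = 2) : x⁻¹ = x :=
  inv_eq_of_mul_eq_one_left (inv_sq_one hx)

theorem inv_ne_one {x : S} (hx : orderOf x = 2) : x ≠ 1 := by
  intro h
  rw [h, orderOf_one] at hx
  norm_num at hx

theorem orderOf_conj_eq (g x : S) : orderOf (g * x * g⁻¹) = orderOf x := by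
  have : g * x * g⁻¹ = (MulAut.conj g) x := by simp [MulAut.conj_apply]
  rw [this, MulEquiv.orderOf_eq]

theorem inverts_pow {x w : S} (hx1 : x * x = 1) (h2 : x * w * x = w⁻¹) (k : ℕ) :
    x * w ^ k * x = (w ^ k)⁻¹ := by
  induction k with
  | zero => simp [hx1]
  | succ k ih =>
    have h1 : x * w ^ (k + 1) * x = (x * w ^ k * x) * (x * w * x) := by
      rw [pow_succ]
      calc x * (w ^ k * w) * x = x * w ^ k * (1) * w * x := by group
        _ = x * w ^ k * (x * x) * w * x := by rw [hx1]
        _ = (x * w ^ k * x) * (x * w * x) := by group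
    rw [h1, ih, h2, pow_succ', mul_inv_rev]

theorem commute_of_inverts_of_inv_self {x z : S} (hx1 : x * x = 1) (h : x * z * x = z⁻¹)
    (hz : z⁻¹ = z) : z * x = x * z := by
  rw [hz] at h
  calc z * x = (x * x) * z * x := by rw [hx1, one_mul]
    _ = x * (x * z * x) := by group
    _ = x * z := by rw [h]

/-- Two involutions are conjugate or commute with a common involution. -/
theorem involution_dichotomy [Finite S] {x y : S} (hx : orderOf x = 2) (hy : orderOf y = 2) :
    (∃ d : S, d * x * d⁻¹ = y) ∨ (∃ z : S, orderOf z = 2 ∧ z * x = x * z ∧ z * y = y * z) := by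
  have hx1 := inv_sq_one hx
  have hy1 := inv_sq_one hy
  have hwinv : (x * y)⁻¹ = y * x := by rw [mul_inv_rev, inv_inv_self hx, inv_inv_self hy]
  have hxw1 : x * (x * y) * x = (x * y)⁻¹ := by
    rw [hwinv]
    calc x * (x * y) * x = (x * x) * y * x := by group
      _ = y * x := by rw [hx1, one_mul]
  have hyw1 : y * (x * y) * y = (x * y)⁻¹ := by
    rw [hwinv]
    calc y * (x * y) * y = y * x * (y * y) := by group
      _ = y * x := by rw [hy1, mul_one]
  have hxw := fun k => inverts_pow hx1 hxw1 k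
  have hyw := fun k => inverts_pow hy1 hyw1 k
  rcases Nat.even_or_odd (orderOf (x * y)) with heven | hodd
  · right
    obtain ⟨m, hm⟩ := heven
    have hpos : 0 < orderOf (x * y) := orderOf_pos (x * y)
    have hm0 : 0 < m := by omega
    have hord : orderOf ((x * y) ^ m) = 2 := by
      rw [orderOf_pow_of_dvd hm0.ne' ⟨2, by omega⟩, hm]
      have : (m + m) / m = 2 := by rw [← two_mul, Nat.mul_div_cancel _ hm0]
      exact this
    have hzi : ((x * y) ^ m)⁻¹ = (x * y) ^ m := inv_inv_self hord
    exact ⟨(x * y) ^ m, hord, commute_of_inverts_of_inv_self hx1 (hxw m) hzi,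
      commute_of_inverts_of_inv_self hy1 (hyw m) hzi⟩
  · left
    obtain ⟨k, hk⟩ := hodd
    refine ⟨(x * y) ^ k, ?_⟩
    have h1 : (x * y) ^ (2 * k + 1) = 1 := by rw [← hk]; exact pow_orderOf_eq_one (x * y)
    have h2 : (x * y) ^ k * (x * y) ^ k = (x * y)⁻¹ := by
      rw [← pow_add, ← two_mul]
      have : (x * y) ^ (2 * k) * (x * y) = 1 := by rw [← pow_succ]; exact h1
      exact eq_inv_of_mul_eq_one_left this
    have h3 : x * ((x * y) ^ k)⁻¹ * x = (x * y) ^ k := by
      have := hxw k
      have h4 : x * ((x * y) ^ k)⁻¹ * x = (x * (x * y) ^ k * x)⁻¹ := by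
        rw [mul_inv_rev, mul_inv_rev, inv_inv_self hx, mul_assoc]
      rw [h4, this, inv_inv]
    calc (x * y) ^ k * x * ((x * y) ^ k)⁻¹
        = (x * y) ^ k * (x * ((x * y) ^ k)⁻¹ * x) * x := by
          rw [mul_assoc ((x * y) ^ k) _ x, mul_assoc _ x x, hx1, mul_one, mul_assoc]
      _ = (x * y) ^ k * (x * y) ^ k * x := by rw [h3]
      _ = y := by rw [h2, hwinv, mul_assoc, hx1, mul_one]

end basic

end Cfsg.Agent.Lib.Helper40
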