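import Mathlib
import Cfsg.Agent.Lib.Helper40.Cores
import Cfsg.Agent.Lib.Helper40.Involutions
import Cfsg.Agent.Lib.Helper40.Sylow

set_option autoImplicit false

namespace Cfsg.Agent.Lib.Helper40
namespace IsoPt

/-- Parity lemma: an involution on a finset moves an even number of points. -/
theorem even_card_filter_ne_of_involution {α : Type*} [DecidableEq α] (X : Finset α) (f : α → α)
    (hf : ∀ x ∈ X, f x ∈ X) (hff : ∀ x ∈ X, f (f x) = x) :
    Even (X.filter (fun x => f x ≠ x)).card := by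
  have h := Finset.sum_involution (s := X.filter (fun x => f x ≠ x)) (f := fun _ => (1 : ZMod 2))
    (fun a _ => f a) (by intro a ha; decide)
    (by intro a ha _; exact (Finset.mem_filter.mp ha).2)
    (by
      intro a ha
      have ha' := Finset.mem_filter.mp ha
      refine Finset.mem_filter.mpr ⟨hf a ha'.1, ?_⟩
      rw [hff a ha'.1]
      exact fun h => ha'.2 h.symm)
    (by intro a ha; exact hff a (Finset.mem_filter.mp ha).1)
  rw [Finset.sum_const, nsmul_eq_mul, mul_one] at h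
  exact ZMod.natCast_eq_zero_iff_even.mp h

theorem odd_card_iff_of_involution {α : Type*} [DecidableEq α] (X : Finset α) (f : α → α)
    (hf : ∀ x ∈ X, f x ∈ X) (hff : ∀ x ∈ X, f (f x) = x) :
    Odd X.card ↔ Odd (X.filter (fun x => f x = x)).card := by
  have h1 := even_card_filter_ne_of_involution X f hf hff
  have h2 := Finset.card_filter_add_card_filter_not (s := X) (fun x => f x = x)
  rw [← h2]
  constructor
  · intro h
    by_contra hne
    rw [Nat.not_odd_iff_even] at hne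
    exact (Nat.not_odd_iff_even.mpr (hne.add h1)) h
  · intro h
    exact h.add_even h1

section dihedral
variable {G : Type*} [Group G]

/-- In the group generated by two involutions every reflection is a conjugate of one of them. -/
theorem refl_conj {s t : G} (hs : s * s = 1) (ht : t * t = 1) (P : G → Prop)
    (hP : ∀ c x, P x → P (c * x * c⁻¹)) (hPs : P s) (hPt : P t) (a : ℕ) :
    P (s * (s * t) ^ a) := by
  suffices h : P (s * (s * t) ^ a) ∧ P (s * (s * t) ^ (a + 1)) from h.1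
  induction a with
  | zero =>
    refine ⟨by simpa using hPs, ?_⟩
    have : s * (s * t) ^ (0 + 1) = t := by
      rw [zero_add, pow_one, ← mul_assoc, hs, one_mul]
    rw [this]; exact hPt
  | succ a ih =>
    refine ⟨ih.2, ?_⟩
    have hsinv : s⁻¹ = s := inv_eq_of_mul_eq_one_left hs
    have htinv : t⁻¹ = t := inv_eq_of_mul_eq_one_left ht
    have h1 : (s * t)⁻¹ * s = s * (s * t) := by
      rw [mul_inv_rev, hsinv, htinv, mul_assoc, hs, mul_one, ← mul_assoc, hs, one_mul]
    have : s * (s * t) ^ (a + 1 + 1) = (s * t)⁻¹ * (s * (s * t) ^ a) * ((s * t)⁻¹)⁻¹ := by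
      rw [inv_inv]
      calc s * (s * t) ^ (a + 1 + 1) = (s * (s * t)) * (s * t) ^ a * (s * t) := by
            rw [pow_succ, pow_succ']; simp only [mul_assoc]
        _ = ((s * t)⁻¹ * s) * (s * t) ^ a * (s * t) := by rw [h1]
        _ = (s * t)⁻¹ * (s * (s * t) ^ a) * (s * t) := by simp only [mul_assoc]
    rw [this]
    exact hP _ _ ih.1

theorem inverts_mul {s t : G} (hs : s * s = 1) (ht : t * t = 1) : s * (s * t) * s = (s * t)⁻¹ := by
  have hsinv : s⁻¹ = s := inv_eq_of_mul_eq_one_left hs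
  have htinv : t⁻¹ = t := inv_eq_of_mul_eq_one_left ht
  rw [mul_inv_rev, hsinv, htinv, ← mul_assoc, hs, one_mul]

/-- for an odd order product, the reflection swapping the two involutions -/
theorem swap_refl {s t : G} (hs : s * s = 1) (ht : t * t = 1) (j : ℕ)
    (hj : (s * t) ^ (2 * j + 1) = 1) :
    (s * (s * t) ^ (j + 1)) * s * (s * (s * t) ^ (j + 1))⁻¹ = t := by
  have hsinv : s⁻¹ = s := inv_eq_of_mul_eq_one_left hs
  have htinv : t⁻¹ = t := inv_eq_of_mul_eq_one_left ht
  have h1 := inverts_pow hs (inverts_mul hs ht) (j + 1)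
  have h2 : ((s * t) ^ (j + 1))⁻¹ * ((s * t) ^ (j + 1))⁻¹ = (s * t)⁻¹ := by
    rw [← mul_inv_rev, ← pow_add]
    have : j + 1 + (j + 1) = (2 * j + 1) + 1 := by ring
    rw [this, pow_succ, hj, one_mul]
  calc (s * (s * t) ^ (j + 1)) * s * (s * (s * t) ^ (j + 1))⁻¹
      = (s * (s * t) ^ (j + 1) * s) * ((s * t) ^ (j + 1))⁻¹ * s⁻¹ := by
        rw [mul_inv_rev]; simp only [mul_assoc]
    _ = ((s * t) ^ (j + 1))⁻¹ * ((s * t) ^ (j + 1))⁻¹ * s⁻¹ := by rw [h1]
    _ = (s * t)⁻¹ * s⁻¹ := by rw [h2]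
    _ = t := by rw [mul_inv_rev, hsinv, htinv, mul_assoc, hs, mul_one]

end dihedral

section main
variable {G : Type*} [Group G] (z : G) (H : Subgroup G)

/-- `z` fixes a unique point of `G/H`. -/
def Iso0 : Prop := ∀ g : G, g⁻¹ * z * g ∈ H ↔ g ∈ H

/-- products of distinct commuting conjugates fix a unique point of `G/H`. -/
def Iso1 : Prop := ∀ t : G, IsConj z t → t ≠ z → t * z = z * t →
  ∀ g : G, g⁻¹ * (z * t) * g ∈ H ↔ g ∈ H

variable {z H}

theorem Iso0.mem (h0 : Iso0 z H) : z ∈ H := by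
  have := (h0 1).mpr H.one_mem
  simpa using this

theorem Iso0.fix_iff (h0 : Iso0 z H) (x g : G) :
    g⁻¹ * (x * z * x⁻¹) * g ∈ H ↔ x⁻¹ * g ∈ H := by
  rw [← h0 (x⁻¹ * g)]
  have : g⁻¹ * (x * z * x⁻¹) * g = (x⁻¹ * g)⁻¹ * z * (x⁻¹ * g) := by group
  rw [this]

theorem Iso0.centralizer_le (h0 : Iso0 z H) {c : G} (hc : c * z = z * c) : c ∈ H := by
  have h1 : (c⁻¹)⁻¹ * z * c⁻¹ ∈ H := by
    have : (c⁻¹)⁻¹ * z * c⁻¹ = z := by rw [inv_inv, hc, mul_assoc, mul_inv_cancel, mul_one]
    rw [this]; exact h0.mem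
  have := (h0 c⁻¹).mp h1
  simpa using this

theorem Iso1.prod_fix_iff (h0 : Iso0 z H) (h1 : Iso1 z H) {s s' : G} (hs : IsConj z s)
    (hs' : IsConj z s') (hne : s ≠ s') (hcomm : s * s' = s' * s) (g : G) :
    g⁻¹ * (s * s') * g ∈ H ↔ g⁻¹ * s * g ∈ H := by
  obtain ⟨x, rfl⟩ := isConj_iff.mp hs
  have ht0 : IsConj z (x⁻¹ * s' * x) := by
    refine hs'.trans ?_
    rw [isConj_iff]
    exact ⟨x⁻¹, by rw [inv_inv]⟩
  have hne0 : x⁻¹ * s' * x ≠ z := by
    intro h
    apply hne
    rw [← h]; group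
  have hc0 : x⁻¹ * s' * x * z = z * (x⁻¹ * s' * x) := by
    have e1 : x⁻¹ * s' * x * z = x⁻¹ * (s' * (x * z * x⁻¹)) * x := by group
    have e2 : z * (x⁻¹ * s' * x) = x⁻¹ * ((x * z * x⁻¹) * s') * x := by group
    rw [e1, e2, hcomm]
  have := h1 _ ht0 hne0 hc0 (x⁻¹ * g)
  rw [h0.fix_iff, ← this]
  have : g⁻¹ * (x * z * x⁻¹ * s') * g = (x⁻¹ * g)⁻¹ * (z * (x⁻¹ * s' * x)) * (x⁻¹ * g) := by group
  rw [this]

theorem isConj_sq_one (hz : orderOf z = 2) {s : G} (hs : IsConj z s) : s * s = 1 := by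
  obtain ⟨x, rfl⟩ := isConj_iff.mp hs
  have := inv_sq_one hz
  calc x * z * x⁻¹ * (x * z * x⁻¹) = x * (z * z) * x⁻¹ := by group
    _ = 1 := by rw [this]; group

theorem isConj_conj {s : G} (hs : IsConj z s) (c : G) : IsConj z (c * s * c⁻¹) :=
  hs.trans (isConj_iff.mpr ⟨c, rfl⟩)

theorem key_aux (hz : orderOf z = 2) (h0 : Iso0 z H) (h1 : Iso1 z H) {s t : G} (hs : IsConj z s)
    (ht : IsConj z t) (m : ℕ) (hm : 0 < m) (hord : orderOf (s * t) = 2 * m) (g : G) :
    g⁻¹ * (s * t) ^ m * g ∈ H ↔ g⁻¹ * s * g ∈ H := by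
  have hs1 := isConj_sq_one hz hs
  have ht1 := isConj_sq_one hz ht
  set y := (s * t) ^ m with hy
  have hyne : y ≠ 1 := pow_ne_one_of_lt_orderOf hm.ne' (by omega)
  have hyy : y * y = 1 := by
    rw [hy, ← pow_add, ← two_mul, ← hord]; exact pow_orderOf_eq_one _
  have hyinv : y⁻¹ = y := inv_eq_of_mul_eq_one_left hyy
  have hinv : s * y * s = y := by
    have := inverts_pow hs1 (inverts_mul hs1 ht1) m
    rw [← hy, hyinv] at this; exact this
  have hsy : s * y = y * s := by
    calc s * y = s * y * (s * s) := by rw [hs1, mul_one]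
      _ = (s * y * s) * s := by simp only [mul_assoc]
      _ = y * s := by rw [hinv]
  have hs' : IsConj z (s * y) := refl_conj hs1 ht1 (IsConj z) (fun c x hx => isConj_conj hx c) hs ht m
  have hne : s ≠ s * y := by
    intro h
    apply hyne
    have : s * 1 = s * y := by rw [mul_one]; exact h
    exact (mul_left_cancel this).symm
  have hcomm : s * (s * y) = (s * y) * s := by
    rw [← mul_assoc, hs1, one_mul, hinv]
  have := Iso1.prod_fix_iff h0 h1 hs hs' hne hcomm g
  have e : s * (s * y) = y := by rw [← mul_assoc, hs1, one_mul]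
  rw [e] at this
  exact this

/-- Key lemma: if the product of two conjugates of `z` has even order then they have the same fixed
point. -/
theorem key (hz : orderOf z = 2) (h0 : Iso0 z H) (h1 : Iso1 z H) {s t : G} (hs : IsConj z s)
    (ht : IsConj z t) (hev : Even (orderOf (s * t))) (hpos : 0 < orderOf (s * t)) (g : G) :
    g⁻¹ * s * g ∈ H ↔ g⁻¹ * t * g ∈ H := by
  obtain ⟨m, hm⟩ := hev
  have hm' : orderOf (s * t) = 2 * m := by omega
  have hmpos : 0 < m := by omega
  have hs1 := isConj_sq_one hz hs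
  have ht1 := isConj_sq_one hz ht
  have hsinv : s⁻¹ = s := inv_eq_of_mul_eq_one_left hs1
  have htinv : t⁻¹ = t := inv_eq_of_mul_eq_one_left ht1
  have hts : t * s = (s * t)⁻¹ := by rw [mul_inv_rev, hsinv, htinv]
  have hord' : orderOf (t * s) = 2 * m := by rw [hts, orderOf_inv, hm']
  have e1 := key_aux hz h0 h1 hs ht m hmpos hm' g
  have e2 := key_aux hz h0 h1 ht hs m hmpos hord' g
  have hyy : (s * t) ^ m * (s * t) ^ m = 1 := by
    rw [← pow_add, ← two_mul, ← hm']; exact pow_orderOf_eq_one _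
  have : (t * s) ^ m = (s * t) ^ m := by
    rw [hts, inv_pow]; exact inv_eq_of_mul_eq_one_left hyy
  rw [this] at e2
  rw [← e1, e2]

/-- the reflection of `⟨z, t⟩` swapping `z` and `t` (when `z * t` has odd order). -/
noncomputable def swapper (z t : G) : G := z * (z * t) ^ (orderOf (z * t) / 2 + 1)

variable [Finite G]

theorem odd_order_of_not_mem (hz : orderOf z = 2) (h0 : Iso0 z H) (h1 : Iso1 z H) {t : G}
    (ht : IsConj z t) (htH : t ∉ H) : Odd (orderOf (z * t)) := by
  by_contra hodd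
  rw [Nat.not_odd_iff_even] at hodd
  have := key hz h0 h1 (IsConj.refl z) ht hodd (orderOf_pos _) 1
  simp only [inv_one, one_mul, mul_one] at this
  exact htH (this.mp h0.mem)

theorem swapper_isConj (hz : orderOf z = 2) {t : G} (ht : IsConj z t) : IsConj z (swapper z t) :=
  refl_conj (inv_sq_one hz) (isConj_sq_one hz ht) (IsConj z) (fun c x hx => isConj_conj hx c)
    (IsConj.refl z) ht _

theorem swapper_conj (hz : orderOf z = 2) (h0 : Iso0 z H) (h1 : Iso1 z H) {t : G}
    (ht : IsConj z t) (htH : t ∉ H) : swapper z t * z * (swapper z t)⁻¹ = t := by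
  obtain ⟨j, hj⟩ := odd_order_of_not_mem hz h0 h1 ht htH
  have hj2 : orderOf (z * t) / 2 = j := by omega
  unfold swapper
  rw [hj2]
  apply swap_refl (inv_sq_one hz) (isConj_sq_one hz ht) j
  rw [← hj]; exact pow_orderOf_eq_one _

theorem swapper_not_mem (hz : orderOf z = 2) (h0 : Iso0 z H) (h1 : Iso1 z H) {t : G}
    (ht : IsConj z t) (htH : t ∉ H) : swapper z t ∉ H := by
  intro h
  apply htH
  rw [← swapper_conj hz h0 h1 ht htH]
  exact H.mul_mem (H.mul_mem h h0.mem) (H.inv_mem h)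

theorem conj_not_mem (h0 : Iso0 z H) {w : G} (hwH : w ∉ H) : w * z * w⁻¹ ∉ H := by
  intro h
  have := (h0.fix_iff w 1).mp (by simpa using h)
  rw [mul_one] at this
  exact hwH (by simpa using H.inv_mem this)

/-- every conjugate of `z` outside `H` is the swapper of `z` and its conjugate. -/
theorem swapper_surj (hz : orderOf z = 2) (h0 : Iso0 z H) (h1 : Iso1 z H) {w : G}
    (hw : IsConj z w) (hwH : w ∉ H) : swapper z (w * z * w⁻¹) = w := by
  let X := {t : G // IsConj z t ∧ t ∉ H}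
  let Φ : X → X := fun t => ⟨swapper z t.1, swapper_isConj hz t.2.1,
    swapper_not_mem hz h0 h1 t.2.1 t.2.2⟩
  have hinj : Function.Injective Φ := by
    intro t₁ t₂ h
    have h' : swapper z t₁.1 = swapper z t₂.1 := congrArg Subtype.val h
    apply Subtype.ext
    rw [← swapper_conj hz h0 h1 t₁.2.1 t₁.2.2, ← swapper_conj hz h0 h1 t₂.2.1 t₂.2.2, h']
  have hsurj : Function.Surjective Φ := Finite.injective_iff_surjective.mp hinj
  obtain ⟨t, ht⟩ := hsurj ⟨w, hw, hwH⟩
  have h' : swapper z t.1 = w := congrArg Subtype.val ht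
  have := swapper_conj hz h0 h1 t.2.1 t.2.2
  rw [h'] at this
  rw [this, h']

theorem inv_mul_swapper_mem (hz : orderOf z = 2) (h0 : Iso0 z H) (h1 : Iso1 z H) {g s : G}
    (hg : g ∉ H) (hs : IsConj z s) (hsH : s ∈ H) :
    IsConj z (g * s * g⁻¹) ∧ g * s * g⁻¹ ∉ H ∧ g⁻¹ * swapper z (g * s * g⁻¹) ∈ H := by
  have hc : IsConj z (g * s * g⁻¹) := isConj_conj hs g
  obtain ⟨x, hx⟩ := isConj_iff.mp hs
  have hxH : x ∈ H := by
    have := (h0.fix_iff x 1).mp (by rw [hx]; simpa using hsH)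
    rw [mul_one] at this
    simpa using H.inv_mem this
  have hgx : g * x ∉ H := by
    intro h
    apply hg
    have := H.mul_mem h (H.inv_mem hxH)
    simpa using this
  have hnot : g * s * g⁻¹ ∉ H := by
    have := conj_not_mem h0 hgx
    have e : g * x * z * (g * x)⁻¹ = g * s * g⁻¹ := by rw [← hx]; group
    rwa [e] at this
  refine ⟨hc, hnot, ?_⟩
  have hsw := swapper_conj hz h0 h1 hc hnot
  have h2 := (h0.fix_iff (swapper z (g * s * g⁻¹)) g).mp (by
    rw [hsw]
    have : g⁻¹ * (g * s * g⁻¹) * g = s := by group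
    rw [this]; exact hsH)
  have := H.inv_mem h2
  simpa using this

open Classical in
theorem card_B_eq [Fintype G] (hz : orderOf z = 2) (h0 : Iso0 z H) (h1 : Iso1 z H) {g : G}
    (hg : g ∉ H) :
    (Finset.univ.filter (fun w : G => IsConj z w ∧ g⁻¹ * w ∈ H)).card =
      (Finset.univ.filter (fun t : G => IsConj z t ∧ t ∈ H)).card := by
  have hnot : ∀ w : G, g⁻¹ * w ∈ H → w ∉ H := by
    intro w hw hwH
    apply hg
    have := H.mul_mem hw (H.inv_mem hwH)
    have h2 : g⁻¹ ∈ H := by simpa using this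
    simpa using H.inv_mem h2
  apply Finset.card_bij (fun w _ => g⁻¹ * (w * z * w⁻¹) * g)
  · intro w hw
    simp only [Finset.mem_filter, Finset.mem_univ, true_and] at hw ⊢
    refine ⟨?_, ?_⟩
    · have := isConj_conj (isConj_conj (IsConj.refl z) w) g⁻¹
      simpa using this
    · rw [h0.fix_iff]
      have := H.inv_mem hw.2
      simpa using this
  · intro w₁ hw₁ w₂ hw₂ h
    simp only [Finset.mem_filter, Finset.mem_univ, true_and] at hw₁ hw₂
    have h' : w₁ * z * w₁⁻¹ = w₂ * z * w₂⁻¹ := by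
      have := mul_left_cancel (mul_right_cancel h)
      exact this
    rw [← swapper_surj hz h0 h1 hw₁.1 (hnot _ hw₁.2), ← swapper_surj hz h0 h1 hw₂.1 (hnot _ hw₂.2),
      h']
  · intro s hs
    simp only [Finset.mem_filter, Finset.mem_univ, true_and] at hs
    obtain ⟨hc, hnotH, hmem⟩ := inv_mul_swapper_mem hz h0 h1 hg hs.1 hs.2
    refine ⟨swapper z (g * s * g⁻¹), ?_, ?_⟩
    · simp only [Finset.mem_filter, Finset.mem_univ, true_and]
      exact ⟨swapper_isConj hz hc, hmem⟩
    · rw [swapper_conj hz h0 h1 hc hnotH]; group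

open Classical in
theorem odd_card_B [Fintype G] (hz : orderOf z = 2) (h0 : Iso0 z H) (h1 : Iso1 z H) {g : G}
    (hg : g ∉ H) :
    Odd (Finset.univ.filter (fun w : G => IsConj z w ∧ g⁻¹ * w ∈ H)).card := by
  obtain ⟨hc, hnotH, hmem⟩ := inv_mul_swapper_mem hz h0 h1 hg (IsConj.refl z) h0.mem
  set w₀ := swapper z (g * z * g⁻¹) with hw₀
  have hw₀c : IsConj z w₀ := swapper_isConj hz hc
  have hw₀1 : w₀ * w₀ = 1 := isConj_sq_one hz hw₀c
  have hw₀inv : w₀⁻¹ = w₀ := inv_eq_of_mul_eq_one_left hw₀1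
  set B := Finset.univ.filter (fun w : G => IsConj z w ∧ g⁻¹ * w ∈ H) with hB
  have hf : ∀ w ∈ B, w₀ * w * w₀⁻¹ ∈ B := by
    intro w hw
    simp only [hB, Finset.mem_filter, Finset.mem_univ, true_and] at hw ⊢
    refine ⟨isConj_conj hw.1 w₀, ?_⟩
    have hw1 : w * w = 1 := isConj_sq_one hz hw.1
    have hwinv : w⁻¹ = w := inv_eq_of_mul_eq_one_left hw1
    have e : g⁻¹ * (w₀ * w * w₀⁻¹) = (g⁻¹ * w₀) * (g⁻¹ * w)⁻¹ * (g⁻¹ * w₀) := by
      rw [hw₀inv]
      calc g⁻¹ * (w₀ * w * w₀) = g⁻¹ * (w₀ * w⁻¹ * w₀) := by rw [hwinv]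
        _ = (g⁻¹ * w₀) * (g⁻¹ * w)⁻¹ * (g⁻¹ * w₀) := by group
    rw [e]
    exact H.mul_mem (H.mul_mem hmem (H.inv_mem hw.2)) hmem
  have hff : ∀ w ∈ B, w₀ * (w₀ * w * w₀⁻¹) * w₀⁻¹ = w := by
    intro w _
    rw [hw₀inv]
    calc w₀ * (w₀ * w * w₀) * w₀ = (w₀ * w₀) * w * (w₀ * w₀) := by group
      _ = w := by rw [hw₀1, one_mul, mul_one]
  rw [odd_card_iff_of_involution B (fun w => w₀ * w * w₀⁻¹) hf hff]
  have hfix : B.filter (fun w => w₀ * w * w₀⁻¹ = w) = {w₀} := by
    ext w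
    simp only [Finset.mem_filter, Finset.mem_singleton]
    constructor
    · rintro ⟨hw, hfx⟩
      by_contra hne
      simp only [hB, Finset.mem_filter, Finset.mem_univ, true_and] at hw
      have hcomm : w₀ * w = w * w₀ := by
        have := congrArg (fun u => u * w₀) hfx
        simpa [mul_assoc] using this
      have h3 := Iso1.prod_fix_iff h0 h1 hw₀c hw.1 (fun h => hne h.symm) hcomm 1
      simp only [inv_one, one_mul, mul_one] at h3
      have h4 : w₀ * w ∈ H := by
        have e : w₀ * w = (g⁻¹ * w₀)⁻¹ * (g⁻¹ * w) := by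
          rw [mul_inv_rev, inv_inv, hw₀inv]; group
        rw [e]
        exact H.mul_mem (H.inv_mem hmem) hw.2
      have h5 : w₀ ∈ H := h3.mp h4
      apply hg
      have h6 : g⁻¹ ∈ H := by
        have := H.mul_mem hmem (H.inv_mem h5)
        simpa using this
      simpa using H.inv_mem h6
    · rintro rfl
      refine ⟨?_, by rw [mul_assoc, mul_inv_cancel, mul_one]⟩
      simp only [hB, Finset.mem_filter, Finset.mem_univ, true_and]
      exact ⟨hw₀c, hmem⟩
  rw [hfix]
  simp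

open Classical in
theorem odd_card_conj [Fintype G] (hz : orderOf z = 2) (h0 : Iso0 z H) (h1 : Iso1 z H)
    (hH : H ≠ ⊤) : Odd (Finset.univ.filter (fun t : G => IsConj z t)).card := by
  obtain ⟨g, hg⟩ : ∃ g : G, g ∉ H := by
    by_contra h
    exact hH (eq_top_iff.mpr (fun x _ => by_contra (fun hx => h ⟨x, hx⟩)))
  have hk : Odd (Finset.univ.filter (fun t : G => IsConj z t ∧ t ∈ H)).card := by
    rw [← card_B_eq hz h0 h1 hg]; exact odd_card_B hz h0 h1 hg
  have hz1 : z * z = 1 := inv_sq_one hz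
  have hzinv : z⁻¹ = z := inv_eq_of_mul_eq_one_left hz1
  have hff : ∀ w : G, z * (z * w * z⁻¹) * z⁻¹ = w := by
    intro w
    rw [hzinv]
    calc z * (z * w * z) * z = (z * z) * w * (z * z) := by group
      _ = w := by rw [hz1, one_mul, mul_one]
  rw [odd_card_iff_of_involution _ (fun w => z * w * z⁻¹)
    (by
      intro w hw
      simp only [Finset.mem_filter, Finset.mem_univ, true_and] at hw ⊢
      exact isConj_conj hw z)
    (fun w _ => hff w)]
  rw [odd_card_iff_of_involution _ (fun w => z * w * z⁻¹)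
    (by
      intro w hw
      simp only [Finset.mem_filter, Finset.mem_univ, true_and] at hw ⊢
      exact ⟨isConj_conj hw.1 z, H.mul_mem (H.mul_mem h0.mem hw.2) (H.inv_mem h0.mem)⟩)
    (fun w _ => hff w)] at hk
  have : (Finset.univ.filter (fun t : G => IsConj z t)).filter (fun w => z * w * z⁻¹ = w) =
      (Finset.univ.filter (fun t : G => IsConj z t ∧ t ∈ H)).filter (fun w => z * w * z⁻¹ = w) := by
    ext w
    simp only [Finset.mem_filter, Finset.mem_univ, true_and]
    constructor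
    · rintro ⟨hw, hfx⟩
      refine ⟨⟨hw, ?_⟩, hfx⟩
      apply h0.centralizer_le
      have := congrArg (fun u => u * z) hfx
      simp only [mul_assoc, inv_mul_cancel, mul_one] at this
      exact this.symm
    · rintro ⟨⟨hw, _⟩, hfx⟩
      exact ⟨hw, hfx⟩
  rw [this]
  exact hk

/-- a `p`-element centralized by a Sylow `p`-subgroup lies in it. -/
theorem mem_sylow_of_centralized {p : ℕ} [Fact p.Prime] (P : Sylow p G) {t : G}
    (ht : IsPGroup p (Subgroup.zpowers t)) (hc : ∀ q ∈ (P : Subgroup G), q * t * q⁻¹ = t) :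
    t ∈ (P : Subgroup G) := by
  have hle : (P : Subgroup G) ≤ Subgroup.normalizer (Subgroup.zpowers t) := by
    intro q hq
    rw [Subgroup.mem_normalizer_iff]
    intro h
    constructor
    · rintro ⟨k, rfl⟩
      refine ⟨k, ?_⟩
      simp only
      rw [← conj_zpow, hc q hq]
    · rintro ⟨k, hk⟩
      refine ⟨k, ?_⟩
      simp only at hk ⊢
      have h2 : q * t ^ k * q⁻¹ = t ^ k := by rw [← conj_zpow, hc q hq]
      rw [← h2] at hk
      have := mul_left_cancel (mul_right_cancel hk)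
      exact this
  have h1 := P.2.to_sup_of_normal_right' ht hle
  have h2 := P.is_maximal' h1 le_sup_left
  rw [← h2]
  exact Subgroup.mem_sup_right (Subgroup.mem_zpowers t)

open Classical in
theorem exists_sylow_center (hz : orderOf z = 2) (h0 : Iso0 z H) (h1 : Iso1 z H) (hH : H ≠ ⊤) :
    ∃ P : Sylow 2 G, z ∈ (P : Subgroup G) ∧ ∀ y ∈ (P : Subgroup G), y * z = z * y := by
  have := Fintype.ofFinite G
  have : Fact (Nat.Prime 2) := ⟨Nat.prime_two⟩
  have hodd := odd_card_conj hz h0 h1 hH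
  obtain ⟨P₀⟩ : Nonempty (Sylow 2 G) := inferInstance
  let α := {t : G // IsConj z t}
  letI : MulAction ↥(P₀ : Subgroup G) α :=
    { smul := fun q t => ⟨(q : G) * t.1 * (q : G)⁻¹, isConj_conj t.2 q⟩
      one_smul := fun t => Subtype.ext (by
        show ((1 : ↥(P₀ : Subgroup G)) : G) * t.1 * ((1 : ↥(P₀ : Subgroup G)) : G)⁻¹ = t.1
        simp)
      mul_smul := fun q r t => Subtype.ext (by
        show ((q * r : ↥(P₀ : Subgroup G)) : G) * t.1 * ((q * r : ↥(P₀ : Subgroup G)) : G)⁻¹ =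
          (q : G) * ((r : G) * t.1 * (r : G)⁻¹) * (q : G)⁻¹
        simp [mul_assoc]) }
  have hcard : ¬ 2 ∣ Nat.card α := by
    rw [Nat.card_eq_fintype_card, Fintype.card_subtype]
    exact hodd.not_two_dvd_nat
  obtain ⟨t, ht⟩ := P₀.2.nonempty_fixed_point_of_prime_not_dvd_card α hcard
  have hfix : ∀ q ∈ (P₀ : Subgroup G), q * t.1 * q⁻¹ = t.1 := by
    intro q hq
    have := ht ⟨q, hq⟩
    exact congrArg Subtype.val this
  obtain ⟨x, hx⟩ := isConj_iff.mp t.2
  have ht2 : IsPGroup 2 (Subgroup.zpowers t.1) := by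
    apply IsPGroup.of_card (n := 1)
    rw [Nat.card_zpowers, ← hx, orderOf_conj_eq, hz, pow_one]
  have htP : t.1 ∈ (P₀ : Subgroup G) := mem_sylow_of_centralized P₀ ht2 hfix
  refine ⟨x⁻¹ • P₀, ?_, ?_⟩
  · rw [Sylow.coe_subgroup_smul, Subgroup.mem_pointwise_smul_iff_inv_smul_mem]
    simp only [inv_inv, MulAut.smul_def, MulAut.conj_inv_apply]
    rw [hx]; exact htP
  · intro y hy
    rw [Sylow.coe_subgroup_smul, Subgroup.mem_pointwise_smul_iff_inv_smul_mem] at hy
    simp only [inv_inv, MulAut.smul_def, MulAut.conj_inv_apply] at hy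
    have := hfix _ hy
    rw [← hx] at this
    have e : y * z * y⁻¹ = z := by
      have h3 : x⁻¹ * (x * y * x⁻¹ * (x * z * x⁻¹) * (x * y * x⁻¹)⁻¹) * x = x⁻¹ * (x * z * x⁻¹) * x := by
        rw [this]
      have h4 : x⁻¹ * (x * y * x⁻¹ * (x * z * x⁻¹) * (x * y * x⁻¹)⁻¹) * x = y * z * y⁻¹ := by group
      have h5 : x⁻¹ * (x * z * x⁻¹) * x = z := by group
      rw [h4, h5] at h3
      exact h3
    have := congrArg (fun u => u * y) e
    simpa [mul_assoc] using this

end main

end IsoPt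
end Cfsg.Agent.Lib.Helper40
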