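import Cfsg.Agent.Lib.Helper94.LCDefs
import Cfsg.Agent.S1587
import Cfsg.Agent.S1588

/-!
# K-LC pack (S0406, architect helper94), leaf 640601 K-LC-B1 (helper40): `exists_frame`
A coordinate frame: 24 pairwise orthogonal norm-8 vectors, pairwise congruent modulo 2.
-/

set_option autoImplicit false
open Matrix

namespace Cfsg.Agent.Lib.Helper40.LC

open Cfsg.Agent.Lib.Helper94.LC

theorem exists_frame (B : Matrix (Fin 24) (Fin 24) ℤ) (h : Hyp B) :
    ∃ e : Fin 24 → (Fin 24 → ℤ), IsFrame B e := by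
  classical
  -- a vector of norm 8
  have hne : {x : Fin 24 → ℤ | x ⬝ᵥ (B *ᵥ x) = 8}.Nonempty := by
    apply Set.nonempty_of_ncard_ne_zero
    rw [h.h8]
    norm_num
  obtain ⟨x₀, hx₀⟩ := hne
  have hx₀' : x₀ ⬝ᵥ (B *ᵥ x₀) = 8 := hx₀
  -- its class modulo 2
  obtain ⟨FS, hFS⟩ : ∃ FS : Set (Fin 24 → ℤ),
      FS = {y : Fin 24 → ℤ | y ⬝ᵥ (B *ᵥ y) = 8 ∧ ∀ i, (2 : ℤ) ∣ (x₀ - y) i} := ⟨_, rfl⟩
  have hcard : FS.ncard = 48 := by
    rw [hFS]
    exact Cfsg.Agent.S1588.result B h.hsymm h.hpos h.heven h.h2 h.h4 h.h6 h.h8 x₀ hx₀'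
  have hfin : FS.Finite := Set.finite_of_ncard_ne_zero (by rw [hcard]; norm_num)
  obtain ⟨F, hF⟩ : ∃ F : Finset (Fin 24 → ℤ), F = hfin.toFinset := ⟨_, rfl⟩
  have hFcard : F.card = 48 := by
    rw [hF, ← Set.ncard_eq_toFinset_card FS hfin, hcard]
  have hmemF : ∀ y, y ∈ F ↔ (y ⬝ᵥ (B *ᵥ y) = 8 ∧ ∀ i, (2 : ℤ) ∣ (x₀ - y) i) := by
    intro y
    rw [hF, Set.Finite.mem_toFinset, hFS]
    rfl
  -- closure under negation
  have hnegN : ∀ y : Fin 24 → ℤ, (-y) ⬝ᵥ (B *ᵥ (-y)) = y ⬝ᵥ (B *ᵥ y) := by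
    intro y
    rw [Matrix.mulVec_neg, neg_dotProduct, dotProduct_neg, neg_neg]
  have hnegF : ∀ y ∈ F, -y ∈ F := by
    intro y hy
    rw [hmemF] at hy ⊢
    refine ⟨by rw [hnegN]; exact hy.1, ?_⟩
    intro i
    have h1 := hy.2 i
    have h2 : (x₀ - -y) i = (x₀ - y) i + 2 * y i := by
      simp only [Pi.sub_apply, Pi.neg_apply]
      ring
    rw [h2]
    exact dvd_add h1 (dvd_mul_right 2 _)
  have hne0 : ∀ y ∈ F, -y ≠ y := by
    intro y hy hneg
    have hy0 : y = 0 := by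
      funext i
      have := congrFun hneg i
      simp only [Pi.neg_apply, Pi.zero_apply] at this ⊢
      omega
    rw [hmemF] at hy
    have h8 := hy.1
    rw [hy0] at h8
    simp at h8
  -- two members are equal, opposite or orthogonal
  have hS : ∀ y ∈ F, ∀ y' ∈ F, y' = y ∨ y' = -y ∨ y ⬝ᵥ (B *ᵥ y') = 0 := by
    intro y hy y' hy'
    rw [hmemF] at hy hy'
    apply Cfsg.Agent.S1587.result B h.hsymm h.hpos h.heven h.h2 y y' hy.1 hy'.1
    intro i
    have h1 := hy.2 i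
    have h2 := hy'.2 i
    have h3 : (y - y') i = (x₀ - y') i - (x₀ - y) i := by
      simp only [Pi.sub_apply]
      ring
    rw [h3]
    exact dvd_sub h2 h1
  -- a maximal subfamily without opposite pairs
  obtain ⟨P, hPdef⟩ : ∃ P : Finset (Finset (Fin 24 → ℤ)),
      P = F.powerset.filter (fun R => ∀ y ∈ R, -y ∉ R) := ⟨_, rfl⟩
  have hP0 : (∅ : Finset (Fin 24 → ℤ)) ∈ P := by
    rw [hPdef, Finset.mem_filter]
    exact ⟨Finset.empty_mem_powerset F, fun y hy => absurd hy (Finset.notMem_empty y)⟩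
  obtain ⟨R, hRP, hRmax⟩ := Finset.exists_max_image P Finset.card ⟨∅, hP0⟩
  rw [hPdef, Finset.mem_filter, Finset.mem_powerset] at hRP
  obtain ⟨hRF, hRneg⟩ := hRP
  have hcover : ∀ y ∈ F, y ∈ R ∨ -y ∈ R := by
    intro y hy
    by_contra hcon
    rw [not_or] at hcon
    have hins : insert y R ∈ P := by
      rw [hPdef, Finset.mem_filter, Finset.mem_powerset]
      refine ⟨Finset.insert_subset hy hRF, ?_⟩
      intro z hz hnz
      rw [Finset.mem_insert] at hz hnz
      rcases hz with hz | hz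
      · rcases hnz with h1 | h1
        · rw [hz] at h1
          exact hne0 y hy h1
        · rw [hz] at h1
          exact hcon.2 h1
      · rcases hnz with h1 | h1
        · apply hcon.2
          rw [← h1, neg_neg]
          exact hz
        · exact hRneg z hz h1
    have hle := hRmax _ hins
    rw [Finset.card_insert_of_notMem hcon.1] at hle
    omega
  have hR24 : 24 ≤ R.card := by
    have hsub : F ⊆ R ∪ R.image (fun y => -y) := by
      intro y hy
      rcases hcover y hy with h1 | h1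
      · exact Finset.mem_union_left _ h1
      · apply Finset.mem_union_right
        rw [Finset.mem_image]
        exact ⟨-y, h1, neg_neg y⟩
    have h1 := Finset.card_le_card hsub
    have h2 := Finset.card_union_le R (R.image (fun y => -y))
    have h3 := Finset.card_image_le (s := R) (f := fun y : Fin 24 → ℤ => -y)
    omega
  obtain ⟨T, hTR, hT24⟩ := Finset.exists_subset_card_eq hR24
  obtain ⟨eq⟩ : Nonempty (T ≃ Fin 24) := ⟨T.equivFinOfCardEq hT24⟩
  have hmemT : ∀ i, ((eq.symm i : T) : Fin 24 → ℤ) ∈ T := fun i => (eq.symm i).2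
  have hmemR : ∀ i, ((eq.symm i : T) : Fin 24 → ℤ) ∈ R := fun i => hTR (hmemT i)
  have hmemF' : ∀ i, ((eq.symm i : T) : Fin 24 → ℤ) ∈ F := fun i => hRF (hmemR i)
  refine ⟨fun i => ((eq.symm i : T) : Fin 24 → ℤ), ?_, ?_, ?_⟩
  · intro i
    exact ((hmemF _).mp (hmemF' i)).1
  · intro i j hij
    show ((eq.symm i : T) : Fin 24 → ℤ) ⬝ᵥ (B *ᵥ ((eq.symm j : T) : Fin 24 → ℤ)) = 0
    rcases hS _ (hmemF' i) _ (hmemF' j) with h1 | h1 | h1
    · exfalso
      apply hij
      have := eq.symm.injective (Subtype.ext h1)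
      exact this.symm
    · exfalso
      apply hRneg _ (hmemR i)
      rw [← h1]
      exact hmemR j
    · exact h1
  · intro i j k
    have h1 := ((hmemF _).mp (hmemF' i)).2 k
    have h2 := ((hmemF _).mp (hmemF' j)).2 k
    have h3 : (((eq.symm i : T) : Fin 24 → ℤ) - ((eq.symm j : T) : Fin 24 → ℤ)) k =
        (x₀ - ((eq.symm j : T) : Fin 24 → ℤ)) k - (x₀ - ((eq.symm i : T) : Fin 24 → ℤ)) k := by
      simp only [Pi.sub_apply]
      ring
    rw [h3]
    exact dvd_sub h2 h1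

end Cfsg.Agent.Lib.Helper40.LC
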