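import Mathlib
import Cfsg.Agent.Lib.Helper48.PSL2Basic

set_option autoImplicit false

/-!
# K-NQ leaf P2 (S2787): `O_p(PSL₂(F)) = 1` for `|F| = p^n` odd
-/

namespace Cfsg.Agent.Lib.Helper40.NQ

open Matrix

theorem nq_charP {F : Type*} [Field F] [Fintype F] {p : ℕ} [hp : Fact p.Prime] (n : ℕ)
    (hF : Fintype.card F = p ^ n) : CharP F p := by
  have h0 : ((p : ℕ) : F) = 0 := by
    have h1 : ((Fintype.card F : ℕ) : F) = 0 := Nat.cast_card_eq_zero F
    rw [hF, Nat.cast_pow] at h1
    have hn : n ≠ 0 := by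
      intro h
      rw [h, pow_zero] at hF
      have : 1 < Fintype.card F := Fintype.one_lt_card
      omega
    exact (pow_eq_zero_iff hn).1 h1
  have hdvd : ringChar F ∣ p := ringChar.dvd h0
  have hne1 : ringChar F ≠ 1 := by
    intro h
    have := CharP.ringChar_ne_one (R := F)
    exact this h
  have : ringChar F = p := (Nat.dvd_prime hp.out).1 hdvd |>.resolve_left hne1
  exact ringChar.of_eq this

/-- a determinant-one `2 × 2` matrix with a scalar `p^j`-th power has trace `± 2` (odd characteristic `p`) -/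
theorem nq_trace_of_pow {F : Type*} [Field F] {p : ℕ} [hp : Fact p.Prime] [CharP F p] (hp2 : p ≠ 2)
    (A : Matrix (Fin 2) (Fin 2) F) (hdet : A.det = 1) (j : ℕ) (r : F)
    (hA : A ^ p ^ j = r • (1 : Matrix (Fin 2) (Fin 2) F)) : A.trace = 2 ∨ A.trace = -2 := by
  -- r ^ 2 = 1
  have hr : r * r = 1 := by
    have h1 : (A ^ p ^ j).det = 1 := by rw [Matrix.det_pow, hdet, one_pow]
    rw [hA, Matrix.det_smul, Matrix.det_one, Fintype.card_fin] at h1
    simpa [sq] using h1
  have hodd : Odd (p ^ j) := by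
    have : Odd p := hp.out.odd_of_ne_two hp2
    exact this.pow
  have hr' : r = 1 ∨ r = -1 := by
    have : (r - 1) * (r + 1) = 0 := by ring_nf; rw [sq]; rw [hr]; ring
    rcases mul_eq_zero.1 this with h | h
    · left; exact sub_eq_zero.1 h
    · right; exact eq_neg_of_add_eq_zero_left h
  have hrp : r ^ p ^ j = r := by
    rcases hr' with h | h
    · rw [h, one_pow]
    · rw [h, hodd.neg_one_pow]
  have hcomm : Commute A (r • (1 : Matrix (Fin 2) (Fin 2) F)) := by
    rw [commute_iff_eq]; simp
  have hnil : (A - r • (1 : Matrix (Fin 2) (Fin 2) F)) ^ p ^ j = 0 := by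
    rw [sub_pow_char_pow_of_commute p j hcomm, hA, smul_pow, one_pow, hrp, sub_self]
  have htr : (A - r • (1 : Matrix (Fin 2) (Fin 2) F)).trace = 0 :=
    (Matrix.isNilpotent_trace_of_isNilpotent ⟨p ^ j, hnil⟩).eq_zero
  rw [Matrix.trace_sub, Matrix.trace_smul, Matrix.trace_one, Fintype.card_fin] at htr
  have h2 : A.trace = 2 * r := by
    have := sub_eq_zero.1 htr
    rw [this]; simp [mul_comm]
  rcases hr' with h | h
  · left; rw [h2, h]; ring
  · right; rw [h2, h]; ring

/-- three explicit elements of `SL₂(F)` -/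
def nqW (F : Type*) [Field F] : Matrix.SpecialLinearGroup (Fin 2) F :=
  ⟨!![0, 1; -1, 0], by simp [Matrix.det_fin_two]⟩

def nqEp (F : Type*) [Field F] : Matrix.SpecialLinearGroup (Fin 2) F :=
  ⟨!![1, 1; 0, 1], by simp [Matrix.det_fin_two]⟩

def nqEm (F : Type*) [Field F] : Matrix.SpecialLinearGroup (Fin 2) F :=
  ⟨!![1, 0; 1, 1], by simp [Matrix.det_fin_two]⟩

theorem nq_coe_conj {F : Type*} [Field F] (h u : Matrix.SpecialLinearGroup (Fin 2) F) :
    ((h * u * h⁻¹ : Matrix.SpecialLinearGroup (Fin 2) F) : Matrix (Fin 2) (Fin 2) F) =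
      (h : Matrix (Fin 2) (Fin 2) F) * (u : Matrix (Fin 2) (Fin 2) F) *
        Matrix.adjugate (h : Matrix (Fin 2) (Fin 2) F) := by
  simp [Matrix.SpecialLinearGroup.coe_mul, Matrix.SpecialLinearGroup.coe_inv]

/-- the matrix core: in odd characteristic a normal subgroup of `SL₂(F)` all of whose elements have
trace `± 2` consists of `± 1` -/
theorem nq_core {F : Type*} [Field F] (h2 : (2 : F) ≠ 0)
    (M : Subgroup (Matrix.SpecialLinearGroup (Fin 2) F)) (hM : M.Normal)
    (htr : ∀ g ∈ M, (g : Matrix (Fin 2) (Fin 2) F).trace = 2 ∨ (g : Matrix (Fin 2) (Fin 2) F).trace = -2)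
    (u : Matrix.SpecialLinearGroup (Fin 2) F) (hu : u ∈ M)
    (hut : (u : Matrix (Fin 2) (Fin 2) F).trace = 2) : u = 1 := by
  -- entries
  obtain ⟨x, y, z, t, hxyzt⟩ : ∃ x y z t : F, (u : Matrix (Fin 2) (Fin 2) F) = !![x, y; z, t] :=
    ⟨_, _, _, _, (Matrix.eta_fin_two _)⟩
  have hdet : x * t - y * z = 1 := by
    have := u.2
    rw [hxyzt, Matrix.det_fin_two_of] at this
    exact this
  have hxt : x + t = 2 := by
    rw [hxyzt, Matrix.trace_fin_two_of] at hut
    exact hut
  have h4 : (4 : F) ≠ 0 := by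
    have : (4 : F) = 2 * 2 := by norm_num
    rw [this]; exact mul_ne_zero h2 h2
  have h8 : (8 : F) ≠ 0 := by
    have : (8 : F) = 2 * 4 := by norm_num
    rw [this]; exact mul_ne_zero h2 h4
  -- the key: for h ∈ SL₂ with tr(u * huh⁻¹) = 2 + τ and tr(u * u * huh⁻¹) = 2 + 2 τ, τ = 0
  have key : ∀ (h : Matrix.SpecialLinearGroup (Fin 2) F) (τ : F),
      ((u * (h * u * h⁻¹) : Matrix.SpecialLinearGroup (Fin 2) F) : Matrix (Fin 2) (Fin 2) F).trace = 2 + τ →
      ((u * u * (h * u * h⁻¹) : Matrix.SpecialLinearGroup (Fin 2) F) : Matrix (Fin 2) (Fin 2) F).trace = 2 + 2 * τ →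
      τ = 0 := by
    intro h τ h1 h2'
    have hc : h * u * h⁻¹ ∈ M := hM.conj_mem u hu h
    have m1 : u * (h * u * h⁻¹) ∈ M := M.mul_mem hu hc
    have m2 : u * u * (h * u * h⁻¹) ∈ M := M.mul_mem (M.mul_mem hu hu) hc
    have t1 := htr _ m1
    have t2 := htr _ m2
    rw [h1] at t1
    rw [h2'] at t2
    rcases t1 with t1 | t1
    · linear_combination t1
    · exfalso
      have hτ : τ = -4 := by linear_combination t1
      rw [hτ] at t2
      rcases t2 with t2 | t2
      · apply h8; linear_combination -t2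
      · apply h4; linear_combination -t2
  -- three conjugations
  have hw := key (nqW F) (-(y - z) ^ 2)
    (by
      rw [Matrix.SpecialLinearGroup.coe_mul, nq_coe_conj, hxyzt]
      simp only [nqW, Matrix.adjugate_fin_two_of, Matrix.mul_apply, Fin.sum_univ_two, Matrix.trace_fin_two,
        Matrix.of_apply, Matrix.cons_val', Matrix.cons_val_zero, Matrix.cons_val_one, Matrix.empty_val',
        Matrix.cons_val_fin_one]
      have ht : t = 2 - x := by linear_combination hxt
      subst ht
      linear_combination (2 : F) * hdet)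
    (by
      rw [Matrix.SpecialLinearGroup.coe_mul, Matrix.SpecialLinearGroup.coe_mul, nq_coe_conj, hxyzt]
      simp only [nqW, Matrix.adjugate_fin_two_of, Matrix.mul_apply, Fin.sum_univ_two, Matrix.trace_fin_two,
        Matrix.of_apply, Matrix.cons_val', Matrix.cons_val_zero, Matrix.cons_val_one, Matrix.empty_val',
        Matrix.cons_val_fin_one]
      have ht : t = 2 - x := by linear_combination hxt
      subst ht
      linear_combination (2 : F) * hdet)
  have hep := key (nqEp F) (-(z ^ 2))
    (by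
      rw [Matrix.SpecialLinearGroup.coe_mul, nq_coe_conj, hxyzt]
      simp only [nqEp, Matrix.adjugate_fin_two_of, Matrix.mul_apply, Fin.sum_univ_two, Matrix.trace_fin_two,
        Matrix.of_apply, Matrix.cons_val', Matrix.cons_val_zero, Matrix.cons_val_one, Matrix.empty_val',
        Matrix.cons_val_fin_one]
      have ht : t = 2 - x := by linear_combination hxt
      subst ht
      linear_combination (-2 : F) * hdet)
    (by
      rw [Matrix.SpecialLinearGroup.coe_mul, Matrix.SpecialLinearGroup.coe_mul, nq_coe_conj, hxyzt]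
      simp only [nqEp, Matrix.adjugate_fin_two_of, Matrix.mul_apply, Fin.sum_univ_two, Matrix.trace_fin_two,
        Matrix.of_apply, Matrix.cons_val', Matrix.cons_val_zero, Matrix.cons_val_one, Matrix.empty_val',
        Matrix.cons_val_fin_one]
      have ht : t = 2 - x := by linear_combination hxt
      subst ht
      linear_combination (-6 : F) * hdet)
  have hem := key (nqEm F) (-(y ^ 2))
    (by
      rw [Matrix.SpecialLinearGroup.coe_mul, nq_coe_conj, hxyzt]
      simp only [nqEm, Matrix.adjugate_fin_two_of, Matrix.mul_apply, Fin.sum_univ_two, Matrix.trace_fin_two,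
        Matrix.of_apply, Matrix.cons_val', Matrix.cons_val_zero, Matrix.cons_val_one, Matrix.empty_val',
        Matrix.cons_val_fin_one]
      have ht : t = 2 - x := by linear_combination hxt
      subst ht
      linear_combination (-2 : F) * hdet)
    (by
      rw [Matrix.SpecialLinearGroup.coe_mul, Matrix.SpecialLinearGroup.coe_mul, nq_coe_conj, hxyzt]
      simp only [nqEm, Matrix.adjugate_fin_two_of, Matrix.mul_apply, Fin.sum_univ_two, Matrix.trace_fin_two,
        Matrix.of_apply, Matrix.cons_val', Matrix.cons_val_zero, Matrix.cons_val_one, Matrix.empty_val',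
        Matrix.cons_val_fin_one]
      have ht : t = 2 - x := by linear_combination hxt
      subst ht
      linear_combination (-6 : F) * hdet)
  have hz : z = 0 := by
    have : z ^ 2 = 0 := by linear_combination -hep
    exact pow_eq_zero_iff (two_ne_zero) |>.1 this
  have hy : y = 0 := by
    have : y ^ 2 = 0 := by linear_combination -hem
    exact pow_eq_zero_iff (two_ne_zero) |>.1 this
  have hx : x = 1 := by
    have ht : t = 2 - x := by linear_combination hxt
    rw [ht, hy, hz] at hdet
    have : (x - 1) ^ 2 = 0 := by linear_combination -hdet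
    have := pow_eq_zero_iff (two_ne_zero) |>.1 this
    exact sub_eq_zero.1 this
  have ht1 : t = 1 := by rw [hx] at hxt; linear_combination hxt
  apply Subtype.ext
  rw [hxyzt, hx, hy, hz, ht1, Matrix.SpecialLinearGroup.coe_one]
  exact Matrix.one_fin_two.symm

theorem psl2_normal_pgroup_eq_bot {F : Type*} [Field F] [Fintype F] {p : ℕ} [Fact p.Prime] (n : ℕ)
    (hF : Fintype.card F = p ^ n) (hodd : Odd (Fintype.card F))
    (N : Subgroup (Matrix.ProjectiveSpecialLinearGroup (Fin 2) F)) (hN : N.Normal) (hNp : IsPGroup p N) :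
    N = ⊥ := by
  classical
  haveI : CharP F p := nq_charP n hF
  have hp2 : p ≠ 2 := by
    intro h
    have hn : n ≠ 0 := by
      intro h0
      rw [h0, pow_zero] at hF
      have : 1 < Fintype.card F := Fintype.one_lt_card
      omega
    have hev : Even (Fintype.card F) := by
      rw [hF, h]
      exact Nat.even_pow.2 ⟨even_two, hn⟩
    exact (Nat.not_odd_iff_even.2 hev) hodd
  have h2 : (2 : F) ≠ 0 := by
    intro h
    have h' : ((2 : ℕ) : F) = 0 := by exact_mod_cast h
    have := (CharP.cast_eq_zero_iff F p 2).1 h'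
    have hp := (Fact.out : p.Prime)
    have := (Nat.prime_dvd_prime_iff_eq hp Nat.prime_two).1 this
    exact hp2 this
  let π : Matrix.SpecialLinearGroup (Fin 2) F →* Matrix.ProjectiveSpecialLinearGroup (Fin 2) F :=
    QuotientGroup.mk' (Subgroup.center (Matrix.SpecialLinearGroup (Fin 2) F))
  let M : Subgroup (Matrix.SpecialLinearGroup (Fin 2) F) := N.comap π
  have hM : M.Normal := hN.comap π
  have hmem : ∀ g, g ∈ M ↔ (QuotientGroup.mk g : Matrix.ProjectiveSpecialLinearGroup (Fin 2) F) ∈ N :=
    fun g => Iff.rfl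
  have htr : ∀ g ∈ M, (g : Matrix (Fin 2) (Fin 2) F).trace = 2 ∨ (g : Matrix (Fin 2) (Fin 2) F).trace = -2 := by
    intro g hg
    obtain ⟨j, hj⟩ := hNp ⟨_, (hmem g).1 hg⟩
    have hj' : (QuotientGroup.mk g : Matrix.ProjectiveSpecialLinearGroup (Fin 2) F) ^ p ^ j = 1 := by
      have := congrArg Subtype.val hj
      simpa using this
    obtain ⟨r, hr⟩ := (Cfsg.Agent.Lib.Helper48.psl2_mk_pow_eq_one_iff g (p ^ j)).1 hj'
    exact nq_trace_of_pow hp2 _ g.2 j r hr
  have hneg : (-1 : Matrix.SpecialLinearGroup (Fin 2) F) ∈ M := by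
    rw [hmem]
    have : (QuotientGroup.mk (-1 : Matrix.SpecialLinearGroup (Fin 2) F) :
        Matrix.ProjectiveSpecialLinearGroup (Fin 2) F) = 1 := by
      rw [Cfsg.Agent.Lib.Helper48.psl2_mk_eq_one_iff]
      exact ⟨-1, by simp⟩
    rw [this]
    exact N.one_mem
  rw [eq_bot_iff]
  intro x hx
  obtain ⟨g, rfl⟩ := QuotientGroup.mk_surjective x
  have hg : g ∈ M := (hmem g).2 hx
  rw [Subgroup.mem_bot, Cfsg.Agent.Lib.Helper48.psl2_mk_eq_one_iff]
  rcases htr g hg with h | h
  · have := nq_core h2 M hM htr g hg h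
    exact ⟨1, by rw [this]; simp⟩
  · have hng : -g ∈ M := by
      have : -g = (-1) * g := by simp
      rw [this]
      exact M.mul_mem hneg hg
    have hnt : ((-g : Matrix.SpecialLinearGroup (Fin 2) F) : Matrix (Fin 2) (Fin 2) F).trace = 2 := by
      rw [Matrix.SpecialLinearGroup.coe_neg, Matrix.trace_neg, h, neg_neg]
    have := nq_core h2 M hM htr (-g) hng hnt
    refine ⟨-1, ?_⟩
    have h' : (g : Matrix (Fin 2) (Fin 2) F) = -((-g : Matrix.SpecialLinearGroup (Fin 2) F) : Matrix (Fin 2) (Fin 2) F) := by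
      rw [Matrix.SpecialLinearGroup.coe_neg, neg_neg]
    rw [h', this]
    simp

end Cfsg.Agent.Lib.Helper40.NQ
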