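import Mathlib
import Cfsg.Prelude.Def_CaseTheorems
import Cfsg.Prelude.Def_OddOrderLocal
import Cfsg.Prelude.Def_Solvable
import Cfsg.Agent.Lib.Helper40.NarrowGlue
import Cfsg.Agent.Lib.Helper40.Cores
import Cfsg.Agent.Lib.Helper26.Rank2Amb
import Cfsg.Agent.S0640

set_option autoImplicit false

/-!
# Odd order solvable groups acting faithfully on a narrow `p`-group (B-G 4.12 type facts)

`R`, `A` are subgroups of a finite group `G`, `R` a narrow `p`-group (`p` odd), `A ≤ N_G(R)` solvable of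
odd order with `A ∩ C_G(R) = 1`.

* `derived_pElement`: the elements of `[A, A]` are `p`-elements.
* `part1`: `A' ≤ O_p(A)` and `|A : O_p(A)|` is prime to `p`.
* `part2`: if `R` has rank at least three the `p'`-elements of `A` have order dividing `p - 1`.
* `part3a`: if `|A|` is a prime not dividing `p (p - 1)` then `R` has rank at most two and
  `2 |A|` divides `p + 1`.
-/

universe u

namespace Cfsg.Agent.Lib.Helper40.NarrowAct

open Cfsg Subgroup
open scoped commutatorElement

variable {G : Type u} [Group G]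

theorem commutator_self_le (A : Subgroup G) : ⁅A, A⁆ ≤ A := by
  rw [Subgroup.commutator_le]
  intro a ha b hb
  exact A.mul_mem (A.mul_mem (A.mul_mem ha hb) (A.inv_mem ha)) (A.inv_mem hb)

/-- the elements of `[A, A]` are `p`-elements. -/
theorem derived_pElement [Finite G] {p : ℕ} [Fact p.Prime] (hp : p ≠ 2) (R A : Subgroup G)
    (hR : IsPGroup p R) (hRn : IsNarrow p R) (hA : A ≤ Subgroup.normalizer (R : Set G))
    (hAs : Group.IsSolvable A) (hAodd : Odd (Nat.card A))
    (hfaith : A ⊓ Subgroup.centralizer (R : Set G) = ⊥) :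
    ∀ c ∈ ⁅A, A⁆, ∃ k : ℕ, c ^ (p ^ k) = 1 := by
  intro c hc
  have hcA : c ∈ A := commutator_self_le A hc
  have key : ∃ k : ℕ, c ^ (p ^ k) ∈ Subgroup.centralizer (R : Set G) := by
    by_cases hrk : PRankLE p 2 R
    · exact (Cfsg.Agent.Lib.Helper26.Rank2Amb.ambient hp R A hR hrk hA hAs hAodd).1 c hc
    · obtain ⟨x, E, w⟩ := NarrowGlue.exists_wit_of_isNarrow hR hRn hrk
      exact (NarrowGlue.ambient hp R A hR hrk w hA).1 c hc
  obtain ⟨k, hk⟩ := key
  refine ⟨k, ?_⟩
  have : c ^ (p ^ k) ∈ A ⊓ Subgroup.centralizer (R : Set G) := ⟨A.pow_mem hcA _, hk⟩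
  rw [hfaith] at this
  exact (Subgroup.mem_bot).1 this

/-- `A' ≤ O_p(A)` and `|A : O_p(A)|` is prime to `p`. -/
theorem part1 [Finite G] {p : ℕ} [hpf : Fact p.Prime] (hp : p ≠ 2) (R A : Subgroup G)
    (hR : IsPGroup p R) (hRn : IsNarrow p R) (hA : A ≤ Subgroup.normalizer (R : Set G))
    (hAs : Group.IsSolvable A) (hAodd : Odd (Nat.card A))
    (hfaith : A ⊓ Subgroup.centralizer (R : Set G) = ⊥) :
    commutator ↥A ≤ pCore p ↥A ∧ ((pCore p ↥A).index).Coprime p := by
  have hD := derived_pElement hp R A hR hRn hA hAs hAodd hfaith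
  have hDp : IsPGroup p ↥(commutator ↥A) := by
    intro c
    have hc : ((c : ↥A) : G) ∈ ⁅A, A⁆ := by
      rw [← Subgroup.map_subtype_commutator A]
      exact ⟨c, c.2, rfl⟩
    obtain ⟨k, hk⟩ := hD _ hc
    refine ⟨k, ?_⟩
    apply Subtype.ext
    apply Subtype.ext
    simpa using hk
  have h1 : commutator ↥A ≤ pCore p ↥A := Cfsg.Agent.Lib.Helper40.le_pCore' inferInstance hDp
  refine ⟨h1, ?_⟩
  obtain ⟨P⟩ : Nonempty (Sylow p ↥A) := inferInstance
  have hPle : pCore p ↥A ≤ (P : Subgroup ↥A) := Cfsg.Agent.Lib.Helper40.pCore_le_sylow' P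
  have hPn : (P : Subgroup ↥A).Normal := by
    constructor
    intro n hn g
    have h2 : g * n * g⁻¹ * n⁻¹ ∈ commutator ↥A := by
      rw [_root_.commutator_def]
      exact Subgroup.commutator_mem_commutator (Subgroup.mem_top g) (Subgroup.mem_top n)
    have h3 : g * n * g⁻¹ * n⁻¹ ∈ (P : Subgroup ↥A) := hPle (h1 h2)
    have := (P : Subgroup ↥A).mul_mem h3 hn
    simpa using this
  have hPeq : pCore p ↥A = (P : Subgroup ↥A) :=
    le_antisymm hPle (Cfsg.Agent.Lib.Helper40.le_pCore' hPn P.isPGroup')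
  rw [hPeq]
  have := P.not_dvd_index
  exact (Nat.Coprime.symm ((Nat.Prime.coprime_iff_not_dvd hpf.out).2 this))

/-- if `R` has rank at least three the `p'`-elements of `A` have order dividing `p - 1`. -/
theorem part2 [Finite G] {p : ℕ} [hpf : Fact p.Prime] (hp : p ≠ 2) (R A : Subgroup G)
    (hR : IsPGroup p R) (hRn : IsNarrow p R) (hA : A ≤ Subgroup.normalizer (R : Set G))
    (hfaith : A ⊓ Subgroup.centralizer (R : Set G) = ⊥) (hrk : ¬ PRankLE p 2 R) :
    ∀ a ∈ A, (orderOf a).Coprime p → orderOf a ∣ p - 1 := by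
  intro a ha hcop
  obtain ⟨x, E, w⟩ := NarrowGlue.exists_wit_of_isNarrow hR hRn hrk
  obtain ⟨k, hk⟩ := (NarrowGlue.ambient hp R A hR hrk w hA).2 a ha
  have h1 : (a ^ (p - 1)) ^ (p ^ k) ∈ A ⊓ Subgroup.centralizer (R : Set G) :=
    ⟨A.pow_mem (A.pow_mem ha _) _, hk⟩
  rw [hfaith, Subgroup.mem_bot, ← pow_mul] at h1
  have h2 : orderOf a ∣ (p - 1) * p ^ k := orderOf_dvd_of_pow_eq_one h1
  exact (Nat.Coprime.dvd_of_dvd_mul_right (Nat.Coprime.pow_right k hcop) h2)

/-- if `|A|` is a prime not dividing `p (p - 1)` then `R` has rank at most two and `2 |A|` divides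
`p + 1`. -/
theorem part3a [Finite G] {p : ℕ} [hpf : Fact p.Prime] (hp : p ≠ 2) (R A : Subgroup G)
    (hR : IsPGroup p R) (hRn : IsNarrow p R) (hA : A ≤ Subgroup.normalizer (R : Set G))
    (hAodd : Odd (Nat.card A)) (hfaith : A ⊓ Subgroup.centralizer (R : Set G) = ⊥)
    (hq : (Nat.card A).Prime) (hnd : ¬ Nat.card A ∣ p * (p - 1)) :
    PRankLE p 2 R ∧ 2 * Nat.card A ∣ p + 1 := by
  have hpp : p.Prime := hpf.out
  set q := Nat.card A with hqdef
  have hqp : q ≠ p := by
    intro h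
    exact hnd (h ▸ Dvd.intro _ rfl)
  have hrk : PRankLE p 2 R := by
    by_contra hrk
    -- an element of order `q`
    have hne : ∃ a ∈ A, a ≠ 1 := by
      by_contra hcon
      have hcon' : ∀ x ∈ A, x = 1 := by
        intro x hx
        by_contra hx1
        exact hcon ⟨x, hx, hx1⟩
      have : A = ⊥ := (Subgroup.eq_bot_iff_forall A).2 hcon'
      rw [hqdef, this, Subgroup.card_bot] at hq
      exact Nat.not_prime_one hq
    obtain ⟨a, ha, ha1⟩ := hne
    have hoa : orderOf a = q := by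
      have h1 : orderOf a ∣ q := by
        have := Subgroup.orderOf_dvd_natCard A ha
        exact this
      rcases (Nat.dvd_prime hq).1 h1 with h | h
      · exact absurd (orderOf_eq_one_iff.1 h) ha1
      · exact h
    have hcop : (orderOf a).Coprime p := by
      rw [hoa]
      exact (Nat.coprime_primes hq hpp).2 hqp
    have := part2 hp R A hR hRn hA hfaith hrk a ha hcop
    rw [hoa] at this
    exact hnd (Dvd.dvd.mul_left this p)
  refine ⟨hrk, ?_⟩
  -- `q` divides the order of `Aut R`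
  have hinj : Function.Injective (Cfsg.Agent.Lib.Helper26.Rank2Amb.conjHom R A hA) := by
    rw [← MonoidHom.ker_eq_bot_iff, Subgroup.eq_bot_iff_forall]
    intro a ha
    rw [Cfsg.Agent.Lib.Helper26.Rank2Amb.mem_ker_conjHom] at ha
    have : (a : G) ∈ A ⊓ Subgroup.centralizer (R : Set G) := ⟨a.2, ha⟩
    rw [hfaith, Subgroup.mem_bot] at this
    exact Subtype.ext this
  have hdvd : q ∣ Nat.card (MulAut ↥R) :=
    Subgroup.card_dvd_of_injective _ hinj
  obtain ⟨h1, -⟩ := Cfsg.Agent.S0640.result hp hR hrk q hq hqp hdvd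
  have h2 : p ^ 2 - 1 = (p + 1) * (p - 1) := by
    have := Nat.sq_sub_sq p 1
    simpa using this
  rw [h2] at h1
  have h3 : ¬ q ∣ p - 1 := fun h => hnd (Dvd.dvd.mul_left h p)
  have h4 : q ∣ p + 1 := by
    rcases (Nat.Prime.dvd_mul hq).1 h1 with h | h
    · exact h
    · exact absurd h h3
  have hqodd : Odd q := hAodd
  have h5 : 2 ∣ p + 1 := by
    have := hpp.odd_of_ne_two hp
    obtain ⟨m, hm⟩ := this
    exact ⟨m + 1, by omega⟩
  have h6 : Nat.Coprime 2 q := by
    rw [Nat.coprime_two_left]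
    exact hqodd
  exact Nat.Coprime.mul_dvd_of_dvd_of_dvd h6 h5 h4

end Cfsg.Agent.Lib.Helper40.NarrowAct
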