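import Mathlib
import Cfsg.Agent.Lib.Helper66.AbelAct

set_option autoImplicit false

/-!
# A group of prime order `q ∤ p (p - 1)` acting on a central product `R₁ ∘ R₂`

`R = R₁ R₂` with `R₁` nonabelian of order `p ^ 3`, `R₂` cyclic, `[R₁, R₂] = 1` and
`Ω₁(R₂) = R₁'`. If `A ≤ N_G(R)` has prime order `q ∤ p (p - 1)` and `[R, A] = R`, then `R = R₁`.
-/

universe u

namespace Cfsg.Agent.Lib.Helper40.NarrowAct2

open Subgroup
open scoped commutatorElement

/-- in a nonabelian group of order `p ^ 3` the centre lies in the derived subgroup. -/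
theorem center_le_commutator_of_card_cube {H : Type*} [Group H] [Finite H] {p : ℕ}
    [hp : Fact p.Prime] (hH : Nat.card H = p ^ 3) (hnc : ∃ a b : H, a * b ≠ b * a) :
    Subgroup.center H ≤ commutator H := by
  have hpp : p.Prime := hp.out
  have hP : IsPGroup p H := IsPGroup.of_card hH
  have hnt : Nontrivial H := by
    obtain ⟨a, b, hab⟩ := hnc
    exact ⟨⟨a * b, b * a, hab⟩⟩
  have hZnt : Nontrivial (Subgroup.center H) := hP.center_nontrivial
  have hdvd : Nat.card (Subgroup.center H) ∣ p ^ 3 := hH ▸ Subgroup.card_subgroup_dvd_card _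
  obtain ⟨k, hk3, hk⟩ := (Nat.dvd_prime_pow hpp).1 hdvd
  have hidx : (Subgroup.center H).index * p ^ k = p ^ 3 := by
    rw [← hk, ← hH, mul_comm]
    exact Subgroup.card_mul_index _
  have hk0 : k ≠ 0 := by
    rintro rfl
    rw [pow_zero] at hk
    have := (Subgroup.card_eq_one.1 hk)
    exact (Subgroup.nontrivial_iff_ne_bot _).1 hZnt this
  have hk3' : k ≠ 3 := by
    rintro rfl
    have : Subgroup.center H = ⊤ := by
      apply Subgroup.eq_top_of_card_eq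
      rw [hk, hH]
    obtain ⟨a, b, hab⟩ := hnc
    have hb : b ∈ Subgroup.center H := this ▸ Subgroup.mem_top b
    exact hab ((Subgroup.mem_center_iff.1 hb a).symm ▸ rfl)
  have hk2 : k ≠ 2 := by
    rintro rfl
    have hi : (Subgroup.center H).index = p := by
      have h1 : (Subgroup.center H).index * p ^ 2 = p * p ^ 2 := by rw [hidx]; ring
      exact Nat.eq_of_mul_eq_mul_right (pow_pos hpp.pos 2) h1
    have hc : Nat.card (H ⧸ Subgroup.center H) = p := by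
      rw [← Subgroup.index_eq_card]; exact hi
    have hcyc : IsCyclic (H ⧸ Subgroup.center H) := isCyclic_of_prime_card hc
    have := commutative_of_cyclic_center_quotient (QuotientGroup.mk' (Subgroup.center H))
      (by rw [QuotientGroup.ker_mk'])
    obtain ⟨a, b, hab⟩ := hnc
    exact hab (this a b)
  have hk1 : k = 1 := by omega
  subst hk1
  rw [pow_one] at hk
  have hi : (Subgroup.center H).index = p ^ 2 := by
    have h1 : (Subgroup.center H).index * p ^ 1 = p ^ 2 * p ^ 1 := by rw [hidx]; ring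
    exact Nat.eq_of_mul_eq_mul_right (pow_pos hpp.pos 1) h1
  have hc : Nat.card (H ⧸ Subgroup.center H) = p ^ 2 := by
    rw [← Subgroup.index_eq_card]; exact hi
  have hcomm := IsPGroup.commutative_of_card_eq_prime_sq hc
  have hle : commutator H ≤ Subgroup.center H := by
    rw [_root_.commutator_def, Subgroup.commutator_le]
    intro a _ b _
    rw [← QuotientGroup.eq_one_iff, commutatorElement_def]
    simp only [QuotientGroup.mk_mul, QuotientGroup.mk_inv]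
    rw [hcomm (a : H ⧸ Subgroup.center H) b]
    simp
  have hne : commutator H ≠ ⊥ := by
    intro h
    obtain ⟨a, b, hab⟩ := hnc
    have : ⁅a, b⁆ ∈ commutator H := by
      rw [_root_.commutator_def]
      exact Subgroup.commutator_mem_commutator (Subgroup.mem_top a) (Subgroup.mem_top b)
    rw [h, Subgroup.mem_bot, commutatorElement_eq_one_iff_mul_comm] at this
    exact hab this
  have hcd : Nat.card (commutator H) ∣ p := hk ▸ Subgroup.card_dvd_of_le hle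
  rcases (Nat.dvd_prime hpp).1 hcd with h1 | h1
  · exact absurd (Subgroup.card_eq_one.1 h1) hne
  · intro z hz
    have : commutator H = Subgroup.center H :=
      Subgroup.eq_of_le_of_card_ge hle (by rw [hk, h1])
    rw [this]; exact hz

variable {G : Type u} [Group G]

theorem exists_mul_of_mem_sup {H K : Subgroup G} (hc : ∀ h ∈ H, ∀ k ∈ K, h * k = k * h) {x : G}
    (hx : x ∈ H ⊔ K) : ∃ h ∈ H, ∃ k ∈ K, x = h * k := by
  rw [Subgroup.sup_eq_closure] at hx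
  induction hx using Subgroup.closure_induction with
  | mem y hy =>
    rcases hy with hy | hy
    · exact ⟨y, hy, 1, K.one_mem, (mul_one y).symm⟩
    · exact ⟨1, H.one_mem, y, hy, (one_mul y).symm⟩
  | one => exact ⟨1, H.one_mem, 1, K.one_mem, (mul_one 1).symm⟩
  | mul a b _ _ iha ihb =>
    obtain ⟨h₁, hh₁, k₁, hk₁, rfl⟩ := iha
    obtain ⟨h₂, hh₂, k₂, hk₂, rfl⟩ := ihb
    refine ⟨h₁ * h₂, H.mul_mem hh₁ hh₂, k₁ * k₂, K.mul_mem hk₁ hk₂, ?_⟩
    have := hc h₂ hh₂ k₁ hk₁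
    calc h₁ * k₁ * (h₂ * k₂) = h₁ * (k₁ * h₂) * k₂ := by group
      _ = h₁ * (h₂ * k₁) * k₂ := by rw [this]
      _ = h₁ * h₂ * (k₁ * k₂) := by group
  | inv a _ iha =>
    obtain ⟨h₁, hh₁, k₁, hk₁, rfl⟩ := iha
    refine ⟨h₁⁻¹, H.inv_mem hh₁, k₁⁻¹, K.inv_mem hk₁, ?_⟩
    have := hc h₁ hh₁ k₁ hk₁
    rw [mul_inv_rev]
    have h2 : k₁⁻¹ * h₁⁻¹ = (h₁ * k₁)⁻¹ := (mul_inv_rev _ _).symm
    have h3 : h₁⁻¹ * k₁⁻¹ = (k₁ * h₁)⁻¹ := (mul_inv_rev _ _).symm
    rw [h2, h3, this]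

/-- an element of prime order `q ∤ p (p - 1)` normalizing a cyclic `p`-group centralizes it. -/
theorem commute_of_normalizes_cyclic [Finite G] {p q : ℕ} [hp : Fact p.Prime] (hq : q.Prime)
    (hnd : ¬ q ∣ p * (p - 1)) (C : Subgroup G) (hC : IsPGroup p C) (hcyc : IsCyclic C)
    (a : G) (haq : a ^ q = 1) (haC : ∀ c ∈ C, a * c * a⁻¹ ∈ C) :
    ∀ c ∈ C, a * c * a⁻¹ = c := by
  have hpp : p.Prime := hp.out
  obtain ⟨g, hg⟩ := hcyc.exists_generator
  set c₀ : G := (g : G) with hc₀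
  have hc₀C : c₀ ∈ C := g.2
  have hgen : ∀ c ∈ C, ∃ j : ℕ, c = c₀ ^ j := by
    intro c hc
    have := hg ⟨c, hc⟩
    rw [← mem_powers_iff_mem_zpowers] at this
    obtain ⟨j, hj⟩ := this
    exact ⟨j, by simpa [hc₀] using (congrArg Subtype.val hj).symm⟩
  obtain ⟨k, hk⟩ := hgen _ (haC c₀ hc₀C)
  -- iterate
  have hiter : ∀ j : ℕ, a ^ j * c₀ * (a ^ j)⁻¹ = c₀ ^ (k ^ j) := by
    intro j
    induction j with
    | zero => simp
    | succ j ih =>
      have : a ^ (j + 1) * c₀ * (a ^ (j + 1))⁻¹ = a * (a ^ j * c₀ * (a ^ j)⁻¹) * a⁻¹ := by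
        rw [pow_succ']; group
      rw [this, ih]
      have h2 : a * c₀ ^ (k ^ j) * a⁻¹ = (a * c₀ * a⁻¹) ^ (k ^ j) := by
        rw [conj_pow]
      rw [h2, hk, ← pow_mul, pow_succ, mul_comm]
  have h1 : c₀ ^ (k ^ q) = c₀ ^ 1 := by
    rw [← hiter q, haq]; simp
  set n := orderOf c₀ with hn
  have hmod : k ^ q ≡ 1 [MOD n] := pow_eq_pow_iff_modEq.1 h1
  -- `n` is a power of `p`
  obtain ⟨m, hm⟩ : ∃ m : ℕ, n = p ^ m := by
    obtain ⟨m, hm⟩ := hC ⟨c₀, hc₀C⟩
    have h2 : c₀ ^ (p ^ m) = 1 := by simpa using congrArg Subtype.val hm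
    have := orderOf_dvd_of_pow_eq_one h2
    obtain ⟨i, _, hi⟩ := (Nat.dvd_prime_pow hpp).1 this
    exact ⟨i, hi⟩
  have hkey : k ≡ 1 [MOD n] := by
    rcases Nat.eq_zero_or_pos m with hm0 | hm0
    · rw [hm, hm0, pow_zero]; exact Nat.modEq_one
    have hn1 : 1 < n := by rw [hm]; exact Nat.one_lt_pow hm0.ne' hpp.one_lt
    have hz : ((k : ZMod n)) ^ q = 1 := by
      have := (ZMod.natCast_eq_natCast_iff _ _ n).2 hmod
      simpa using this
    have hu : IsUnit (k : ZMod n) := IsUnit.of_pow_eq_one hz hq.ne_zero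
    obtain ⟨u, hu'⟩ := hu
    have huq : u ^ q = 1 := by
      apply Units.ext
      rw [Units.val_pow_eq_pow_val, hu']; exact hz
    have hφ : u ^ Nat.totient n = 1 := ZMod.pow_totient u
    have hgcd : Nat.gcd q (Nat.totient n) = 1 := by
      rw [← Nat.coprime_iff_gcd_eq_one, Nat.Prime.coprime_iff_not_dvd hq]
      obtain ⟨m', rfl⟩ : ∃ m', m = m' + 1 := ⟨m - 1, by omega⟩
      rw [hm, Nat.totient_prime_pow_succ hpp]
      intro hdv
      rcases (Nat.Prime.dvd_mul hq).1 hdv with h | h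
      · have := hq.dvd_of_dvd_pow h
        have hqp : q = p := (Nat.prime_dvd_prime_iff_eq hq hpp).1 this
        exact hnd (hqp ▸ Dvd.intro _ rfl)
      · exact hnd (Dvd.dvd.mul_left h p)
    have hu1 : u = 1 := by
      have := pow_gcd_eq_one.2 ⟨huq, hφ⟩
      rwa [hgcd, pow_one] at this
    have hk1 : (k : ZMod n) = 1 := by rw [← hu', hu1]; rfl
    have : ((k : ℕ) : ZMod n) = ((1 : ℕ) : ZMod n) := by simpa using hk1
    exact (ZMod.natCast_eq_natCast_iff _ _ n).1 this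
  have hfix : a * c₀ * a⁻¹ = c₀ := by
    rw [hk]
    have : c₀ ^ k = c₀ ^ 1 := pow_eq_pow_iff_modEq.2 hkey
    rw [this, pow_one]
  intro c hc
  obtain ⟨j, rfl⟩ := hgen c hc
  rw [← conj_pow, hfix]

/-- **the central product lemma**. -/
theorem card_eq_of_central_product [Finite G] {p : ℕ} [hpf : Fact p.Prime] (R A : Subgroup G)
    (hR : IsPGroup p R) (hA : A ≤ Subgroup.normalizer (R : Set G))
    (hq : (Nat.card A).Prime) (hnd : ¬ Nat.card A ∣ p * (p - 1)) (hRA : ⁅R, A⁆ = R)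
    (R₁ R₂ : Subgroup G) (h1 : R₁ ⊔ R₂ = R) (h2 : ∀ a ∈ R₁, ∀ b ∈ R₂, a * b = b * a)
    (h3 : ¬ IsMulCommutative R₁) (h4 : Nat.card R₁ = p ^ 3) (h6 : IsCyclic R₂)
    (h7 : Subgroup.closure {x : G | x ∈ R₂ ∧ x ^ p = 1} = ⁅R₁, R₁⁆) : Nat.card R = p ^ 3 := by
  have hpp : p.Prime := hpf.out
  have hR₁R : R₁ ≤ R := h1 ▸ le_sup_left
  have hR₂R : R₂ ≤ R := h1 ▸ le_sup_right
  have hZ1 : ⁅R₁, R₁⁆ ≤ R₂ := by
    rw [← h7, Subgroup.closure_le]
    intro x hx
    exact hx.1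
  -- `R₂` is abelian
  have hR₂c : ∀ a ∈ R₂, ∀ b ∈ R₂, a * b = b * a := by
    intro a ha b hb
    have h := (IsCyclic.commGroup (α := R₂)).mul_comm ⟨a, ha⟩ ⟨b, hb⟩
    exact congrArg Subtype.val h
  -- the centre of `R₁` lies in its derived group
  have hcen : ∀ x ∈ R₁, (∀ y ∈ R₁, x * y = y * x) → x ∈ ⁅R₁, R₁⁆ := by
    intro x hx hxc
    have hnc : ∃ a b : ↥R₁, a * b ≠ b * a := by
      by_contra hcon
      apply h3
      constructor
      constructor
      intro a b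
      by_contra hab
      exact hcon ⟨a, b, hab⟩
    have := center_le_commutator_of_card_cube h4 hnc
    have hxz : (⟨x, hx⟩ : ↥R₁) ∈ Subgroup.center ↥R₁ := by
      rw [Subgroup.mem_center_iff]
      intro y
      exact Subtype.ext (hxc y y.2).symm
    have hx' := this hxz
    rw [← Subgroup.map_subtype_commutator R₁]
    exact ⟨_, hx', rfl⟩
  -- `R₂` is the centre of `R`
  have hR₂cen : ∀ c ∈ R₂, ∀ r ∈ R, c * r = r * c := by
    intro c hc r hr
    rw [← h1] at hr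
    obtain ⟨r₁, hr₁, r₂, hr₂, rfl⟩ := exists_mul_of_mem_sup h2 hr
    have e1 := h2 r₁ hr₁ c hc
    have e2 := hR₂c c hc r₂ hr₂
    calc c * (r₁ * r₂) = (c * r₁) * r₂ := by group
      _ = (r₁ * c) * r₂ := by rw [e1]
      _ = r₁ * (c * r₂) := by group
      _ = r₁ * (r₂ * c) := by rw [e2]
      _ = r₁ * r₂ * c := by group
  have hcenR : ∀ g ∈ R, (∀ r ∈ R, g * r = r * g) → g ∈ R₂ := by
    intro g hg hgc
    rw [← h1] at hg
    obtain ⟨r₁, hr₁, r₂, hr₂, rfl⟩ := exists_mul_of_mem_sup h2 hg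
    have : r₁ ∈ ⁅R₁, R₁⁆ := by
      apply hcen r₁ hr₁
      intro y hy
      have e1 := hgc y (hR₁R hy)
      have e2 := h2 y hy r₂ hr₂
      have e3 : r₁ * y * r₂ = y * r₁ * r₂ := by
        calc r₁ * y * r₂ = r₁ * (y * r₂) := by group
          _ = r₁ * (r₂ * y) := by rw [e2]
          _ = r₁ * r₂ * y := by group
          _ = y * (r₁ * r₂) := e1
          _ = y * r₁ * r₂ := by group
      exact mul_right_cancel e3
    exact R₂.mul_mem (hZ1 this) hr₂
  -- `A` normalizes `R₂`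
  have hAR₂ : ∀ a ∈ A, ∀ c ∈ R₂, a * c * a⁻¹ ∈ R₂ := by
    intro a ha c hc
    have haN := hA ha
    have hcR : a * c * a⁻¹ ∈ R := (Subgroup.mem_normalizer_iff.1 haN c).1 (hR₂R hc)
    apply hcenR _ hcR
    intro r hr
    have hr' : a⁻¹ * r * a ∈ R := by
      have := (Subgroup.mem_normalizer_iff.1 (Subgroup.inv_mem _ haN) r).1 hr
      simpa using this
    have e := hR₂cen c hc _ hr'
    calc a * c * a⁻¹ * r = a * (c * (a⁻¹ * r * a)) * a⁻¹ := by group
      _ = a * ((a⁻¹ * r * a) * c) * a⁻¹ := by rw [e]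
      _ = r * (a * c * a⁻¹) := by group
  -- `A` centralizes `R₂`
  have hAcen : ∀ a ∈ A, ∀ c ∈ R₂, a * c * a⁻¹ = c := by
    intro a ha
    have haq : a ^ Nat.card A = 1 := by
      have h := pow_card_eq_one' (G := ↥A) (x := ⟨a, ha⟩)
      have h' := congrArg Subtype.val h
      rwa [Subgroup.coe_pow] at h'
    exact commute_of_normalizes_cyclic hq hnd R₂ (hR.to_le hR₂R) h6 a haq (hAR₂ a ha)
  have hR₂A : ⁅R₂, A⁆ = ⊥ := by
    rw [Subgroup.commutator_eq_bot_iff_le_centralizer, Subgroup.le_centralizer_iff]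
    intro a ha
    rw [Subgroup.mem_centralizer_iff]
    intro c hc
    have := hAcen a ha c hc
    calc c * a = (a * c * a⁻¹) * a := by rw [this]
      _ = a * c := by group
  have hcop : (Nat.card A).Coprime (Nat.card R) := by
    obtain ⟨n, hn⟩ := hR.exists_card_eq
    rw [hn]
    apply Nat.Coprime.pow_right
    rw [Nat.Prime.coprime_iff_not_dvd hq]
    intro hdv
    have : Nat.card A = p := (Nat.prime_dvd_prime_iff_eq hq hpp).1 hdv
    exact hnd (this ▸ Dvd.intro _ rfl)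
  have hR₂le : R₂ ≤ ⁅R, R⁆ :=
    Cfsg.Agent.Lib.Helper66.le_commutator_of_centralized R A R₂ hA hRA hcop hR₂R hR₂A
  have hRR : ⁅R, R⁆ ≤ R₁ := by
    rw [Subgroup.commutator_le]
    intro g hg h hh
    have hg' := hg
    rw [← h1] at hg hh
    obtain ⟨r₁, hr₁, r₂, hr₂, rfl⟩ := exists_mul_of_mem_sup h2 hg
    obtain ⟨s₁, hs₁, s₂, hs₂, rfl⟩ := exists_mul_of_mem_sup h2 hh
    have e1 : r₂ * (s₁ * s₂) * r₂⁻¹ = s₁ * s₂ := by
      have := hR₂cen r₂ hr₂ (s₁ * s₂) (h1 ▸ hh)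
      rw [this]; group
    have e2 : s₂ * r₁⁻¹ * s₂⁻¹ = r₁⁻¹ := by
      have := h2 r₁⁻¹ (R₁.inv_mem hr₁) s₂ hs₂
      rw [← this]; group
    have : ⁅r₁ * r₂, s₁ * s₂⁆ = ⁅r₁, s₁⁆ := by
      rw [commutatorElement_def, commutatorElement_def]
      calc r₁ * r₂ * (s₁ * s₂) * (r₁ * r₂)⁻¹ * (s₁ * s₂)⁻¹
          = r₁ * (r₂ * (s₁ * s₂) * r₂⁻¹) * r₁⁻¹ * (s₁ * s₂)⁻¹ := by group
        _ = r₁ * (s₁ * s₂) * r₁⁻¹ * (s₁ * s₂)⁻¹ := by rw [e1]
        _ = r₁ * s₁ * (s₂ * r₁⁻¹ * s₂⁻¹) * s₁⁻¹ := by group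
        _ = r₁ * s₁ * r₁⁻¹ * s₁⁻¹ := by rw [e2]
    rw [this]
    exact R₁.mul_mem (R₁.mul_mem (R₁.mul_mem hr₁ hs₁) (R₁.inv_mem hr₁)) (R₁.inv_mem hs₁)
  have hRR₁ : R = R₁ := by
    apply le_antisymm _ hR₁R
    rw [← h1]
    exact sup_le le_rfl (hR₂le.trans hRR)
  rw [hRR₁, h4]

end Cfsg.Agent.Lib.Helper40.NarrowAct2
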