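import Cfsg.Agent.Lib.Helper49.OElDefs

/-!
# K-OEl pack (S5988 + S5990, architect helper49), leaf 598816 K-OEl-H (helper40): `plusQ_of_unip`
Pure linear algebra: `range (u - 1) ≤ E ≤ ker (u - 1)`, `E` totally singular of codimension `≤ 1` in the kernel:
every invariant even-dimensional subspace is of plus type.
-/

set_option autoImplicit false

namespace Cfsg.Agent.Lib.Helper40.OEl

open Module Cfsg.Agent.Lib.Helper98.Elus Cfsg.Agent.Lib.Helper98.Sy Cfsg.Agent.Lib.Helper38.OhP
  Cfsg.Agent.Lib.Helper49.OEl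

universe u
variable {F : Type u} [Field F] {V : Type u} [AddCommGroup V] [Module F V]

/-- a subspace of every smaller dimension -/
theorem oelH_exists_sub [FiniteDimensional F V] (D : Submodule F V) (e : ℕ) (he : e ≤ finrank F D) :
    ∃ U : Submodule F V, U ≤ D ∧ finrank F U = e := by
  classical
  let b := Module.finBasis F D
  let v : Fin e → V := fun i => (b (Fin.castLE he i) : V)
  have hli : LinearIndependent F v := by
    have h1 : LinearIndependent F (fun i : Fin e => b (Fin.castLE he i)) :=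
      b.linearIndependent.comp _ (Fin.castLE_injective he)
    have h2 := h1.map' D.subtype (Submodule.ker_subtype D)
    exact h2
  refine ⟨Submodule.span F (Set.range v), ?_, ?_⟩
  · rw [Submodule.span_le]
    rintro _ ⟨i, rfl⟩
    exact (b (Fin.castLE he i)).2
  · rw [finrank_span_eq_card hli, Fintype.card_fin]

theorem plusQ_of_unip [FiniteDimensional F V] (Q : QuadraticForm F V) (E : Submodule F V)
    (hE : ∀ v ∈ E, Q v = 0) (u : V →ₗ[F] V) (hR : ∀ v, (u - 1) v ∈ E) (hEK : E ≤ LinearMap.ker (u - 1))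
    (hK : finrank F (LinearMap.ker (u - 1)) ≤ finrank F E + 1)
    (W : Submodule F V) (hW : Inv u W) (hWe : Even (finrank F W)) : PlusQ Q W := by
  classical
  obtain ⟨e, he⟩ := hWe
  obtain ⟨N, hN⟩ : ∃ N : V →ₗ[F] V, N = u - 1 := ⟨_, rfl⟩
  rw [← hN] at hR hEK hK
  -- `N` maps `W` into `W ⊓ E`
  have hNW : W.map N ≤ W ⊓ E := by
    rintro _ ⟨w, hw, rfl⟩
    refine ⟨?_, hR w⟩
    rw [hN, LinearMap.sub_apply, Module.End.one_apply]
    exact W.sub_mem (hW w hw) hw
  -- rank-nullity for the restriction of `N` to `W`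
  have hrn := LinearMap.finrank_range_add_finrank_ker (N.domRestrict W)
  have hrange : LinearMap.range (N.domRestrict W) = W.map N := by
    ext x
    constructor
    · rintro ⟨w, rfl⟩
      exact ⟨w, w.2, rfl⟩
    · rintro ⟨w, hw, rfl⟩
      exact ⟨⟨w, hw⟩, rfl⟩
  have hker : finrank F (LinearMap.ker (N.domRestrict W)) = finrank F ↥(W ⊓ LinearMap.ker N) := by
    have hmap : (LinearMap.ker (N.domRestrict W)).map W.subtype = W ⊓ LinearMap.ker N := by
      ext x
      constructor
      · rintro ⟨w, hw, rfl⟩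
        exact ⟨w.2, hw⟩
      · rintro ⟨hxW, hxK⟩
        exact ⟨⟨x, hxW⟩, hxK, rfl⟩
    rw [← hmap]
    exact (LinearEquiv.finrank_eq (Submodule.equivMapOfInjective W.subtype (Submodule.injective_subtype W)
      (LinearMap.ker (N.domRestrict W))))
  rw [hrange, hker] at hrn
  -- `W ⊓ E` has codimension at most one in `W ⊓ ker N`
  have hinf : (W ⊓ LinearMap.ker N) ⊓ E = W ⊓ E := by
    rw [inf_assoc, inf_eq_right.mpr hEK]
  have hsup := Submodule.finrank_sup_add_finrank_inf_eq (W ⊓ LinearMap.ker N) E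
  rw [hinf] at hsup
  have hle : finrank F ↥((W ⊓ LinearMap.ker N) ⊔ E) ≤ finrank F (LinearMap.ker N) :=
    Submodule.finrank_mono (sup_le inf_le_right hEK)
  have hρ : finrank F ↥(W.map N) ≤ finrank F ↥(W ⊓ E) := Submodule.finrank_mono hNW
  have hD : e ≤ finrank F ↥(W ⊓ E) := by omega
  obtain ⟨U, hUD, hUe⟩ := oelH_exists_sub (W ⊓ E) e hD
  refine ⟨U, hUD.trans inf_le_left, fun x hx => hE x (hUD hx).2, ?_⟩
  rw [hUe, he]
  ring

end Cfsg.Agent.Lib.Helper40.OEl
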