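import Cfsg.Agent.Lib.Helper69.OPbDefs
import Cfsg.Agent.Lib.Helper50.MinusLang
import Cfsg.Agent.Lib.Helper67.OPb17
import Cfsg.Agent.Lib.Helper13.OPb15

/-!
# K-OMb pack (S5991, architect helper32), leaf 599106 K-OMb-6 (helper40): `case_fix_minus`

`case_fix_minus_of` is LEAF 6 of `notes/S5991_keystones.lean.txt` with the statement `not_plus_QMinus` of LEAF 1 taken as the
hypothesis `Hnp`; everything else (K-OPb LEAVES 1, 9, 10, 15) is imported (port of `Helper67.OPb.case_fix`).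
The exact spec signature `case_fix_minus` is in `OMb6Final.lean` (imports LEAF 1).
-/

set_option autoImplicit false

namespace Cfsg.Agent.Lib.Helper40.OMb

open Module Cfsg.Agent.Lib.Helper98.Elus Cfsg.Agent.Lib.Helper98.Sy Cfsg.Agent.Lib.Helper98.Oh
  Cfsg.Agent.Lib.Helper69.OPb
open scoped MatrixGroups

universe u
variable {F : Type u} [Field F]

/-- the minus form takes a nonzero value -/
theorem exists_QMinus_ne_zero (k : ℕ) (a b : F) :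
    ∃ v, Cfsg.Agent.Lib.Helper50.QMinus k F a b v ≠ 0 := by
  refine ⟨Pi.single (Sum.inr 0) 1, ?_⟩
  show Cfsg.quadFormMinus k F a b (Pi.single (Sum.inr 0) 1) ≠ 0
  unfold Cfsg.quadFormMinus
  simp

theorem omb6_finrank (d : ℕ) (hd : 1 ≤ d) :
    finrank F (((Fin (d - 1) ⊕ Fin (d - 1)) ⊕ Fin 2) → F) = 2 * d := by
  rw [Module.finrank_fintype_fun_eq_card, Fintype.card_sum, Fintype.card_sum, Fintype.card_fin,
    Fintype.card_fin]
  omega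

/-- LEAF 6 with `not_plus_QMinus` (LEAF 1) as a hypothesis -/
theorem case_fix_minus_of [Fintype F] {p : ℕ} [Fact p.Prime] [CharP F p] (hodd : Odd (Fintype.card F))
    (d m : ℕ) (hd : 1 ≤ d) (hm : Odd m) (hmd : m < d) (a b : F) (hab : ∀ x y : F, x ^ 2 + a * x * y + b * y ^ 2 = 0 → x = 0 ∧ y = 0)
    (Hnp : (2 : F) ≠ 0 →
      ¬ Plus (QuadraticMap.polarBilin (Cfsg.Agent.Lib.Helper50.QMinus (d - 1) F a b)) ⊤)
    (W₀ : Submodule F (((Fin (d - 1) ⊕ Fin (d - 1)) ⊕ Fin 2) → F))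
    (hW₀ : Module.finrank F ↥W₀ = m ∧ Cfsg.Geo.IsNondegenerateOn (QuadraticMap.polar (Cfsg.quadFormMinus (d - 1) F a b)) W₀)
    (r : ℕ) [Fact r.Prime] (hrp : r ≠ p) (hr2 : 2 < r)
    (hcond : m % cOf (orderOf ((Fintype.card F : ℕ) : ZMod r)) <
        (2 * d) % cOf (orderOf ((Fintype.card F : ℕ) : ZMod r)) ∨
      ((2 * d) % cOf (orderOf ((Fintype.card F : ℕ) : ZMod r)) = 0 ∧
        (Odd (orderOf ((Fintype.card F : ℕ) : ZMod r)) ∨
          Even ((2 * d) / cOf (orderOf ((Fintype.card F : ℕ) : ZMod r))))))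
    (x : GL ((Fin (d - 1) ⊕ Fin (d - 1)) ⊕ Fin 2) F) (hxΩ : x ∈ Cfsg.Geo.omegaGL (Cfsg.quadFormMinus (d - 1) F a b))
    (hxr : ∃ z : F, ((x ^ r : GL ((Fin (d - 1) ⊕ Fin (d - 1)) ⊕ Fin 2) F) : Matrix ((Fin (d - 1) ⊕ Fin (d - 1)) ⊕ Fin 2) ((Fin (d - 1) ⊕ Fin (d - 1)) ⊕ Fin 2) F) = z • (1 : Matrix ((Fin (d - 1) ⊕ Fin (d - 1)) ⊕ Fin 2) ((Fin (d - 1) ⊕ Fin (d - 1)) ⊕ Fin 2) F))
    (hxns : ∀ z : F, (x : Matrix ((Fin (d - 1) ⊕ Fin (d - 1)) ⊕ Fin 2) ((Fin (d - 1) ⊕ Fin (d - 1)) ⊕ Fin 2) F) ≠ z • (1 : Matrix ((Fin (d - 1) ⊕ Fin (d - 1)) ⊕ Fin 2) ((Fin (d - 1) ⊕ Fin (d - 1)) ⊕ Fin 2) F)) :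
    ∃ W : Submodule F (((Fin (d - 1) ⊕ Fin (d - 1)) ⊕ Fin 2) → F), (Module.finrank F ↥W = m ∧ Cfsg.Geo.IsNondegenerateOn (QuadraticMap.polar (Cfsg.quadFormMinus (d - 1) F a b)) W ∧ Cfsg.Geo.AreIsometricFor (Cfsg.quadFormMinus (d - 1) F a b) W W₀) ∧ W.map (Matrix.toLin' (x : Matrix ((Fin (d - 1) ⊕ Fin (d - 1)) ⊕ Fin 2) ((Fin (d - 1) ⊕ Fin (d - 1)) ⊕ Fin 2) F)) ≤ W := by
  classical
  obtain ⟨T, hT⟩ : ∃ T : Module.End F (((Fin (d - 1) ⊕ Fin (d - 1)) ⊕ Fin 2) → F),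
      T = Matrix.toLin' (x : Matrix ((Fin (d - 1) ⊕ Fin (d - 1)) ⊕ Fin 2) ((Fin (d - 1) ⊕ Fin (d - 1)) ⊕ Fin 2) F) := ⟨_, rfl⟩
  rw [← hT]
  have h2 : (2 : F) ≠ 0 := Cfsg.Agent.Lib.Helper67.OPb.two_ne_zero_of_odd hodd
  -- the quadratic form and its polar form
  let Q : QuadraticForm F (((Fin (d - 1) ⊕ Fin (d - 1)) ⊕ Fin 2) → F) :=
    Cfsg.Agent.Lib.Helper50.QMinus (d - 1) F a b
  let B : LinearMap.BilinForm F (((Fin (d - 1) ⊕ Fin (d - 1)) ⊕ Fin 2) → F) := QuadraticMap.polarBilin Q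
  have hS : ∀ u v, B u v = B v u := Cfsg.Agent.Lib.Helper13.OPb.polarBilin_symm Q
  have hV : NonDeg B ⊤ :=
    Cfsg.Agent.Lib.Helper13.OPb.nonDeg_top_of_nondegenerate Q
      (Cfsg.Agent.Lib.Helper50.QMinus_nondeg_of_anis (d - 1) a b hab)
  have hfr : finrank F (((Fin (d - 1) ⊕ Fin (d - 1)) ⊕ Fin 2) → F) = 2 * d := omb6_finrank d hd
  -- `x` is an isometry
  have hxI : x ∈ Cfsg.isometryGroup F ⇑Q := by
    obtain ⟨g, _, hg⟩ := hxΩ
    rw [← hg]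
    exact g.2
  -- the scalar is `± 1`
  obtain ⟨z, hz⟩ := hxr
  have hz1 : z = 1 ∨ z = -1 :=
    Cfsg.Agent.Lib.Helper13.OPb.scalar_eq_of_mem Q (exists_QMinus_ne_zero (d - 1) a b) (x ^ r)
      (Subgroup.pow_mem _ hxI r) z hz
  -- arithmetic facts
  obtain ⟨f, _, hF⟩ := FiniteField.card F p
  have hr2' : r ≠ 2 := by omega
  have hrodd : Odd r := (Fact.out : r.Prime).odd_of_ne_two hr2'
  have hrF : (r : F) ≠ 0 := by
    intro h
    rw [CharP.cast_eq_zero_iff F p] at h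
    exact hrp ((Nat.prime_dvd_prime_iff_eq (Fact.out : p.Prime) (Fact.out : r.Prime)).mp h).symm
  have hW₀N : NonDeg B W₀ := (Cfsg.Agent.Lib.Helper13.OPb.nonDeg_polarBilin_iff Q W₀).2 hW₀.2
  have hnPlus : ¬ Plus B ⊤ := Hnp h2
  have hcond' : m % cOf (orderOf ((Fintype.card F : ℕ) : ZMod r)) <
        finrank F (((Fin (d - 1) ⊕ Fin (d - 1)) ⊕ Fin 2) → F) % cOf (orderOf ((Fintype.card F : ℕ) : ZMod r)) ∨
      (finrank F (((Fin (d - 1) ⊕ Fin (d - 1)) ⊕ Fin 2) → F) % cOf (orderOf ((Fintype.card F : ℕ) : ZMod r)) = 0 ∧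
        ¬ (Plus B ⊤ ↔ (Odd (orderOf ((Fintype.card F : ℕ) : ZMod r)) ∨
          Even (finrank F (((Fin (d - 1) ⊕ Fin (d - 1)) ⊕ Fin 2) → F) / cOf (orderOf ((Fintype.card F : ℕ) : ZMod r)))))) := by
    rw [hfr]
    rcases hcond with h | ⟨h0, hX⟩
    · exact Or.inl h
    · exact Or.inr ⟨h0, fun hiff => hnPlus (hiff.2 hX)⟩
  -- the main step, for an isometry `y` of order dividing `r` with the same invariant subspaces as `x`
  have key : ∀ y : (((Fin (d - 1) ⊕ Fin (d - 1)) ⊕ Fin 2) → F) →ₗ[F] (((Fin (d - 1) ⊕ Fin (d - 1)) ⊕ Fin 2) → F),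
      y ^ r = 1 → Iso B y →
      (∀ W : Submodule F (((Fin (d - 1) ⊕ Fin (d - 1)) ⊕ Fin 2) → F), Inv y W → Inv T W) →
      ∃ W : Submodule F (((Fin (d - 1) ⊕ Fin (d - 1)) ⊕ Fin 2) → F), (Module.finrank F ↥W = m ∧ Cfsg.Geo.IsNondegenerateOn (QuadraticMap.polar (Cfsg.quadFormMinus (d - 1) F a b)) W ∧ Cfsg.Geo.AreIsometricFor (Cfsg.quadFormMinus (d - 1) F a b) W W₀) ∧ W.map T ≤ W := by
    intro y hy hiso hinv
    obtain ⟨W, hWinv, hWnd, hWiso⟩ :=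
      Cfsg.Agent.Lib.Helper67.OPb.exists_fixed_semisimple' h2 B hS hV p f hF r hrp.symm hr2' hrF y hy hiso
        m hm (by rw [hfr]; omega) W₀ hW₀N hW₀.1 hcond'
    refine ⟨W, ⟨?_, ?_, ?_⟩, ?_⟩
    · obtain ⟨e, _⟩ := hWiso
      rw [e.finrank_eq, hW₀.1]
    · exact (Cfsg.Agent.Lib.Helper13.OPb.nonDeg_polarBilin_iff Q W).1 hWnd
    · exact (Cfsg.Agent.Lib.Helper13.OPb.isoCls_polarBilin_iff h2 Q W W₀).1 hWiso
    · have h1 := hinv W hWinv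
      rw [hT] at h1
      have h2' := (Cfsg.Agent.Lib.Helper13.OPb.inv_toLin'_iff _ W).1 h1
      rwa [← hT] at h2'
  have hxpowv : ∀ v, (T ^ r) v = z • v := by
    intro v
    rw [hT, ← Matrix.toLin'_pow, ← Units.val_pow_eq_pow_val, hz, Matrix.toLin'_apply, Matrix.smul_mulVec,
      Matrix.one_mulVec]
  have hisox : Iso B T := by
    rw [hT]
    exact Cfsg.Agent.Lib.Helper13.OPb.iso_toLin'_of_mem Q x hxI
  rcases hz1 with hz1 | hz1
  · -- `x ^ r = 1`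
    apply key T
    · apply LinearMap.ext
      intro v
      rw [hxpowv, hz1, one_smul]
      rfl
    · exact hisox
    · intro W hW; exact hW
  · -- `x ^ r = -1`: take `- x`
    apply key (-T)
    · have h1 : (-T) ^ r = -(T ^ r) := Odd.neg_pow hrodd T
      apply LinearMap.ext
      intro v
      rw [h1, LinearMap.neg_apply, hxpowv, hz1, neg_smul, one_smul, neg_neg]
      rfl
    · intro u v
      simp only [LinearMap.neg_apply, map_neg, neg_neg]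
      exact hisox u v
    · intro W hW v hv
      have := W.neg_mem (hW v hv)
      rwa [LinearMap.neg_apply, neg_neg] at this

end Cfsg.Agent.Lib.Helper40.OMb
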