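import Cfsg.Agent.Lib.Helper69.OPbDefs
import Cfsg.Agent.Lib.Helper50.DiagPlus
import Cfsg.Agent.Lib.Helper50.GeoBridge
import Cfsg.Agent.Lib.Helper62.OPb4
import Cfsg.Agent.Lib.Helper85.OPb5b
import Cfsg.Agent.Lib.Helper13.OPb15
import Cfsg.Agent.Lib.Helper42.OPb5a

/-!
# K-OPb pack (S5989, architect helper69), leaf 598916 K-OPb-16 (helper40): the case `r = 2`

`case_two_of` is LEAF 16 of `notes/S5989_keystones.lean.txt` with LEAVES 2, 3 (their exact spec statements,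
instantiated at `V = Fin d ⊕ Fin d → F`, `B = polarBilin (QPlus d F)`) taken as hypotheses `H2`, `H3`;
LEAVES 4 (`Helper62.OPb4`), 5a (`Helper42.OPb5a`), 5b (`Helper85.OPb5b`), 15 (`Helper13.OPb15`) are imported.
The exact spec signature `case_two` is in `OPb16Final.lean` (imports the remaining leaves).
-/

set_option autoImplicit false

namespace Cfsg.Agent.Lib.Helper40.OPb

open Module Cfsg.Agent.Lib.Helper98.Elus Cfsg.Agent.Lib.Helper98.Sy Cfsg.Agent.Lib.Helper98.Oh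
  Cfsg.Agent.Lib.Helper69.OPb

universe u
variable {F : Type u} [Field F] {V : Type u} [AddCommGroup V] [Module F V]

/-- `2 ≠ 0` in a finite field of odd order -/
theorem opb16_two_ne_zero [Fintype F] (hodd : Odd (Fintype.card F)) : (2 : F) ≠ 0 := by
  apply Ring.two_ne_zero
  intro h
  have := FiniteField.even_card_of_char_two h
  rw [Nat.odd_iff] at hodd
  omega

/-- a vector on which the plus form does not vanish -/
theorem opb16_exists_ne (d : ℕ) (hd : 1 ≤ d) :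
    ∃ v, Cfsg.Agent.Lib.Helper50.QPlus d F v ≠ 0 := by
  refine ⟨Sum.elim (Pi.single ⟨0, by omega⟩ 1) (Pi.single ⟨0, by omega⟩ 1), ?_⟩
  rw [Cfsg.Agent.Lib.Helper50.QPlus_elim]
  simp

theorem opb16_finrank (d : ℕ) : finrank F (Fin d ⊕ Fin d → F) = 2 * d := by
  rw [Module.finrank_fintype_fun_eq_card, Fintype.card_sum, Fintype.card_fin]
  ring

theorem opb16_toLin_sq_one {d : ℕ} (x : GL (Fin d ⊕ Fin d) F)
    (h : (x : Matrix (Fin d ⊕ Fin d) (Fin d ⊕ Fin d) F) * (x : Matrix (Fin d ⊕ Fin d) (Fin d ⊕ Fin d) F) = 1) :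
    Matrix.toLin' (x : Matrix (Fin d ⊕ Fin d) (Fin d ⊕ Fin d) F) *
      Matrix.toLin' (x : Matrix (Fin d ⊕ Fin d) (Fin d ⊕ Fin d) F) = 1 := by
  rw [Module.End.mul_eq_comp, ← Matrix.toLin'_mul, h, Matrix.toLin'_one]
  rfl

theorem opb16_toLin_sq_neg {d : ℕ} (x : GL (Fin d ⊕ Fin d) F)
    (h : (x : Matrix (Fin d ⊕ Fin d) (Fin d ⊕ Fin d) F) * (x : Matrix (Fin d ⊕ Fin d) (Fin d ⊕ Fin d) F) = -1) :
    Matrix.toLin' (x : Matrix (Fin d ⊕ Fin d) (Fin d ⊕ Fin d) F) *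
      Matrix.toLin' (x : Matrix (Fin d ⊕ Fin d) (Fin d ⊕ Fin d) F) = -1 := by
  rw [Module.End.mul_eq_comp, ← Matrix.toLin'_mul, h, map_neg, Matrix.toLin'_one]
  rfl

theorem case_two_of [Fintype F] (hodd : Odd (Fintype.card F)) (d m : ℕ) (hd : 4 ≤ d) (hm : Odd m) (hmd : m < d)
    (W₀ : Submodule F (Fin d ⊕ Fin d → F))
    (hW₀ : Module.finrank F ↥W₀ = m ∧
      Cfsg.Geo.IsNondegenerateOn (QuadraticMap.polar (Cfsg.quadFormPlus d F)) W₀)
    (H2 : (2 : F) ≠ 0 →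
      (∀ a b, QuadraticMap.polarBilin (Cfsg.Agent.Lib.Helper50.QPlus d F) a b =
        QuadraticMap.polarBilin (Cfsg.Agent.Lib.Helper50.QPlus d F) b a) →
      NonDeg (QuadraticMap.polarBilin (Cfsg.Agent.Lib.Helper50.QPlus d F)) ⊤ →
      ∀ g : (Fin d ⊕ Fin d → F) →ₗ[F] (Fin d ⊕ Fin d → F), g * g = 1 →
      Iso (QuadraticMap.polarBilin (Cfsg.Agent.Lib.Helper50.QPlus d F)) g →
      ∀ W₀ : Submodule F (Fin d ⊕ Fin d → F),
      NonDeg (QuadraticMap.polarBilin (Cfsg.Agent.Lib.Helper50.QPlus d F)) W₀ →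
      2 * finrank F W₀ < finrank F (Fin d ⊕ Fin d → F) →
      ∃ W : Submodule F (Fin d ⊕ Fin d → F), Inv g W ∧
        NonDeg (QuadraticMap.polarBilin (Cfsg.Agent.Lib.Helper50.QPlus d F)) W ∧
        IsoCls (QuadraticMap.polarBilin (Cfsg.Agent.Lib.Helper50.QPlus d F)) W W₀)
    (H3 : (2 : F) ≠ 0 →
      (∀ a b, QuadraticMap.polarBilin (Cfsg.Agent.Lib.Helper50.QPlus d F) a b =
        QuadraticMap.polarBilin (Cfsg.Agent.Lib.Helper50.QPlus d F) b a) →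
      ∀ x : (Fin d ⊕ Fin d → F) →ₗ[F] (Fin d ⊕ Fin d → F), x * x = -1 →
      Iso (QuadraticMap.polarBilin (Cfsg.Agent.Lib.Helper50.QPlus d F)) x →
      ∀ W : Submodule F (Fin d ⊕ Fin d → F), Inv x W →
      NonDeg (QuadraticMap.polarBilin (Cfsg.Agent.Lib.Helper50.QPlus d F)) W → Even (finrank F W)) :
    (∀ x : GL (Fin d ⊕ Fin d) F, x ∈ Cfsg.Geo.omegaGL (Cfsg.quadFormPlus d F) →
      (∃ z : F, ((x ^ 2 : GL (Fin d ⊕ Fin d) F) : Matrix (Fin d ⊕ Fin d) (Fin d ⊕ Fin d) F) = z • (1 : Matrix (Fin d ⊕ Fin d) (Fin d ⊕ Fin d) F)) →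
      (∀ z : F, (x : Matrix (Fin d ⊕ Fin d) (Fin d ⊕ Fin d) F) ≠ z • (1 : Matrix (Fin d ⊕ Fin d) (Fin d ⊕ Fin d) F)) →
      ∃ W : Submodule F (Fin d ⊕ Fin d → F), (Module.finrank F ↥W = m ∧ Cfsg.Geo.IsNondegenerateOn (QuadraticMap.polar (Cfsg.quadFormPlus d F)) W ∧ Cfsg.Geo.AreIsometricFor (Cfsg.quadFormPlus d F) W W₀) ∧ W.map (Matrix.toLin' (x : Matrix (Fin d ⊕ Fin d) (Fin d ⊕ Fin d) F)) ≤ W) ↔
    (Odd d ∧ Fintype.card F % 8 ≠ 1) := by
  classical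
  have h2 : (2 : F) ≠ 0 := opb16_two_ne_zero hodd
  have h11 : (1 : F) ≠ -1 := by
    intro h
    apply h2
    have : (2 : F) = 1 + 1 := by norm_num
    rw [this]
    nth_rw 1 [h]
    exact neg_add_cancel 1
  obtain ⟨Q, hQdef⟩ : ∃ Q : QuadraticForm F (Fin d ⊕ Fin d → F), Q = Cfsg.Agent.Lib.Helper50.QPlus d F :=
    ⟨_, rfl⟩
  rw [← hQdef] at H2 H3
  have hQc : (⇑Q : (Fin d ⊕ Fin d → F) → F) = Cfsg.quadFormPlus d F := by rw [hQdef]; rfl
  have hS := Cfsg.Agent.Lib.Helper13.OPb.polarBilin_symm Q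
  have hV : NonDeg (QuadraticMap.polarBilin Q) ⊤ :=
    Cfsg.Agent.Lib.Helper13.OPb.nonDeg_top_of_nondegenerate Q (by rw [hQdef]; exact Cfsg.Agent.Lib.Helper50.QPlus_nondegenerate)
  have hQne : ∃ v, Q v ≠ 0 := by rw [hQdef]; exact opb16_exists_ne d (by omega)
  have hfr := opb16_finrank (F := F) d
  rw [← hQc] at hW₀ ⊢
  -- membership in the isometry group
  have hI : ∀ x : GL (Fin d ⊕ Fin d) F, x ∈ Cfsg.Geo.omegaGL (⇑Q) → x ∈ Cfsg.isometryGroup F ⇑Q := by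
    intro x hx
    obtain ⟨h, -⟩ := (Cfsg.Agent.Lib.Helper50.mem_omegaGL_iff _ x).mp hx
    exact h
  have hsq : ∀ x : GL (Fin d ⊕ Fin d) F,
      ((x ^ 2 : GL (Fin d ⊕ Fin d) F) : Matrix (Fin d ⊕ Fin d) (Fin d ⊕ Fin d) F) =
        (x : Matrix (Fin d ⊕ Fin d) (Fin d ⊕ Fin d) F) * (x : Matrix (Fin d ⊕ Fin d) (Fin d ⊕ Fin d) F) := by
    intro x
    rw [pow_two, Units.val_mul]
  constructor
  · intro H
    by_contra hcon
    have hcase : Even d ∨ Fintype.card F % 8 = 1 := by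
      by_cases he : Even d
      · exact Or.inl he
      · right
        by_contra h8
        exact hcon ⟨Nat.not_even_iff_odd.mp he, h8⟩
    obtain ⟨x, hxΩ, hxx⟩ : ∃ x : GL (Fin d ⊕ Fin d) F, x ∈ Cfsg.Geo.omegaGL (⇑Q) ∧
        (x : Matrix (Fin d ⊕ Fin d) (Fin d ⊕ Fin d) F) * (x : Matrix (Fin d ⊕ Fin d) (Fin d ⊕ Fin d) F) = -1 := by
      rw [hQc]
      rcases hcase with he | h8
      · exact Cfsg.Agent.Lib.Helper62.OPb.exists_sq_neg_one_of_even h2 d he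
      · exact Cfsg.Agent.Lib.Helper62.OPb.exists_sq_neg_one_of_mod_eight h8 d
    have hxI := hI x hxΩ
    have hxx' : (x : Matrix (Fin d ⊕ Fin d) (Fin d ⊕ Fin d) F) * (x : Matrix (Fin d ⊕ Fin d) (Fin d ⊕ Fin d) F) =
        (-1 : F) • (1 : Matrix (Fin d ⊕ Fin d) (Fin d ⊕ Fin d) F) := by
      rw [hxx, neg_smul, one_smul]
    obtain ⟨W, ⟨hWd, hWnd, -⟩, hWinv⟩ := H x hxΩ ⟨-1, by rw [hsq, hxx']⟩ (by
      intro z hz
      rcases Cfsg.Agent.Lib.Helper13.OPb.scalar_eq_of_mem Q hQne x hxI z hz with h | h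
      · rw [hz, h, one_smul, one_mul] at hxx
        have := congrFun (congrFun hxx (Sum.inl ⟨0, by omega⟩)) (Sum.inl ⟨0, by omega⟩)
        rw [Matrix.one_apply_eq, Matrix.neg_apply, Matrix.one_apply_eq] at this
        exact h11 this
      · rw [hz, h, neg_smul, one_smul, neg_mul_neg, one_mul] at hxx
        have := congrFun (congrFun hxx (Sum.inl ⟨0, by omega⟩)) (Sum.inl ⟨0, by omega⟩)
        rw [Matrix.one_apply_eq, Matrix.neg_apply, Matrix.one_apply_eq] at this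
        exact h11 this)
    have hlin : Matrix.toLin' (x : Matrix (Fin d ⊕ Fin d) (Fin d ⊕ Fin d) F) *
        Matrix.toLin' (x : Matrix (Fin d ⊕ Fin d) (Fin d ⊕ Fin d) F) = -1 := by
      exact opb16_toLin_sq_neg x hxx
    have hev := H3 h2 hS
      (Matrix.toLin' (x : Matrix (Fin d ⊕ Fin d) (Fin d ⊕ Fin d) F)) hlin
      (Cfsg.Agent.Lib.Helper13.OPb.iso_toLin'_of_mem Q x hxI) W ((Cfsg.Agent.Lib.Helper13.OPb.inv_toLin'_iff _ W).mpr hWinv)
      ((Cfsg.Agent.Lib.Helper13.OPb.nonDeg_polarBilin_iff Q W).mpr hWnd)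
    rw [hWd] at hev
    exact (Nat.not_even_iff_odd.mpr hm) hev
  · rintro ⟨hdodd, h8⟩ x hxΩ ⟨z, hz⟩ hxns
    have hxI := hI x hxΩ
    rw [hsq] at hz
    have hz' : ((x ^ 2 : GL (Fin d ⊕ Fin d) F) : Matrix (Fin d ⊕ Fin d) (Fin d ⊕ Fin d) F) =
        z • (1 : Matrix (Fin d ⊕ Fin d) (Fin d ⊕ Fin d) F) := by rw [hsq, hz]
    rcases Cfsg.Agent.Lib.Helper13.OPb.scalar_eq_of_mem Q hQne (x ^ 2) (Subgroup.pow_mem _ hxI 2) z hz' with h | h
    · -- an involution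
      have hlin : Matrix.toLin' (x : Matrix (Fin d ⊕ Fin d) (Fin d ⊕ Fin d) F) *
          Matrix.toLin' (x : Matrix (Fin d ⊕ Fin d) (Fin d ⊕ Fin d) F) = 1 := by
        apply opb16_toLin_sq_one x
        rw [hz, h, one_smul]
      obtain ⟨W, hWinv, hWnd, hWiso⟩ := H2 h2 hS hV
        (Matrix.toLin' (x : Matrix (Fin d ⊕ Fin d) (Fin d ⊕ Fin d) F)) hlin
        (Cfsg.Agent.Lib.Helper13.OPb.iso_toLin'_of_mem Q x hxI) W₀ ((Cfsg.Agent.Lib.Helper13.OPb.nonDeg_polarBilin_iff Q W₀).mpr hW₀.2)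
        (by rw [hW₀.1, hfr]; omega)
      refine ⟨W, ⟨?_, (Cfsg.Agent.Lib.Helper13.OPb.nonDeg_polarBilin_iff Q W).mp hWnd,
        (Cfsg.Agent.Lib.Helper13.OPb.isoCls_polarBilin_iff h2 Q W W₀).mp hWiso⟩, (Cfsg.Agent.Lib.Helper13.OPb.inv_toLin'_iff _ W).mp hWinv⟩
      obtain ⟨e, -⟩ := hWiso
      rw [e.finrank_eq, hW₀.1]
    · -- square `-1`: impossible
      exfalso
      have hxx : (x : Matrix (Fin d ⊕ Fin d) (Fin d ⊕ Fin d) F) * (x : Matrix (Fin d ⊕ Fin d) (Fin d ⊕ Fin d) F) = -1 := by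
        rw [hz, h, neg_smul, one_smul]
      have hq4 : Fintype.card F % 4 = 1 ∨ Fintype.card F % 4 = 3 := by
        rw [Nat.odd_iff] at hodd
        omega
      rcases hq4 with hq | hq
      · have hxΩ' : x ∈ Cfsg.Geo.omegaGL (Cfsg.quadFormPlus d F) := by rw [← hQc]; exact hxΩ
        rcases Cfsg.Agent.Lib.Helper85.OPb.even_or_mod_eight_of_sq_neg_one hq d x hxΩ' hxx with he | h8'
        · exact (Nat.not_even_iff_odd.mpr hdodd) he
        · exact h8 h8'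
      · have hm1 : ¬ IsSquare (-1 : F) := by
          rw [FiniteField.isSquare_neg_one_iff]
          omega
        have hlin : Matrix.toLin' (x : Matrix (Fin d ⊕ Fin d) (Fin d ⊕ Fin d) F) *
            Matrix.toLin' (x : Matrix (Fin d ⊕ Fin d) (Fin d ⊕ Fin d) F) = -1 := by
          exact opb16_toLin_sq_neg x hxx
        have hiff := Cfsg.Agent.Lib.Helper42.OPb.plus_iff_even_of_sq_neg_one h2 hm1 (QuadraticMap.polarBilin Q) hS hV
          (Matrix.toLin' (x : Matrix (Fin d ⊕ Fin d) (Fin d ⊕ Fin d) F)) hlin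
          (Cfsg.Agent.Lib.Helper13.OPb.iso_toLin'_of_mem Q x hxI) d hfr
        have hplus : Plus (QuadraticMap.polarBilin Q) ⊤ := by
          obtain ⟨X, hX0, hXd⟩ := Cfsg.Agent.Lib.Helper13.OPb.exists_ts_QPlus (F := F) d
          refine ⟨X, le_top, ?_, ?_⟩
          · rw [hQdef]; exact hX0
          · rw [hXd, finrank_top, hfr]
        exact (Nat.not_even_iff_odd.mpr hdodd) (hiff.mp hplus)

end Cfsg.Agent.Lib.Helper40.OPb
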