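import Cfsg.Agent.Lib.Helper40.OPb16
import Cfsg.Agent.Lib.Helper53.OPb2
import Cfsg.Agent.Lib.Helper65.OPb3
import Cfsg.Agent.Lib.Helper61.OPb1

/-!
# K-OPb pack (S5989, architect helper69), leaf 598916 K-OPb-16 (helper40): `case_two`, exact spec signature
-/

set_option autoImplicit false

namespace Cfsg.Agent.Lib.Helper40.OPb

open Module Cfsg.Agent.Lib.Helper98.Elus Cfsg.Agent.Lib.Helper98.Sy Cfsg.Agent.Lib.Helper98.Oh
  Cfsg.Agent.Lib.Helper69.OPb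

universe u
variable {F : Type u} [Field F] {V : Type u} [AddCommGroup V] [Module F V]

/-- LEAF 16 (`r = 2`). -/
theorem case_two [Fintype F] (hodd : Odd (Fintype.card F)) (d m : ℕ) (hd : 4 ≤ d) (hm : Odd m) (hmd : m < d)
    (W₀ : Submodule F (Fin d ⊕ Fin d → F))
    (hW₀ : Module.finrank F ↥W₀ = m ∧
      Cfsg.Geo.IsNondegenerateOn (QuadraticMap.polar (Cfsg.quadFormPlus d F)) W₀) :
    (∀ x : GL (Fin d ⊕ Fin d) F, x ∈ Cfsg.Geo.omegaGL (Cfsg.quadFormPlus d F) →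
      (∃ z : F, ((x ^ 2 : GL (Fin d ⊕ Fin d) F) : Matrix (Fin d ⊕ Fin d) (Fin d ⊕ Fin d) F) = z • (1 : Matrix (Fin d ⊕ Fin d) (Fin d ⊕ Fin d) F)) →
      (∀ z : F, (x : Matrix (Fin d ⊕ Fin d) (Fin d ⊕ Fin d) F) ≠ z • (1 : Matrix (Fin d ⊕ Fin d) (Fin d ⊕ Fin d) F)) →
      ∃ W : Submodule F (Fin d ⊕ Fin d → F), (Module.finrank F ↥W = m ∧ Cfsg.Geo.IsNondegenerateOn (QuadraticMap.polar (Cfsg.quadFormPlus d F)) W ∧ Cfsg.Geo.AreIsometricFor (Cfsg.quadFormPlus d F) W W₀) ∧ W.map (Matrix.toLin' (x : Matrix (Fin d ⊕ Fin d) (Fin d ⊕ Fin d) F)) ≤ W) ↔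
    (Odd d ∧ Fintype.card F % 8 ≠ 1) :=
  case_two_of hodd d m hd hm hmd W₀ hW₀
    (fun h2 hS hV g hg hiso W₁ hW₁ hlt =>
      Cfsg.Agent.Lib.Helper53.OPb.exists_fixed_invol_of h2 _ hS hV g hg hiso W₁ hlt
        (fun U hU hltU => Cfsg.Agent.Lib.Helper61.OPb.exists_sub_isoCls h2 _ hS U hU W₁ hW₁ hltU))
    (fun h2 hS x hx hiso W hW hWnd =>
      Cfsg.Agent.Lib.Helper65.OPb.even_finrank_of_sq_neg_one h2 _ hS x hx hiso W hW hWnd)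

end Cfsg.Agent.Lib.Helper40.OPb
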