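import Cfsg.Agent.Lib.Helper40.R3Gen2
import Cfsg.Agent.Lib.Helper24.FT_F4

/-!
Keystone K-R3-F4 (S1788): the Chevalley group of type F4 in characteristic 2 has 2-rank at least 3
(the three highest roots: pairwise commuting root groups).
-/

set_option autoImplicit false

namespace Cfsg.Agent.Lib.Helper40.R3

open Cfsg.Lie Cfsg.Agent.Lib.Helper24

theorem threeOK_F4 : threeOK chevF4 45 46 47 2 2 3 = true := by decide +kernel

theorem prank_f4 (F : Type) [Field F] [Fintype F] [CharP F 2] :
    Cfsg.PRankAtLeast 2 3 (Cfsg.Lie.chevF4.group F) :=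
  prank_of_threeOK chevF4 (fun r hr => tableOK_F4_all r hr) 45 46 47 2 2 3 threeOK_F4

end Cfsg.Agent.Lib.Helper40.R3
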