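import Cfsg.Agent.Lib.Helper24.AddDef
import Cfsg.Agent.Lib.Helper24.Torus
import Cfsg.Prelude.Def_EvenType

/-!
Generic tool for the pack K-R3 (S1788): three pairwise commuting root groups of a Chevalley group in characteristic 2
give an elementary abelian 2-subgroup of order `|F|^3 ≥ 8`.  Everything about the datum is a Boolean check.
-/

set_option autoImplicit false

namespace Cfsg.Agent.Lib.Helper40.R3

open Cfsg.Lie Cfsg.Agent.Lib.Helper24

/-- the word check `x_r(t) x_s(u) = x_s(u) x_r(t)` -/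
def commCheck (D : ChevalleyDatum) (r s : ℕ) : Bool :=
  checkWordF D false [r, s] [(r, Poly.x0), (s, Poly.x1)] [(s, Poly.x1), (r, Poly.x0)]

/-- the Cartan integer `A_{p_i, r}` is odd -/
def oddCartan (D : ChevalleyDatum) (i r : ℕ) : Bool :=
  decide (i < D.rank) && decide (((D.cartanSR.getD i #[]).getD r 0) % 2 = 1)

/-- all the checks for three roots `r1 r2 r3` and three fundamental indices `i1 i2 i3` -/
def threeOK (D : ChevalleyDatum) (r1 r2 r3 i1 i2 i3 : ℕ) : Bool :=
  decide (r1 < D.nroots) && decide (r2 < D.nroots) && decide (r3 < D.nroots) &&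
  addOK D r1 && addOK D r2 && addOK D r3 &&
  commCheck D r1 r2 && commCheck D r1 r3 && commCheck D r2 r3 &&
  decide (r1 ≠ r2) && decide (r1 ≠ r3) && decide (r2 ≠ r3) &&
  decide (r2 ≠ D.negIdx.getD r1 0) && (D.chainCoeff r1 r2 r1).isEmpty &&
  oddCartan D i1 r1 && oddCartan D i2 r2 && oddCartan D i3 r3

section generic

variable {F : Type*} [Field F] (D : ChevalleyDatum)

theorem x_comm_of_check (hT : TableOK D) (r s : ℕ) (h : commCheck D r s = true) (t u : F) :
    D.x F r t * D.x F s u = D.x F s u * D.x F r t := by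
  have h1 := wordMat_eq_of_checkWordF D t u 1 1 hT false (by simp) [r, s] _ _ h
  simpa [ChevalleyDatum.wordMat, denW] using h1

/-- entry of `x_r(t)` at row `e_u`, column `h_i` -/
theorem x_entry_inr_inl (r : ℕ) (hr : r < D.nroots) (t : F) (u : Fin D.nroots) (i : Fin D.rank) :
    D.x F r t (Sum.inr u) (Sum.inl i) =
      if u.val = r then -(((D.cartanSR.getD i.val #[]).getD r 0 : ℤ) : F) * t else 0 := by
  unfold ChevalleyDatum.x
  rw [dif_pos hr]
  simp only [ChevalleyDatum.xMat, Matrix.of_apply, Fin.ext_iff]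

/-- entry of `x_r(t)` at row `h_j`, column `h_i` -/
theorem x_entry_inl_inl (r : ℕ) (hr : r < D.nroots) (t : F) (j i : Fin D.rank) :
    D.x F r t (Sum.inl j) (Sum.inl i) = if j = i then 1 else 0 := by
  unfold ChevalleyDatum.x
  rw [dif_pos hr]
  simp only [ChevalleyDatum.xMat, Matrix.of_apply]

/-- entry of `x_r(t)` at row `e_r`, column `e_s` with no chain contribution -/
theorem x_entry_inr_inr (r s : ℕ) (hr : r < D.nroots) (hs : s < D.nroots) (hne : s ≠ r)
    (hneg : s ≠ D.negIdx.getD r 0) (hch : (D.chainCoeff r s r).isEmpty = true) (t : F) :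
    D.x F r t (Sum.inr ⟨r, hr⟩) (Sum.inr ⟨s, hs⟩) = 0 := by
  unfold ChevalleyDatum.x
  rw [dif_pos hr]
  have h1 : (⟨s, hs⟩ : Fin D.nroots) ≠ ⟨r, hr⟩ := fun h => hne (Fin.ext_iff.mp h)
  have h2 : (⟨r, hr⟩ : Fin D.nroots) ≠ ⟨s, hs⟩ := fun h => hne (Fin.ext_iff.mp h).symm
  have h3 : D.chainCoeff r s r = [] := List.isEmpty_iff.mp hch
  simp only [ChevalleyDatum.xMat, Matrix.of_apply, if_neg h1, if_neg hneg, if_neg h2, h3, List.map_nil,
    List.sum_nil, add_zero]

/-- column `h_i` of a product `A * x_r(t)` -/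
theorem mul_x_entry_inl (A : Matrix D.Idx D.Idx F) (r : ℕ) (hr : r < D.nroots) (t : F) (row : D.Idx)
    (i : Fin D.rank) :
    (A * D.x F r t) row (Sum.inl i) =
      A row (Sum.inl i) + A row (Sum.inr ⟨r, hr⟩) * (-(((D.cartanSR.getD i.val #[]).getD r 0 : ℤ) : F) * t) := by
  rw [Matrix.mul_apply, Fintype.sum_sum_type]
  congr 1
  · rw [Finset.sum_eq_single i]
    · rw [x_entry_inl_inl D r hr, if_pos rfl, mul_one]
    · intro j _ hj
      rw [x_entry_inl_inl D r hr, if_neg hj, mul_zero]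
    · intro h; exact absurd (Finset.mem_univ i) h
  · rw [Finset.sum_eq_single (⟨r, hr⟩ : Fin D.nroots)]
    · rw [x_entry_inr_inl D r hr, if_pos rfl]
    · intro u _ hu
      have : u.val ≠ r := fun h => hu (Fin.ext h)
      rw [x_entry_inr_inl D r hr, if_neg this, mul_zero]
    · intro h; exact absurd (Finset.mem_univ _) h

end generic

end Cfsg.Agent.Lib.Helper40.R3
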