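import Cfsg.Agent.Lib.Helper40.R3Gen

/-!
Generic tool for the pack K-R3 (S1788), second part: the group theory and the main theorem `prank_of_threeOK`.
-/

set_option autoImplicit false

namespace Cfsg.Agent.Lib.Helper40.R3

open Cfsg.Lie Cfsg.Agent.Lib.Helper24

/-- three pairwise commuting one-parameter groups with independent parameters give `m_2 ≥ 3` -/
theorem prank_of_three_homs {G : Type*} [Group G] {F : Type*} [Field F] [Fintype F] [CharP F 2]
    (H : Subgroup G) (X1 X2 X3 : Multiplicative F →* G)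
    (hm1 : ∀ t, X1 t ∈ H) (hm2 : ∀ t, X2 t ∈ H) (hm3 : ∀ t, X3 t ∈ H)
    (h12 : ∀ t u, Commute (X1 t) (X2 u)) (h13 : ∀ t u, Commute (X1 t) (X3 u))
    (h23 : ∀ t u, Commute (X2 t) (X3 u))
    (hker : ∀ t1 t2 t3, X1 t1 * X2 t2 * X3 t3 = 1 → t1 = 1 ∧ t2 = 1 ∧ t3 = 1) :
    Cfsg.PRankAtLeast 2 3 H := by
  classical
  let ψ0 : (Multiplicative F × Multiplicative F) × Multiplicative F →* G :=
    (X1.noncommCoprod X2 h12).noncommCoprod X3 (fun m n => by
      rw [MonoidHom.noncommCoprod_apply]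
      exact (h13 m.1 n).mul_left (h23 m.2 n))
  have hψ0 : ∀ a, ψ0 a = X1 a.1.1 * X2 a.1.2 * X3 a.2 := fun a => by
    simp only [ψ0, MonoidHom.noncommCoprod_apply]
  let ψ : (Multiplicative F × Multiplicative F) × Multiplicative F →* H :=
    ψ0.codRestrict H (fun a => by
      rw [hψ0]; exact mul_mem (mul_mem (hm1 _) (hm2 _)) (hm3 _))
  have hinj : Function.Injective ψ := by
    rw [injective_iff_map_eq_one]
    intro a ha
    have h1 : ψ0 a = 1 := congrArg Subtype.val ha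
    rw [hψ0] at h1
    obtain ⟨e1, e2, e3⟩ := hker _ _ _ h1
    exact Prod.ext (Prod.ext e1 e2) e3
  have hsq : ∀ t : Multiplicative F, t ^ 2 = 1 := fun t => by
    rw [pow_two]
    exact Multiplicative.toAdd.injective (CharTwo.add_self_eq_zero (Multiplicative.toAdd t))
  refine ⟨ψ.range, ⟨⟨?_⟩⟩, ?_, ?_⟩
  · rintro ⟨_, a, rfl⟩ ⟨_, b, rfl⟩
    apply Subtype.ext
    change ψ a * ψ b = ψ b * ψ a
    rw [← map_mul, ← map_mul, mul_comm]
  · rintro _ ⟨a, rfl⟩
    have ha : a ^ 2 = 1 := Prod.ext (Prod.ext (hsq _) (hsq _)) (hsq _)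
    rw [← map_pow, ha, map_one]
  · rw [← Nat.card_congr (MonoidHom.ofInjective hinj).toEquiv, Nat.card_prod, Nat.card_prod,
      Nat.card_eq_fintype_card, Fintype.card_multiplicative]
    have h2 : 2 ≤ Fintype.card F := Fintype.one_lt_card
    calc 2 ^ 3 = 2 * 2 * 2 := by norm_num
      _ ≤ Fintype.card F * Fintype.card F * Fintype.card F :=
        Nat.mul_le_mul (Nat.mul_le_mul h2 h2) h2

section datum

variable {F : Type*} [Field F] (D : ChevalleyDatum)

/-- `x_r(t)` in the general linear group, as a one-parameter group -/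
def xHom (hT : TableOK D) (r : ℕ) (ha : addOK D r = true) : Multiplicative F →* GL D.Idx F where
  toFun t := ⟨D.x F r (Multiplicative.toAdd t), D.x F r (-(Multiplicative.toAdd t)),
    by rw [x_add_of_addOK D hT r ha, add_neg_cancel, x_zero],
    by rw [x_add_of_addOK D hT r ha, neg_add_cancel, x_zero]⟩
  map_one' := Units.ext (x_zero D r)
  map_mul' a b := Units.ext (x_add_of_addOK D hT r ha _ _).symm

theorem xHom_val (hT : TableOK D) (r : ℕ) (ha : addOK D r = true) (t : Multiplicative F) :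
    ((xHom (F := F) D hT r ha t : GL D.Idx F) : Matrix D.Idx D.Idx F) = D.x F r (Multiplicative.toAdd t) := rfl

theorem xHom_mem (hT : TableOK D) (r : ℕ) (hr : r < D.nroots) (ha : addOK D r = true) (t : Multiplicative F) :
    xHom (F := F) D hT r ha t ∈ D.group F := by
  apply Subgroup.subset_closure
  refine ⟨⟨r, hr⟩, Multiplicative.toAdd t, ?_⟩
  rw [xHom_val]
  unfold ChevalleyDatum.x
  rw [dif_pos hr]

theorem odd_cast_mul_eq_zero [CharP F 2] (c : ℤ) (hc : c % 2 = 1) (t : F) (h : -((c : ℤ) : F) * t = 0) :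
    t = 0 := by
  have h2 : ((2 : ℤ) : F) = 0 := by
    have : ((2 : ℕ) : F) = 0 := CharP.cast_eq_zero F 2
    exact_mod_cast this
  have hc' : c = 2 * (c / 2) + 1 := by omega
  have h3 : ((c : ℤ) : F) = 1 := by
    rw [hc', Int.cast_add, Int.cast_mul, h2, zero_mul, zero_add, Int.cast_one]
  rw [h3] at h
  simpa using h

/-- the main theorem: the checks `threeOK` give `m_2 ≥ 3` in characteristic 2 -/
theorem prank_of_threeOK [Fintype F] [CharP F 2] (hT : TableOK D) (r1 r2 r3 i1 i2 i3 : ℕ)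
    (h : threeOK D r1 r2 r3 i1 i2 i3 = true) : Cfsg.PRankAtLeast 2 3 (D.group F) := by
  simp only [threeOK, oddCartan, Bool.and_eq_true, decide_eq_true_eq] at h
  obtain ⟨⟨⟨⟨⟨⟨⟨⟨⟨⟨⟨⟨⟨⟨⟨⟨hr1, hr2⟩, hr3⟩, ha1⟩, ha2⟩, ha3⟩, hc12⟩, hc13⟩, hc23⟩, hn12⟩, hn13⟩, hn23⟩, hneg⟩, hch⟩,
    ⟨hi1, ho1⟩⟩, ⟨hi2, ho2⟩⟩, ⟨hi3, ho3⟩⟩ := h
  refine prank_of_three_homs (F := F) (D.group F) (xHom D hT r1 ha1) (xHom D hT r2 ha2) (xHom D hT r3 ha3)
    (xHom_mem D hT r1 hr1 ha1) (xHom_mem D hT r2 hr2 ha2) (xHom_mem D hT r3 hr3 ha3) ?_ ?_ ?_ ?_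
  · intro t u; exact Units.ext (x_comm_of_check D hT r1 r2 hc12 _ _)
  · intro t u; exact Units.ext (x_comm_of_check D hT r1 r3 hc13 _ _)
  · intro t u; exact Units.ext (x_comm_of_check D hT r2 r3 hc23 _ _)
  · intro t1 t2 t3 h1
    -- the matrix identity
    have hm : D.x F r1 (Multiplicative.toAdd t1) * D.x F r2 (Multiplicative.toAdd t2) *
        D.x F r3 (Multiplicative.toAdd t3) = 1 := by
      have := congrArg (fun g : GL D.Idx F => (g : Matrix D.Idx D.Idx F)) h1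
      simpa only [Units.val_mul, xHom_val, Units.val_one] using this
    have hm2 : D.x F r1 (Multiplicative.toAdd t1) * D.x F r2 (Multiplicative.toAdd t2) =
        D.x F r3 (-(Multiplicative.toAdd t3)) := by
      have := congrArg (· * D.x F r3 (-(Multiplicative.toAdd t3))) hm
      simp only [Matrix.mul_assoc, x_add_of_addOK D hT r3 ha3, add_neg_cancel, x_zero, Matrix.mul_one,
        Matrix.one_mul] at this
      exact this
    -- first parameter
    have e1 := congrFun (congrFun hm2 (Sum.inr ⟨r1, hr1⟩)) (Sum.inl ⟨i1, hi1⟩)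
    rw [mul_x_entry_inl D _ r2 hr2, x_entry_inr_inl D r1 hr1, x_entry_inr_inl D r3 hr3, if_pos rfl,
      if_neg (show (⟨r1, hr1⟩ : Fin D.nroots).val ≠ r3 from hn13),
      x_entry_inr_inr D r1 r2 hr1 hr2 (Ne.symm hn12) hneg hch, zero_mul, add_zero] at e1
    have ht1 : Multiplicative.toAdd t1 = 0 := odd_cast_mul_eq_zero _ ho1 _ e1
    -- second parameter
    rw [ht1, x_zero, Matrix.one_mul] at hm2
    have e2 := congrFun (congrFun hm2 (Sum.inr ⟨r2, hr2⟩)) (Sum.inl ⟨i2, hi2⟩)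
    rw [x_entry_inr_inl D r2 hr2, x_entry_inr_inl D r3 hr3, if_pos rfl,
      if_neg (show (⟨r2, hr2⟩ : Fin D.nroots).val ≠ r3 from hn23)] at e2
    have ht2 : Multiplicative.toAdd t2 = 0 := odd_cast_mul_eq_zero _ ho2 _ e2
    -- third parameter
    rw [ht1, ht2, x_zero, x_zero, Matrix.one_mul, Matrix.one_mul] at hm
    have e3 := congrFun (congrFun hm (Sum.inr ⟨r3, hr3⟩)) (Sum.inl ⟨i3, hi3⟩)
    rw [x_entry_inr_inl D r3 hr3, if_pos rfl, Matrix.one_apply_ne (by simp)] at e3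
    have ht3 : Multiplicative.toAdd t3 = 0 := odd_cast_mul_eq_zero _ ho3 _ e3
    exact ⟨Multiplicative.toAdd.injective ht1, Multiplicative.toAdd.injective ht2,
      Multiplicative.toAdd.injective ht3⟩

end datum

end Cfsg.Agent.Lib.Helper40.R3
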