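import Mathlib
import Cfsg.Agent.Lib.Helper49.RSU3Defs

/-!
# K-RSU3 pack (S2283), leaf L18: `word_five`

`q = 5`, `μ` of order `6` in `F_25`: `μ^2 - μ + 1 = 0`, `5 = 0`.  With `v = u * hh * zz` the word
`W = (u*u*v)⁻¹ * (v⁻¹ * hh * v * v)` is upper triangular with `W00 / W11 = 3 + 4μ`, not in `F_5`.
All matrix entries are written `a + b * μ`; every entry identity is a `linear_combination` of
`μ^2 - μ + 1 = 0` and `5 = 0`.
-/

set_option autoImplicit false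
set_option linter.unusedSectionVars false
set_option linter.unusedVariables false

namespace Cfsg.Agent.Lib.Helper40.RSU3

open Matrix Cfsg.Agent.Lib.Helper49.StSU Cfsg.Agent.Lib.Helper49.RSU3

variable {F : Type*} [Field F] [Fintype F] {q : ℕ}

/-- a 3x3 matrix from its nine entries -/
def m3 (a b c d e f g h i : F) : Matrix (Fin 3) (Fin 3) F := !![a, b, c; d, e, f; g, h, i]

theorem m3_mul (a1 a2 a3 a4 a5 a6 a7 a8 a9 b1 b2 b3 b4 b5 b6 b7 b8 b9 : F) :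
    m3 a1 a2 a3 a4 a5 a6 a7 a8 a9 * m3 b1 b2 b3 b4 b5 b6 b7 b8 b9 =
      m3 (a1 * b1 + a2 * b4 + a3 * b7) (a1 * b2 + a2 * b5 + a3 * b8) (a1 * b3 + a2 * b6 + a3 * b9)
         (a4 * b1 + a5 * b4 + a6 * b7) (a4 * b2 + a5 * b5 + a6 * b8) (a4 * b3 + a5 * b6 + a6 * b9)
         (a7 * b1 + a8 * b4 + a9 * b7) (a7 * b2 + a8 * b5 + a9 * b8)
         (a7 * b3 + a8 * b6 + a9 * b9) := by
  unfold m3
  exact Matrix.mul_fin_three ..

theorem m3_congr {a1 a2 a3 a4 a5 a6 a7 a8 a9 b1 b2 b3 b4 b5 b6 b7 b8 b9 : F}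
    (h1 : a1 = b1) (h2 : a2 = b2) (h3 : a3 = b3) (h4 : a4 = b4) (h5 : a5 = b5) (h6 : a6 = b6)
    (h7 : a7 = b7) (h8 : a8 = b8) (h9 : a9 = b9) :
    m3 a1 a2 a3 a4 a5 a6 a7 a8 a9 = m3 b1 b2 b3 b4 b5 b6 b7 b8 b9 := by
  subst h1 h2 h3 h4 h5 h6 h7 h8 h9
  rfl

theorem of_eq_m3 {a1 a2 a3 a4 a5 a6 a7 a8 a9 b1 b2 b3 b4 b5 b6 b7 b8 b9 : F}
    (h1 : a1 = b1) (h2 : a2 = b2) (h3 : a3 = b3) (h4 : a4 = b4) (h5 : a5 = b5) (h6 : a6 = b6)
    (h7 : a7 = b7) (h8 : a8 = b8) (h9 : a9 = b9) :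
    (!![a1, a2, a3; a4, a5, a6; a7, a8, a9] : Matrix (Fin 3) (Fin 3) F) =
      m3 b1 b2 b3 b4 b5 b6 b7 b8 b9 := by
  subst h1 h2 h3 h4 h5 h6 h7 h8 h9
  rfl

/-- L18 -/
theorem word_five (hq5 : q = 5) (hF : Fintype.card F = q ^ 2) (μ : F) (hμ : orderOf μ = q + 1)
    (u hh zz : GJ 3 F q) (hu : mat u = xM q 1 (bet μ)) (hhm : mat hh = hM q μ)
    (hz : mat zz = yM q 0 (bz μ))
    (hhH : hh ∈ Subgroup.closure ({u, u * hh * zz} : Set (GJ 3 F q))) :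
    ∃ W : GJ 3 F q, W ∈ Subgroup.closure ({u, u * hh * zz} : Set (GJ 3 F q)) ∧
      mat W 1 0 = 0 ∧ mat W 2 0 = 0 ∧ mat W 2 1 = 0 ∧
      (mat W 0 0 / mat W 1 1) ^ 5 ≠ mat W 0 0 / mat W 1 1 := by
  subst hq5
  -- the characteristic
  have h25 : ((25 : ℕ) : F) = 0 := by
    have h := Nat.cast_card_eq_zero F
    rw [hF] at h
    exact h
  have h5 : (5 : F) = 0 := by
    have h : (5 : F) ^ 2 = 0 := by
      have : ((25 : ℕ) : F) = (5 : F) ^ 2 := by norm_num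
      rw [← this]; exact h25
    exact pow_eq_zero_iff (two_ne_zero) |>.1 h
  -- the minimal polynomial of μ
  have hμ6 : μ ^ 6 = 1 := by
    have := pow_orderOf_eq_one μ
    rw [hμ] at this
    exact this
  have hμ0 : μ ≠ 0 := by
    rintro rfl
    norm_num at hμ6
  have hμ2ne : μ ^ 2 ≠ 1 := by
    intro h
    have := orderOf_dvd_of_pow_eq_one h
    rw [hμ] at this
    omega
  have hμ3ne : μ ^ 3 ≠ 1 := by
    intro h
    have := orderOf_dvd_of_pow_eq_one h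
    rw [hμ] at this
    omega
  have hμ1 : μ - 1 ≠ 0 := by
    intro h
    apply hμ2ne
    have : μ = 1 := by linear_combination h
    rw [this]; norm_num
  have hμm1 : μ + 1 ≠ 0 := by
    intro h
    apply hμ2ne
    have : μ = -1 := by linear_combination h
    rw [this]; norm_num
  have hμ2 : μ ^ 2 - μ + 1 = 0 := by
    have h : (μ ^ 3 - 1) * ((μ + 1) * (μ ^ 2 - μ + 1)) = 0 := by
      linear_combination hμ6
    rcases mul_eq_zero.1 h with h | h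
    · exact absurd (by linear_combination h) hμ3ne
    · rcases mul_eq_zero.1 h with h | h
      · exact absurd h hμm1
      · exact h
  have hinv : μ⁻¹ = 1 - μ := by
    rw [inv_eq_iff_eq_inv, eq_comm, inv_eq_of_mul_eq_one_left]
    linear_combination ((-1) * μ ^ 0) * hμ2
  have hμ5 : μ ^ 5 = 1 - μ := by
    linear_combination ((-1) * μ ^ 0 + (1) * μ ^ 2 + (1) * μ ^ 3) * hμ2 + ((0) + (0) * μ) * h5
  have h1μ : (1 : F) - μ ≠ 0 := by
    intro h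
    apply hμ1
    linear_combination (-1) * h
  have hbet : bet μ = 4 + 1 * μ := by
    unfold bet
    rw [div_eq_iff (mul_ne_zero hμ1 (pow_ne_zero 3 hμm1))]
    linear_combination ((-5) * μ ^ 0 + (-14) * μ ^ 1 + (-7) * μ ^ 2 + (-1) * μ ^ 3) * hμ2 + ((2) + (4) * μ) * h5
  have hbz : bz μ = 2 + 1 * μ := by
    unfold bz
    rw [hinv]
    linear_combination ((4) * μ ^ 0 + (-8) * μ ^ 1) * hμ2 + ((-1) + (1) * μ) * h5
  have hh11 : μ ^ 5 / μ = 0 + 4 * μ := by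
    rw [hμ5, div_eq_iff hμ0]
    linear_combination ((-4) * μ ^ 0) * hμ2 + ((1) + (-1) * μ) * h5
  have hh22 : 1 / μ ^ 5 = 0 + 1 * μ := by
    rw [hμ5, div_eq_iff h1μ]
    linear_combination ((1) * μ ^ 0) * hμ2 + ((0) + (0) * μ) * h5
  have e1 : m3 (1 + 0 * μ) (1 + 0 * μ) (4 + 1 * μ) (0 + 0 * μ) (1 + 0 * μ) (4 + 0 * μ) (0 + 0 * μ) (0 + 0 * μ) (1 + 0 * μ) *
      m3 (0 + 1 * μ) (0 + 0 * μ) (0 + 0 * μ) (0 + 0 * μ) (0 + 4 * μ) (0 + 0 * μ) (0 + 0 * μ) (0 + 0 * μ) (0 + 1 * μ) =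
      m3 (0 + 1 * μ) (0 + 4 * μ) (4 + 0 * μ) (0 + 0 * μ) (0 + 4 * μ) (0 + 4 * μ) (0 + 0 * μ) (0 + 0 * μ) (0 + 1 * μ) := by
    rw [m3_mul]
    exact m3_congr
      (by linear_combination (0) * hμ2 + ((0) + (0) * μ) * h5)
      (by linear_combination (0) * hμ2 + ((0) + (0) * μ) * h5)
      (by linear_combination (1) * hμ2 + ((-1) + (1) * μ) * h5)
      (by linear_combination (0) * hμ2 + ((0) + (0) * μ) * h5)
      (by linear_combination (0) * hμ2 + ((0) + (0) * μ) * h5)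
      (by linear_combination (0) * hμ2 + ((0) + (0) * μ) * h5)
      (by linear_combination (0) * hμ2 + ((0) + (0) * μ) * h5)
      (by linear_combination (0) * hμ2 + ((0) + (0) * μ) * h5)
      (by linear_combination (0) * hμ2 + ((0) + (0) * μ) * h5)
  have e2 : m3 (0 + 1 * μ) (0 + 4 * μ) (4 + 0 * μ) (0 + 0 * μ) (0 + 4 * μ) (0 + 4 * μ) (0 + 0 * μ) (0 + 0 * μ) (0 + 1 * μ) *
      m3 (1 + 0 * μ) (0 + 0 * μ) (0 + 0 * μ) (0 + 0 * μ) (1 + 0 * μ) (0 + 0 * μ) (2 + 1 * μ) (0 + 0 * μ) (1 + 0 * μ) =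
      m3 (3 + 0 * μ) (0 + 4 * μ) (4 + 0 * μ) (1 + 2 * μ) (0 + 4 * μ) (0 + 4 * μ) (4 + 3 * μ) (0 + 0 * μ) (0 + 1 * μ) := by
    rw [m3_mul]
    exact m3_congr
      (by linear_combination (0) * hμ2 + ((1) + (1) * μ) * h5)
      (by linear_combination (0) * hμ2 + ((0) + (0) * μ) * h5)
      (by linear_combination (0) * hμ2 + ((0) + (0) * μ) * h5)
      (by linear_combination (4) * hμ2 + ((-1) + (2) * μ) * h5)
      (by linear_combination (0) * hμ2 + ((0) + (0) * μ) * h5)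
      (by linear_combination (0) * hμ2 + ((0) + (0) * μ) * h5)
      (by linear_combination (1) * hμ2 + ((-1) + (0) * μ) * h5)
      (by linear_combination (0) * hμ2 + ((0) + (0) * μ) * h5)
      (by linear_combination (0) * hμ2 + ((0) + (0) * μ) * h5)
  have e3 : m3 (3 + 0 * μ) (0 + 4 * μ) (4 + 0 * μ) (1 + 2 * μ) (0 + 4 * μ) (0 + 4 * μ) (4 + 3 * μ) (0 + 0 * μ) (0 + 1 * μ) *
      m3 (1 + 0 * μ) (1 + 0 * μ) (4 + 1 * μ) (0 + 0 * μ) (1 + 0 * μ) (4 + 0 * μ) (0 + 0 * μ) (0 + 0 * μ) (1 + 0 * μ) =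
      m3 (3 + 0 * μ) (3 + 4 * μ) (1 + 4 * μ) (1 + 2 * μ) (1 + 1 * μ) (2 + 1 * μ) (4 + 3 * μ) (4 + 3 * μ) (3 + 0 * μ) := by
    rw [m3_mul]
    exact m3_congr
      (by linear_combination (0) * hμ2 + ((0) + (0) * μ) * h5)
      (by linear_combination (0) * hμ2 + ((0) + (0) * μ) * h5)
      (by linear_combination (0) * hμ2 + ((3) + (3) * μ) * h5)
      (by linear_combination (0) * hμ2 + ((0) + (0) * μ) * h5)
      (by linear_combination (0) * hμ2 + ((0) + (1) * μ) * h5)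
      (by linear_combination (2) * hμ2 + ((0) + (6) * μ) * h5)
      (by linear_combination (0) * hμ2 + ((0) + (0) * μ) * h5)
      (by linear_combination (0) * hμ2 + ((0) + (0) * μ) * h5)
      (by linear_combination (3) * hμ2 + ((2) + (4) * μ) * h5)
  have e4 : m3 (3 + 0 * μ) (3 + 4 * μ) (1 + 4 * μ) (1 + 2 * μ) (1 + 1 * μ) (2 + 1 * μ) (4 + 3 * μ) (4 + 3 * μ) (3 + 0 * μ) *
      m3 (1 + 0 * μ) (1 + 0 * μ) (4 + 1 * μ) (0 + 0 * μ) (1 + 0 * μ) (4 + 0 * μ) (0 + 0 * μ) (0 + 0 * μ) (1 + 0 * μ) =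
      m3 (3 + 0 * μ) (1 + 4 * μ) (0 + 3 * μ) (1 + 2 * μ) (2 + 3 * μ) (3 + 1 * μ) (4 + 3 * μ) (3 + 1 * μ) (2 + 1 * μ) := by
    rw [m3_mul]
    exact m3_congr
      (by linear_combination (0) * hμ2 + ((0) + (0) * μ) * h5)
      (by linear_combination (0) * hμ2 + ((1) + (0) * μ) * h5)
      (by linear_combination (0) * hμ2 + ((5) + (4) * μ) * h5)
      (by linear_combination (0) * hμ2 + ((0) + (0) * μ) * h5)
      (by linear_combination (0) * hμ2 + ((0) + (0) * μ) * h5)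
      (by linear_combination (2) * hμ2 + ((1) + (3) * μ) * h5)
      (by linear_combination (0) * hμ2 + ((0) + (0) * μ) * h5)
      (by linear_combination (0) * hμ2 + ((1) + (1) * μ) * h5)
      (by linear_combination (3) * hμ2 + ((6) + (6) * μ) * h5)
  have e5 : m3 (3 + 0 * μ) (1 + 4 * μ) (0 + 3 * μ) (1 + 2 * μ) (2 + 3 * μ) (3 + 1 * μ) (4 + 3 * μ) (3 + 1 * μ) (2 + 1 * μ) *
      m3 (3 + 0 * μ) (0 + 4 * μ) (4 + 0 * μ) (1 + 2 * μ) (0 + 4 * μ) (0 + 4 * μ) (4 + 3 * μ) (0 + 0 * μ) (0 + 1 * μ) =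
      m3 (3 + 0 * μ) (4 + 2 * μ) (3 + 3 * μ) (3 + 0 * μ) (0 + 2 * μ) (1 + 2 * μ) (3 + 1 * μ) (4 + 4 * μ) (1 + 1 * μ) := by
    rw [m3_mul]
    exact m3_congr
      (by linear_combination (17) * hμ2 + ((-2) + (7) * μ) * h5)
      (by linear_combination (16) * hμ2 + ((-4) + (6) * μ) * h5)
      (by linear_combination (19) * hμ2 + ((-2) + (4) * μ) * h5)
      (by linear_combination (9) * hμ2 + ((1) + (7) * μ) * h5)
      (by linear_combination (20) * hμ2 + ((-4) + (6) * μ) * h5)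
      (by linear_combination (13) * hμ2 + ((-2) + (6) * μ) * h5)
      (by linear_combination (5) * hμ2 + ((3) + (6) * μ) * h5)
      (by linear_combination (16) * hμ2 + ((-4) + (8) * μ) * h5)
      (by linear_combination (5) * hμ2 + ((2) + (6) * μ) * h5)
  have e6 : m3 (0 + 1 * μ) (0 + 0 * μ) (0 + 0 * μ) (0 + 0 * μ) (0 + 4 * μ) (0 + 0 * μ) (0 + 0 * μ) (0 + 0 * μ) (0 + 1 * μ) *
      m3 (3 + 0 * μ) (0 + 4 * μ) (4 + 0 * μ) (1 + 2 * μ) (0 + 4 * μ) (0 + 4 * μ) (4 + 3 * μ) (0 + 0 * μ) (0 + 1 * μ) =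
      m3 (0 + 3 * μ) (1 + 4 * μ) (0 + 4 * μ) (2 + 2 * μ) (4 + 1 * μ) (4 + 1 * μ) (2 + 2 * μ) (0 + 0 * μ) (4 + 1 * μ) := by
    rw [m3_mul]
    exact m3_congr
      (by linear_combination (0) * hμ2 + ((0) + (0) * μ) * h5)
      (by linear_combination (4) * hμ2 + ((-1) + (0) * μ) * h5)
      (by linear_combination (0) * hμ2 + ((0) + (0) * μ) * h5)
      (by linear_combination (8) * hμ2 + ((-2) + (2) * μ) * h5)
      (by linear_combination (16) * hμ2 + ((-4) + (3) * μ) * h5)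
      (by linear_combination (16) * hμ2 + ((-4) + (3) * μ) * h5)
      (by linear_combination (3) * hμ2 + ((-1) + (1) * μ) * h5)
      (by linear_combination (0) * hμ2 + ((0) + (0) * μ) * h5)
      (by linear_combination (1) * hμ2 + ((-1) + (0) * μ) * h5)
  have e7 : m3 (0 + 3 * μ) (1 + 4 * μ) (0 + 4 * μ) (2 + 2 * μ) (4 + 1 * μ) (4 + 1 * μ) (2 + 2 * μ) (0 + 0 * μ) (4 + 1 * μ) *
      m3 (3 + 0 * μ) (0 + 4 * μ) (4 + 0 * μ) (1 + 2 * μ) (0 + 4 * μ) (0 + 4 * μ) (4 + 3 * μ) (0 + 0 * μ) (0 + 1 * μ) =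
      m3 (1 + 1 * μ) (2 + 2 * μ) (0 + 1 * μ) (1 + 1 * μ) (3 + 1 * μ) (3 + 3 * μ) (4 + 0 * μ) (2 + 1 * μ) (2 + 3 * μ) := by
    rw [m3_mul]
    exact m3_congr
      (by linear_combination (20) * hμ2 + ((-4) + (10) * μ) * h5)
      (by linear_combination (28) * hμ2 + ((-6) + (6) * μ) * h5)
      (by linear_combination (20) * hμ2 + ((-4) + (7) * μ) * h5)
      (by linear_combination (5) * hμ2 + ((4) + (7) * μ) * h5)
      (by linear_combination (12) * hμ2 + ((-3) + (7) * μ) * h5)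
      (by linear_combination (5) * hμ2 + ((0) + (6) * μ) * h5)
      (by linear_combination (3) * hμ2 + ((3) + (5) * μ) * h5)
      (by linear_combination (8) * hμ2 + ((-2) + (3) * μ) * h5)
      (by linear_combination (1) * hμ2 + ((1) + (2) * μ) * h5)
  have e8 : m3 (3 + 0 * μ) (4 + 2 * μ) (3 + 3 * μ) (3 + 0 * μ) (0 + 2 * μ) (1 + 2 * μ) (3 + 1 * μ) (4 + 4 * μ) (1 + 1 * μ) *
      m3 (2 + 2 * μ) (2 + 2 * μ) (2 + 1 * μ) (0 + 0 * μ) (1 + 4 * μ) (4 + 1 * μ) (0 + 0 * μ) (0 + 0 * μ) (1 + 1 * μ) =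
      m3 (1 + 1 * μ) (2 + 2 * μ) (0 + 1 * μ) (1 + 1 * μ) (3 + 1 * μ) (3 + 3 * μ) (4 + 0 * μ) (2 + 1 * μ) (2 + 3 * μ) := by
    rw [m3_mul]
    exact m3_congr
      (by linear_combination (0) * hμ2 + ((1) + (1) * μ) * h5)
      (by linear_combination (8) * hμ2 + ((0) + (6) * μ) * h5)
      (by linear_combination (5) * hμ2 + ((4) + (5) * μ) * h5)
      (by linear_combination (0) * hμ2 + ((1) + (1) * μ) * h5)
      (by linear_combination (8) * hμ2 + ((-1) + (3) * μ) * h5)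
      (by linear_combination (4) * hμ2 + ((0) + (3) * μ) * h5)
      (by linear_combination (2) * hμ2 + ((0) + (2) * μ) * h5)
      (by linear_combination (18) * hμ2 + ((-2) + (9) * μ) * h5)
      (by linear_combination (6) * hμ2 + ((3) + (6) * μ) * h5)
  have hU : mat u = m3 (1 + 0 * μ) (1 + 0 * μ) (4 + 1 * μ) (0 + 0 * μ) (1 + 0 * μ) (4 + 0 * μ) (0 + 0 * μ) (0 + 0 * μ) (1 + 0 * μ) := by
    rw [hu]
    unfold xM
    exact of_eq_m3 (by ring) (by ring) (by rw [hbet]) (by ring) (by ring)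
      (by linear_combination (-1) * h5) (by ring) (by ring) (by ring)
  have hH : mat hh = m3 (0 + 1 * μ) (0 + 0 * μ) (0 + 0 * μ) (0 + 0 * μ) (0 + 4 * μ) (0 + 0 * μ) (0 + 0 * μ) (0 + 0 * μ) (0 + 1 * μ) := by
    rw [hhm]
    unfold hM
    exact of_eq_m3 (by ring) (by ring) (by ring) (by ring) hh11 (by ring) (by ring) (by ring) hh22
  have hZ : mat zz = m3 (1 + 0 * μ) (0 + 0 * μ) (0 + 0 * μ) (0 + 0 * μ) (1 + 0 * μ) (0 + 0 * μ) (2 + 1 * μ) (0 + 0 * μ) (1 + 0 * μ) := by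
    rw [hz]
    unfold yM
    exact of_eq_m3 (by ring) (by ring) (by ring) (by ring) (by ring) (by ring) hbz (by ring)
      (by ring)
  set v := u * hh * zz with hv
  have hV : mat v = m3 (3 + 0 * μ) (0 + 4 * μ) (4 + 0 * μ) (1 + 2 * μ) (0 + 4 * μ) (0 + 4 * μ) (4 + 3 * μ) (0 + 0 * μ) (0 + 1 * μ) := by
    rw [hv, mat_mul, mat_mul, hU, hH, hZ, e1, e2]
  have hX : mat (v * u * u * v) = m3 (3 + 0 * μ) (4 + 2 * μ) (3 + 3 * μ) (3 + 0 * μ) (0 + 2 * μ) (1 + 2 * μ) (3 + 1 * μ) (4 + 4 * μ) (1 + 1 * μ) := by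
    rw [mat_mul, mat_mul, mat_mul, hV, hU, e3, e4, e5]
  have hQ : mat (hh * v * v) = m3 (1 + 1 * μ) (2 + 2 * μ) (0 + 1 * μ) (1 + 1 * μ) (3 + 1 * μ) (3 + 3 * μ) (4 + 0 * μ) (2 + 1 * μ) (2 + 3 * μ) := by
    rw [mat_mul, mat_mul, hV, hH, e6, e7]
  have hu' : u ∈ Subgroup.closure ({u, v} : Set (GJ 3 F 5)) :=
    Subgroup.subset_closure (by simp)
  have hv' : v ∈ Subgroup.closure ({u, v} : Set (GJ 3 F 5)) :=
    Subgroup.subset_closure (by simp)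
  have hgrp : (v * u * u * v) * ((u * u * v)⁻¹ * (v⁻¹ * hh * v * v)) = hh * v * v := by
    group
  have hW : mat ((u * u * v)⁻¹ * (v⁻¹ * hh * v * v)) = m3 (2 + 2 * μ) (2 + 2 * μ) (2 + 1 * μ) (0 + 0 * μ) (1 + 4 * μ) (4 + 1 * μ) (0 + 0 * μ) (0 + 0 * μ) (1 + 1 * μ) := by
    have h1 : mat (v * u * u * v) * mat ((u * u * v)⁻¹ * (v⁻¹ * hh * v * v)) =
        mat (v * u * u * v) * m3 (2 + 2 * μ) (2 + 2 * μ) (2 + 1 * μ) (0 + 0 * μ) (1 + 4 * μ) (4 + 1 * μ) (0 + 0 * μ) (0 + 0 * μ) (1 + 1 * μ) := by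
      rw [← mat_mul, hgrp, hQ, hX, e8]
    calc mat ((u * u * v)⁻¹ * (v⁻¹ * hh * v * v))
        = (mat (v * u * u * v)⁻¹ * mat (v * u * u * v)) *
            mat ((u * u * v)⁻¹ * (v⁻¹ * hh * v * v)) := by rw [mat_inv_mul, one_mul]
      _ = mat (v * u * u * v)⁻¹ * (mat (v * u * u * v) *
            mat ((u * u * v)⁻¹ * (v⁻¹ * hh * v * v))) := by rw [Matrix.mul_assoc]
      _ = mat (v * u * u * v)⁻¹ * (mat (v * u * u * v) * m3 (2 + 2 * μ) (2 + 2 * μ) (2 + 1 * μ) (0 + 0 * μ) (1 + 4 * μ) (4 + 1 * μ) (0 + 0 * μ) (0 + 0 * μ) (1 + 1 * μ)) := by rw [h1]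
      _ = (mat (v * u * u * v)⁻¹ * mat (v * u * u * v)) * m3 (2 + 2 * μ) (2 + 2 * μ) (2 + 1 * μ) (0 + 0 * μ) (1 + 4 * μ) (4 + 1 * μ) (0 + 0 * μ) (0 + 0 * μ) (1 + 1 * μ) := by rw [Matrix.mul_assoc]
      _ = m3 (2 + 2 * μ) (2 + 2 * μ) (2 + 1 * μ) (0 + 0 * μ) (1 + 4 * μ) (4 + 1 * μ) (0 + 0 * μ) (0 + 0 * μ) (1 + 1 * μ) := by rw [mat_inv_mul, one_mul]
  refine ⟨(u * u * v)⁻¹ * (v⁻¹ * hh * v * v), ?_, ?_, ?_, ?_, ?_⟩
  · exact mul_mem (inv_mem (mul_mem (mul_mem hu' hu') hv'))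
      (mul_mem (mul_mem (mul_mem (inv_mem hv') hhH) hv') hv')
  · rw [hW]; simp [m3]
  · rw [hW]; simp [m3]
  · rw [hW]; simp [m3]
  · rw [hW]
    have h00 : (m3 (2 + 2 * μ) (2 + 2 * μ) (2 + 1 * μ) (0 + 0 * μ) (1 + 4 * μ) (4 + 1 * μ) (0 + 0 * μ) (0 + 0 * μ) (1 + 1 * μ)) 0 0 = 2 + 2 * μ := by simp [m3]
    have h11 : (m3 (2 + 2 * μ) (2 + 2 * μ) (2 + 1 * μ) (0 + 0 * μ) (1 + 4 * μ) (4 + 1 * μ) (0 + 0 * μ) (0 + 0 * μ) (1 + 1 * μ)) 1 1 = 1 + 4 * μ := by simp [m3]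
    rw [h00, h11]
    have hne : (1 : F) + 4 * μ ≠ 0 := by
      intro h
      apply hμ1
      linear_combination (-1) * h + μ * h5
    have hr : (2 + 2 * μ) / (1 + 4 * μ) = 3 + 4 * μ := by
      rw [div_eq_iff hne]
      linear_combination ((-16) * μ ^ 0) * hμ2 + ((3) + (-6) * μ) * h5
    rw [hr]
    have hr5 : (3 + 4 * μ) ^ 5 = 2 + μ := by
      linear_combination ((9056) * μ ^ 0 + (9600) * μ ^ 1 + (4864) * μ ^ 2 + (1024) * μ ^ 3) * hμ2 + ((-1763) + (215) * μ) * h5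
    rw [hr5]
    intro h
    have h' : 3 * μ + 1 = 0 := by linear_combination (-1) * h
    have : (1 : F) = 0 := by
      linear_combination 18 * hμ2 - 2 * (3 * μ - 4) * h' - 5 * h5
    exact one_ne_zero this

end Cfsg.Agent.Lib.Helper40.RSU3
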