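import Mathlib

set_option autoImplicit false
set_option linter.unusedVariables false
set_option linter.unusedSectionVars false

/-!
# K-RU2 leaf F (S2278): the subfield argument (pure field theory, Mathlib only)
-/

namespace Cfsg.Agent.Lib.Helper40.RU2

open Finset

/-- the multiplier ring of an additive subgroup of a field -/
def ru2fRing {F : Type*} [Field F] (S : AddSubgroup F) : Subring F where
  carrier := {x | ∀ s ∈ S, x * s ∈ S}
  mul_mem' := by
    intro a b ha hb s hs
    rw [mul_assoc]
    exact ha _ (hb _ hs)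
  one_mem' := by
    intro s hs
    simpa using hs
  add_mem' := by
    intro a b ha hb s hs
    rw [add_mul]
    exact S.add_mem (ha _ hs) (hb _ hs)
  zero_mem' := by
    intro s hs
    simp
  neg_mem' := by
    intro a ha s hs
    rw [neg_mul]
    exact S.neg_mem (ha _ hs)

theorem ru2f_mem_ring {F : Type*} [Field F] (S : AddSubgroup F) (x : F) :
    x ∈ ru2fRing S ↔ ∀ s ∈ S, x * s ∈ S := Iff.rfl

/-- the multiplier ring is a subfield when `F` is finite -/
def ru2fField {F : Type*} [Field F] [Fintype F] (S : AddSubgroup F) : Subfield F :=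
  { ru2fRing S with
    inv_mem' := by
      intro x hx
      by_cases hx0 : x = 0
      · subst hx0
        simpa using hx
      · have h1 : x ^ (Fintype.card F - 1) = 1 := FiniteField.pow_card_sub_one_eq_one x hx0
        have hq : 2 ≤ Fintype.card F := Fintype.one_lt_card
        have h2 : x⁻¹ = x ^ (Fintype.card F - 2) := by
          have h3 : x ^ (Fintype.card F - 2) * x = 1 := by
            rw [← pow_succ]
            have : Fintype.card F - 2 + 1 = Fintype.card F - 1 := by omega
            rw [this, h1]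
          exact (eq_inv_of_mul_eq_one_left h3).symm
        rw [h2]
        exact (ru2fRing S).pow_mem hx _ }

theorem ru2f_mem_field {F : Type*} [Field F] [Fintype F] (S : AddSubgroup F) (x : F) :
    x ∈ ru2fField S ↔ ∀ s ∈ S, x * s ∈ S := Iff.rfl

theorem addSubgroup_eq_top {F : Type*} [Field F] [Fintype F] (h4 : Fintype.card F ≠ 4) {l : F} (hl0 : l ≠ 0)
    (hl : ∀ x : F, x ≠ 0 → ∃ k : ℕ, x = l ^ (k + 1))
    (S : AddSubgroup F) (hS : ∀ s ∈ S, l⁻¹ ^ 3 * s ∈ S) (hne : ∃ s ∈ S, s ≠ 0) : S = ⊤ := by
  classical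
  set K : Subfield F := ru2fField S with hK
  have hc : l⁻¹ ^ 3 ∈ K := (ru2f_mem_field S _).2 hS
  have hl3 : l ^ 3 ∈ K := by
    have : l ^ 3 = (l⁻¹ ^ 3)⁻¹ := by
      rw [inv_pow, inv_inv]
    rw [this]
    exact K.inv_mem hc
  have hcube : ∀ x : F, x ≠ 0 → x ^ 3 ∈ K := by
    intro x hx
    obtain ⟨k, rfl⟩ := hl x hx
    rw [← pow_mul, mul_comm, pow_mul]
    exact K.pow_mem hl3 _
  -- cardinalities
  haveI : Fintype K := Fintype.ofFinite K
  set q := Fintype.card F with hq
  set r := Fintype.card K with hr
  set m := Module.finrank K F with hm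
  have hqr : q = r ^ m := Module.card_eq_pow_finrank (K := K) (V := F)
  have hq2 : 2 ≤ q := Fintype.one_lt_card
  have hr2 : 2 ≤ r := Fintype.one_lt_card
  -- the cube map
  let s : Finset F := Finset.univ.filter (fun x => x ≠ 0)
  let T : Finset F := ((Finset.univ : Finset K).image (fun y : K => (y : F))).erase 0
  have hTcard : T.card = r - 1 := by
    have h0 : (0 : F) ∈ (Finset.univ : Finset K).image (fun y : K => (y : F)) :=
      Finset.mem_image.2 ⟨0, Finset.mem_univ _, rfl⟩
    rw [Finset.card_erase_of_mem h0, Finset.card_image_of_injective _ Subtype.val_injective,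
      Finset.card_univ]
  have hscard : s.card = q - 1 := by
    have : s = Finset.univ.erase (0 : F) := by
      ext x
      simp [s]
    rw [this, Finset.card_erase_of_mem (Finset.mem_univ _), Finset.card_univ]
  have hmaps : ∀ a ∈ s, (fun x : F => x ^ 3) a ∈ T := by
    intro a ha
    have ha0 : a ≠ 0 := (Finset.mem_filter.1 ha).2
    refine Finset.mem_erase.2 ⟨pow_ne_zero _ ha0, ?_⟩
    exact Finset.mem_image.2 ⟨⟨a ^ 3, hcube a ha0⟩, Finset.mem_univ _, rfl⟩
  have hfib : ∀ b ∈ T, (s.filter (fun a => (fun x : F => x ^ 3) a = b)).card ≤ 3 := by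
    intro b hb
    have hsub : s.filter (fun a => (fun x : F => x ^ 3) a = b) ⊆ (Polynomial.nthRoots 3 b).toFinset := by
      intro a ha
      rw [Multiset.mem_toFinset, Polynomial.mem_nthRoots (by norm_num)]
      exact (Finset.mem_filter.1 ha).2
    calc (s.filter (fun a => (fun x : F => x ^ 3) a = b)).card
        ≤ (Polynomial.nthRoots 3 b).toFinset.card := Finset.card_le_card hsub
      _ ≤ Multiset.card (Polynomial.nthRoots 3 b) := Multiset.toFinset_card_le _
      _ ≤ 3 := Polynomial.card_nthRoots 3 b
  have hineq : q - 1 ≤ 3 * (r - 1) := by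
    have := Finset.card_le_mul_card_image_of_maps_to hmaps 3 hfib
    rwa [hscard, hTcard] at this
  -- m = 1
  have hm1 : m = 1 := by
    rcases Nat.lt_or_ge m 1 with h | h
    · have : m = 0 := by omega
      rw [this, pow_zero] at hqr
      omega
    · rcases Nat.lt_or_ge 1 m with h' | h'
      · exfalso
        have hr2m : r ^ 2 ≤ r ^ m := Nat.pow_le_pow_right (by omega) h'
        have h5 : r ^ 2 - 1 ≤ 3 * (r - 1) := by
          calc r ^ 2 - 1 ≤ r ^ m - 1 := Nat.sub_le_sub_right hr2m 1
            _ = q - 1 := by rw [hqr]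
            _ ≤ 3 * (r - 1) := hineq
        have hr3 : r ≤ 2 := by
          by_contra hcon
          push_neg at hcon
          have : r ^ 2 = r * r := sq r
          nlinarith [Nat.sub_add_cancel (show 1 ≤ r by omega), Nat.sub_add_cancel (show 1 ≤ r ^ 2 by nlinarith)]
        have hr' : r = 2 := by omega
        have hq4 : q ≤ 4 := by
          rw [hr'] at hineq
          omega
        -- q = 2 ^ m with m ≥ 2 and q ≤ 4
        have : (2 : ℕ) ^ 2 ≤ 2 ^ m := Nat.pow_le_pow_right (by norm_num) h'
        rw [hr'] at hqr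
        have : q = 4 := by omega
        exact h4 this
      · omega
  have hcardeq : Fintype.card K = Fintype.card F := by
    rw [← hr, ← hq, hqr, hm1, pow_one]
  have hbij : Function.Bijective (fun y : K => (y : F)) :=
    (Fintype.bijective_iff_injective_and_card _).2 ⟨Subtype.val_injective, hcardeq⟩
  have hall : ∀ x : F, x ∈ K := by
    intro x
    obtain ⟨y, hy⟩ := hbij.2 x
    rw [← hy]
    exact y.2
  obtain ⟨s0, hs0, hs0ne⟩ := hne
  rw [eq_top_iff]
  intro x _
  have hx : x * s0⁻¹ ∈ K := hall _
  have := (ru2f_mem_field S _).1 hx s0 hs0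
  rwa [mul_assoc, inv_mul_cancel₀ hs0ne, mul_one] at this

theorem gen_pow_three_ne_one {F : Type*} [Field F] [Fintype F] (h2 : Fintype.card F ≠ 2)
    (h4 : Fintype.card F ≠ 4) {l : F} (hl0 : l ≠ 0)
    (hl : ∀ x : F, x ≠ 0 → ∃ k : ℕ, x = l ^ (k + 1)) : l ^ 3 ≠ 1 := by
  classical
  intro h3
  -- every power of l is 1, l or l^2
  have hpow : ∀ n : ℕ, l ^ n = 1 ∨ l ^ n = l ∨ l ^ n = l ^ 2 := by
    intro n
    induction n with
    | zero => left; simp
    | succ n ih =>
      rcases ih with h | h | h
      · right; left; rw [pow_succ, h, one_mul]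
      · right; right; rw [pow_succ, h, sq]
      · left; rw [pow_succ, h, ← pow_succ]; exact h3
  have hsub : (Finset.univ : Finset F) ⊆ {0, 1, l, l ^ 2} := by
    intro x _
    by_cases hx : x = 0
    · simp [hx]
    · obtain ⟨k, rfl⟩ := hl x hx
      rcases hpow (k + 1) with h | h | h <;> simp [h]
  have hle : Fintype.card F ≤ 4 := by
    calc Fintype.card F = (Finset.univ : Finset F).card := Finset.card_univ.symm
      _ ≤ ({0, 1, l, l ^ 2} : Finset F).card := Finset.card_le_card hsub
      _ ≤ 4 := Finset.card_le_four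
  have hq2 : 2 ≤ Fintype.card F := Fintype.one_lt_card
  have hq3 : Fintype.card F = 3 := by omega
  have hl2 : l ^ 2 = 1 := by
    have := FiniteField.pow_card_sub_one_eq_one l hl0
    rwa [hq3] at this
  have hl1 : l = 1 := by
    have : l ^ 3 = l ^ 2 * l := pow_succ l 2
    rw [h3, hl2, one_mul] at this
    exact this.symm
  have hsub2 : (Finset.univ : Finset F) ⊆ {0, 1} := by
    intro x _
    by_cases hx : x = 0
    · simp [hx]
    · obtain ⟨k, rfl⟩ := hl x hx
      simp [hl1]
  have hle2 : Fintype.card F ≤ 2 := by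
    calc Fintype.card F = (Finset.univ : Finset F).card := Finset.card_univ.symm
      _ ≤ ({0, 1} : Finset F).card := Finset.card_le_card hsub2
      _ ≤ 2 := Finset.card_le_two
  omega

end Cfsg.Agent.Lib.Helper40.RU2
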