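import Mathlib
import Cfsg.Agent.Lib.Helper40.NilCovDefs

set_option autoImplicit false

namespace Cfsg.Agent.Lib.Helper40.S3894R2

open Matrix Cfsg.Agent.Lib.Helper40.NilCov

variable {F : Type*} [Field F]

theorem add_shift_mulVec (n : ℕ) (v : Fin n → F) (i : Fin n) :
    ((1 + shift n F) *ᵥ v) i = v i + (if h : (i : ℕ) + 1 < n then v ⟨(i : ℕ) + 1, h⟩ else 0) := by
  rw [Matrix.add_mulVec, Matrix.one_mulVec, Pi.add_apply]
  congr 1
  simp only [Matrix.mulVec, dotProduct, shift, Matrix.of_apply]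
  split_ifs with h
  · rw [Finset.sum_eq_single (⟨(i : ℕ) + 1, h⟩ : Fin n)]
    · simp
    · intro j _ hj
      have : ¬ ((i : ℕ) + 1 = (j : ℕ)) := fun e => hj (Fin.ext e.symm)
      simp [this]
    · intro hne; exact absurd (Finset.mem_univ _) hne
  · apply Finset.sum_eq_zero
    intro j _
    have : ¬ ((i : ℕ) + 1 = (j : ℕ)) := fun e => h (by rw [e]; exact j.2)
    simp [this]

/-- K-S3894-R2a.  The only line fixed by `1 + shift` is `F e_0`. -/
theorem shift_fixesLine (n : ℕ) (v : Fin n → F) (h : FixesLine (1 + shift n F) v) :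
    ∀ i : Fin n, (i : ℕ) ≠ 0 → v i = 0 := by
  obtain ⟨c, hc⟩ := h
  by_cases hv : v = 0
  · intro i _; rw [hv]; rfl
  -- the largest index with nonzero entry
  have hex : ∃ m : ℕ, ∃ hm : m < n, v ⟨m, hm⟩ ≠ 0 ∧ ∀ j : Fin n, m < (j : ℕ) → v j = 0 := by
    by_contra hcon
    push_neg at hcon
    apply hv
    -- downward induction
    have key : ∀ k : ℕ, ∀ j : Fin n, n - k ≤ (j : ℕ) → v j = 0 := by
      intro k
      induction k with
      | zero => intro j hj; exact absurd j.2 (by omega)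
      | succ k ih =>
        intro j hj
        by_contra hne
        obtain ⟨j', hj', hj'0⟩ := hcon j j.2 hne
        exact hj'0 (ih j' (by omega))
    funext j
    exact key n j (by omega)
  obtain ⟨m, hm, hvm, hmax⟩ := hex
  have h1 := congrFun hc ⟨m, hm⟩
  rw [add_shift_mulVec] at h1
  have h2 : (if h : m + 1 < n then v ⟨m + 1, h⟩ else 0) = 0 := by
    split_ifs with h
    · exact hmax ⟨m + 1, h⟩ (by simp)
    · rfl
  simp only [] at h1
  rw [h2, add_zero, Pi.smul_apply, smul_eq_mul] at h1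
  have hc1 : c = 1 := by
    have : (c - 1) * v ⟨m, hm⟩ = 0 := by rw [sub_mul, one_mul, ← h1, sub_self]
    rcases mul_eq_zero.1 this with h | h
    · exact sub_eq_zero.1 h
    · exact absurd h hvm
  intro i hi
  have hi' : (i : ℕ) - 1 + 1 = (i : ℕ) := by omega
  have h3 := congrFun hc ⟨(i : ℕ) - 1, by omega⟩
  rw [add_shift_mulVec, hc1, one_smul] at h3
  simp only [] at h3
  have h4 : (i : ℕ) - 1 + 1 < n := by omega
  rw [dif_pos h4] at h3
  have h5 : v ⟨(i : ℕ) - 1 + 1, h4⟩ = 0 := by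
    have := h3
    rwa [add_eq_left] at this
  have : (⟨(i : ℕ) - 1 + 1, h4⟩ : Fin n) = i := Fin.ext hi'
  rw [this] at h5
  exact h5

theorem vecMul_add_shift (n : ℕ) (φ : Fin n → F) (j : Fin n) :
    (φ ᵥ* (1 + shift n F)) j = φ j + (if h : 0 < (j : ℕ) then φ ⟨(j : ℕ) - 1, by omega⟩ else 0) := by
  rw [Matrix.vecMul_add, Matrix.vecMul_one, Pi.add_apply]
  congr 1
  simp only [Matrix.vecMul, dotProduct, shift, Matrix.of_apply]
  split_ifs with h
  · rw [Finset.sum_eq_single (⟨(j : ℕ) - 1, by omega⟩ : Fin n)]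
    · have : (j : ℕ) - 1 + 1 = (j : ℕ) := by omega
      simp [this]
    · intro i _ hi
      have : ¬ ((i : ℕ) + 1 = (j : ℕ)) := fun e => hi (Fin.ext (by simp; omega))
      simp [this]
    · intro hne; exact absurd (Finset.mem_univ _) hne
  · apply Finset.sum_eq_zero
    intro i _
    have : ¬ ((i : ℕ) + 1 = (j : ℕ)) := fun e => h (by omega)
    simp [this]

/-- K-S3894-R2b.  The only row-line fixed by `1 + shift` is `F e_{n-1}ᵀ`. -/
theorem shift_fixesRow (n : ℕ) (φ : Fin n → F) (h : FixesRow (1 + shift n F) φ) :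
    ∀ i : Fin n, (i : ℕ) + 1 ≠ n → φ i = 0 := by
  obtain ⟨c, hc⟩ := h
  by_cases hv : φ = 0
  · intro i _; rw [hv]; rfl
  -- the smallest index with nonzero entry
  have hex : ∃ m : ℕ, ∃ hm : m < n, φ ⟨m, hm⟩ ≠ 0 ∧ ∀ j : Fin n, (j : ℕ) < m → φ j = 0 := by
    by_contra hcon
    push_neg at hcon
    apply hv
    have key : ∀ k : ℕ, ∀ j : Fin n, (j : ℕ) < k → φ j = 0 := by
      intro k
      induction k with
      | zero => intro j hj; exact absurd hj (by omega)
      | succ k ih =>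
        intro j hj
        by_contra hne
        obtain ⟨j', hj', hj'0⟩ := hcon j j.2 hne
        exact hj'0 (ih j' (by omega))
    funext j
    exact key n j j.2
  obtain ⟨m, hm, hvm, hmin⟩ := hex
  have h1 := congrFun hc ⟨m, hm⟩
  rw [vecMul_add_shift] at h1
  have h2 : (if h : 0 < ((⟨m, hm⟩ : Fin n) : ℕ) then φ ⟨((⟨m, hm⟩ : Fin n) : ℕ) - 1, by omega⟩ else 0) = 0 := by
    split_ifs with h
    · exact hmin _ (by simp at h ⊢; omega)
    · rfl
  rw [h2, add_zero, Pi.smul_apply, smul_eq_mul] at h1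
  have hc1 : c = 1 := by
    have : (c - 1) * φ ⟨m, hm⟩ = 0 := by rw [sub_mul, one_mul, ← h1, sub_self]
    rcases mul_eq_zero.1 this with h | h
    · exact sub_eq_zero.1 h
    · exact absurd h hvm
  intro i hi
  have h4 : (i : ℕ) + 1 < n := by have := i.2; omega
  have h3 := congrFun hc ⟨(i : ℕ) + 1, h4⟩
  rw [vecMul_add_shift, hc1, one_smul] at h3
  have h6 : 0 < ((⟨(i : ℕ) + 1, h4⟩ : Fin n) : ℕ) := by simp
  rw [dif_pos h6] at h3
  have h5 := h3
  rw [add_eq_left] at h5
  have : (⟨((⟨(i : ℕ) + 1, h4⟩ : Fin n) : ℕ) - 1, by omega⟩ : Fin n) = i := Fin.ext (by simp)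
  rw [this] at h5
  exact h5

end Cfsg.Agent.Lib.Helper40.S3894R2
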