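import Mathlib
import Cfsg.Agent.Lib.Helper40.NilCovDefs
import Cfsg.Agent.Lib.Helper40.S3894R2
import Cfsg.Agent.Lib.Helper30.S3894_R1
import Cfsg.Agent.Lib.Helper11.S3894_R3
import Cfsg.Agent.Lib.Helper11.S3894_R4
import Cfsg.Agent.Lib.Helper34.S3894_R5
import Cfsg.Agent.Lib.Helper34.S3894_R6
import Cfsg.Agent.Lib.Helper48.S3894_R7
import Cfsg.Agent.Lib.Helper65.S3894_R8
import Cfsg.Agent.Lib.Helper57.S3894_R9
import Cfsg.Agent.Lib.Helper74.S3894_T5
import Cfsg.Agent.Lib.Helper63.S3894_T2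
import Cfsg.Agent.Lib.Helper23.S3894_T3
import Cfsg.Agent.Lib.Helper27.S3894_T4
import Cfsg.Agent.Lib.Helper29.S3894_T6b
import Cfsg.Agent.Lib.Helper65.S3894_T7

set_option autoImplicit false

namespace Cfsg.Agent.Lib.Helper40.S3894Glue

open Matrix Cfsg.Agent.Lib.Helper40.NilCov

/-! ## the abstract swap lemma -/

theorem swap_false {H : Type*} [Group H] (𝓐 : Finset (Subgroup H))
    (hprop : ∀ A ∈ 𝓐, A ≠ ⊤) (hcov : ∀ g : H, ∃ A ∈ 𝓐, g ∈ A)
    (hmin : ∀ 𝓑 : Finset (Subgroup H), (∀ A ∈ 𝓑, A ≠ ⊤) ∧ (∀ g : H, ∃ A ∈ 𝓑, g ∈ A) →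
      𝓐.card ≤ 𝓑.card)
    (Good : H → Prop) (𝓢 : Finset (Subgroup H)) (hS1 : ∀ S ∈ 𝓢, S ≠ ⊤)
    (hS2 : ∀ g, Good g → ∃ S ∈ 𝓢, g ∈ S) (𝓒 : Finset (Subgroup H)) (hC : 𝓒 ⊆ 𝓐)
    (hCg : ∀ A ∈ 𝓒, ∀ g ∈ A, Good g) (hcard : 𝓢.card < 𝓒.card) : False := by
  classical
  have h1 := hmin ((𝓐 \ 𝓒) ∪ 𝓢) ⟨?_, ?_⟩
  · have h2 : ((𝓐 \ 𝓒) ∪ 𝓢).card ≤ (𝓐 \ 𝓒).card + 𝓢.card := Finset.card_union_le _ _
    have h3 : (𝓐 \ 𝓒).card = 𝓐.card - 𝓒.card := Finset.card_sdiff_of_subset hC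
    have h4 : 𝓒.card ≤ 𝓐.card := Finset.card_le_card hC
    omega
  · intro A hA
    rcases Finset.mem_union.1 hA with h | h
    · exact hprop A (Finset.mem_sdiff.1 h).1
    · exact hS1 A h
  · intro g
    obtain ⟨A, hA, hgA⟩ := hcov g
    by_cases hAC : A ∈ 𝓒
    · obtain ⟨S, hS, hgS⟩ := hS2 g (hCg A hAC g hgA)
      exact ⟨S, Finset.mem_union_right _ hS, hgS⟩
    · exact ⟨A, Finset.mem_union_left _ (Finset.mem_sdiff.2 ⟨hA, hAC⟩), hgA⟩

variable {F : Type*} [Field F]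

/-! ## scalars -/

theorem exists_scalar_of_prj_eq {n : ℕ} (g g' : GL (Fin n) F) (h : prj n F g = prj n F g') :
    ∃ c : F, (g' : Matrix (Fin n) (Fin n) F) = c • (g : Matrix (Fin n) (Fin n) F) := by
  have h1 : g⁻¹ * g' ∈ Subgroup.center (GL (Fin n) F) := QuotientGroup.eq.1 h
  obtain ⟨a, ha⟩ := Matrix.GeneralLinearGroup.mem_center_iff_val_mem_range_scalar.1 h1
  refine ⟨a, ?_⟩
  have h2 : (g' : Matrix (Fin n) (Fin n) F) =
      (g : Matrix (Fin n) (Fin n) F) * ((g⁻¹ * g' : GL (Fin n) F) : Matrix (Fin n) (Fin n) F) := by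
    rw [← Matrix.GeneralLinearGroup.coe_mul, mul_inv_cancel_left]
  rw [h2, ← ha, Matrix.scalar_apply, ← Matrix.smul_one_eq_diagonal, Matrix.mul_smul, Matrix.mul_one]

theorem center_le_stabLine {n : ℕ} (v : Fin n → F) :
    Subgroup.center (GL (Fin n) F) ≤ stabLine v := by
  intro z hz
  obtain ⟨a, ha⟩ := Matrix.GeneralLinearGroup.mem_center_iff_val_mem_range_scalar.1 hz
  refine ⟨a, ?_⟩
  rw [← ha]
  simp [Matrix.scalar_apply, Matrix.smul_mulVec]

theorem prj_mem_map_iff {n : ℕ} (S : Subgroup (GL (Fin n) F))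
    (hS : Subgroup.center (GL (Fin n) F) ≤ S) (g : GL (Fin n) F) :
    prj n F g ∈ S.map (prj n F) ↔ g ∈ S := by
  constructor
  · rintro ⟨w, hw, hwg⟩
    have h1 : w⁻¹ * g ∈ Subgroup.center (GL (Fin n) F) := QuotientGroup.eq.1 hwg
    have : g = w * (w⁻¹ * g) := by group
    rw [this]
    exact S.mul_mem hw (hS h1)
  · intro hg
    exact ⟨g, hg, rfl⟩

theorem fixesLine_smul {n : ℕ} {g : Matrix (Fin n) (Fin n) F} {v : Fin n → F} (c : F)
    (h : FixesLine g v) : FixesLine (c • g) v := by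
  obtain ⟨d, hd⟩ := h
  exact ⟨c * d, by rw [Matrix.smul_mulVec, hd, smul_smul]⟩

theorem fixesRow_smul {n : ℕ} {g : Matrix (Fin n) (Fin n) F} {φ : Fin n → F} (c : F)
    (h : FixesRow g φ) : FixesRow (c • g) φ := by
  obtain ⟨d, hd⟩ := h
  exact ⟨c * d, by rw [Matrix.vecMul_smul, hd, smul_smul]⟩

theorem fixesLine_of_smul_vec {n : ℕ} {g : Matrix (Fin n) (Fin n) F} {v : Fin n → F} {a : F}
    (ha : a ≠ 0) (h : FixesLine g (a • v)) : FixesLine g v := by
  obtain ⟨d, hd⟩ := h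
  refine ⟨d, ?_⟩
  rw [Matrix.mulVec_smul, smul_comm] at hd
  have := congrArg (fun w => a⁻¹ • w) hd
  simpa [smul_smul, inv_mul_cancel_left₀ ha, inv_mul_cancel₀ ha] using this

theorem fixesLine_smul_vec {n : ℕ} {g : Matrix (Fin n) (Fin n) F} {v : Fin n → F} (a : F)
    (h : FixesLine g v) : FixesLine g (a • v) := by
  obtain ⟨d, hd⟩ := h
  exact ⟨d, by rw [Matrix.mulVec_smul, hd, smul_comm]⟩

theorem fixesRow_of_smul_vec {n : ℕ} {g : Matrix (Fin n) (Fin n) F} {φ : Fin n → F} {a : F}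
    (ha : a ≠ 0) (h : FixesRow g (a • φ)) : FixesRow g φ := by
  obtain ⟨d, hd⟩ := h
  refine ⟨d, ?_⟩
  rw [Matrix.smul_vecMul, smul_comm] at hd
  have := congrArg (fun w => a⁻¹ • w) hd
  simpa [smul_smul, inv_mul_cancel_left₀ ha, inv_mul_cancel₀ ha] using this

theorem stabLine_smul {n : ℕ} (v : Fin n → F) {a : F} (ha : a ≠ 0) :
    stabLine (a • v) = stabLine v := by
  ext g
  exact ⟨fun h => fixesLine_of_smul_vec ha h, fun h => fixesLine_smul_vec a h⟩

/-! ## K1: a nilpotent overgroup of a regular unipotent fixes its line and its hyperplane -/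

theorem gl_inv_mul_val {n : ℕ} (h : GL (Fin n) F) :
    ((h⁻¹ : GL (Fin n) F) : Matrix (Fin n) (Fin n) F) * (h : Matrix (Fin n) (Fin n) F) = 1 := by
  rw [← Matrix.GeneralLinearGroup.coe_mul, inv_mul_cancel]; rfl

theorem gl_mul_inv_val {n : ℕ} (h : GL (Fin n) F) :
    (h : Matrix (Fin n) (Fin n) F) * ((h⁻¹ : GL (Fin n) F) : Matrix (Fin n) (Fin n) F) = 1 := by
  rw [← Matrix.GeneralLinearGroup.coe_mul, mul_inv_cancel]; rfl

theorem fixes_of_regU {p : ℕ} [Fact p.Prime] [CharP F p] [Fintype F] (n : ℕ) (hn : 0 < n)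
    (u h : GL (Fin n) F)
    (hu : ((h⁻¹ * u * h : GL (Fin n) F) : Matrix (Fin n) (Fin n) F) = 1 + shift n F)
    (A : Subgroup (PGL n F)) (hA : Group.IsNilpotent A) (huA : prj n F u ∈ A)
    (g : GL (Fin n) F) (hg : prj n F g ∈ A) :
    FixesLine (g : Matrix (Fin n) (Fin n) F)
      ((h : Matrix (Fin n) (Fin n) F) *ᵥ Pi.single (⟨0, hn⟩ : Fin n) (1 : F)) ∧
    FixesRow (g : Matrix (Fin n) (Fin n) F)
      (Pi.single (⟨n - 1, by omega⟩ : Fin n) (1 : F) ᵥ*
        ((h⁻¹ : GL (Fin n) F) : Matrix (Fin n) (Fin n) F)) := by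
  have hp : IsPGroup p A :=
    Cfsg.Agent.Lib.Helper11.S3894R3.isPGroup_of_regU (p := p) n (Cfsg.Agent.Lib.Helper30.S3894R1.shift_commute_pow n) (Cfsg.Agent.Lib.Helper40.S3894R2.shift_fixesLine n) u h hu A hA huA
  obtain ⟨P, hP, hPA⟩ := Cfsg.Agent.Lib.Helper11.S3894R4.exists_pgroup_lift n A hp
  have lift : ∀ x : GL (Fin n) F, prj n F x ∈ A → ∃ w ∈ P, ∃ c : F,
      (x : Matrix (Fin n) (Fin n) F) = c • (w : Matrix (Fin n) (Fin n) F) := by
    intro x hx
    rw [← hPA] at hx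
    obtain ⟨w, hw, hwx⟩ := hx
    obtain ⟨c, hc⟩ := exists_scalar_of_prj_eq w x hwx
    exact ⟨w, hw, c, hc⟩
  have huval : (u : Matrix (Fin n) (Fin n) F) =
      (h : Matrix (Fin n) (Fin n) F) * (1 + shift n F) *
        ((h⁻¹ : GL (Fin n) F) : Matrix (Fin n) (Fin n) F) := by
    rw [← hu]
    simp only [Matrix.GeneralLinearGroup.coe_mul]
    rw [← Matrix.mul_assoc, ← Matrix.mul_assoc, gl_mul_inv_val, Matrix.one_mul, Matrix.mul_assoc,
      gl_mul_inv_val, Matrix.mul_one]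
  constructor
  · obtain ⟨v, hv0, hv⟩ := Cfsg.Agent.Lib.Helper34.S3894.exists_fixed_col (p := p) n hn P hP
    have key : ∀ x : GL (Fin n) F, prj n F x ∈ A → FixesLine (x : Matrix (Fin n) (Fin n) F) v := by
      intro x hx
      obtain ⟨w, hw, c, hc⟩ := lift x hx
      rw [hc]
      exact fixesLine_smul c ⟨1, by rw [hv w hw, one_smul]⟩
    have hu' : FixesLine (1 + shift n F)
        (((h⁻¹ : GL (Fin n) F) : Matrix (Fin n) (Fin n) F) *ᵥ v) := by
      obtain ⟨c, hc⟩ := key u huA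
      refine ⟨c, ?_⟩
      rw [huval] at hc
      have := congrArg (fun w => ((h⁻¹ : GL (Fin n) F) : Matrix (Fin n) (Fin n) F) *ᵥ w) hc
      simp only [Matrix.mulVec_mulVec, Matrix.mulVec_smul] at this
      rw [← Matrix.mul_assoc, ← Matrix.mul_assoc, gl_inv_mul_val, Matrix.one_mul] at this
      rw [Matrix.mulVec_mulVec]
      exact this
    have h0 := Cfsg.Agent.Lib.Helper40.S3894R2.shift_fixesLine n _ hu'
    set a : F := (((h⁻¹ : GL (Fin n) F) : Matrix (Fin n) (Fin n) F) *ᵥ v) ⟨0, hn⟩ with ha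
    have h1 : ((h⁻¹ : GL (Fin n) F) : Matrix (Fin n) (Fin n) F) *ᵥ v =
        a • Pi.single (⟨0, hn⟩ : Fin n) (1 : F) := by
      funext i
      by_cases hi : (i : ℕ) = 0
      · have : i = ⟨0, hn⟩ := Fin.ext hi
        subst this
        simp [ha]
      · rw [h0 i hi]
        have : i ≠ ⟨0, hn⟩ := fun e => hi (by rw [e])
        simp [Pi.single_eq_of_ne this]
    have h2 : v = a • ((h : Matrix (Fin n) (Fin n) F) *ᵥ Pi.single (⟨0, hn⟩ : Fin n) (1 : F)) := by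
      have := congrArg (fun w => (h : Matrix (Fin n) (Fin n) F) *ᵥ w) h1
      simp only [Matrix.mulVec_mulVec, gl_mul_inv_val, Matrix.one_mulVec, Matrix.mulVec_smul] at this
      exact this
    have ha0 : a ≠ 0 := by
      intro h0'
      apply hv0
      rw [h2, h0', zero_smul]
    have := key g hg
    rw [h2] at this
    exact fixesLine_of_smul_vec ha0 this
  · obtain ⟨φ, hφ0, hφ⟩ := Cfsg.Agent.Lib.Helper34.S3894.exists_fixed_row (p := p) n hn P hP
    have key : ∀ x : GL (Fin n) F, prj n F x ∈ A → FixesRow (x : Matrix (Fin n) (Fin n) F) φ := by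
      intro x hx
      obtain ⟨w, hw, c, hc⟩ := lift x hx
      rw [hc]
      exact fixesRow_smul c ⟨1, by rw [hφ w hw, one_smul]⟩
    have hu' : FixesRow (1 + shift n F) (φ ᵥ* (h : Matrix (Fin n) (Fin n) F)) := by
      obtain ⟨c, hc⟩ := key u huA
      refine ⟨c, ?_⟩
      rw [huval] at hc
      have := congrArg (fun w => w ᵥ* (h : Matrix (Fin n) (Fin n) F)) hc
      simp only [Matrix.vecMul_vecMul, Matrix.smul_vecMul] at this
      rw [Matrix.mul_assoc, gl_inv_mul_val, Matrix.mul_one] at this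
      rw [Matrix.vecMul_vecMul]
      exact this
    have h0 := Cfsg.Agent.Lib.Helper40.S3894R2.shift_fixesRow n _ hu'
    set a : F := (φ ᵥ* (h : Matrix (Fin n) (Fin n) F)) ⟨n - 1, by omega⟩ with ha
    have h1 : φ ᵥ* (h : Matrix (Fin n) (Fin n) F) =
        a • Pi.single (⟨n - 1, by omega⟩ : Fin n) (1 : F) := by
      funext i
      by_cases hi : (i : ℕ) + 1 = n
      · have : i = ⟨n - 1, by omega⟩ := Fin.ext (by simp; omega)
        rw [this]
        simp [ha]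
      · rw [h0 i hi]
        have : i ≠ ⟨n - 1, by omega⟩ := fun e => hi (by rw [e]; simp; omega)
        simp [Pi.single_eq_of_ne this]
    have h2 : φ = a • (Pi.single (⟨n - 1, by omega⟩ : Fin n) (1 : F) ᵥ*
        ((h⁻¹ : GL (Fin n) F) : Matrix (Fin n) (Fin n) F)) := by
      have := congrArg (fun w => w ᵥ* ((h⁻¹ : GL (Fin n) F) : Matrix (Fin n) (Fin n) F)) h1
      simp only [Matrix.vecMul_vecMul, gl_mul_inv_val, Matrix.vecMul_one, Matrix.smul_vecMul] at this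
      exact this
    have ha0 : a ≠ 0 := by
      intro h0'
      apply hφ0
      rw [h2, h0', zero_smul]
    have := key g hg
    rw [h2] at this
    exact fixesRow_of_smul_vec ha0 this

/-! ## uniqueness of the fixed line / row of a conjugate of `1 + shift` -/

theorem line_unique (n : ℕ) (hn : 0 < n) (h' : GL (Fin n) F) (v : Fin n → F)
    (hfix : FixesLine ((h' : Matrix (Fin n) (Fin n) F) * (1 + shift n F) *
      ((h'⁻¹ : GL (Fin n) F) : Matrix (Fin n) (Fin n) F)) v) :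
    ∃ a : F, v = a • ((h' : Matrix (Fin n) (Fin n) F) *ᵥ Pi.single (⟨0, hn⟩ : Fin n) (1 : F)) := by
  have hu' : FixesLine (1 + shift n F)
      (((h'⁻¹ : GL (Fin n) F) : Matrix (Fin n) (Fin n) F) *ᵥ v) := by
    obtain ⟨c, hc⟩ := hfix
    refine ⟨c, ?_⟩
    have := congrArg (fun w => ((h'⁻¹ : GL (Fin n) F) : Matrix (Fin n) (Fin n) F) *ᵥ w) hc
    simp only [Matrix.mulVec_mulVec, Matrix.mulVec_smul] at this
    rw [← Matrix.mul_assoc, ← Matrix.mul_assoc, gl_inv_mul_val, Matrix.one_mul] at this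
    rw [Matrix.mulVec_mulVec]
    exact this
  have h0 := Cfsg.Agent.Lib.Helper40.S3894R2.shift_fixesLine n _ hu'
  refine ⟨(((h'⁻¹ : GL (Fin n) F) : Matrix (Fin n) (Fin n) F) *ᵥ v) ⟨0, hn⟩, ?_⟩
  have h1 : ((h'⁻¹ : GL (Fin n) F) : Matrix (Fin n) (Fin n) F) *ᵥ v =
      (((h'⁻¹ : GL (Fin n) F) : Matrix (Fin n) (Fin n) F) *ᵥ v) ⟨0, hn⟩ •
        Pi.single (⟨0, hn⟩ : Fin n) (1 : F) := by
    funext i
    by_cases hi : (i : ℕ) = 0
    · have : i = ⟨0, hn⟩ := Fin.ext hi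
      rw [this]
      simp
    · rw [h0 i hi]
      have : i ≠ ⟨0, hn⟩ := fun e => hi (by rw [e])
      simp [Pi.single_eq_of_ne this]
  have := congrArg (fun w => (h' : Matrix (Fin n) (Fin n) F) *ᵥ w) h1
  simp only [Matrix.mulVec_mulVec, gl_mul_inv_val, Matrix.one_mulVec, Matrix.mulVec_smul] at this
  exact this

theorem row_unique (n : ℕ) (hn : 0 < n) (h' : GL (Fin n) F) (φ : Fin n → F)
    (hfix : FixesRow ((h' : Matrix (Fin n) (Fin n) F) * (1 + shift n F) *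
      ((h'⁻¹ : GL (Fin n) F) : Matrix (Fin n) (Fin n) F)) φ) :
    ∃ a : F, φ = a • (Pi.single (⟨n - 1, by omega⟩ : Fin n) (1 : F) ᵥ*
      ((h'⁻¹ : GL (Fin n) F) : Matrix (Fin n) (Fin n) F)) := by
  have hu' : FixesRow (1 + shift n F) (φ ᵥ* (h' : Matrix (Fin n) (Fin n) F)) := by
    obtain ⟨c, hc⟩ := hfix
    refine ⟨c, ?_⟩
    have := congrArg (fun w => w ᵥ* (h' : Matrix (Fin n) (Fin n) F)) hc
    simp only [Matrix.vecMul_vecMul, Matrix.smul_vecMul] at this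
    rw [Matrix.mul_assoc, gl_inv_mul_val, Matrix.mul_one] at this
    rw [Matrix.vecMul_vecMul]
    exact this
  have h0 := Cfsg.Agent.Lib.Helper40.S3894R2.shift_fixesRow n _ hu'
  refine ⟨(φ ᵥ* (h' : Matrix (Fin n) (Fin n) F)) ⟨n - 1, by omega⟩, ?_⟩
  have h1 : φ ᵥ* (h' : Matrix (Fin n) (Fin n) F) =
      (φ ᵥ* (h' : Matrix (Fin n) (Fin n) F)) ⟨n - 1, by omega⟩ •
        Pi.single (⟨n - 1, by omega⟩ : Fin n) (1 : F) := by
    funext i
    by_cases hi : (i : ℕ) + 1 = n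
    · have : i = ⟨n - 1, by omega⟩ := Fin.ext (by simp; omega)
      rw [this]
      simp
    · rw [h0 i hi]
      have : i ≠ ⟨n - 1, by omega⟩ := fun e => hi (by rw [e]; simp; omega)
      simp [Pi.single_eq_of_ne this]
  have := congrArg (fun w => w ᵥ* ((h'⁻¹ : GL (Fin n) F) : Matrix (Fin n) (Fin n) F)) h1
  simp only [Matrix.vecMul_vecMul, gl_mul_inv_val, Matrix.vecMul_one, Matrix.smul_vecMul] at this
  exact this

/-! ## subgroups of `↥G` versus subgroups of `PGL` -/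

theorem nilpotent_map_subtype {H : Type*} [Group H] (G : Subgroup H) (A : Subgroup ↥G)
    (hA : Group.IsNilpotent ↥A) : Group.IsNilpotent ↥(A.map G.subtype) :=
  Group.nilpotent_of_mulEquiv (A.equivMapOfInjective G.subtype G.subtype_injective)

theorem mem_map_subtype_iff {H : Type*} [Group H] (G : Subgroup H) (A : Subgroup ↥G) (x : ↥G) :
    (x : H) ∈ A.map G.subtype ↔ x ∈ A := by
  constructor
  · rintro ⟨y, hy, hyx⟩
    have : y = x := Subtype.ext hyx
    rwa [← this]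
  · intro hx
    exact ⟨x, hx, rfl⟩

/-- the conjugate `h u₀ h⁻¹` of the regular unipotent -/
noncomputable def conjU {n : ℕ} (u₀ : Matrix.SpecialLinearGroup (Fin n) F) (h : GL (Fin n) F) :
    GL (Fin n) F := h * Matrix.SpecialLinearGroup.toGL u₀ * h⁻¹

theorem conjU_conj {n : ℕ} (u₀ : Matrix.SpecialLinearGroup (Fin n) F) (h : GL (Fin n) F) :
    ((h⁻¹ * conjU u₀ h * h : GL (Fin n) F) : Matrix (Fin n) (Fin n) F) =
      (u₀ : Matrix (Fin n) (Fin n) F) := by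
  have : h⁻¹ * conjU u₀ h * h = Matrix.SpecialLinearGroup.toGL u₀ := by
    unfold conjU; group
  rw [this]; rfl

theorem conjU_val {n : ℕ} (u₀ : Matrix.SpecialLinearGroup (Fin n) F) (h : GL (Fin n) F) :
    (conjU u₀ h : Matrix (Fin n) (Fin n) F) = (h : Matrix (Fin n) (Fin n) F) *
      (u₀ : Matrix (Fin n) (Fin n) F) * ((h⁻¹ : GL (Fin n) F) : Matrix (Fin n) (Fin n) F) := by
  unfold conjU
  simp only [Matrix.GeneralLinearGroup.coe_mul]
  rfl

theorem conjU_mem_range {n : ℕ} (u₀ : Matrix.SpecialLinearGroup (Fin n) F) (h : GL (Fin n) F) :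
    conjU u₀ h ∈ (Matrix.SpecialLinearGroup.toGL :
      Matrix.SpecialLinearGroup (Fin n) F →* GL (Fin n) F).range := by
  have hdet : (conjU u₀ h : Matrix (Fin n) (Fin n) F).det = 1 := by
    rw [conjU_val, Matrix.det_mul, Matrix.det_mul, mul_right_comm, ← Matrix.det_mul, gl_mul_inv_val,
      Matrix.det_one, one_mul]
    exact u₀.2
  refine ⟨⟨(conjU u₀ h : Matrix (Fin n) (Fin n) F), hdet⟩, ?_⟩
  apply Units.ext
  rfl

/-! ## common data for a minimal nilpotent cover -/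

section main

variable [Fintype F] {n : ℕ} (G : Subgroup (PGL n F))
  (hG : ((Matrix.SpecialLinearGroup.toGL :
    Matrix.SpecialLinearGroup (Fin n) F →* GL (Fin n) F).range).map (prj n F) ≤ G)

include hG in
theorem prj_sl_mem (s : Matrix.SpecialLinearGroup (Fin n) F) :
    prj n F (Matrix.SpecialLinearGroup.toGL s) ∈ G :=
  hG ⟨_, ⟨s, rfl⟩, rfl⟩

include hG in
theorem prj_conjU_mem (u₀ : Matrix.SpecialLinearGroup (Fin n) F) (h : GL (Fin n) F) :
    prj n F (conjU u₀ h) ∈ G :=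
  hG ⟨_, conjU_mem_range u₀ h, rfl⟩

/-- the subgroup of `↥G` cut out by a subgroup of `GL` -/
noncomputable def cut (S : Subgroup (GL (Fin n) F)) : Subgroup ↥G := (S.map (prj n F)).subgroupOf G

theorem mem_cut_iff (S : Subgroup (GL (Fin n) F)) (hS : Subgroup.center (GL (Fin n) F) ≤ S)
    (g : GL (Fin n) F) (hg : prj n F g ∈ G) : (⟨prj n F g, hg⟩ : ↥G) ∈ cut G S ↔ g ∈ S := by
  unfold cut
  rw [Subgroup.mem_subgroupOf]
  exact prj_mem_map_iff S hS g

include hG in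
theorem cut_stabLine_ne_top (hn : 2 ≤ n) (v : Fin n → F) (hv : v ≠ 0) : cut G (stabLine v) ≠ ⊤ := by
  obtain ⟨s, hs⟩ := Cfsg.Agent.Lib.Helper57.S3894R9.exists_sl_not_fixesLine n hn v hv
  intro htop
  have h1 : (⟨prj n F (Matrix.SpecialLinearGroup.toGL s), prj_sl_mem G hG s⟩ : ↥G) ∈
      cut G (stabLine v) := by rw [htop]; exact Subgroup.mem_top _
  rw [mem_cut_iff G _ (center_le_stabLine v)] at h1
  exact hs h1

end main

/-! ## the case `n ≥ 3` -/

theorem main_ge3 [Fintype F] (n : ℕ) (hn : 3 ≤ n) (G : Subgroup (PGL n F))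
    (hG : ((Matrix.SpecialLinearGroup.toGL :
      Matrix.SpecialLinearGroup (Fin n) F →* GL (Fin n) F).range).map (prj n F) ≤ G)
    (𝓐 : Finset (Subgroup ↥G)) (hprop : ∀ A ∈ 𝓐, A ≠ ⊤) (hcov : ∀ g : ↥G, ∃ A ∈ 𝓐, g ∈ A)
    (hmin : ∀ 𝓑 : Finset (Subgroup ↥G), (∀ A ∈ 𝓑, A ≠ ⊤) ∧ (∀ g : ↥G, ∃ A ∈ 𝓑, g ∈ A) →
      𝓐.card ≤ 𝓑.card)
    (hnil : ∀ A ∈ 𝓐, Group.IsNilpotent ↥A) : False := by
  classical
  obtain ⟨p, hpc⟩ := CharP.exists F
  haveI := hpc
  haveI : Fact p.Prime := ⟨CharP.char_is_prime F p⟩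
  have hn0 : 0 < n := by omega
  obtain ⟨u₀, hu₀⟩ := Cfsg.Agent.Lib.Helper65.S3894.exists_regU (F := F) n
  obtain ⟨w, hw0, hwrow⟩ := Cfsg.Agent.Lib.Helper48.S3894.exists_w (F := F) n hn
  -- the index type of points
  let ι := ↥(Pts n F)
  haveI : Finite ι := Set.finite_coe_iff.2 (Set.toFinite _)
  haveI : Fintype ι := Fintype.ofFinite ι
  -- choices
  have hex : ∀ S : ι, ∃ h : GL (Fin n) F,
      (h : Matrix (Fin n) (Fin n) F) *ᵥ Pi.single (⟨0, hn0⟩ : Fin n) (1 : F) ≠ 0 ∧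
      S.1 = stabLine ((h : Matrix (Fin n) (Fin n) F) *ᵥ Pi.single (⟨0, hn0⟩ : Fin n) (1 : F)) := by
    intro S
    obtain ⟨v, hv0, hSv⟩ := S.2
    obtain ⟨h, hh⟩ := Cfsg.Agent.Lib.Helper34.S3894.exists_gl_mulVec_e0 n hn0 v hv0
    exact ⟨h, by rw [hh]; exact hv0, by rw [hh]; exact hSv⟩
  choose hh hh0 hhS using hex
  have he0 : (Pi.single (⟨0, hn0⟩ : Fin n) (1 : F) : Fin n → F) ≠ 0 := by
    intro h
    have := congrFun h ⟨0, hn0⟩
    simp at this
  let S₀ : ι := ⟨stabLine (Pi.single (⟨0, hn0⟩ : Fin n) (1 : F) : Fin n → F), _, he0, rfl⟩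
  let h₂ : GL (Fin n) F := hh S₀ * w
  have hh₂ : (h₂ : Matrix (Fin n) (Fin n) F) *ᵥ Pi.single (⟨0, hn0⟩ : Fin n) (1 : F) =
      (hh S₀ : Matrix (Fin n) (Fin n) F) *ᵥ Pi.single (⟨0, hn0⟩ : Fin n) (1 : F) := by
    show ((hh S₀ * w : GL (Fin n) F) : Matrix (Fin n) (Fin n) F) *ᵥ _ = _
    rw [Matrix.GeneralLinearGroup.coe_mul, ← Matrix.mulVec_mulVec, hw0]
  -- the chosen conjugating elements, indexed by `Option ι`
  let H : Option ι → GL (Fin n) F := fun o => o.elim h₂ hh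
  have hH0 : ∀ o, (H o : Matrix (Fin n) (Fin n) F) *ᵥ Pi.single (⟨0, hn0⟩ : Fin n) (1 : F) ≠ 0 := by
    intro o
    cases o with
    | none => show (h₂ : Matrix (Fin n) (Fin n) F) *ᵥ _ ≠ 0; rw [hh₂]; exact hh0 S₀
    | some S => exact hh0 S
  -- members
  have hmem : ∀ o : Option ι, ∃ A ∈ 𝓐,
      (⟨prj n F (conjU u₀ (H o)), prj_conjU_mem G hG u₀ (H o)⟩ : ↥G) ∈ A := fun o => hcov _
  choose c hc𝓐 hcmem using hmem
  -- K1 for the members
  have hK1 : ∀ (o : Option ι) (g : GL (Fin n) F) (hg : prj n F g ∈ G), (⟨prj n F g, hg⟩ : ↥G) ∈ c o →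
      FixesLine (g : Matrix (Fin n) (Fin n) F)
        ((H o : Matrix (Fin n) (Fin n) F) *ᵥ Pi.single (⟨0, hn0⟩ : Fin n) (1 : F)) ∧
      FixesRow (g : Matrix (Fin n) (Fin n) F)
        (Pi.single (⟨n - 1, by omega⟩ : Fin n) (1 : F) ᵥ*
          (((H o)⁻¹ : GL (Fin n) F) : Matrix (Fin n) (Fin n) F)) := by
    intro o g hg hgc
    refine fixes_of_regU (p := p) n hn0 (conjU u₀ (H o)) (H o) ?_ ((c o).map G.subtype)
      (nilpotent_map_subtype G _ (hnil _ (hc𝓐 o))) ?_ g ?_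
    · rw [conjU_conj, hu₀]
    · exact (mem_map_subtype_iff G (c o) ⟨_, prj_conjU_mem G hG u₀ (H o)⟩).2 (hcmem o)
    · exact (mem_map_subtype_iff G (c o) ⟨_, hg⟩).2 hgc
  -- injectivity
  have hline : ∀ o o' : Option ι, c o = c o' → ∃ a : F, a ≠ 0 ∧
      (H o : Matrix (Fin n) (Fin n) F) *ᵥ Pi.single (⟨0, hn0⟩ : Fin n) (1 : F) =
        a • ((H o' : Matrix (Fin n) (Fin n) F) *ᵥ Pi.single (⟨0, hn0⟩ : Fin n) (1 : F)) := by
    intro o o' hoo'
    have h1 := (hK1 o (conjU u₀ (H o')) (prj_conjU_mem G hG u₀ (H o')) (by rw [hoo']; exact hcmem o')).1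
    rw [conjU_val, hu₀] at h1
    obtain ⟨a, ha⟩ := line_unique n hn0 (H o') _ h1
    refine ⟨a, ?_, ha⟩
    intro h0
    apply hH0 o
    rw [ha, h0, zero_smul]
  have hinj : Function.Injective c := by
    intro o o' hoo'
    have key : ∀ S : ι, c (some S) ≠ c none := by
      intro S hSn
      obtain ⟨a, ha0, ha⟩ := hline none (some S) hSn.symm
      have hSS₀ : S = S₀ := by
        apply Subtype.ext
        rw [hhS S, hhS S₀]
        have : (H none : Matrix (Fin n) (Fin n) F) *ᵥ Pi.single (⟨0, hn0⟩ : Fin n) (1 : F) =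
            (hh S₀ : Matrix (Fin n) (Fin n) F) *ᵥ Pi.single (⟨0, hn0⟩ : Fin n) (1 : F) := hh₂
        rw [this] at ha
        show stabLine ((hh S : Matrix (Fin n) (Fin n) F) *ᵥ _) = stabLine _
        rw [ha]
        exact (stabLine_smul _ ha0).symm
      subst hSS₀
      -- rows
      have h1 := (hK1 none (conjU u₀ (hh S₀)) (prj_conjU_mem G hG u₀ (hh S₀))
        (by rw [← hSn]; exact hcmem (some S₀))).2
      rw [conjU_val, hu₀] at h1
      obtain ⟨b, hb⟩ := row_unique n hn0 (hh S₀) _ h1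
      apply hwrow
      refine ⟨b, ?_⟩
      have hinv : ((H none)⁻¹ : GL (Fin n) F) = w⁻¹ * (hh S₀)⁻¹ := by
        show (hh S₀ * w)⁻¹ = _
        rw [_root_.mul_inv_rev]
      rw [hinv, Matrix.GeneralLinearGroup.coe_mul, ← Matrix.vecMul_vecMul] at hb
      have := congrArg (fun r => r ᵥ* (hh S₀ : Matrix (Fin n) (Fin n) F)) hb
      simp only [Matrix.vecMul_vecMul, Matrix.smul_vecMul] at this
      rw [Matrix.mul_assoc, gl_inv_mul_val, Matrix.mul_one, Matrix.vecMul_one] at this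
      exact this
    cases o with
    | none =>
      cases o' with
      | none => rfl
      | some S' => exact absurd hoo'.symm (key S')
    | some S =>
      cases o' with
      | none => exact absurd hoo' (key S)
      | some S' =>
        obtain ⟨a, ha0, ha⟩ := hline (some S) (some S') hoo'
        congr 1
        apply Subtype.ext
        rw [hhS S, hhS S']
        show stabLine ((hh S : Matrix (Fin n) (Fin n) F) *ᵥ _) = stabLine ((hh S' : Matrix (Fin n) (Fin n) F) *ᵥ _)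
        rw [show (hh S : Matrix (Fin n) (Fin n) F) *ᵥ Pi.single (⟨0, hn0⟩ : Fin n) (1 : F) =
          a • ((hh S' : Matrix (Fin n) (Fin n) F) *ᵥ Pi.single (⟨0, hn0⟩ : Fin n) (1 : F)) from ha]
        exact stabLine_smul _ ha0
  -- apply the swap lemma
  refine swap_false 𝓐 hprop hcov hmin
    (fun x : ↥G => ∃ g : GL (Fin n) F, prj n F g = x.1 ∧ HasEig (g : Matrix (Fin n) (Fin n) F))
    (Finset.univ.image (fun S : ι => cut G S.1))
    ?_ ?_ (Finset.univ.image c) ?_ ?_ ?_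
  · intro S hS
    obtain ⟨S', -, rfl⟩ := Finset.mem_image.1 hS
    rw [hhS S']
    exact cut_stabLine_ne_top G hG (by omega) _ (hh0 S')
  · rintro ⟨x, hx⟩ ⟨g, hgx, v, hv0, hv⟩
    refine ⟨cut G (stabLine v), Finset.mem_image.2 ⟨⟨stabLine v, v, hv0, rfl⟩, Finset.mem_univ _, rfl⟩, ?_⟩
    have hx' : prj n F g ∈ G := by rw [hgx]; exact hx
    have : (⟨x, hx⟩ : ↥G) = ⟨prj n F g, hx'⟩ := Subtype.ext hgx.symm
    rw [this, mem_cut_iff G _ (center_le_stabLine v)]
    exact hv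
  · intro A hA
    obtain ⟨o, -, rfl⟩ := Finset.mem_image.1 hA
    exact hc𝓐 o
  · intro A hA x hxA
    obtain ⟨o, -, rfl⟩ := Finset.mem_image.1 hA
    obtain ⟨g, hg⟩ := QuotientGroup.mk'_surjective (Subgroup.center (GL (Fin n) F)) x.1
    have hg' : prj n F g ∈ G := by rw [show prj n F g = x.1 from hg]; exact x.2
    have hx' : x = ⟨prj n F g, hg'⟩ := Subtype.ext hg.symm
    refine ⟨g, hg, _, hH0 o, (hK1 o g hg' (by rw [← hx']; exact hxA)).1⟩
  · calc (Finset.univ.image (fun S : ι => cut G S.1)).card ≤ (Finset.univ : Finset ι).card :=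
          Finset.card_image_le
      _ = Fintype.card ι := Finset.card_univ
      _ < Fintype.card (Option ι) := by rw [Fintype.card_option]; omega
      _ = (Finset.univ : Finset (Option ι)).card := Finset.card_univ.symm
      _ = (Finset.univ.image c).card := (Finset.card_image_of_injective _ hinj).symm

/-! ## the case `n = 2` -/

theorem center_le_normK (K : Set (Matrix (Fin 2) (Fin 2) F)) :
    Subgroup.center (GL (Fin 2) F) ≤ normK K := by
  intro z hz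
  obtain ⟨a, ha⟩ := Matrix.GeneralLinearGroup.mem_center_iff_val_mem_range_scalar.1 hz
  rw [mem_normK]
  intro x
  have : (z : Matrix (Fin 2) (Fin 2) F) * x *
      ((z⁻¹ : GL (Fin 2) F) : Matrix (Fin 2) (Fin 2) F) = x := by
    have hcomm : (z : Matrix (Fin 2) (Fin 2) F) * x = x * (z : Matrix (Fin 2) (Fin 2) F) := by
      rw [← ha]
      exact ((Matrix.scalar_commute a (fun r => mul_comm a r)) x).eq
    rw [hcomm, Matrix.mul_assoc, gl_mul_inv_val, Matrix.mul_one]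
  rw [this]

theorem Kset_commute {g x : Matrix (Fin 2) (Fin 2) F} (hx : x ∈ Kset g) : x * g = g * x := by
  obtain ⟨a, b, rfl⟩ := hx
  simp [Matrix.add_mul, Matrix.mul_add]

theorem self_mem_normK (g : GL (Fin 2) F) : g ∈ normK (Kset (g : Matrix (Fin 2) (Fin 2) F)) := by
  rw [mem_normK]
  intro x
  constructor
  · intro hx
    have : (g : Matrix (Fin 2) (Fin 2) F) * x *
        ((g⁻¹ : GL (Fin 2) F) : Matrix (Fin 2) (Fin 2) F) = x := by
      rw [← Kset_commute hx, Matrix.mul_assoc, gl_mul_inv_val, Matrix.mul_one]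
    rw [this]; exact hx
  · intro hy
    have h1 := Kset_commute hy
    have : x = (g : Matrix (Fin 2) (Fin 2) F) * x *
        ((g⁻¹ : GL (Fin 2) F) : Matrix (Fin 2) (Fin 2) F) := by
      have h2 : x = ((g⁻¹ : GL (Fin 2) F) : Matrix (Fin 2) (Fin 2) F) *
          ((g : Matrix (Fin 2) (Fin 2) F) * x *
            ((g⁻¹ : GL (Fin 2) F) : Matrix (Fin 2) (Fin 2) F) * (g : Matrix (Fin 2) (Fin 2) F)) := by
        rw [Matrix.mul_assoc, Matrix.mul_assoc, gl_inv_mul_val, Matrix.mul_one, ← Matrix.mul_assoc,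
          gl_inv_mul_val, Matrix.one_mul]
      rw [h1, ← Matrix.mul_assoc, gl_inv_mul_val, Matrix.one_mul] at h2
      exact h2
    rw [this]; exact hy

theorem isIrr_of_not_hasEig {g : Matrix (Fin 2) (Fin 2) F} (h : ¬ HasEig g) : IsIrr g := by
  intro v hv c hc
  exact h ⟨v, hv, c, hc⟩

theorem not_scalar_of_sq {s : Matrix (Fin 2) (Fin 2) F}
    (hs2 : ∀ a : F, s * s ≠ a • (1 : Matrix (Fin 2) (Fin 2) F)) :
    ∀ a : F, s ≠ a • (1 : Matrix (Fin 2) (Fin 2) F) := by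
  intro a ha
  apply hs2 (a * a)
  rw [ha]
  simp [smul_smul]

theorem main_eq2 [Fintype F] (hq : 4 ≤ Fintype.card F) (G : Subgroup (PGL 2 F))
    (hG : ((Matrix.SpecialLinearGroup.toGL :
      Matrix.SpecialLinearGroup (Fin 2) F →* GL (Fin 2) F).range).map (prj 2 F) ≤ G)
    (𝓐 : Finset (Subgroup ↥G)) (hprop : ∀ A ∈ 𝓐, A ≠ ⊤) (hcov : ∀ g : ↥G, ∃ A ∈ 𝓐, g ∈ A)
    (hmin : ∀ 𝓑 : Finset (Subgroup ↥G), (∀ A ∈ 𝓑, A ≠ ⊤) ∧ (∀ g : ↥G, ∃ A ∈ 𝓑, g ∈ A) →
      𝓐.card ≤ 𝓑.card)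
    (hnil : ∀ A ∈ 𝓐, Group.IsNilpotent ↥A) : False := by
  classical
  obtain ⟨p, hpc⟩ := CharP.exists F
  haveI := hpc
  haveI : Fact p.Prime := ⟨CharP.char_is_prime F p⟩
  haveI : ExpChar F p := ExpChar.prime (Fact.out)
  have hn0 : 0 < 2 := by omega
  obtain ⟨u₀, hu₀⟩ := Cfsg.Agent.Lib.Helper65.S3894.exists_regU (F := F) 2
  -- points
  let ι := ↥(Pts 2 F)
  haveI : Finite ι := Set.finite_coe_iff.2 (Set.toFinite _)
  haveI : Fintype ι := Fintype.ofFinite ι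
  have hex : ∀ S : ι, ∃ h : GL (Fin 2) F,
      (h : Matrix (Fin 2) (Fin 2) F) *ᵥ Pi.single (⟨0, hn0⟩ : Fin 2) (1 : F) ≠ 0 ∧
      S.1 = stabLine ((h : Matrix (Fin 2) (Fin 2) F) *ᵥ Pi.single (⟨0, hn0⟩ : Fin 2) (1 : F)) := by
    intro S
    obtain ⟨v, hv0, hSv⟩ := S.2
    obtain ⟨h, hh⟩ := Cfsg.Agent.Lib.Helper34.S3894.exists_gl_mulVec_e0 2 hn0 v hv0
    exact ⟨h, by rw [hh]; exact hv0, by rw [hh]; exact hSv⟩
  choose hh hh0 hhS using hex
  -- tori
  let κ := ↥(Tori F)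
  haveI : Finite κ := Set.finite_coe_iff.2 (Set.toFinite _)
  haveI : Fintype κ := Fintype.ofFinite κ
  have hexT : ∀ T : κ, ∃ (g : Matrix (Fin 2) (Fin 2) F) (s : Matrix.SpecialLinearGroup (Fin 2) F),
      IsIrr g ∧ T.1 = normK (Kset g) ∧ (s : Matrix (Fin 2) (Fin 2) F) ∈ Kset g ∧
      (∀ a : F, (s : Matrix (Fin 2) (Fin 2) F) * (s : Matrix (Fin 2) (Fin 2) F) ≠
        a • (1 : Matrix (Fin 2) (Fin 2) F)) ∧
      (Fintype.card F = 5 → (s : Matrix (Fin 2) (Fin 2) F) * (s : Matrix (Fin 2) (Fin 2) F) *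
        (s : Matrix (Fin 2) (Fin 2) F) = 1) := by
    intro T
    obtain ⟨g, hg, hTg⟩ := T.2
    obtain ⟨s, hsK, hsdet, hs2, hs3⟩ := Cfsg.Agent.Lib.Helper23.S3894T3.exists_sK hq hg
    exact ⟨g, ⟨s, hsdet⟩, hg, hTg, hsK, hs2, hs3⟩
  choose gT sT hgT hTg hsK hs2 hs3 using hexT
  -- the split element
  obtain ⟨a, ha0, ha2, ha4, ha4'⟩ := Cfsg.Agent.Lib.Helper65.S3894.exists_a (F := F) hq
  have hdett : (Matrix.diagonal ![a, a⁻¹] : Matrix (Fin 2) (Fin 2) F).det = 1 := by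
    rw [Matrix.det_diagonal]
    simp [Fin.prod_univ_two, mul_inv_cancel₀ ha0]
  let tS : Matrix.SpecialLinearGroup (Fin 2) F := ⟨Matrix.diagonal ![a, a⁻¹], hdett⟩
  -- the chosen elements
  let J := Option (ι ⊕ κ)
  let elt : J → GL (Fin 2) F := fun j =>
    j.elim (Matrix.SpecialLinearGroup.toGL tS)
      (fun r => Sum.elim (fun S => conjU u₀ (hh S)) (fun T => Matrix.SpecialLinearGroup.toGL (sT T)) r)
  have helt : ∀ j : J, prj 2 F (elt j) ∈ G := by
    intro j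
    rcases j with _ | (S | T)
    · exact prj_sl_mem G hG tS
    · exact prj_conjU_mem G hG u₀ (hh S)
    · exact prj_sl_mem G hG (sT T)
  have hmem : ∀ j : J, ∃ A ∈ 𝓐, (⟨prj 2 F (elt j), helt j⟩ : ↥G) ∈ A := fun j => hcov _
  choose c hc𝓐 hcmem using hmem
  -- membership transfer
  have hnil' : ∀ j : J, Group.IsNilpotent ↥((c j).map G.subtype) :=
    fun j => nilpotent_map_subtype G _ (hnil _ (hc𝓐 j))
  have hmem' : ∀ j j' : J, c j = c j' → prj 2 F (elt j') ∈ (c j).map G.subtype := by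
    intro j j' hjj'
    refine (mem_map_subtype_iff G (c j) ⟨_, helt j'⟩).2 ?_
    rw [hjj']; exact hcmem j'
  -- K1 for point members
  have hK1 : ∀ (S : ι) (g : GL (Fin 2) F), prj 2 F g ∈ (c (some (Sum.inl S))).map G.subtype →
      FixesLine (g : Matrix (Fin 2) (Fin 2) F)
        ((hh S : Matrix (Fin 2) (Fin 2) F) *ᵥ Pi.single (⟨0, hn0⟩ : Fin 2) (1 : F)) := by
    intro S g hg
    refine (fixes_of_regU (p := p) 2 hn0 (conjU u₀ (hh S)) (hh S) ?_ _ (hnil' _) ?_ g hg).1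
    · rw [conjU_conj, hu₀]
    · exact hmem' _ _ rfl
  -- central elements for torus members
  have hcen : ∀ T : κ, ∃ c₀ : GL (Fin 2) F, (c₀ : Matrix (Fin 2) (Fin 2) F) ∈ Kset (gT T) ∧
      (∀ a : F, (c₀ : Matrix (Fin 2) (Fin 2) F) ≠ a • (1 : Matrix (Fin 2) (Fin 2) F)) ∧
      ∀ x : GL (Fin 2) F, prj 2 F x ∈ (c (some (Sum.inr T))).map G.subtype → ∃ μ : F,
        (x : Matrix (Fin 2) (Fin 2) F) * (c₀ : Matrix (Fin 2) (Fin 2) F) =
          μ • ((c₀ : Matrix (Fin 2) (Fin 2) F) * (x : Matrix (Fin 2) (Fin 2) F)) := by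
    intro T
    exact Cfsg.Agent.Lib.Helper27.S3894T4.exists_central (hgT T) (Matrix.SpecialLinearGroup.toGL (sT T)) (hsK T) (hs2 T) _ (hnil' _)
      (hmem' _ _ rfl)
  -- injectivity
  have hPT : ∀ (S : ι) (T : κ), c (some (Sum.inl S)) ≠ c (some (Sum.inr T)) := by
    intro S T hST
    have h1 := hK1 S (Matrix.SpecialLinearGroup.toGL (sT T)) (hmem' _ _ hST)
    obtain ⟨d, hd⟩ := h1
    have hirr := (Cfsg.Agent.Lib.Helper74.S3894.Kset_irr (hgT T) (hsK T) (not_scalar_of_sq (hs2 T))).1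
    exact hirr _ (hh0 S) d hd
  have hPN : ∀ S : ι, c (some (Sum.inl S)) ≠ c none := by
    intro S hSN
    have hp : IsPGroup p ↥((c (some (Sum.inl S))).map G.subtype) :=
      Cfsg.Agent.Lib.Helper11.S3894R3.isPGroup_of_regU (p := p) 2 (Cfsg.Agent.Lib.Helper30.S3894R1.shift_commute_pow 2) (Cfsg.Agent.Lib.Helper40.S3894R2.shift_fixesLine 2) (conjU u₀ (hh S)) (hh S)
        (by rw [conjU_conj, hu₀]) _ (hnil' _) (hmem' _ _ rfl)
    obtain ⟨k, hk⟩ := hp ⟨_, hmem' _ _ hSN⟩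
    have hk1 : (prj 2 F (Matrix.SpecialLinearGroup.toGL tS)) ^ (p ^ k) = 1 := by
      have := congrArg Subtype.val hk
      simp only [Subgroup.coe_pow, Subgroup.coe_one] at this
      exact this
    have hk' : prj 2 F ((Matrix.SpecialLinearGroup.toGL tS) ^ (p ^ k)) = prj 2 F 1 := by
      rw [map_pow, map_one]; exact hk1
    obtain ⟨d, hd⟩ := exists_scalar_of_prj_eq _ _ hk'.symm
    have hpow : (((Matrix.SpecialLinearGroup.toGL tS) ^ (p ^ k) : GL (Fin 2) F) :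
        Matrix (Fin 2) (Fin 2) F) = Matrix.diagonal ![a ^ (p ^ k), a⁻¹ ^ (p ^ k)] := by
      rw [Units.val_pow_eq_pow_val]
      show (Matrix.diagonal ![a, a⁻¹] : Matrix (Fin 2) (Fin 2) F) ^ (p ^ k) = _
      rw [Matrix.diagonal_pow]
      congr 1
      funext i
      fin_cases i <;> simp
    rw [hpow] at hd
    have e0 := congrFun (congrFun hd 0) 0
    have e1 := congrFun (congrFun hd 1) 1
    simp at e0 e1
    have hane : a ^ p ^ k ≠ 0 := pow_ne_zero _ ha0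
    have h3 : (a * a) ^ (p ^ k * 1) = 1 := by
      rw [mul_one, mul_pow]
      have h4 : a ^ p ^ k = (a ^ p ^ k)⁻¹ := e0.trans e1.symm
      nth_rewrite 2 [h4]
      exact mul_inv_cancel₀ hane
    rw [ExpChar.pow_prime_pow_mul_eq_one_iff, pow_one] at h3
    exact ha2 h3
  have hTN : ∀ T : κ, c (some (Sum.inr T)) ≠ c none := by
    intro T hTN
    obtain ⟨c₀, hc₀K, hc₀F, hc₀⟩ := hcen T
    by_cases h5 : Fintype.card F = 5
    · exact Cfsg.Agent.Lib.Helper29.S3894K.diag_not_mem_of_cube (hgT T) (Matrix.SpecialLinearGroup.toGL (sT T))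
        (Matrix.SpecialLinearGroup.toGL tS) (hsK T) (hs2 T) (hs3 T h5) a ha0 rfl ha2 (ha4' h5) _
        (hnil' _) (hmem' _ _ rfl) (hmem' _ _ hTN)
    · obtain ⟨μ, hμ⟩ := hc₀ (Matrix.SpecialLinearGroup.toGL tS) (hmem' _ _ hTN)
      exact Cfsg.Agent.Lib.Helper74.S3894.diag_not_scalar_commute (hgT T) c₀ (Matrix.SpecialLinearGroup.toGL tS) hc₀K hc₀F a ha0 rfl
        (ha4 h5) μ hμ
  have hPP : ∀ S S' : ι, c (some (Sum.inl S)) = c (some (Sum.inl S')) → S = S' := by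
    intro S S' hSS'
    have h1 := hK1 S (conjU u₀ (hh S')) (hmem' _ _ hSS')
    rw [conjU_val, hu₀] at h1
    obtain ⟨b, hb⟩ := line_unique 2 hn0 (hh S') _ h1
    have hb0 : b ≠ 0 := by
      intro h0
      apply hh0 S
      rw [hb, h0, zero_smul]
    apply Subtype.ext
    rw [hhS S, hhS S', hb]
    exact stabLine_smul _ hb0
  have hTT : ∀ T T' : κ, c (some (Sum.inr T)) = c (some (Sum.inr T')) → T = T' := by
    intro T T' hTT'
    obtain ⟨c₀, hc₀K, hc₀F, hc₀⟩ := hcen T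
    obtain ⟨μ, hμ⟩ := hc₀ (Matrix.SpecialLinearGroup.toGL (sT T')) (hmem' _ _ hTT')
    have := Cfsg.Agent.Lib.Helper74.S3894.Kset_eq_of_scalar_commute (hgT T) (hgT T') c₀ (Matrix.SpecialLinearGroup.toGL (sT T'))
      hc₀K hc₀F (hsK T') (hs2 T') μ hμ
    apply Subtype.ext
    rw [hTg T, hTg T', this]
  have hinj : Function.Injective c := by
    intro j j' hjj'
    rcases j with _ | (S | T) <;> rcases j' with _ | (S' | T')
    · rfl
    · exact absurd hjj'.symm (hPN S')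
    · exact absurd hjj'.symm (hTN T')
    · exact absurd hjj' (hPN S)
    · rw [hPP S S' hjj']
    · exact absurd hjj' (hPT S T')
    · exact absurd hjj' (hTN T)
    · exact absurd hjj'.symm (hPT S' T)
    · rw [hTT T T' hjj']
  -- the cheap cover
  refine swap_false 𝓐 hprop hcov hmin (fun _ => True)
    ((Finset.univ.image (fun S : ι => cut G S.1)) ∪ (Finset.univ.image (fun T : κ => cut G T.1)))
    ?_ ?_ (Finset.univ.image c) ?_ ?_ ?_
  · intro S hS
    rcases Finset.mem_union.1 hS with h | h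
    · obtain ⟨S', -, rfl⟩ := Finset.mem_image.1 h
      rw [hhS S']
      exact cut_stabLine_ne_top G hG (by omega) _ (hh0 S')
    · obtain ⟨T, -, rfl⟩ := Finset.mem_image.1 h
      rw [hTg T]
      obtain ⟨s, hs⟩ := Cfsg.Agent.Lib.Helper63.S3894T2.exists_sl_not_normK (by omega) (hgT T)
      intro htop
      have h1 : (⟨prj 2 F (Matrix.SpecialLinearGroup.toGL s), prj_sl_mem G hG s⟩ : ↥G) ∈
          cut G (normK (Kset (gT T))) := by rw [htop]; exact Subgroup.mem_top _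
      rw [mem_cut_iff G _ (center_le_normK _)] at h1
      exact hs h1
  · rintro ⟨x, hx⟩ -
    obtain ⟨g, hg⟩ := QuotientGroup.mk'_surjective (Subgroup.center (GL (Fin 2) F)) x
    have hx' : prj 2 F g ∈ G := by rw [show prj 2 F g = x from hg]; exact hx
    have hxe : (⟨x, hx⟩ : ↥G) = ⟨prj 2 F g, hx'⟩ := Subtype.ext hg.symm
    by_cases hE : HasEig (g : Matrix (Fin 2) (Fin 2) F)
    · obtain ⟨v, hv0, hv⟩ := hE
      refine ⟨cut G (stabLine v), Finset.mem_union_left _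
        (Finset.mem_image.2 ⟨⟨stabLine v, v, hv0, rfl⟩, Finset.mem_univ _, rfl⟩), ?_⟩
      rw [hxe, mem_cut_iff G _ (center_le_stabLine v)]
      exact hv
    · have hirr := isIrr_of_not_hasEig hE
      refine ⟨cut G (normK (Kset (g : Matrix (Fin 2) (Fin 2) F))), Finset.mem_union_right _
        (Finset.mem_image.2 ⟨⟨_, _, hirr, rfl⟩, Finset.mem_univ _, rfl⟩), ?_⟩
      rw [hxe, mem_cut_iff G _ (center_le_normK _)]
      exact self_mem_normK g
  · intro A hA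
    obtain ⟨o, -, rfl⟩ := Finset.mem_image.1 hA
    exact hc𝓐 o
  · intro A _ x _
    trivial
  · calc ((Finset.univ.image (fun S : ι => cut G S.1)) ∪
          (Finset.univ.image (fun T : κ => cut G T.1))).card
        ≤ (Finset.univ.image (fun S : ι => cut G S.1)).card +
          (Finset.univ.image (fun T : κ => cut G T.1)).card := Finset.card_union_le _ _
      _ ≤ Fintype.card ι + Fintype.card κ := by
          apply add_le_add
          · exact Finset.card_image_le.trans (le_of_eq Finset.card_univ)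
          · exact Finset.card_image_le.trans (le_of_eq Finset.card_univ)
      _ < Fintype.card J := by
          show _ < Fintype.card (Option (ι ⊕ κ))
          rw [Fintype.card_option, Fintype.card_sum]; omega
      _ = (Finset.univ : Finset J).card := Finset.card_univ.symm
      _ = (Finset.univ.image c).card := (Finset.card_image_of_injective _ hinj).symm

end Cfsg.Agent.Lib.Helper40.S3894Glue
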