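import Mathlib
import Cfsg.Prelude.Def_OddOrderLocal
import Cfsg.Prelude.Def_Solvable
import Cfsg.Agent.Lib.Helper01.PPrimeCore
import Cfsg.Agent.Lib.Helper48.TIHallK1
import Cfsg.Agent.Lib.Helper45.TIHallK2
import Cfsg.Agent.Lib.Helper63.TIHallK3
import Cfsg.Agent.Lib.Helper22.TIHallK4
import Cfsg.Agent.Lib.Helper01.Coprime
import Cfsg.Agent.Lib.Helper30.S4151A
import Cfsg.Agent.Lib.Helper26.S4151B
import Cfsg.Agent.Lib.Helper66.S4151C

/-!
# S4151 glue (helper40): TI Hall subgroup with abelian Sylow 2-subgroups, `C_H(Q)` has a normal complement.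
-/

set_option autoImplicit false

namespace Cfsg.Agent.Lib.Helper40.S4151Glue

open Cfsg

variable {G : Type*} [Group G] [Finite G]

/-- TI in the usable form. -/
theorem mem_normalizer_of_ti (H : Subgroup G) (hTI : IsTISubset (H : Set G)) {g x : G}
    (hx : x ∈ H) (hx1 : x ≠ 1) (hgx : g * x * g⁻¹ ∈ H) : g ∈ Subgroup.normalizer (H : Set G) := by
  by_contra hg
  exact hx1 (hTI g hg x hx hgx)

/-- Step 1: `G = O N_G(H)` (glue of helper11's K1-K4). -/
theorem core_sup_normalizer_eq_top (H : Subgroup G)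
    (hTI : IsTISubset (H : Set G)) (hnn : ¬ H.Normal)
    (hHall : (Nat.card H).Coprime (H.subgroupOf (Subgroup.normalizer (H : Set G))).index)
    (hsep : ∃ (n : ℕ) (M : Fin (n + 1) → Subgroup G), M 0 = ⊥ ∧ M (Fin.last n) = ⊤ ∧ Monotone M ∧ (∀ i, (M i).Normal) ∧
      ∀ i : Fin n, (∀ q : ℕ, q.Prime → q ∣ (M i.castSucc).relIndex (M i.succ) → q ∣ Nat.card H) ∨
        ((M i.castSucc).relIndex (M i.succ)).Coprime (Nat.card H)) :
    pPrimeCore (Nat.card H) G ⊔ Subgroup.normalizer (H : Set G) = ⊤ := by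
  have hHallG := Cfsg.Agent.Lib.Helper48.TIHall.hall_of_ti H hTI hHall
  have hOn : (pPrimeCore (Nat.card H) G).Normal := Cfsg.Agent.Lib.Helper01.pPrimeCore_normal _
  have hOc : (Nat.card (pPrimeCore (Nat.card H) G)).Coprime (Nat.card H) :=
    Cfsg.Agent.Lib.Helper01.pPrimeCore_card_coprime _
  have hOtop : pPrimeCore (Nat.card H) G ≠ ⊤ := by
    intro h
    rw [h, Subgroup.card_top] at hOc
    have h1 : Nat.card H = 1 := hOc.symm.eq_one_of_dvd (Subgroup.card_subgroup_dvd_card H)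
    have h2 : H = ⊥ := Subgroup.card_eq_one.mp h1
    exact hnn (h2 ▸ Subgroup.normal_bot)
  obtain ⟨R, hRn, hOR, hORne, hpi⟩ :=
    Cfsg.Agent.Lib.Helper45.TIHall.exists_pi_layer (Nat.card H) hsep hOtop
  haveI := hRn
  haveI := hOn
  have hRle : R ≤ pPrimeCore (Nat.card H) G ⊔ H :=
    Cfsg.Agent.Lib.Helper63.TIHall.le_sup_of_hall H _ R hHallG hOc hOR hpi
  have hrel : (pPrimeCore (Nat.card H) G).relIndex R ≠ 1 := by
    intro h
    exact hORne (le_antisymm hOR (Subgroup.relIndex_eq_one.mp h))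
  obtain ⟨p, hp, hpd⟩ := Nat.exists_prime_and_dvd hrel
  have hpH := hpi p hp hpd
  have hpR : p ∣ Nat.card R := dvd_trans hpd (Subgroup.relIndex_dvd_card _ _)
  have hK4 := Cfsg.Agent.Lib.Helper22.TIHall.sup_normalizer_eq_top_of_ti H R hTI hHallG p hp hpH hpR
  have hHN : H ≤ Subgroup.normalizer (H : Set G) := Subgroup.le_normalizer
  apply top_le_iff.mp
  rw [← hK4]
  exact sup_le (hRle.trans (sup_le le_sup_left (hHN.trans le_sup_right))) le_sup_right

/-- Step 2: all nonidentity elements of `H` have the same centralizer in `O`. -/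
theorem comm_of_ti (H O : Subgroup G) [O.Normal] (hTI : IsTISubset (H : Set G))
    (hOc : (Nat.card O).Coprime (Nat.card H)) :
    ∀ x ∈ H, x ≠ 1 → ∀ m ∈ O, x * m = m * x → ∀ y ∈ H, y * m = m * y := by
  intro x hx hx1 m hm hxm y hy
  have hmx : m * x * m⁻¹ = x := by rw [← hxm, mul_inv_cancel_right]
  have hmN : m ∈ Subgroup.normalizer (H : Set G) :=
    mem_normalizer_of_ti H hTI hx hx1 (by rw [hmx]; exact hx)
  have hdisj : O ⊓ H = ⊥ := (Subgroup.disjoint_of_coprime_natCard hOc).eq_bot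
  have hc : m * y * m⁻¹ * y⁻¹ ∈ O ⊓ H := by
    constructor
    · have h1 : y * m⁻¹ * y⁻¹ ∈ O := ‹O.Normal›.conj_mem _ (O.inv_mem hm) y
      have : m * y * m⁻¹ * y⁻¹ = m * (y * m⁻¹ * y⁻¹) := by group
      rw [this]; exact O.mul_mem hm h1
    · have h1 : m * y * m⁻¹ ∈ H := (Subgroup.mem_normalizer_iff.mp hmN y).mp hy
      exact H.mul_mem h1 (H.inv_mem hy)
  rw [hdisj, Subgroup.mem_bot] at hc
  have : m * y = y * m := by
    have h2 : m * y * m⁻¹ = y := by
      have := congrArg (· * y) hc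
      simpa using this
    calc m * y = m * y * m⁻¹ * m := by group
      _ = y * m := by rw [h2]
  exact this.symm


/-- a commutative group isomorphic to `QuaternionGroup (2 ^ n)` is cyclic (then `n = 0`). -/
theorem isCyclic_of_quaternion_comm {P : Type*} [Group P] (n : ℕ) (e : P ≃* QuaternionGroup (2 ^ n))
    (hc : ∀ a b : P, a * b = b * a) : IsCyclic P := by
  have hcomm : ∀ a b : QuaternionGroup (2 ^ n), a * b = b * a := fun a b => by
    have := hc (e.symm a) (e.symm b)
    simpa using congrArg e this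
  have h1 := hcomm (QuaternionGroup.a 1) (QuaternionGroup.xa 0)
  rw [QuaternionGroup.a_mul_xa, QuaternionGroup.xa_mul_a] at h1
  have h2 : (0 - 1 : ZMod (2 * 2 ^ n)) = 0 + 1 := QuaternionGroup.xa.inj h1
  have h3 : ((2 : ℕ) : ZMod (2 * 2 ^ n)) = 0 := by
    push_cast
    linear_combination -h2
  have h4 : 2 * 2 ^ n ∣ 2 := (ZMod.natCast_eq_zero_iff 2 (2 * 2 ^ n)).mp h3
  have hn : n = 0 := by
    by_contra hn
    obtain ⟨k, hk⟩ : 2 ∣ 2 ^ n := dvd_pow_self 2 hn
    have hkpos : 0 < k := by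
      rcases Nat.eq_zero_or_pos k with h | h
      · rw [h] at hk; simp at hk
      · exact h
    rw [hk] at h4
    have : 2 * (2 * k) ≤ 2 := Nat.le_of_dvd (by norm_num) h4
    omega
  subst hn
  haveI : IsCyclic (QuaternionGroup (2 ^ 0)) := QuaternionGroup.quaternionGroup_one_isCyclic
  exact isCyclic_of_surjective e.symm e.symm.surjective

/-- Step 3: all Sylow subgroups of `H` are cyclic. -/
theorem sylow_cyclic (H O : Subgroup G) [O.Normal]
    (hOc : (Nat.card O).Coprime (Nat.card H))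
    (hfix : ∀ x ∈ H, x ≠ 1 → ∀ m ∈ O, x * m = m * x → ∀ y ∈ H, y * m = m * y)
    (hne : ¬ O ≤ Subgroup.centralizer (H : Set G))
    (h2 : ∀ P : Sylow 2 H, IsMulCommutative (P : Subgroup H))
    (p : ℕ) [Fact p.Prime] (P : Sylow p H) : IsCyclic (P : Subgroup H) := by
  classical
  set P' : Subgroup G := (P : Subgroup H).map H.subtype with hP'
  have hP'H : P' ≤ H := Subgroup.map_subtype_le _
  have hP'p : IsPGroup p P' := P.isPGroup'.map H.subtype
  let e : (P : Subgroup H) ≃* P' :=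
    (P : Subgroup H).equivMapOfInjective H.subtype H.subtype_injective
  by_cases hbot : P' = ⊥
  · have h1 : Subsingleton P' := by rw [hbot]; infer_instance
    have h2 : Subsingleton (P : Subgroup H) := e.toEquiv.subsingleton
    exact isCyclic_of_subsingleton
  · obtain ⟨x, hxP, hx1⟩ : ∃ x ∈ P', x ≠ 1 := by
      by_contra h
      push Not at h
      exact hbot ((Subgroup.eq_bot_iff_forall _).mpr h)
    have hne' : ¬ O ≤ Subgroup.centralizer (P' : Set G) := by
      intro hle
      apply hne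
      intro m hm
      rw [Subgroup.mem_centralizer_iff]
      intro y hy
      have hxm : x * m = m * x := (Subgroup.mem_centralizer_iff.mp (hle hm)) x hxP
      exact hfix x (hP'H hxP) hx1 m hm hxm y hy
    have hcopP : (Nat.card P').Coprime (Nat.card O) :=
      Nat.Coprime.coprime_dvd_left (Subgroup.card_dvd_of_le hP'H) hOc.symm
    obtain ⟨M, Q₀, hQM, hQne, hMO, hPM, hPQ, hMQ, hsec⟩ :=
      Cfsg.Agent.Lib.Helper30.S4151K.exists_q_section_pgroup p P' O hP'p hcopP
        (fun x hx hx1 m hm hxm y hy => hfix x (hP'H hx) hx1 m hm hxm y (hP'H hy)) hne'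
    have hcopQ : (Nat.card P').Coprime (Nat.card Q₀) :=
      Nat.Coprime.coprime_dvd_right (Subgroup.card_dvd_of_le (hQM.trans hMO)) hcopP
    rcases Cfsg.Agent.Lib.Helper26.S4151K.cyclic_or_quaternion_of_section p P' M Q₀ hP'p hQM hQne hPM hPQ hMQ hcopQ hsec
      with hcyc | ⟨n, ⟨eq⟩⟩
    · exact isCyclic_of_surjective e.symm e.symm.surjective
    · have hcard : Nat.card P' = 4 * 2 ^ n := by
        rw [Nat.card_congr eq.toEquiv, Nat.card_eq_fintype_card, QuaternionGroup.card]
      have hp2 : p = 2 := by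
        obtain ⟨k, hk⟩ := IsPGroup.iff_card.mp hP'p
        have h1 : p ^ k = 2 ^ (n + 2) := by rw [← hk, hcard]; ring
        have hk0 : k ≠ 0 := by
          rintro rfl
          have : 4 ≤ 2 ^ (n + 2) := by
            calc 4 = 2 ^ 2 := by norm_num
              _ ≤ 2 ^ (n + 2) := Nat.pow_le_pow_right (by norm_num) (by omega)
          simp at h1
          omega
        have h3 : p ∣ 2 ^ (n + 2) := h1 ▸ dvd_pow_self p hk0
        exact (Nat.prime_dvd_prime_iff_eq Fact.out Nat.prime_two).mp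
          ((Fact.out : p.Prime).dvd_of_dvd_pow h3)
      subst hp2
      have hcommP := h2 P
      have hc : ∀ a b : (P : Subgroup H), a * b = b * a := fun a b => hcommP.is_comm.comm a b
      exact isCyclic_of_quaternion_comm n (e.trans eq) hc


/-- conjugation by an element of `H` maps `N₀ = O ⊔ D ⊔ Q` into itself. -/
theorem conj_mem_N0 (H O D Q : Subgroup G) [O.Normal]
    (hHD : H ≤ Subgroup.normalizer (D : Set G))
    (hcomm : ∀ h ∈ H, ∀ q ∈ Q, h⁻¹ * (q * h * q⁻¹) ∈ D)
    {h : G} (hh : h ∈ H) {n : G} (hn : n ∈ O ⊔ (D ⊔ Q)) : h * n * h⁻¹ ∈ O ⊔ (D ⊔ Q) := by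
  have hmap : (O ⊔ (D ⊔ Q)).map (MulAut.conj h).toMonoidHom ≤ O ⊔ (D ⊔ Q) := by
    rw [Subgroup.map_sup, Subgroup.map_sup]
    refine sup_le ?_ (sup_le ?_ ?_)
    · rintro _ ⟨x, hx, rfl⟩
      exact Subgroup.mem_sup_left (‹O.Normal›.conj_mem x hx h)
    · rintro _ ⟨x, hx, rfl⟩
      apply Subgroup.mem_sup_right
      apply Subgroup.mem_sup_left
      exact (Subgroup.mem_normalizer_iff.mp (hHD hh) x).mp hx
    · rintro _ ⟨x, hx, rfl⟩
      apply Subgroup.mem_sup_right
      have h1 : (h⁻¹)⁻¹ * (x * h⁻¹ * x⁻¹) ∈ D := hcomm h⁻¹ (H.inv_mem hh) x hx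
      have h2 : h * x * h⁻¹ = ((h⁻¹)⁻¹ * (x * h⁻¹ * x⁻¹)) * x := by group
      show h * x * h⁻¹ ∈ D ⊔ Q
      rw [h2]
      exact Subgroup.mul_mem _ (Subgroup.mem_sup_left h1) (Subgroup.mem_sup_right hx)
  exact hmap ⟨n, hn, rfl⟩

/-- **S4151**, library form. -/
theorem main (H : Subgroup G)
    (hTI : IsTISubset (H : Set G)) (hnn : ¬ H.Normal)
    (hHall : (Nat.card H).Coprime (H.subgroupOf (Subgroup.normalizer (H : Set G))).index)
    (hsep : ∃ (n : ℕ) (M : Fin (n + 1) → Subgroup G), M 0 = ⊥ ∧ M (Fin.last n) = ⊤ ∧ Monotone M ∧ (∀ i, (M i).Normal) ∧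
      ∀ i : Fin n, (∀ q : ℕ, q.Prime → q ∣ (M i.castSucc).relIndex (M i.succ) → q ∣ Nat.card H) ∨
        ((M i.castSucc).relIndex (M i.succ)).Coprime (Nat.card H))
    (h2 : ∀ P : Sylow 2 H, IsMulCommutative (P : Subgroup H))
    (Q : Subgroup G) (hQ : Q ≤ Subgroup.normalizer (H : Set G)) (hQH : Q ⊓ H = ⊥)
    (hQH' : Q ⊔ H = Subgroup.normalizer (H : Set G)) :
    (Nat.card ↥(H ⊓ Subgroup.centralizer (Q : Set G))).Coprime (H ⊓ Subgroup.centralizer (Q : Set G)).index ∧
    ∃ N : Subgroup G, N.Normal ∧ N.IsComplement' (H ⊓ Subgroup.centralizer (Q : Set G)) := by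
  classical
  have hOn : (pPrimeCore (Nat.card H) G).Normal := Cfsg.Agent.Lib.Helper01.pPrimeCore_normal _
  have hOc : (Nat.card (pPrimeCore (Nat.card H) G)).Coprime (Nat.card H) :=
    Cfsg.Agent.Lib.Helper01.pPrimeCore_card_coprime _
  have htop := core_sup_normalizer_eq_top H hTI hnn hHall hsep
  generalize pPrimeCore (Nat.card H) G = O at hOn hOc htop
  haveI := hOn
  have hfix := comm_of_ti H O hTI hOc
  have hne : ¬ O ≤ Subgroup.centralizer (H : Set G) := by
    intro hle
    apply hnn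
    rw [← Subgroup.normalizer_eq_top_iff, ← htop]
    exact (sup_eq_right.mpr (hle.trans (Subgroup.centralizer_le_normalizer _))).symm
  have hcyc : ∀ (p : ℕ) [Fact p.Prime] (P : Sylow p H), IsCyclic (P : Subgroup H) :=
    fun p _ P => sylow_cyclic H O hOc hfix hne h2 p P
  -- orders
  have hHpos : 0 < Nat.card H := Nat.card_pos
  have hcardN : Nat.card (Subgroup.normalizer (H : Set G)) = Nat.card H * Nat.card Q := by
    have := Cfsg.Agent.Lib.Helper01.card_sup_mul_card_inf_of_le_normalizer H Q hQ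
    rw [inf_comm, hQH, Subgroup.card_bot, mul_one, hQH'] at this
    exact this
  have hcopQ : (Nat.card Q).Coprime (Nat.card H) := by
    have h1 : Nat.card H * H.relIndex (Subgroup.normalizer (H : Set G)) =
        Nat.card (Subgroup.normalizer (H : Set G)) :=
      Cfsg.Agent.Lib.Helper63.TIHall.card_mul_relIndex_of_le Subgroup.le_normalizer
    rw [hcardN] at h1
    have h3 : H.relIndex (Subgroup.normalizer (H : Set G)) = Nat.card Q :=
      Nat.eq_of_mul_eq_mul_left hHpos h1
    have h4 : (H.subgroupOf (Subgroup.normalizer (H : Set G))).index = Nat.card Q := h3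
    rw [h4] at hHall
    exact hHall.symm
  obtain ⟨D, hDH, hHD, hQD, hcomm, hDC, hDCsup, hcopCD⟩ :=
    Cfsg.Agent.Lib.Helper66.S4151K.zgroup_coprime_subgroup H Q hQ hcopQ hcyc
  set C : Subgroup G := H ⊓ Subgroup.centralizer (Q : Set G) with hC
  have hCH : C ≤ H := inf_le_left
  have hCdvd : Nat.card C ∣ Nat.card H := Subgroup.card_dvd_of_le hCH
  -- the complement
  set N₀ : Subgroup G := O ⊔ (D ⊔ Q) with hN₀
  have hN₀n : N₀.Normal := by
    rw [← Subgroup.normalizer_eq_top_iff]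
    apply top_le_iff.mp
    rw [← htop, ← hQH']
    have hHle : H ≤ Subgroup.normalizer (N₀ : Set G) := by
      intro h hh
      rw [Subgroup.mem_normalizer_iff]
      intro n
      constructor
      · intro hn
        exact conj_mem_N0 H O D Q hHD hcomm hh hn
      · intro hn
        have := conj_mem_N0 H O D Q hHD hcomm (H.inv_mem hh) hn
        have h5 : h⁻¹ * (h * n * h⁻¹) * h⁻¹⁻¹ = n := by group
        rwa [h5] at this
    have hN₀le : N₀ ≤ Subgroup.normalizer (N₀ : Set G) := Subgroup.le_normalizer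
    refine sup_le (le_sup_left.trans hN₀le) (sup_le ?_ hHle)
    exact ((le_sup_right.trans le_sup_right : Q ≤ N₀)).trans hN₀le
  have hsup : N₀ ⊔ C = ⊤ := by
    apply top_le_iff.mp
    rw [← htop, ← hQH']
    refine sup_le (le_sup_left.trans le_sup_left) (sup_le ?_ ?_)
    · exact (le_sup_right.trans le_sup_right : Q ≤ N₀).trans le_sup_left
    · rw [← hDCsup]
      exact sup_le ((le_sup_left.trans le_sup_right : D ≤ N₀).trans le_sup_left) le_sup_right
  -- coprimality
  have hcopCO : (Nat.card C).Coprime (Nat.card O) :=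
    Nat.Coprime.coprime_dvd_left hCdvd hOc.symm
  have hcopCQ : (Nat.card C).Coprime (Nat.card Q) :=
    Nat.Coprime.coprime_dvd_left hCdvd hcopQ.symm
  have hDQdvd : Nat.card (D ⊔ Q : Subgroup G) ∣ Nat.card D * Nat.card Q := by
    have := Cfsg.Agent.Lib.Helper01.card_sup_mul_card_inf_of_le_normalizer D Q hQD
    rw [sup_comm] at this
    exact Dvd.intro _ this
  have hN₀dvd : Nat.card N₀ ∣ Nat.card O * (Nat.card D * Nat.card Q) := by
    have h1 : Nat.card N₀ ∣ Nat.card O * Nat.card (D ⊔ Q : Subgroup G) := by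
      have := Cfsg.Agent.Lib.Helper01.card_sup_mul_card_inf_of_le_normalizer O (D ⊔ Q)
        (by rw [Subgroup.normalizer_eq_top_iff.mpr hOn]; exact le_top)
      rw [sup_comm] at this
      exact Dvd.intro _ this
    exact h1.trans (Nat.mul_dvd_mul_left _ hDQdvd)
  have hcopCN : (Nat.card C).Coprime (Nat.card N₀) :=
    Nat.Coprime.coprime_dvd_right hN₀dvd
      (Nat.Coprime.mul_right hcopCO (Nat.Coprime.mul_right hcopCD hcopCQ))
  have hdisj : Disjoint N₀ C := Subgroup.disjoint_of_coprime_natCard hcopCN.symm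
  have hcompl : N₀.IsComplement' C := by
    apply Subgroup.isComplement'_of_disjoint_and_mul_eq_univ hdisj
    rw [← Subgroup.normal_mul, hsup, Subgroup.coe_top]
  refine ⟨?_, N₀, hN₀n, hcompl⟩
  have h6 : Nat.card N₀ * Nat.card C = Nat.card G := hcompl.card_mul_card
  have h7 : Nat.card C * C.index = Nat.card G := C.card_mul_index
  have h8 : C.index = Nat.card N₀ := by
    have : Nat.card C * C.index = Nat.card C * Nat.card N₀ := by rw [h7, ← h6, mul_comm]
    exact Nat.eq_of_mul_eq_mul_left Nat.card_pos this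
  rw [h8]
  exact hcopCN

end Cfsg.Agent.Lib.Helper40.S4151Glue
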