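import Mathlib
import Cfsg.Prelude.Def_GeometricClasses

set_option autoImplicit false

namespace Cfsg.Agent.Lib.Helper40.SLMax

open Cfsg Cfsg.Geo
open scoped Matrix MatrixGroups

variable {F : Type*} [Field F] {n : ℕ}

local notation "V" => (Fin n → F)

section Form

variable {t : ℕ}
variable (B : Module.Basis ((_ : Fin t) × Fin 2) F (Fin n → F))

/-- the block-diagonal alternating form in the coordinates of `B` -/
noncomputable def altForm : V →ₗ[F] V →ₗ[F] F :=
  ∑ i : Fin t, ((B.coord ⟨i, 0⟩).smulRight (B.coord ⟨i, 1⟩) -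
    (B.coord ⟨i, 1⟩).smulRight (B.coord ⟨i, 0⟩))

theorem altForm_apply (u v : V) :
    altForm B u v = ∑ i : Fin t, (B.repr u ⟨i, 0⟩ * B.repr v ⟨i, 1⟩ - B.repr u ⟨i, 1⟩ * B.repr v ⟨i, 0⟩) := by
  simp [altForm, LinearMap.sum_apply, Module.Basis.coord_apply]

theorem altForm_skew (u v : V) : altForm B u v = - altForm B v u := by
  rw [altForm_apply, altForm_apply, ← Finset.sum_neg_distrib]
  refine Finset.sum_congr rfl fun i _ => ?_
  ring

theorem altForm_self (u : V) : altForm B u u = 0 := by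
  rw [altForm_apply]
  refine Finset.sum_eq_zero fun i _ => ?_
  ring

theorem altForm_basis_zero (i : Fin t) (v : V) : altForm B (B ⟨i, 0⟩) v = B.repr v ⟨i, 1⟩ := by
  rw [altForm_apply]
  rw [Finset.sum_eq_single i]
  · simp
  · intro j _ hji
    have h1 : (⟨i, 0⟩ : (_ : Fin t) × Fin 2) ≠ ⟨j, 0⟩ := by
      intro h; exact hji (congrArg Sigma.fst h).symm
    have h2 : (⟨i, 0⟩ : (_ : Fin t) × Fin 2) ≠ ⟨j, 1⟩ := by
      intro h; exact hji (congrArg Sigma.fst h).symm
    simp [Finsupp.single_apply, h1, h2]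
  · simp

theorem altForm_basis_one (i : Fin t) (v : V) : altForm B (B ⟨i, 1⟩) v = - B.repr v ⟨i, 0⟩ := by
  rw [altForm_apply]
  rw [Finset.sum_eq_single i]
  · simp
  · intro j _ hji
    have h1 : (⟨i, 1⟩ : (_ : Fin t) × Fin 2) ≠ ⟨j, 0⟩ := by
      intro h; exact hji (congrArg Sigma.fst h).symm
    have h2 : (⟨i, 1⟩ : (_ : Fin t) × Fin 2) ≠ ⟨j, 1⟩ := by
      intro h; exact hji (congrArg Sigma.fst h).symm
    simp [Finsupp.single_apply, h1, h2]
  · simp

theorem altForm_nondeg_left (v : V) (hv : v ≠ 0) : ∃ x, altForm B x v ≠ 0 := by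
  have : B.repr v ≠ 0 := by
    intro h; exact hv (by simpa using h)
  obtain ⟨⟨i, k⟩, hk⟩ := Finsupp.ne_iff.mp this
  fin_cases k
  · refine ⟨B ⟨i, 1⟩, ?_⟩
    rw [altForm_basis_one]
    simpa using hk
  · refine ⟨B ⟨i, 0⟩, ?_⟩
    rw [altForm_basis_zero]
    simpa using hk

end Form

section Block

variable {t : ℕ} {D : Fin t → Submodule F (Fin n → F)} (hint : DirectSum.IsInternal D)
variable (bD : ∀ i, Module.Basis (Fin 2) F (D i))

theorem altForm_of_mem_ne {i j : Fin t} (hij : i ≠ j) {p q : Fin n → F} (hp : p ∈ D i) (hq : q ∈ D j) :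
    altForm (hint.collectedBasis bD) p q = 0 := by
  rw [altForm_apply]
  refine Finset.sum_eq_zero fun m _ => ?_
  by_cases hm : m = i
  · subst hm
    rw [hint.collectedBasis_repr_of_mem_ne bD hij.symm hq,
      hint.collectedBasis_repr_of_mem_ne bD hij.symm hq]
    ring
  · rw [hint.collectedBasis_repr_of_mem_ne bD (Ne.symm hm) hp,
      hint.collectedBasis_repr_of_mem_ne bD (Ne.symm hm) hp]
    ring

theorem altForm_of_mem {m : Fin t} {p q : Fin n → F} (hp : p ∈ D m) (hq : q ∈ D m) :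
    altForm (hint.collectedBasis bD) p q =
      (bD m).repr ⟨p, hp⟩ 0 * (bD m).repr ⟨q, hq⟩ 1 - (bD m).repr ⟨p, hp⟩ 1 * (bD m).repr ⟨q, hq⟩ 0 := by
  rw [altForm_apply, Finset.sum_eq_single m]
  · rw [hint.collectedBasis_repr_of_mem bD hp, hint.collectedBasis_repr_of_mem bD hp,
      hint.collectedBasis_repr_of_mem bD hq, hint.collectedBasis_repr_of_mem bD hq]
  · intro j _ hjm
    rw [hint.collectedBasis_repr_of_mem_ne bD (Ne.symm hjm) hp,
      hint.collectedBasis_repr_of_mem_ne bD (Ne.symm hjm) hp]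
    ring
  · simp

theorem eq_iff_coords {m : Fin t} (P Q : D m) :
    P = Q ↔ (bD m).repr P 0 = (bD m).repr Q 0 ∧ (bD m).repr P 1 = (bD m).repr Q 1 := by
  constructor
  · rintro rfl; exact ⟨rfl, rfl⟩
  · rintro ⟨h0, h1⟩
    apply (bD m).repr.injective
    ext k
    fin_cases k
    · exact h0
    · exact h1

open Classical in
theorem altForm_value [Fintype F] (hq2 : Fintype.card F = 2) {m : Fin t} {p q : Fin n → F}
    (hp : p ∈ D m) (hq : q ∈ D m) :
    altForm (hint.collectedBasis bD) p q = if (p ≠ 0 ∧ q ≠ 0 ∧ p ≠ q) then 1 else 0 := by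
  classical
  have h01 : ∀ a : F, a = 0 ∨ a = 1 := by
    intro a
    by_contra hcon
    push Not at hcon
    have h3 : 2 < Fintype.card F := by
      rw [Fintype.two_lt_card_iff]
      exact ⟨a, 0, 1, hcon.1, hcon.2, zero_ne_one⟩
    omega
  have hneg : (-1 : F) = 1 := by
    rcases h01 (-1) with h | h
    · exact absurd (neg_eq_zero.mp h) one_ne_zero
    · exact h
  rw [altForm_of_mem hint bD hp hq]
  have hP0 : p = 0 ↔ (bD m).repr ⟨p, hp⟩ 0 = 0 ∧ (bD m).repr ⟨p, hp⟩ 1 = 0 := by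
    have := eq_iff_coords bD (⟨p, hp⟩ : D m) 0
    simp only [map_zero, Finsupp.coe_zero, Pi.zero_apply] at this
    rw [← this]
    constructor
    · intro h; exact Subtype.ext h
    · intro h; exact congrArg Subtype.val h
  have hQ0 : q = 0 ↔ (bD m).repr ⟨q, hq⟩ 0 = 0 ∧ (bD m).repr ⟨q, hq⟩ 1 = 0 := by
    have := eq_iff_coords bD (⟨q, hq⟩ : D m) 0
    simp only [map_zero, Finsupp.coe_zero, Pi.zero_apply] at this
    rw [← this]
    constructor
    · intro h; exact Subtype.ext h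
    · intro h; exact congrArg Subtype.val h
  have hPQ : p = q ↔ (bD m).repr ⟨p, hp⟩ 0 = (bD m).repr ⟨q, hq⟩ 0 ∧
      (bD m).repr ⟨p, hp⟩ 1 = (bD m).repr ⟨q, hq⟩ 1 := by
    rw [← eq_iff_coords bD (⟨p, hp⟩ : D m) ⟨q, hq⟩]
    constructor
    · intro h; exact Subtype.ext h
    · intro h; exact congrArg Subtype.val h
  generalize (bD m).repr ⟨p, hp⟩ 0 = p0 at *
  generalize (bD m).repr ⟨p, hp⟩ 1 = p1 at *
  generalize (bD m).repr ⟨q, hq⟩ 0 = q0 at *
  generalize (bD m).repr ⟨q, hq⟩ 1 = q1 at *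
  have h10 : (1 : F) ≠ 0 := one_ne_zero
  have h01' : (0 : F) ≠ 1 := zero_ne_one
  rcases h01 p0 with rfl | rfl <;> rcases h01 p1 with rfl | rfl <;>
    rcases h01 q0 with rfl | rfl <;> rcases h01 q1 with rfl | rfl <;>
    simp [hP0, hQ0, hPQ, hneg, h10, h01']

end Block

theorem mulVec_inj_GL (g : GL (Fin n) F) {x y : Fin n → F}
    (h : (g : Matrix (Fin n) (Fin n) F) *ᵥ x = (g : Matrix (Fin n) (Fin n) F) *ᵥ y) : x = y := by
  have := congrArg (fun z => ((g⁻¹ : GL (Fin n) F) : Matrix (Fin n) (Fin n) F) *ᵥ z) h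
  simpa [Matrix.mulVec_mulVec, ← Units.val_mul] using this

theorem planes_le_similarityGroup_of_card_two [Fintype F] (hq : Fintype.card F = 2) {t : ℕ}
    (D : Fin t → Submodule F (Fin n → F)) (hD : IsMDecomposition 2 D) :
    ∃ f : (Fin n → F) → (Fin n → F) → F, IsSymplecticForm f ∧
      decompositionStabilizer D ≤ similarityGroup f := by
  classical
  have hint : DirectSum.IsInternal D :=
    DirectSum.isInternal_submodule_of_iSupIndep_of_iSup_eq_top hD.indep hD.iSup_eq_top
  let bD : ∀ i, Module.Basis (Fin 2) F (D i) := fun i =>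
    Module.finBasisOfFinrankEq F (D i) (hD.finrank_eq i)
  set B := hint.collectedBasis bD with hB
  refine ⟨fun u v => altForm B u v, ⟨⟨?_, ?_, ?_, ?_⟩, ?_, ?_, ?_⟩, ?_⟩
  · intro x y v; simp
  · intro c x v; simp
  · intro v x y; simp
  · intro c v x; simp
  · intro v w; exact altForm_skew B v w
  · intro v; exact altForm_self B v
  · intro v hv
    obtain ⟨x, hx⟩ := altForm_nondeg_left B v hv
    refine ⟨⟨x, hx⟩, ⟨x, ?_⟩⟩
    show altForm B v x ≠ 0
    rw [altForm_skew B v x]
    exact neg_ne_zero.mpr hx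
  · intro g hg
    obtain ⟨σ, hσ⟩ := hg
    refine ⟨1, fun u v => ?_⟩
    rw [Units.val_one, one_mul]
    set G : (Fin n → F) →ₗ[F] (Fin n → F) := Matrix.toLin' (g : Matrix (Fin n) (Fin n) F) with hG
    have hGapp : ∀ x, G x = (g : Matrix (Fin n) (Fin n) F) *ᵥ x := fun x => Matrix.toLin'_apply _ x
    have hGinj : ∀ x y, G x = G y → x = y := by
      intro x y h
      rw [hGapp, hGapp] at h
      exact mulVec_inj_GL g h
    have hGmem : ∀ i x, x ∈ D i → G x ∈ D (σ i) := by
      intro i x hx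
      rw [← hσ i]
      exact Submodule.mem_map_of_mem hx
    have key : (altForm B).compl₁₂ G G = altForm B := by
      refine LinearMap.ext_basis B B fun a b => ?_
      rw [LinearMap.compl₁₂_apply]
      obtain ⟨i, k⟩ := a
      obtain ⟨j, l⟩ := b
      have ha : B ⟨i, k⟩ ∈ D i := hint.collectedBasis_mem bD ⟨i, k⟩
      have hb : B ⟨j, l⟩ ∈ D j := hint.collectedBasis_mem bD ⟨j, l⟩
      by_cases hij : i = j
      · subst hij
        rw [altForm_value hint bD hq (hGmem i _ ha) (hGmem i _ hb), altForm_value hint bD hq ha hb]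
        have e1 : G (B ⟨i, k⟩) ≠ 0 ↔ B ⟨i, k⟩ ≠ 0 := by
          constructor
          · intro h h0; apply h; rw [h0, map_zero]
          · intro h h0; apply h; apply hGinj; rw [h0, map_zero]
        have e2 : G (B ⟨i, l⟩) ≠ 0 ↔ B ⟨i, l⟩ ≠ 0 := by
          constructor
          · intro h h0; apply h; rw [h0, map_zero]
          · intro h h0; apply h; apply hGinj; rw [h0, map_zero]
        have e3 : G (B ⟨i, k⟩) ≠ G (B ⟨i, l⟩) ↔ B ⟨i, k⟩ ≠ B ⟨i, l⟩ := by
          constructor
          · intro h h0; apply h; rw [h0]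
          · intro h h0; exact h (hGinj _ _ h0)
        simp only [e1, e2, e3]
      · have hσij : σ i ≠ σ j := fun h => hij (σ.injective h)
        rw [altForm_of_mem_ne hint bD hσij (hGmem i _ ha) (hGmem j _ hb),
          altForm_of_mem_ne hint bD hij ha hb]
    have := congrArg (fun φ => φ u v) key
    simp only [LinearMap.compl₁₂_apply] at this
    rw [← hGapp, ← hGapp]
    exact this

end Cfsg.Agent.Lib.Helper40.SLMax
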