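import Mathlib
import Cfsg.Prelude.Def_Classical
import Cfsg.Prelude.Def_GeometricClasses
import Cfsg.Agent.Lib.Helper49.SLODefs
import Cfsg.Agent.Lib.Helper49.SUBDefs
import Cfsg.Agent.Lib.Helper42.SLO7

/-!
# K-SUB pack (S5965), leaf 596507 K-SUB-7 (helper40): diagonal derangements for `k = 2`,
`r ∣ q₀ + 1`; ports of `Helper42.SLO7` / `Helper89.SLU7` with `FrobPairing` as a hypothesis.
All the entries `α` used satisfy `α ^ (q₀ + 1) = 1`, so `c * α ^ q₀ = c / α`.
-/

set_option autoImplicit false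

namespace Cfsg.Agent.Lib.Helper40.SUB

open Matrix Polynomial Cfsg.Agent.Lib.Helper49.SUB Cfsg.Agent.Lib.Helper49
  Cfsg.Agent.Lib.Helper49.SLO Cfsg.Agent.Lib.Helper42.SLO

variable {F : Type*} [Field F]

/-- generic reduction (subfield twin of `slo7_diag_core`) -/
theorem sub7_diag_core [DecidableEq F] (F₀ : Subfield F) (n q₀ : ℕ)
    (hP : FrobPairing F₀ n q₀) (d : Fin n → F)
    (hdet : ∏ k, d k = 1) (hns : ∃ a b, d a ≠ d b)
    (hpair : ∀ c : F, c ≠ 0 → (∀ α : F, α ^ (q₀ + 1) = 1 →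
      (Finset.univ.filter fun k : Fin n => d k = c / α).card =
        (Finset.univ.filter fun k : Fin n => d k = α).card) → False) :
    ∃ x : GL (Fin n) F, (x : Matrix (Fin n) (Fin n) F) = Matrix.diagonal d ∧
      x ∈ Cfsg.Geo.specialLinear (Fin n) F ∧
      (∀ z : F, (x : Matrix (Fin n) (Fin n) F) ≠ z • (1 : Matrix (Fin n) (Fin n) F)) ∧
      ∀ g : GL (Fin n) F, g⁻¹ * x * g ∉ HS F₀ n := by
  have hdet' : (Matrix.diagonal d).det ≠ 0 := by
    rw [Matrix.det_diagonal, hdet]; exact one_ne_zero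
  set x : GL (Fin n) F := Matrix.GeneralLinearGroup.mkOfDetNeZero (Matrix.diagonal d) hdet'
    with hxdef
  have hx : (x : Matrix (Fin n) (Fin n) F) = Matrix.diagonal d := rfl
  refine ⟨x, hx, ?_, ?_, ?_⟩
  · rw [Cfsg.Geo.specialLinear, MonoidHom.mem_ker]
    apply Units.ext
    rw [Matrix.GeneralLinearGroup.val_det_apply, hx, Matrix.det_diagonal, hdet]
    rfl
  · intro z hz
    obtain ⟨a, b, hab⟩ := hns
    rw [hx] at hz
    have ea := congrFun (congrFun hz a) a
    have eb := congrFun (congrFun hz b) b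
    simp at ea eb
    exact hab (ea.trans eb.symm)
  · intro g hy
    obtain ⟨c, hc0, hc⟩ := hP x g d hx hy
    refine hpair c hc0 ?_
    intro α hα
    have hα0 : α ≠ 0 := by
      intro h
      rw [h, zero_pow (Nat.succ_ne_zero _)] at hα
      exact zero_ne_one hα
    have hinv : α ^ q₀ = α⁻¹ := by
      rw [pow_succ] at hα
      exact eq_inv_of_mul_eq_one_left hα
    have := hc α
    rw [hinv, ← div_eq_mul_inv] at this
    exact this

section gen

variable [Fintype F]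

theorem sub7_two_le {q₀ : ℕ} (hF : Fintype.card F = q₀ ^ 2) : 2 ≤ q₀ := by
  have h2 : 2 ≤ Fintype.card F := by
    have := Fintype.one_lt_card (α := F)
    omega
  rw [hF] at h2
  by_contra h
  have : q₀ = 0 ∨ q₀ = 1 := by omega
  rcases this with h' | h' <;> rw [h'] at h2 <;> norm_num at h2

theorem sub7_dvd_card {q₀ : ℕ} (hF : Fintype.card F = q₀ ^ 2) {m : ℕ} (hm : m ∣ q₀ + 1) :
    m ∣ Fintype.card F - 1 := by
  have h2 := sub7_two_le hF
  have : Fintype.card F - 1 = (q₀ - 1) * (q₀ + 1) := by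
    rw [hF]
    obtain ⟨k, rfl⟩ : ∃ k, q₀ = k + 1 := ⟨q₀ - 1, by omega⟩
    rw [Nat.add_sub_cancel]
    have : (k + 1) ^ 2 = k * (k + 1 + 1) + 1 := by ring
    rw [this, Nat.add_sub_cancel]
  rw [this]
  exact Dvd.dvd.mul_left hm _

omit [Fintype F] in
/-- an element whose order divides `q₀ + 1` is inverted by the Frobenius of the subfield -/
theorem sub7_pow_one {q₀ : ℕ} {m : ℕ} (hm : m ∣ q₀ + 1) (a : F) (ha : a ^ m = 1) :
    a ^ (q₀ + 1) = 1 := by
  obtain ⟨k, hk⟩ := hm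
  rw [hk, pow_mul, ha, one_pow]

/-- an element of prime order `r ∣ q₀ + 1` -/
theorem sub7_exists_root {q₀ : ℕ} (hF : Fintype.card F = q₀ ^ 2) (r : ℕ) [Fact r.Prime]
    (hrq : r ∣ q₀ + 1) :
    ∃ ζ : F, ζ ≠ 0 ∧ ζ ^ r = 1 ∧ ζ ^ (q₀ + 1) = 1 ∧ ∀ k, ζ ^ k = 1 → r ∣ k := by
  obtain ⟨ζ, h0, hr, hk⟩ := slo7_exists_root (F := F) r (sub7_dvd_card hF hrq)
  exact ⟨ζ, h0, hr, sub7_pow_one hrq ζ hr, hk⟩

theorem derange_split_gen_sub [DecidableEq F] (F₀ : Subfield F) {q₀ : ℕ} (hF₀ : Nat.card ↥F₀ = q₀)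
    (hcard : Fintype.card F = q₀ ^ 2) (n : ℕ) (hn : 3 ≤ n) (hpair : FrobPairing F₀ n q₀) (r : ℕ)
    [Fact r.Prime] (hr5 : 5 ≤ r) (hrq : r ∣ q₀ + 1) (hne : ¬ (n = 5 ∧ r = 5)) :
    ∃ x : GL (Fin n) F, x ∈ Cfsg.Geo.specialLinear (Fin n) F ∧ x ^ r = 1 ∧
      (∀ z : F, (x : Matrix (Fin n) (Fin n) F) ≠ z • (1 : Matrix (Fin n) (Fin n) F)) ∧
      ∀ g : GL (Fin n) F, g⁻¹ * x * g ∉ HS F₀ n := by
  have hr : r.Prime := Fact.out
  obtain ⟨ζ, hζ0, hζr, hζq, hpow⟩ := sub7_exists_root (F := F) hcard r hrq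
  have h1 : ζ ^ 1 ≠ 1 := fun h => by
    have := Nat.le_of_dvd (by norm_num) (hpow 1 h); omega
  have h2 : ζ ^ 2 ≠ 1 := fun h => by
    have := Nat.le_of_dvd (by norm_num) (hpow 2 h); omega
  have h3 : ζ ^ 3 ≠ 1 := fun h => by
    have := Nat.le_of_dvd (by norm_num) (hpow 3 h); omega
  have h4 : ζ ^ 4 ≠ 1 := fun h => by
    have := Nat.le_of_dvd (by norm_num) (hpow 4 h); omega
  have h6 : ζ ^ 6 ≠ 1 := fun h => by
    have hd := hpow 6 h
    have hle := Nat.le_of_dvd (by norm_num) hd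
    have : r = 5 ∨ r = 6 := by omega
    rcases this with h' | h'
    · rw [h'] at hd; omega
    · rw [h'] at hr; exact absurd hr (by norm_num)
  have h5 : ζ ^ 5 = 1 → r = 5 := fun h =>
    (Nat.prime_dvd_prime_iff_eq hr (by norm_num)).mp (hpow 5 h)
  rw [pow_one] at h1
  obtain ⟨w, hwdef⟩ : ∃ w : F, w = (ζ⁻¹) ^ 2 := ⟨_, rfl⟩
  have hw : ζ * ζ * w = 1 := by rw [hwdef]; field_simp
  have hw0 : w ≠ 0 := by rw [hwdef]; exact pow_ne_zero _ (inv_ne_zero hζ0)
  have hw1 : w ≠ 1 := by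
    intro h
    rw [h, mul_one, ← pow_two] at hw
    exact h2 hw
  have hwζ : w ≠ ζ := by
    intro h
    rw [h] at hw
    exact h3 (by rw [← hw]; ring)
  have hwr : w ^ r = 1 := by
    rw [hwdef, ← pow_mul, mul_comm, pow_mul, inv_pow, hζr, inv_one, one_pow]
  have hwq : w ^ (q₀ + 1) = 1 := sub7_pow_one hrq w hwr
  let d : Fin n → F := fun k => diagEntries ζ w k
  have hE : ∀ α : F, (Finset.univ.filter fun k : Fin n => d k = α).card =
      (if ζ = α then 2 else 0) + (if w = α then 1 else 0) + (if 1 = α then n - 3 else 0) :=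
    fun α => card_diagEntries hn ζ w α
  have hdet : ∏ k, d k = 1 := prod_diagEntries hn ζ w hw
  have hns : ∃ a b, d a ≠ d b := by
    refine ⟨⟨0, by omega⟩, ⟨2, by omega⟩, ?_⟩
    show diagEntries ζ w 0 ≠ diagEntries ζ w 2
    simp only [diagEntries]
    norm_num
    exact fun h => hwζ h.symm
  obtain ⟨x, hx, hxSL, hxns, hxd⟩ := sub7_diag_core F₀ n q₀ hpair d hdet hns (by
    intro c hc0 hpair
    have hEζ : (Finset.univ.filter fun k : Fin n => d k = ζ).card = 2 := by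
      rw [hE, if_pos rfl, if_neg hwζ, if_neg (Ne.symm h1)]
    have hEw : (Finset.univ.filter fun k : Fin n => d k = w).card = 1 := by
      rw [hE, if_neg (Ne.symm hwζ), if_pos rfl, if_neg (Ne.symm hw1)]
    have pζ := hpair ζ hζq
    rw [hEζ, hE] at pζ
    have pw := hpair w hwq
    rw [hEw, hE] at pw
    have hcase : c = ζ * ζ ∨ (c = ζ ∧ n = 5) := by
      by_cases a : ζ = c / ζ
      · left
        rw [eq_div_iff hζ0] at a
        exact a.symm
      · rw [if_neg a] at pζ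
        by_cases b : w = c / ζ
        · have e : (1 : F) ≠ c / ζ := fun h => hw1 (b.trans h.symm)
          rw [if_pos b, if_neg e] at pζ
          omega
        · rw [if_neg b] at pζ
          by_cases e : (1 : F) = c / ζ
          · rw [if_pos e] at pζ
            right
            rw [eq_div_iff hζ0, one_mul] at e
            exact ⟨e.symm, by omega⟩
          · rw [if_neg e] at pζ
            omega
    rcases hcase with hc | ⟨hc, hn5⟩
    · have hcw : c / w = ζ ^ 4 := by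
        rw [div_eq_iff hw0, hc]
        linear_combination (-(ζ ^ 2)) * hw
      rw [hcw] at pw
      have a : ζ ≠ ζ ^ 4 := by
        intro h
        apply h3
        have : ζ * ζ ^ 3 = ζ * 1 := by rw [mul_one]; rw [← pow_succ']; exact h.symm
        exact mul_left_cancel₀ hζ0 this
      have b : w ≠ ζ ^ 4 := by
        intro h
        apply h6
        rw [h] at hw
        rw [← hw]; ring
      have e : (1 : F) ≠ ζ ^ 4 := fun h => h4 h.symm
      rw [if_neg a, if_neg b, if_neg e] at pw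
      omega
    · have hcw : c / w = ζ ^ 3 := by
        rw [div_eq_iff hw0, hc]
        linear_combination (-ζ) * hw
      rw [hcw] at pw
      have a : ζ ≠ ζ ^ 3 := by
        intro h
        apply h2
        have : ζ * ζ ^ 2 = ζ * 1 := by rw [mul_one]; rw [← pow_succ']; exact h.symm
        exact mul_left_cancel₀ hζ0 this
      have b : w ≠ ζ ^ 3 := by
        intro h
        apply hne
        refine ⟨hn5, h5 ?_⟩
        rw [h] at hw
        rw [← hw]; ring
      have e : (1 : F) ≠ ζ ^ 3 := fun h => h3 h.symm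
      rw [if_neg a, if_neg b, if_neg e] at pw
      omega)
  refine ⟨x, hxSL, ?_, hxns, hxd⟩
  apply slo7_pow_eq_one x d hx r
  intro k
  show diagEntries ζ w k ^ r = 1
  rcases diagEntries_mem ζ w k with h | h | h
  · rw [h, hζr]
  · rw [h, hwr]
  · rw [h, one_pow]

theorem derange_split_three_sub [DecidableEq F] (F₀ : Subfield F) {q₀ : ℕ}
    (hF₀ : Nat.card ↥F₀ = q₀) (hcard : Fintype.card F = q₀ ^ 2) (n : ℕ) (hn : 4 ≤ n) (hn6 : n ≠ 6)
    (hpair : FrobPairing F₀ n q₀) (hrq : 3 ∣ q₀ + 1) :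
    ∃ x : GL (Fin n) F, x ∈ Cfsg.Geo.specialLinear (Fin n) F ∧ x ^ 3 = 1 ∧
      (∀ z : F, (x : Matrix (Fin n) (Fin n) F) ≠ z • (1 : Matrix (Fin n) (Fin n) F)) ∧
      ∀ g : GL (Fin n) F, g⁻¹ * x * g ∉ HS F₀ n := by
  have : Fact (Nat.Prime 3) := ⟨by norm_num⟩
  obtain ⟨ζ, hζ0, hζr, hζq, hpow⟩ := sub7_exists_root (F := F) hcard 3 hrq
  have h1 : ζ ≠ 1 := fun h => by
    have := Nat.le_of_dvd (by norm_num) (hpow 1 (by rw [pow_one, h])); omega
  have h2 : ζ * ζ ≠ 1 := fun h => by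
    have := Nat.le_of_dvd (by norm_num) (hpow 2 (by rw [pow_two, h])); omega
  have hw : ζ * ζ * ζ = 1 := by rw [← hζr]; ring
  let d : Fin n → F := fun k => diagEntries ζ ζ k
  have hE : ∀ α : F, (Finset.univ.filter fun k : Fin n => d k = α).card =
      (if ζ = α then 2 else 0) + (if ζ = α then 1 else 0) + (if 1 = α then n - 3 else 0) :=
    fun α => card_diagEntries (by omega) ζ ζ α
  have hdet : ∏ k, d k = 1 := prod_diagEntries (by omega) ζ ζ hw
  have hns : ∃ a b, d a ≠ d b := by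
    refine ⟨⟨0, by omega⟩, ⟨3, by omega⟩, ?_⟩
    show diagEntries ζ ζ 0 ≠ diagEntries ζ ζ 3
    simp only [diagEntries]
    norm_num
    exact h1
  obtain ⟨x, hx, hxSL, hxns, hxd⟩ := sub7_diag_core F₀ n q₀ hpair d hdet hns (by
    intro c hc0 hpair
    have pζ := hpair ζ hζq
    rw [hE ζ, hE (c / ζ), if_pos rfl, if_pos rfl, if_neg (Ne.symm h1)] at pζ
    have p1 := hpair 1 (one_pow _)
    rw [hE 1, hE (c / 1), div_one, if_neg h1, if_neg h1, if_pos rfl] at p1
    have hc : c = ζ * ζ := by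
      by_cases a : ζ = c / ζ
      · rw [eq_div_iff hζ0] at a
        exact a.symm
      · rw [if_neg a, if_neg a] at pζ
        by_cases e : (1 : F) = c / ζ
        · rw [if_pos e] at pζ
          omega
        · rw [if_neg e] at pζ
          omega
    have a : ζ ≠ c := by
      rw [hc]
      intro h
      apply h1
      have : ζ * 1 = ζ * ζ := by rw [mul_one]; exact h
      exact (mul_left_cancel₀ hζ0 this).symm
    have e : (1 : F) ≠ c := by
      rw [hc]; exact fun h => h2 h.symm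
    rw [if_neg a, if_neg a, if_neg e] at p1
    omega)
  refine ⟨x, hxSL, ?_, hxns, hxd⟩
  apply slo7_pow_eq_one x d hx 3
  intro k
  show diagEntries ζ ζ k ^ 3 = 1
  rcases diagEntries_mem ζ ζ k with h | h | h
  · rw [h, hζr]
  · rw [h, hζr]
  · rw [h, one_pow]

end gen

section sq

variable [Fintype F]

/-- `μ` of order `r²` gives `lam := μ⁻¹`, `ζ := μ ^ r`; both are inverted by the Frobenius of the
subfield when `r² ∣ q₀ + 1` -/
theorem sub7_exists_root_sq {q₀ : ℕ} (hF : Fintype.card F = q₀ ^ 2) (r : ℕ) [Fact r.Prime]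
    (hrq : r ^ 2 ∣ q₀ + 1) :
    ∃ ζ lam : F, ζ ≠ 0 ∧ lam ≠ 0 ∧ ζ ^ r = 1 ∧ lam ^ r * ζ = 1 ∧ ζ ^ (q₀ + 1) = 1 ∧
      lam ^ (q₀ + 1) = 1 ∧ ∀ k, ζ ^ k = 1 → r ∣ k := by
  obtain ⟨ζ, lam, hζ0, hl0, hζr, hlr, hk⟩ :=
    slo7_exists_root_sq (F := F) r (sub7_dvd_card hF hrq)
  have hlr' : lam ^ r = ζ⁻¹ := eq_inv_of_mul_eq_one_left hlr
  have hl2 : lam ^ (r ^ 2) = 1 := by
    rw [pow_two, pow_mul, hlr', inv_pow, hζr, inv_one]
  have hrq1 : r ∣ q₀ + 1 := (Dvd.intro_left _ (by rw [pow_two])).trans hrq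
  exact ⟨ζ, lam, hζ0, hl0, hζr, hlr, sub7_pow_one hrq1 ζ hζr,
    sub7_pow_one hrq lam hl2, hk⟩

theorem derange_split_sq_sub [DecidableEq F] (F₀ : Subfield F) {q₀ : ℕ} (hF₀ : Nat.card ↥F₀ = q₀)
    (hcard : Fintype.card F = q₀ ^ 2) (r : ℕ) [Fact r.Prime] (hr2 : r ≠ 2)
    (hpair : FrobPairing F₀ r q₀) (hrq : r ^ 2 ∣ q₀ + 1) :
    ∃ x : GL (Fin r) F, x ∈ Cfsg.Geo.specialLinear (Fin r) F ∧
      (∃ z : F, ((x ^ r : GL (Fin r) F) : Matrix (Fin r) (Fin r) F) =
        z • (1 : Matrix (Fin r) (Fin r) F)) ∧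
      (∀ z : F, (x : Matrix (Fin r) (Fin r) F) ≠ z • (1 : Matrix (Fin r) (Fin r) F)) ∧
      ∀ g : GL (Fin r) F, g⁻¹ * x * g ∉ HS F₀ r := by
  have hr : r.Prime := Fact.out
  have hr3 : 3 ≤ r := by
    have := hr.two_le
    omega
  obtain ⟨ζ, lam, hζ0, hl0, hζr, hlr, hζq, hlq, hpow⟩ :=
    sub7_exists_root_sq (F := F) hcard r hrq
  have h1 : ζ ≠ 1 := fun h => by
    have := Nat.le_of_dvd (by norm_num) (hpow 1 (by rw [pow_one, h])); omega
  have h2 : ζ * ζ ≠ 1 := fun h => by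
    have := Nat.le_of_dvd (by norm_num) (hpow 2 (by rw [pow_two, h])); omega
  have hab : lam * ζ ≠ lam := by
    intro h
    apply h1
    have : lam * ζ = lam * 1 := by rw [mul_one]; exact h
    exact mul_left_cancel₀ hl0 this
  let d : Fin r → F := fun k => sqEntries (lam * ζ) lam k
  have hE : ∀ α : F, (Finset.univ.filter fun k : Fin r => d k = α).card =
      (if lam * ζ = α then 1 else 0) + (if lam = α then r - 1 else 0) :=
    fun α => card_sqEntries (by omega) (lam * ζ) lam α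
  have hdet : ∏ k, d k = 1 := by
    have := prod_sqEntries (n := r) (by omega) (lam * ζ) lam
    rw [this, ← hlr]
    have e : lam ^ r = lam ^ (r - 1) * lam := by
      rw [← pow_succ]
      congr 1
      omega
    rw [e]
    ring
  have hns : ∃ a b, d a ≠ d b := by
    refine ⟨⟨0, by omega⟩, ⟨1, by omega⟩, ?_⟩
    show sqEntries (lam * ζ) lam 0 ≠ sqEntries (lam * ζ) lam 1
    simp only [sqEntries]
    norm_num
    exact hab
  obtain ⟨x, hx, hxSL, hxns, hxd⟩ := sub7_diag_core F₀ r q₀ hpair d hdet hns (by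
    intro c hc0 hpair
    have hlζ0 : lam * ζ ≠ 0 := mul_ne_zero hl0 hζ0
    have hlζq : (lam * ζ) ^ (q₀ + 1) = 1 := by rw [mul_pow, hlq, hζq, one_mul]
    have pl := hpair lam hlq
    rw [hE lam, hE (c / lam), if_neg hab, if_pos rfl] at pl
    have pz := hpair (lam * ζ) hlζq
    rw [hE (lam * ζ), hE (c / (lam * ζ)), if_pos rfl, if_neg (Ne.symm hab)] at pz
    have hc : c = lam * lam := by
      by_cases b : lam = c / lam
      · rw [eq_div_iff hl0] at b
        exact b.symm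
      · rw [if_neg b] at pl
        by_cases a : lam * ζ = c / lam
        · rw [if_pos a] at pl
          omega
        · rw [if_neg a] at pl
          omega
    have hcz : c / (lam * ζ) = lam / ζ := by
      rw [hc, div_eq_div_iff hlζ0 hζ0]
      ring
    rw [hcz] at pz
    have a : lam * ζ ≠ lam / ζ := by
      intro h
      apply h2
      rw [eq_div_iff hζ0] at h
      have : lam * (ζ * ζ) = lam * 1 := by rw [mul_one, ← mul_assoc]; exact h
      exact mul_left_cancel₀ hl0 this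
    have b : lam ≠ lam / ζ := by
      intro h
      apply hab
      rw [eq_div_iff hζ0] at h
      exact h
    rw [if_neg a, if_neg b] at pz
    omega)
  refine ⟨x, hxSL, ⟨ζ⁻¹, ?_⟩, hxns, hxd⟩
  rw [slo7_pow_diag x d hx r]
  have hlr' : lam ^ r = ζ⁻¹ := eq_inv_of_mul_eq_one_left hlr
  have : (fun k => d k ^ r) = fun _ : Fin r => ζ⁻¹ := by
    funext k
    show sqEntries (lam * ζ) lam k ^ r = ζ⁻¹
    rcases sqEntries_mem (lam * ζ) lam k with h | h
    · rw [h, mul_pow, hζr, mul_one, hlr']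
    · rw [h, hlr']
  rw [this]
  ext i j
  by_cases hij : i = j
  · subst hij; simp
  · simp [hij]

end sq

end Cfsg.Agent.Lib.Helper40.SUB
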