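import Mathlib

set_option autoImplicit false

/-!
# K-Sp2G leaf Eb (S2411): an additive subgroup of a finite field containing `1` and stable under `k²`,
`k` a generator of the multiplicative group, is everything (every element is a sum of two squares)
-/

namespace Cfsg.Agent.Lib.Helper40.Sp2G

theorem addSubgroup_eq_top_of_sq {F : Type*} [Field F] [Fintype F] (k : F)
    (hgen : ∀ x : F, x ≠ 0 → ∃ j : ℕ, x = k ^ (j + 1)) (S : AddSubgroup F) (h1 : (1 : F) ∈ S)
    (hk : ∀ a ∈ S, k ^ 2 * a ∈ S) : ∀ a : F, a ∈ S := by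
  have hpow : ∀ i : ℕ, (k ^ 2) ^ i ∈ S := by
    intro i
    induction i with
    | zero => simpa using h1
    | succ i ih =>
      rw [pow_succ, mul_comm]
      exact hk _ ih
  have hsq : ∀ x : F, x ^ 2 ∈ S := by
    intro x
    by_cases hx : x = 0
    · subst hx
      simp
    · obtain ⟨j, rfl⟩ := hgen x hx
      rw [← pow_mul, mul_comm, pow_mul]
      exact hpow _
  intro a
  rcases Nat.mod_two_eq_zero_or_one (Fintype.card F) with hc | hc
  · have h2 : ringChar F = 2 := FiniteField.even_card_iff_char_two.2 hc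
    obtain ⟨r, hr⟩ := FiniteField.isSquare_of_char_two h2 a
    rw [hr, ← sq]
    exact hsq r
  · obtain ⟨x, y, hxy⟩ : ∃ x y : F, (Polynomial.X ^ 2 : Polynomial F).eval x +
        (Polynomial.X ^ 2 - Polynomial.C a : Polynomial F).eval y = 0 :=
      FiniteField.exists_root_sum_quadratic (Polynomial.degree_X_pow 2)
        (Polynomial.degree_X_pow_sub_C (by decide) _) hc
    have ha : a = x ^ 2 + y ^ 2 := by
      simp only [Polynomial.eval_C, Polynomial.eval_X, Polynomial.eval_pow, Polynomial.eval_sub] at hxy
      linear_combination -hxy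
    rw [ha]
    exact S.add_mem (hsq x) (hsq y)

end Cfsg.Agent.Lib.Helper40.Sp2G
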