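import Mathlib
import Cfsg.Prelude.Def_GeometricClasses
import Cfsg.Prelude.Def_ClassicalGeometry
import Cfsg.Agent.Lib.Helper69.SLTDefs
import Cfsg.Agent.Lib.Helper97.SLT3b

/-!
# K-SpT pack (S5980, architect helper86), leaf 598002 K-SpT-3b (helper40):
the diagonal element `diag(u at inl 0, u⁻¹ at inr 0, 1 elsewhere)` of `Sp_2d(F)`.
-/

set_option autoImplicit false

namespace Cfsg.Agent.Lib.Helper40.SpT

open Matrix Polynomial Cfsg.Agent.Lib.Helper69.SLT
open scoped Kronecker

variable {F : Type*} [Field F]

theorem spT_sympForm_apply (d : ℕ) (u v : Fin d ⊕ Fin d → F) :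
    Cfsg.sympForm d F u v =
      ∑ i, (u (Sum.inr i) * v (Sum.inl i) - u (Sum.inl i) * v (Sum.inr i)) := by
  unfold Cfsg.sympForm Matrix.J
  rw [Matrix.fromBlocks_mulVec]
  simp only [dotProduct, Fintype.sum_sum_type, Sum.elim_inl, Sum.elim_inr]
  simp only [Matrix.zero_mulVec, Matrix.neg_mulVec, Matrix.one_mulVec, zero_add, add_zero,
    Pi.neg_apply, Function.comp_apply, Finset.sum_sub_distrib]
  simp only [mul_neg, Finset.sum_neg_distrib]
  ring

theorem exists_sp_diag (d : ℕ) (hd : 2 ≤ d) (u : Fˣ) (hu : u ≠ 1) (r : ℕ) (hur : u ^ r = 1) :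
    ∃ x ∈ Cfsg.spGL d F, x ^ r = 1 ∧
      (∀ z : F, (x : Matrix (Fin d ⊕ Fin d) (Fin d ⊕ Fin d) F) ≠ z • (1 : Matrix (Fin d ⊕ Fin d) (Fin d ⊕ Fin d) F)) ∧
      eigDim (x : Matrix (Fin d ⊕ Fin d) (Fin d ⊕ Fin d) F) 1 + 2 = 2 * d ∧
      (u ≠ u⁻¹ → eigDim (x : Matrix (Fin d ⊕ Fin d) (Fin d ⊕ Fin d) F) (u : F) = 1) ∧
      (u = u⁻¹ → eigDim (x : Matrix (Fin d ⊕ Fin d) (Fin d ⊕ Fin d) F) (u : F) = 2) := by
  classical
  obtain ⟨i0, hi0⟩ : ∃ i0 : Fin d, i0 = ⟨0, by omega⟩ := ⟨_, rfl⟩
  obtain ⟨i1, hi1⟩ : ∃ i1 : Fin d, i1 = ⟨1, by omega⟩ := ⟨_, rfl⟩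
  have h01 : i1 ≠ i0 := by
    intro h
    have := congrArg Fin.val h
    rw [hi0, hi1] at this
    simp at this
  obtain ⟨dv, hdv⟩ : ∃ dv : Fin d ⊕ Fin d → Fˣ,
      dv = Sum.elim (Function.update (1 : Fin d → Fˣ) i0 u)
        (Function.update (1 : Fin d → Fˣ) i0 u⁻¹) := ⟨_, rfl⟩
  have hl : ∀ i, dv (Sum.inl i) = if i = i0 then u else 1 := by
    intro i
    rw [hdv, Sum.elim_inl, Function.update_apply]
    rfl
  have hr' : ∀ i, dv (Sum.inr i) = if i = i0 then u⁻¹ else 1 := by
    intro i
    rw [hdv, Sum.elim_inr, Function.update_apply]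
    rfl
  have huF : (u : F) ≠ 1 := fun h => hu (Units.ext h)
  have hui : u⁻¹ ≠ 1 := fun h => hu (inv_eq_one.mp h)
  have huiF : ((u⁻¹ : Fˣ) : F) ≠ 1 := fun h => hui (Units.ext h)
  have hcoe : ((Cfsg.Agent.Lib.Helper97.SLT.diagGL (Fin d ⊕ Fin d) dv : GL (Fin d ⊕ Fin d) F) :
      Matrix (Fin d ⊕ Fin d) (Fin d ⊕ Fin d) F) = Matrix.diagonal (fun k => (dv k : F)) :=
    Cfsg.Agent.Lib.Helper97.SLT.diagGL_coe dv
  have hprod : ∀ i, ((dv (Sum.inl i) : Fˣ) : F) * ((dv (Sum.inr i) : Fˣ) : F) = 1 := by
    intro i
    rw [hl, hr']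
    by_cases h : i = i0
    · rw [if_pos h, if_pos h, ← Units.val_mul, mul_inv_cancel, Units.val_one]
    · rw [if_neg h, if_neg h, Units.val_one, mul_one]
  have hcard : Fintype.card (Fin d ⊕ Fin d) = 2 * d := by
    rw [Fintype.card_sum, Fintype.card_fin]; ring
  have hpair : ({Sum.inl i0, Sum.inr i0} : Finset (Fin d ⊕ Fin d)).card = 2 :=
    Finset.card_pair (by simp)
  refine ⟨Cfsg.Agent.Lib.Helper97.SLT.diagGL (Fin d ⊕ Fin d) dv, ?_, ?_, ?_, ?_, ?_, ?_⟩
  · intro a b
    show Cfsg.sympForm d F
        (((Cfsg.Agent.Lib.Helper97.SLT.diagGL (Fin d ⊕ Fin d) dv : GL (Fin d ⊕ Fin d) F) :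
          Matrix (Fin d ⊕ Fin d) (Fin d ⊕ Fin d) F) *ᵥ a)
        (((Cfsg.Agent.Lib.Helper97.SLT.diagGL (Fin d ⊕ Fin d) dv : GL (Fin d ⊕ Fin d) F) :
          Matrix (Fin d ⊕ Fin d) (Fin d ⊕ Fin d) F) *ᵥ b) = Cfsg.sympForm d F a b
    rw [hcoe, spT_sympForm_apply, spT_sympForm_apply]
    apply Finset.sum_congr rfl
    intro i _
    simp only [Matrix.mulVec_diagonal]
    linear_combination (a (Sum.inr i) * b (Sum.inl i) - a (Sum.inl i) * b (Sum.inr i)) * hprod i
  · rw [← map_pow]
    have : dv ^ r = 1 := by
      funext k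
      rw [Pi.pow_apply, Pi.one_apply]
      rcases k with i | i
      · rw [hl]
        by_cases h : i = i0
        · rw [if_pos h, hur]
        · rw [if_neg h, one_pow]
      · rw [hr']
        by_cases h : i = i0
        · rw [if_pos h, inv_pow, hur, inv_one]
        · rw [if_neg h, one_pow]
    rw [this, map_one]
  · intro z hz
    rw [hcoe] at hz
    have e0 := congrFun (congrFun hz (Sum.inl i0)) (Sum.inl i0)
    have e1 := congrFun (congrFun hz (Sum.inl i1)) (Sum.inl i1)
    rw [Matrix.diagonal_apply_eq, Matrix.smul_apply, Matrix.one_apply_eq, smul_eq_mul, mul_one,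
      hl, if_pos rfl] at e0
    rw [Matrix.diagonal_apply_eq, Matrix.smul_apply, Matrix.one_apply_eq, smul_eq_mul, mul_one,
      hl, if_neg h01, Units.val_one] at e1
    exact huF (e0.trans e1.symm)
  · rw [hcoe, Cfsg.Agent.Lib.Helper97.SLT.eigDim_diagonal]
    have hS : (Finset.univ.filter fun k : Fin d ⊕ Fin d => ((dv k : Fˣ) : F) = 1) =
        ({Sum.inl i0, Sum.inr i0} : Finset (Fin d ⊕ Fin d))ᶜ := by
      ext k
      rw [Finset.mem_filter, Finset.mem_compl, Finset.mem_insert, Finset.mem_singleton]
      simp only [Finset.mem_univ, true_and]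
      rcases k with i | i
      · rw [hl]
        by_cases h : i = i0
        · rw [if_pos h, h]
          constructor
          · intro h'; exact absurd h' huF
          · intro h'; exact absurd (Or.inl rfl) h'
        · rw [if_neg h, Units.val_one]
          constructor
          · intro _ h'
            rcases h' with h' | h'
            · exact h (Sum.inl_injective h')
            · exact absurd h' (by simp)
          · intro _; rfl
      · rw [hr']
        by_cases h : i = i0
        · rw [if_pos h, h]
          constructor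
          · intro h'; exact absurd h' huiF
          · intro h'; exact absurd (Or.inr rfl) h'
        · rw [if_neg h, Units.val_one]
          constructor
          · intro _ h'
            rcases h' with h' | h'
            · exact absurd h' (by simp)
            · exact h (Sum.inr_injective h')
          · intro _; rfl
    rw [hS, Finset.card_compl, hcard, hpair]
    omega
  · intro hne
    have hneF : ((u⁻¹ : Fˣ) : F) ≠ (u : F) := fun h => hne (Units.ext h).symm
    rw [hcoe, Cfsg.Agent.Lib.Helper97.SLT.eigDim_diagonal]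
    have hS : (Finset.univ.filter fun k : Fin d ⊕ Fin d => ((dv k : Fˣ) : F) = (u : F)) =
        ({Sum.inl i0} : Finset (Fin d ⊕ Fin d)) := by
      ext k
      rw [Finset.mem_filter, Finset.mem_singleton]
      simp only [Finset.mem_univ, true_and]
      rcases k with i | i
      · rw [hl]
        by_cases h : i = i0
        · rw [if_pos h, h]
          simp
        · rw [if_neg h, Units.val_one]
          constructor
          · intro h'; exact absurd h'.symm huF
          · intro h'; exact absurd (Sum.inl_injective h') h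
      · rw [hr']
        by_cases h : i = i0
        · rw [if_pos h, h]
          constructor
          · intro h'; exact absurd h' hneF
          · intro h'; exact absurd h' (by simp)
        · rw [if_neg h, Units.val_one]
          constructor
          · intro h'; exact absurd h'.symm huF
          · intro h'; exact absurd h' (by simp)
    rw [hS, Finset.card_singleton]
  · intro heq
    have heqF : ((u⁻¹ : Fˣ) : F) = (u : F) := by rw [← heq]
    rw [hcoe, Cfsg.Agent.Lib.Helper97.SLT.eigDim_diagonal]
    have hS : (Finset.univ.filter fun k : Fin d ⊕ Fin d => ((dv k : Fˣ) : F) = (u : F)) =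
        ({Sum.inl i0, Sum.inr i0} : Finset (Fin d ⊕ Fin d)) := by
      ext k
      rw [Finset.mem_filter, Finset.mem_insert, Finset.mem_singleton]
      simp only [Finset.mem_univ, true_and]
      rcases k with i | i
      · rw [hl]
        by_cases h : i = i0
        · rw [if_pos h, h]
          simp
        · rw [if_neg h, Units.val_one]
          constructor
          · intro h'; exact absurd h'.symm huF
          · intro h'
            rcases h' with h' | h'
            · exact absurd (Sum.inl_injective h') h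
            · exact absurd h' (by simp)
      · rw [hr']
        by_cases h : i = i0
        · rw [if_pos h, h]
          constructor
          · intro _; exact Or.inr rfl
          · intro _; exact heqF
        · rw [if_neg h, Units.val_one]
          constructor
          · intro h'; exact absurd h'.symm huF
          · intro h'
            rcases h' with h' | h'
            · exact absurd h' (by simp)
            · exact absurd (Sum.inr_injective h') h
    rw [hS, hpair]

end Cfsg.Agent.Lib.Helper40.SpT
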