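import Mathlib
import Cfsg.Agent.Lib.Helper69.StNDefs

set_option autoImplicit false

/-! K-StN leaf G2 (S2401 pack, architect helper69): the Bruhat decomposition `S = U N U` by
left-multiplication induction over the simple root elements. -/

namespace Cfsg.Agent.Lib.Helper40.StN

open Cfsg.Agent.Lib.Helper69.StN Matrix

variable {n : ℕ} {K : Type*} [Field K] {S : Type*} [Group S] {X : Fin n → Fin n → K → S}

/-- the big cell union `U N U`. -/
def g2Cell (X : Fin n → Fin n → K → S) (g : S) : Prop :=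
  ∃ u ∈ Upos X, ∃ m ∈ Nmon X, ∃ u' ∈ Upos X, g = u * m * u'

lemma g2_lt_of_succ {a b : Fin n} (hab : b.val = a.val + 1) : a < b := by
  rw [Fin.lt_def]; omega

/-- left multiplication by a positive simple root element preserves `U N U`. -/
lemma g2_pos {a b : Fin n} (hab : b.val = a.val + 1) (t : K) {x : S} (hx : g2Cell X x) :
    g2Cell X (X a b t * x) := by
  obtain ⟨u, hu, m, hm, u', hu', rfl⟩ := hx
  refine ⟨X a b t * u, (Upos X).mul_mem (X_mem_Upos X (g2_lt_of_succ hab) t) hu, m, hm, u', hu', ?_⟩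
  group

/-- left multiplication by a negative simple root element preserves `U N U`. -/
lemma g2_neg
    (hdec : ∀ {a b : Fin n}, b.val = a.val + 1 → ∀ g ∈ Upos X, ∃ g' ∈ UposA X a b, ∃ t : K, g = g' * X a b t)
    (hconj : ∀ {a b : Fin n}, b.val = a.val + 1 → ∀ t : K, ∀ g ∈ UposA X a b,
      X b a t * g * (X b a t)⁻¹ ∈ UposA X a b)
    (hstep : ∀ {a b : Fin n}, b.val = a.val + 1 → ∀ {m : S}, m ∈ Nmon X → ∀ t c : K,
      ∃ u ∈ Upos X, ∃ m' ∈ Nmon X, ∃ u' ∈ Upos X, X b a t * X a b c * m = u * m' * u')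
    {a b : Fin n} (hab : b.val = a.val + 1) (t : K) {x : S} (hx : g2Cell X x) :
    g2Cell X (X b a t * x) := by
  obtain ⟨u, hu, m, hm, u', hu', rfl⟩ := hx
  obtain ⟨g', hg', c, rfl⟩ := hdec hab u hu
  obtain ⟨u1, hu1, m', hm', u1', hu1', e⟩ := hstep hab hm t c
  refine ⟨X b a t * g' * (X b a t)⁻¹ * u1,
    (Upos X).mul_mem (UposA_le_Upos X a b (hconj hab t g' hg')) hu1, m', hm', u1' * u',
    (Upos X).mul_mem hu1' hu', ?_⟩
  have e2 : X b a t * (g' * X a b c * m * u') =
      X b a t * g' * (X b a t)⁻¹ * (X b a t * X a b c * m) * u' := by group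
  rw [e2, e]
  group

theorem bruhat (hX : IsSt X)
    (hsimple : Subgroup.closure {g | ∃ (a b : Fin n) (t : K), b.val = a.val + 1 ∧ (g = X a b t ∨ g = X b a t)} = ⊤)
    (hdec : ∀ {a b : Fin n}, b.val = a.val + 1 → ∀ g ∈ Upos X, ∃ g' ∈ UposA X a b, ∃ t : K, g = g' * X a b t)
    (hconj : ∀ {a b : Fin n}, b.val = a.val + 1 → ∀ t : K, ∀ g ∈ UposA X a b,
      X b a t * g * (X b a t)⁻¹ ∈ UposA X a b)
    (hstep : ∀ {a b : Fin n}, b.val = a.val + 1 → ∀ {m : S}, m ∈ Nmon X → ∀ t c : K,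
      ∃ u ∈ Upos X, ∃ m' ∈ Nmon X, ∃ u' ∈ Upos X, X b a t * X a b c * m = u * m' * u') :
    ∀ g : S, ∃ u ∈ Upos X, ∃ m ∈ Nmon X, ∃ u' ∈ Upos X, g = u * m * u' := by
  -- every element of the closure maps `U N U` into itself by left multiplication
  have key : ∀ g ∈ Subgroup.closure {g | ∃ (a b : Fin n) (t : K),
      b.val = a.val + 1 ∧ (g = X a b t ∨ g = X b a t)}, ∀ x : S, g2Cell X x → g2Cell X (g * x) := by
    intro g hg
    induction hg using Subgroup.closure_induction'' with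
    | mem y hy =>
      obtain ⟨a, b, t, hab, h | h⟩ := hy
      · intro x hx; rw [h]; exact g2_pos hab t hx
      · intro x hx; rw [h]; exact g2_neg hdec hconj hstep hab t hx
    | inv_mem y hy =>
      obtain ⟨a, b, t, hab, h | h⟩ := hy
      · intro x hx
        rw [h, hX.inv (g2_lt_of_succ hab).ne]
        exact g2_pos hab (-t) hx
      · intro x hx
        rw [h, hX.inv (g2_lt_of_succ hab).ne']
        exact g2_neg hdec hconj hstep hab (-t) hx
    | one => intro x hx; simpa using hx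
    | mul y z _ _ ihy ihz =>
      intro x hx
      rw [mul_assoc]
      exact ihy _ (ihz x hx)
  intro g
  have hg : g ∈ Subgroup.closure {g | ∃ (a b : Fin n) (t : K),
      b.val = a.val + 1 ∧ (g = X a b t ∨ g = X b a t)} := by rw [hsimple]; trivial
  have h1 : g2Cell X (1 : S) := ⟨1, (Upos X).one_mem, 1, (Nmon X).one_mem, 1, (Upos X).one_mem, by simp⟩
  have h2 := key g hg 1 h1
  rw [mul_one] at h2
  exact h2

end Cfsg.Agent.Lib.Helper40.StN
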