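import Mathlib
import Cfsg.Agent.Lib.Helper49.StSUDefs

/-!
# K-StSU pack (S2546), leaf F2S (keystone 254607, architect helper49): the dichotomy for a monomial matrix and a
short simple root (twin of `Helper56.StSpF2S`).
-/

set_option autoImplicit false
set_option linter.unusedSectionVars false
set_option linter.unusedVariables false

namespace Cfsg.Agent.Lib.Helper40.StSU

open Cfsg Cfsg.Agent.Lib.Helper49.StSU Matrix

variable {n : ℕ} {F : Type*} [Field F] {q : ℕ}

/-- conjugating by a monomial matrix: it is enough to look at the entries `(σ a, σ b)` -/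
theorem f2s_conj_mem_B_of (g X : GJ n F q) (σ : Equiv.Perm (Fin n)) (hg : MonWith n F q g σ)
    (h : ∀ a b : Fin n, b < a → mat X (σ a) (σ b) = 0) : g⁻¹ * X * g ∈ Bsub n F q := by
  rw [mem_Bsub_iff]
  intro a b hab
  have h1 : g * (g⁻¹ * X * g) = X * g := by group
  have h2 : mat g * mat (g⁻¹ * X * g) = mat X * mat g := by rw [← mat_mul, h1, mat_mul]
  have h3 := congrFun (congrFun h2 (σ a)) b
  rw [Matrix.mul_apply, Matrix.mul_apply] at h3
  rw [Finset.sum_eq_single a, Finset.sum_eq_single (σ b)] at h3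
  · rw [h _ _ hab, zero_mul] at h3
    have hne : mat g (σ a) a ≠ 0 := (hg.1 _ _).mpr rfl
    exact (mul_eq_zero.mp h3).resolve_left hne
  · intro c _ hc
    have : mat g c b = 0 := by
      by_contra hne
      exact hc ((hg.1 _ _).mp hne)
    rw [this, mul_zero]
  · intro hh; exact absurd (Finset.mem_univ _) hh
  · intro c _ hc
    have : mat g (σ a) c = 0 := by
      by_contra hne
      exact hc (σ.injective ((hg.1 _ _).mp hne)).symm
    rw [this, zero_mul]
  · intro hh; exact absurd (Finset.mem_univ _) hh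

/-- one half of the dichotomy, for a root element supported at `(p, r)` and `(rev r, rev p)` -/
theorem f2s_half (p r : Fin n) (g X : GJ n F q) (σ : Equiv.Perm (Fin n)) (hg : MonWith n F q g σ)
    (hX : ∀ a b : Fin n, ¬ ((a = p ∧ b = r) ∨ (a = Fin.rev r ∧ b = Fin.rev p)) →
      mat X a b = (1 : Matrix (Fin n) (Fin n) F) a b)
    (hlt : σ.symm p < σ.symm r) : g⁻¹ * X * g ∈ Bsub n F q := by
  apply f2s_conj_mem_B_of g X σ hg
  intro a b hab
  have hne : σ a ≠ σ b := fun e => (ne_of_gt hab) (σ.injective e)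
  rw [hX (σ a) (σ b), Matrix.one_apply_ne hne]
  rintro (⟨ha, hb⟩ | ⟨ha, hb⟩)
  · have ha' : σ.symm p = a := by rw [← ha, Equiv.symm_apply_apply]
    have hb' : σ.symm r = b := by rw [← hb, Equiv.symm_apply_apply]
    rw [ha', hb'] at hlt
    exact lt_asymm hlt hab
  · have ha' : σ.symm r = Fin.rev a := by
      rw [Equiv.symm_apply_eq, hg.2 a, ha, Fin.rev_rev]
    have hb' : σ.symm p = Fin.rev b := by
      rw [Equiv.symm_apply_eq, hg.2 b, hb, Fin.rev_rev]
    rw [ha', hb', Fin.rev_lt_rev] at hlt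
    exact lt_asymm hlt hab

/-- LEAF F2S (254607) -/
theorem dich_short (ok : Ok n F q) (i : ℕ) (hi : i + 1 < n / 2) (g : GJ n F q)
    (σ : Equiv.Perm (Fin n)) (hg : MonWith n F q g σ) :
    (∀ x ∈ XS n F q i, g⁻¹ * x * g ∈ Bsub n F q) ∨
      (∀ y ∈ YS n F q i, g⁻¹ * y * g ∈ Bsub n F q) := by
  have hi1 : i + 1 < n := by omega
  have hi0 : i < n := by omega
  set i0 : Fin n := ⟨i, hi0⟩ with hi0def
  set i1 : Fin n := ⟨i + 1, hi1⟩ with hi1def
  have hr0 : (Fin.rev i0).val = n - 1 - i := by rw [Fin.val_rev]; simp only [hi0def]; omega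
  have hr1 : (Fin.rev i1).val = n - 2 - i := by rw [Fin.val_rev]; simp only [hi1def]; omega
  have hne01 : i0 ≠ i1 := by
    intro e
    have := congrArg Fin.val e
    simp only [hi0def, hi1def] at this
    omega
  have hne : σ.symm i0 ≠ σ.symm i1 := fun e => hne01 (σ.symm.injective e)
  rcases lt_or_gt_of_ne hne with h | h
  · left
    intro x hx
    apply f2s_half i0 i1 g x σ hg _ h
    intro a b hab
    apply hx a b
    rintro (⟨ha, hb⟩ | ⟨ha, hb⟩)
    · exact hab (Or.inl ⟨Fin.ext ha, Fin.ext hb⟩)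
    · exact hab (Or.inr ⟨Fin.ext (by rw [hr1]; exact ha), Fin.ext (by rw [hr0]; exact hb)⟩)
  · right
    intro y hy
    apply f2s_half i1 i0 g y σ hg _ h
    intro a b hab
    apply hy a b
    rintro (⟨ha, hb⟩ | ⟨ha, hb⟩)
    · exact hab (Or.inl ⟨Fin.ext ha, Fin.ext hb⟩)
    · exact hab (Or.inr ⟨Fin.ext (by rw [hr0]; exact ha), Fin.ext (by rw [hr1]; exact hb)⟩)

end Cfsg.Agent.Lib.Helper40.StSU
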