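import Cfsg.Agent.Lib.Helper49.StSpDefs

/-!
# K-StSp-C3b (keystone 254512, architect helper49, S2545): distinct simple reflections of `Sp_{2m}(F)` are distinct
modulo `B`.
-/

set_option autoImplicit false
set_option linter.unusedSectionVars false
set_option linter.unusedVariables false

namespace Cfsg.Agent.Lib.Helper40.StSp

open Cfsg Matrix Cfsg.Agent.Lib.Helper49.StSp

variable {m : ℕ} {F : Type*} [Field F]

theorem permMatrix_apply' (σ : Equiv.Perm (Fin m)) (a b : Fin m) :
    σ.permMatrix F a b = if σ a = b then 1 else 0 := by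
  simp [Equiv.Perm.permMatrix, PEquiv.toMatrix_apply, Equiv.toPEquiv_apply, eq_comm]

theorem sShortMat_mul_self (i j : Fin m) : sShortMat m F i j * sShortMat m F i j = 1 := by
  unfold sShortMat
  rw [Matrix.fromBlocks_multiply]
  simp only [Matrix.mul_zero, Matrix.zero_mul, add_zero, zero_add]
  rw [← Matrix.permMatrix_mul, Equiv.swap_mul_self, Matrix.permMatrix_one, Matrix.fromBlocks_one]

theorem sShort_mul_self (i j : Fin m) : sShort m F i j * sShort m F i j = 1 :=
  Subtype.ext (sShortMat_mul_self i j)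

theorem sShort_inv (i j : Fin m) : (sShort m F i j)⁻¹ = sShort m F i j :=
  inv_eq_of_mul_eq_one_right (sShort_mul_self i j)

/-- the `(e, e)` block of `sShort * sShort` -/
theorem sShort_mul_sShort_apply (i i' j j' : Fin m) (a b : Fin m) :
    ((sShort m F i i' * sShort m F j j' : SpG m F) : Matrix (Fin m ⊕ Fin m) (Fin m ⊕ Fin m) F)
      (Sum.inl a) (Sum.inl b) = if Equiv.swap j j' (Equiv.swap i i' a) = b then 1 else 0 := by
  change (sShortMat m F i i' * sShortMat m F j j') (Sum.inl a) (Sum.inl b) = _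
  unfold sShortMat
  rw [Matrix.fromBlocks_multiply, Matrix.fromBlocks_apply₁₁]
  simp only [Matrix.mul_zero, add_zero]
  rw [← Matrix.permMatrix_mul, permMatrix_apply']
  rfl

/-- the `(f, e)` block of `sShort * cSign` -/
theorem sShort_mul_cSign_apply (i i' k : Fin m) (a : Fin m) :
    ((sShort m F i i' * cSign m F k : SpG m F) : Matrix (Fin m ⊕ Fin m) (Fin m ⊕ Fin m) F)
      (Sum.inr a) (Sum.inl k) = if Equiv.swap i i' a = k then 1 else 0 := by
  change (sShortMat m F i i' * cSignMat m F k) (Sum.inr a) (Sum.inl k) = _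
  unfold sShortMat cSignMat
  rw [Matrix.fromBlocks_multiply, Matrix.fromBlocks_apply₂₁]
  simp only [Matrix.zero_mul, zero_add]
  rw [Matrix.mul_diagonal, permMatrix_apply', Pi.single_eq_same, mul_one]

/-- a short reflection and the sign change are different modulo `B` -/
theorem sShort_cSign_not_mem (i i' k : Fin m) :
    (sShort m F i i')⁻¹ * cSign m F k ∉ Bsub m F := by
  intro h
  rw [sShort_inv, mem_Bsub_iff] at h
  have h1 := h (Sum.inr (Equiv.swap i i' k)) (Sum.inl k) (by
    simp only [pos]
    have := k.2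
    have := (Equiv.swap i i' k).2
    omega)
  rw [sShort_mul_cSign_apply, Equiv.swap_apply_self, if_pos rfl] at h1
  exact one_ne_zero h1

/-- two different short simple reflections are different modulo `B` -/
theorem sShort_sShort_eq (i j : Fin m) (hi : i.val + 1 < m) (hj : j.val + 1 < m)
    (h : (sShort m F i (nxt i hi))⁻¹ * sShort m F j (nxt j hj) ∈ Bsub m F) : i = j := by
  by_contra hij
  rw [sShort_inv, mem_Bsub_iff] at h
  have hb : (Equiv.swap j (nxt j hj) i).val < i.val + 1 := by
    by_cases h1 : i = nxt j hj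
    · have h2 : Equiv.swap j (nxt j hj) i = j := by rw [h1, Equiv.swap_apply_right]
      have h3 : i.val = j.val + 1 := by rw [h1]; rfl
      rw [h2]; omega
    · rw [Equiv.swap_apply_of_ne_of_ne hij h1]; omega
  have h1 := h (Sum.inl (nxt i hi)) (Sum.inl (Equiv.swap j (nxt j hj) i)) (by
    simp only [pos, nxt]; exact hb)
  rw [sShort_mul_sShort_apply, Equiv.swap_apply_right, if_pos rfl] at h1
  exact one_ne_zero h1

/-- LEAF C3b (254512) -/
theorem S_inj (s : SpG m F) (hs : s ∈ Sset m F) (s' : SpG m F) (hs' : s' ∈ Sset m F)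
    (h : s⁻¹ * s' ∈ Bsub m F) : s = s' := by
  rcases hs with ⟨i, hi, rfl⟩ | ⟨hm, rfl⟩
  · rcases hs' with ⟨j, hj, rfl⟩ | ⟨hm', rfl⟩
    · have := sShort_sShort_eq i j hi hj h
      subst this
      rfl
    · exact absurd h (sShort_cSign_not_mem _ _ _)
  · rcases hs' with ⟨j, hj, rfl⟩ | ⟨hm', rfl⟩
    · exfalso
      have h2 := inv_mem h
      rw [_root_.mul_inv_rev, inv_inv] at h2
      exact sShort_cSign_not_mem _ _ _ h2
    · rfl

end Cfsg.Agent.Lib.Helper40.StSp
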