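import Cfsg.Agent.Lib.Helper49.StSpDefs
import Cfsg.Agent.Lib.Helper74.StSpR1

/-!
# K-StSp-C3c (keystone 254513, architect helper49, S2545), parallel hand: `s B s ≠ B` for the simple reflections.
-/

set_option autoImplicit false
set_option linter.unusedSectionVars false
set_option linter.unusedVariables false

namespace Cfsg.Agent.Lib.Helper40.StSp

open Cfsg Matrix Cfsg.Agent.Lib.Helper49.StSp

variable {m : ℕ} {F : Type*} [Field F]

/-- the `(e, e)` block of `sShort i j * xS i j t * sShort i j` at `(j, i)` -/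
theorem sShort_xS_sShort_apply (i j : Fin m) (hij : i ≠ j) (t : F) :
    ((sShort m F i j * xS m F i j hij t * sShort m F i j : SpG m F) :
      Matrix (Fin m ⊕ Fin m) (Fin m ⊕ Fin m) F) (Sum.inl j) (Sum.inl i) = t := by
  change (sShortMat m F i j * xShortMat m F i j t * sShortMat m F i j) (Sum.inl j) (Sum.inl i) = t
  unfold sShortMat xShortMat
  rw [Matrix.fromBlocks_multiply, Matrix.fromBlocks_multiply, Matrix.fromBlocks_apply₁₁]
  simp only [Matrix.mul_zero, Matrix.zero_mul, add_zero]
  rw [Equiv.Perm.permMatrix, PEquiv.toMatrix_toPEquiv_mul, PEquiv.mul_toMatrix_toPEquiv]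
  simp only [Matrix.submatrix_apply, id, Equiv.symm_swap, Equiv.swap_apply_right, Equiv.swap_apply_left]
  simp [Matrix.transvection, Matrix.one_apply_ne hij]

/-- the `(f, e)` block of `cSign k * xL k t * cSign k` at `(k, k)` -/
theorem cSign_xL_cSign_apply (k : Fin m) (t : F) :
    ((cSign m F k * xL m F k t * cSign m F k : SpG m F) :
      Matrix (Fin m ⊕ Fin m) (Fin m ⊕ Fin m) F) (Sum.inr k) (Sum.inl k) = t := by
  change (cSignMat m F k * xLongMat m F k t * cSignMat m F k) (Sum.inr k) (Sum.inl k) = t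
  unfold cSignMat xLongMat
  rw [Matrix.fromBlocks_multiply, Matrix.fromBlocks_multiply, Matrix.fromBlocks_apply₂₁]
  simp [Matrix.diagonal_mul_diagonal, Matrix.diagonal_add]

/-- LEAF C3c (254513) -/
theorem S_conj_ne (s : SpG m F) (hs : s ∈ Sset m F) :
    (fun b : SpG m F => s * b * s) '' (Bsub m F : Set (SpG m F)) ≠ (Bsub m F : Set (SpG m F)) := by
  intro heq
  rcases hs with ⟨i, hi, rfl⟩ | ⟨hm, rfl⟩
  · have hlt : i < nxt i hi := by
      rw [Fin.lt_def]; simp [nxt]
    have hxB := Cfsg.Agent.Lib.Helper74.StSp.xS_mem_B (F := F) i (nxt i hi) hlt 1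
    have hmem : sShort m F i (nxt i hi) * xS m F i (nxt i hi) (ne_of_lt hlt) 1 * sShort m F i (nxt i hi) ∈
        (fun b : SpG m F => sShort m F i (nxt i hi) * b * sShort m F i (nxt i hi)) ''
          (Bsub m F : Set (SpG m F)) := ⟨_, hxB, rfl⟩
    rw [heq] at hmem
    have h0 := (mem_Bsub_iff _).1 hmem (Sum.inl (nxt i hi)) (Sum.inl i) (by simp [pos, nxt])
    rw [sShort_xS_sShort_apply] at h0
    exact one_ne_zero h0
  · have hxB := Cfsg.Agent.Lib.Helper74.StSp.xL_mem_B (F := F) (lastF hm) 1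
    have hmem : cSign m F (lastF hm) * xL m F (lastF hm) 1 * cSign m F (lastF hm) ∈
        (fun b : SpG m F => cSign m F (lastF hm) * b * cSign m F (lastF hm)) ''
          (Bsub m F : Set (SpG m F)) := ⟨_, hxB, rfl⟩
    rw [heq] at hmem
    have h0 := (mem_Bsub_iff _).1 hmem (Sum.inr (lastF hm)) (Sum.inl (lastF hm)) (by
      simp only [pos, lastF]; omega)
    rw [cSign_xL_cSign_apply] at h0
    exact one_ne_zero h0

end Cfsg.Agent.Lib.Helper40.StSp
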