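import Mathlib
import Cfsg.Agent.Lib.Helper40.Involutions
import Cfsg.Agent.Lib.Helper40.Sylow

set_option autoImplicit false

namespace Cfsg.Agent.Lib.Helper40

section oneclass
variable {S : Type*} [Group S] [Finite S]

/-- a group of even order contains an involution -/
theorem exists_involution_of_even {H : Subgroup S} (h : Even (Nat.card H)) :
    ∃ i ∈ H, orderOf i = 2 := by
  have : Fact (Nat.Prime 2) := ⟨Nat.prime_two⟩
  obtain ⟨x, hx⟩ := exists_prime_orderOf_dvd_card' (G := H) 2 (even_iff_two_dvd.mp h)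
  refine ⟨x, x.2, ?_⟩
  rw [← hx]
  exact (Subgroup.orderOf_coe x)

theorem odd_card_of_no_involution {H : Subgroup S} (h : ∀ i ∈ H, orderOf i ≠ 2) :
    Odd (Nat.card H) := by
  rw [← Nat.not_even_iff_odd]
  intro he
  obtain ⟨i, hi, hi2⟩ := exists_involution_of_even he
  exact h i hi hi2

/-- If `M` has even order, contains the centralizer of each of its involutions and has core of
odd order, then all involutions of `S` are conjugate. -/
theorem one_class_of_centralizers (M : Subgroup S) (hM : Even (Nat.card M))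
    (hC : ∀ i ∈ M, orderOf i = 2 → Subgroup.centralizer ({i} : Set S) ≤ M)
    (hcore : Odd (Nat.card M.normalCore)) :
    ∀ x y : S, orderOf x = 2 → orderOf y = 2 → IsConj x y := by
  obtain ⟨i, hiM, hi2⟩ := exists_involution_of_even hM
  -- every involution is conjugate to i
  have key : ∀ j : S, orderOf j = 2 → IsConj i j := by
    intro j hj
    by_contra hnc
    -- every conjugate of j lies in M
    have hall : ∀ g : S, g * j * g⁻¹ ∈ M := by
      intro g
      have hj' : orderOf (g * j * g⁻¹) = 2 := by rw [orderOf_conj_eq, hj]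
      rcases involution_dichotomy hi2 hj' with ⟨d, hd⟩ | ⟨z, hz2, hzi, hzj⟩
      · exfalso
        apply hnc
        rw [isConj_iff]
        refine ⟨g⁻¹ * d, ?_⟩
        calc g⁻¹ * d * i * (g⁻¹ * d)⁻¹ = g⁻¹ * (d * i * d⁻¹) * g := by group
          _ = g⁻¹ * (g * j * g⁻¹) * g := by rw [hd]
          _ = j := by group
      · have hzM : z ∈ M := by
          apply hC i hiM hi2
          rw [Subgroup.mem_centralizer_iff]
          intro y hy
          rw [Set.mem_singleton_iff] at hy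
          rw [hy]; exact hzi.symm
        apply hC z hzM hz2
        rw [Subgroup.mem_centralizer_iff]
        intro y hy
        rw [Set.mem_singleton_iff] at hy
        rw [hy]; exact hzj
    have hjcore : j ∈ M.normalCore := hall
    have h2 : 2 ∣ Nat.card M.normalCore := by
      have := orderOf_dvd_natCard (⟨j, hjcore⟩ : M.normalCore)
      rwa [Subgroup.orderOf_mk, hj] at this
    exact (Nat.not_even_iff_odd.mpr hcore) (even_iff_two_dvd.mpr h2)
  intro x y hx hy
  exact (key x hx).symm.trans (key y hy)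

end oneclass


section sylowM
variable {S : Type*} [Group S] [Finite S] {p : ℕ} [Fact p.Prime]

/-- A Sylow `p`-subgroup `X` of `M` whose normalizer in `S` lies in `M` is a Sylow `p`-subgroup
of `S`. -/
theorem exists_sylow_eq_of_normalizer_le (M : Subgroup S) (X : Sylow p M)
    (hN : Subgroup.normalizer ((((X : Subgroup M).map M.subtype : Subgroup S)) : Set S) ≤ M) :
    ∃ P : Sylow p S, (P : Subgroup S) = (X : Subgroup M).map M.subtype := by
  have hp : p.Prime := Fact.out
  set X' := (X : Subgroup M).map M.subtype with hX'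
  set n := (Nat.card M).factorization p with hn
  have hcard : Nat.card X' = p ^ n := by
    rw [hX', Subgroup.card_map_of_injective M.subtype_injective, hn]
    exact X.card_eq_multiplicity
  have hnot : ¬ p ^ (n + 1) ∣ Nat.card S := by
    intro hdvd
    have h1 := Sylow.prime_pow_dvd_card_normalizer hdvd hcard
    have h2 : p ^ (n + 1) ∣ Nat.card M := h1.trans (Subgroup.card_dvd_of_le hN)
    exact Nat.pow_succ_factorization_not_dvd Nat.card_pos.ne' hp h2
  have hdvd : p ^ n ∣ Nat.card S := by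
    rw [← hcard]; exact Subgroup.card_subgroup_dvd_card X'
  have hfac : (Nat.card S).factorization p = n := by
    have h1 : n ≤ (Nat.card S).factorization p :=
      (hp.pow_dvd_iff_le_factorization Nat.card_pos.ne').mp hdvd
    have h2 : ¬ (n + 1 ≤ (Nat.card S).factorization p) := fun h =>
      hnot ((hp.pow_dvd_iff_le_factorization Nat.card_pos.ne').mpr h)
    omega
  exact ⟨Sylow.ofCard X' (by rw [hcard, hfac]), rfl⟩

end sylowM

section lemmaA
variable {S : Type*} [Group S] [Finite S]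

/-- Suppose `M` contains the centralizers of its involutions, contains a Sylow `2`-subgroup `X`
of `S` together with its normalizer, and `I` is a central involution of `X`. If an involution
`t ∈ M` has `g⁻¹ t g ∈ M`, then `g ∈ M`. -/
theorem mem_of_involution_conj_mem [Fact (Nat.Prime 2)] (M : Subgroup S)
    (hC : ∀ i ∈ M, orderOf i = 2 → Subgroup.centralizer ({i} : Set S) ≤ M)
    (X : Sylow 2 S) (hXM : (X : Subgroup S) ≤ M)
    (hN : Subgroup.normalizer (((X : Subgroup S)) : Set S) ≤ M)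
    (I : S) (hI2 : orderOf I = 2) (hIcen : ∀ y ∈ (X : Subgroup S), I * y = y * I)
    (g t : S) (ht2 : orderOf t = 2) (htM : t ∈ M) (hgt : g⁻¹ * t * g ∈ M) : g ∈ M := by
  set t' := g⁻¹ * t * g with ht'
  have ht'2 : orderOf t' = 2 := by
    have : t' = g⁻¹ * t * g⁻¹⁻¹ := by rw [inv_inv]
    rw [this, orderOf_conj_eq, ht2]
  have hz : IsPGroup 2 (Subgroup.zpowers t') := by
    apply IsPGroup.of_card (n := 1)
    rw [Nat.card_zpowers, ht'2, pow_one]
  obtain ⟨m, hmM, hm⟩ := exists_conj_mem_sylow_of_le M X hXM t' hgt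
    (Subgroup.zpowers t') hz (Subgroup.mem_zpowers t')
  set g' := g * m⁻¹ with hg'
  have hcomm : I * (m * t' * m⁻¹) = (m * t' * m⁻¹) * I := hIcen _ hm
  have ht'' : g' * (m * t' * m⁻¹) * g'⁻¹ = t := by
    rw [hg', ht']; group
  -- g' I g'⁻¹ centralizes t
  have h1 : g' * I * g'⁻¹ ∈ M := by
    apply hC t htM ht2
    rw [Subgroup.mem_centralizer_iff]
    intro y hy
    rw [Set.mem_singleton_iff] at hy
    rw [hy, ← ht'']
    calc g' * (m * t' * m⁻¹) * g'⁻¹ * (g' * I * g'⁻¹)
        = g' * ((m * t' * m⁻¹) * I) * g'⁻¹ := by group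
      _ = g' * (I * (m * t' * m⁻¹)) * g'⁻¹ := by rw [hcomm]
      _ = g' * I * g'⁻¹ * (g' * (m * t' * m⁻¹) * g'⁻¹) := by group
  have h2 : orderOf (g' * I * g'⁻¹) = 2 := by rw [orderOf_conj_eq, hI2]
  have h3 := hC _ h1 h2
  set R := (X : Subgroup S).map (MulAut.conj g').toMonoidHom with hR
  have hRM : R ≤ M := by
    rintro _ ⟨y, hy, rfl⟩
    apply h3
    rw [Subgroup.mem_centralizer_iff]
    intro w hw
    rw [Set.mem_singleton_iff] at hw
    rw [hw]
    have hIy := hIcen y hy
    show g' * I * g'⁻¹ * (g' * y * g'⁻¹) = g' * y * g'⁻¹ * (g' * I * g'⁻¹)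
    calc g' * I * g'⁻¹ * (g' * y * g'⁻¹) = g' * (I * y) * g'⁻¹ := by group
      _ = g' * (y * I) * g'⁻¹ := by rw [hIy]
      _ = g' * y * g'⁻¹ * (g' * I * g'⁻¹) := by group
  have hRp : IsPGroup 2 R := X.isPGroup'.map _
  obtain ⟨m₂, hm₂M, hm₂⟩ := exists_conj_le_sylow_of_le M X hXM R hRp hRM
  have h4 : m₂ * g' ∈ Subgroup.normalizer (((X : Subgroup S)) : Set S) := by
    apply Subgroup.mem_normalizer_fintype
    intro y hy
    have := hm₂ (g' * y * g'⁻¹) ⟨y, hy, rfl⟩
    have h5 : m₂ * g' * y * (m₂ * g')⁻¹ = m₂ * (g' * y * g'⁻¹) * m₂⁻¹ := by group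
    rw [h5]; exact this
  have h5 : m₂ * g' ∈ M := hN h4
  have h6 : g' ∈ M := by
    have := mul_mem (inv_mem hm₂M) h5
    rwa [inv_mul_cancel_left] at this
  have h7 : g = g' * m := by rw [hg']; group
  rw [h7]; exact mul_mem h6 hmM

end lemmaA


section lemmaE
variable {S : Type*} [Group S] [Finite S]

/-- Key lemma: an element `x ∈ M` centralized by an involution `I ∈ M` and inverted by an
involution `v ∉ M` is trivial. -/
theorem eq_one_of_centralized_of_inverted (M : Subgroup S)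
    (hC : ∀ i ∈ M, orderOf i = 2 → Subgroup.centralizer ({i} : Set S) ≤ M)
    (hA : ∀ g t : S, orderOf t = 2 → t ∈ M → g⁻¹ * t * g ∈ M → g ∈ M)
    (I : S) (hIM : I ∈ M) (hI2 : orderOf I = 2) (v : S) (hv2 : orderOf v = 2) (hvM : v ∉ M)
    (x : S) (hxM : x ∈ M) (hxI : x * I = I * x) (hvx : v * x * v⁻¹ = x⁻¹) : x = 1 := by
  have hv1 := inv_sq_one hv2
  have hvi := inv_inv_self hv2
  have hvpow : ∀ k : ℕ, v * x ^ k * v⁻¹ = (x ^ k)⁻¹ := by
    intro k
    rw [← conj_pow, hvx, inv_pow]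
  -- the order of x is odd
  have hodd : Odd (orderOf x) := by
    rw [← Nat.not_even_iff_odd]
    rintro ⟨m, hm⟩
    have hpos : 0 < orderOf x := orderOf_pos x
    have hm0 : 0 < m := by omega
    have hord : orderOf (x ^ m) = 2 := by
      rw [orderOf_pow_of_dvd hm0.ne' ⟨2, by omega⟩, hm]
      have : (m + m) / m = 2 := by rw [← two_mul, Nat.mul_div_cancel _ hm0]
      exact this
    have hwM : x ^ m ∈ M := pow_mem hxM m
    apply hvM
    apply hC _ hwM hord
    rw [Subgroup.mem_centralizer_iff]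
    intro y hy
    rw [Set.mem_singleton_iff] at hy
    rw [hy]
    have h1 := hvpow m
    rw [inv_inv_self hord] at h1
    calc x ^ m * v = (v * x ^ m * v⁻¹) * v := by rw [h1]
      _ = v * x ^ m := by group
  set K := Subgroup.normalizer ((Subgroup.zpowers x : Subgroup S) : Set S) with hK
  have hIK : I ∈ K := by
    apply Subgroup.mem_normalizer_fintype
    rintro n ⟨k, rfl⟩
    have : I * x ^ k * I⁻¹ = x ^ k := by
      have hc : Commute I x := hxI.symm
      have := (hc.zpow_right k).eq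
      rw [this]; group
    rw [show (fun x_1 => x ^ x_1) k = x ^ k from rfl, this]
    exact ⟨k, rfl⟩
  have hvK : v ∈ K := by
    apply Subgroup.mem_normalizer_fintype
    rintro n ⟨k, rfl⟩
    show v * x ^ k * v⁻¹ ∈ Subgroup.zpowers x
    have : v * x ^ k * v⁻¹ = x ^ (-k) := by
      have h1 : v * x ^ k * v⁻¹ = (MulAut.conj v) (x ^ k) := by simp [MulAut.conj_apply]
      rw [h1, map_zpow]
      have h2 : (MulAut.conj v) x = x⁻¹ := by rw [MulAut.conj_apply]; exact hvx
      rw [h2, inv_zpow, zpow_neg]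
    rw [this]
    exact ⟨-k, rfl⟩
  -- apply the one-class theorem in K
  have hclass := one_class_of_centralizers (S := ↥K) (M.subgroupOf K)
    (by
      have h2 : 2 ∣ Nat.card (M.subgroupOf K) := by
        have hmem : (⟨I, hIK⟩ : ↥K) ∈ M.subgroupOf K := by
          rw [Subgroup.mem_subgroupOf]; exact hIM
        have := orderOf_dvd_natCard (⟨⟨I, hIK⟩, hmem⟩ : M.subgroupOf K)
        rwa [Subgroup.orderOf_mk, Subgroup.orderOf_mk, hI2] at this
      exact even_iff_two_dvd.mpr h2)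
    (by
      intro i hi hi2 c hc
      rw [Subgroup.mem_subgroupOf] at hi ⊢
      have hi2' : orderOf (i : S) = 2 := by rw [Subgroup.orderOf_coe]; exact hi2
      apply hC _ hi hi2'
      rw [Subgroup.mem_centralizer_iff] at hc ⊢
      intro y hy
      rw [Set.mem_singleton_iff] at hy
      rw [hy]
      have := hc i (Set.mem_singleton i)
      have h3 := congrArg Subtype.val this
      simpa using h3)
    (by
      apply odd_card_of_no_involution
      intro w hw hw2
      have hw' : w ∈ M.subgroupOf K := Subgroup.normalCore_le _ hw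
      rw [Subgroup.mem_subgroupOf] at hw'
      have hw2' : orderOf (w : S) = 2 := by rw [Subgroup.orderOf_coe]; exact hw2
      have h1 : (⟨v, hvK⟩ : ↥K)⁻¹ * w * (⟨v, hvK⟩ : ↥K)⁻¹⁻¹ ∈ M.subgroupOf K := hw _
      rw [Subgroup.mem_subgroupOf] at h1
      have h2 : v⁻¹ * (w : S) * v ∈ M := by simpa using h1
      exact hvM (hA v w hw2' hw' h2))
  have hIK2 : orderOf (⟨I, hIK⟩ : ↥K) = 2 := by rw [Subgroup.orderOf_mk]; exact hI2
  have hvK2 : orderOf (⟨v, hvK⟩ : ↥K) = 2 := by rw [Subgroup.orderOf_mk]; exact hv2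
  obtain ⟨k, hk⟩ := isConj_iff.mp (hclass _ _ hIK2 hvK2)
  have hk' : (k : S) * I * (k : S)⁻¹ = v := by
    have := congrArg Subtype.val hk
    simpa using this
  -- k⁻¹ x k is a power of x
  have hkinv : (k : S)⁻¹ ∈ K := inv_mem k.2
  have h1 : (k : S)⁻¹ * x * (k : S)⁻¹⁻¹ ∈ Subgroup.zpowers x :=
    (Subgroup.mem_normalizer_iff.mp hkinv x).mp (Subgroup.mem_zpowers x)
  rw [inv_inv] at h1
  obtain ⟨r, hr⟩ := h1
  have hr' : x ^ r = (k : S)⁻¹ * x * (k : S) := hr
  have hIr : I * x ^ r = x ^ r * I := by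
    have hc : Commute I x := hxI.symm
    exact (hc.zpow_right r).eq
  have hvx' : v * x = x * v := by
    have hx' : x = (k : S) * x ^ r * (k : S)⁻¹ := by rw [hr']; group
    rw [← hk']
    calc (k : S) * I * (k : S)⁻¹ * x
        = (k : S) * I * (k : S)⁻¹ * ((k : S) * x ^ r * (k : S)⁻¹) := by rw [← hx']
      _ = (k : S) * (I * x ^ r) * (k : S)⁻¹ := by group
      _ = (k : S) * (x ^ r * I) * (k : S)⁻¹ := by rw [hIr]
      _ = ((k : S) * x ^ r * (k : S)⁻¹) * ((k : S) * I * (k : S)⁻¹) := by group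
      _ = x * ((k : S) * I * (k : S)⁻¹) := by rw [← hx']
  have hxx : x = x⁻¹ := by
    rw [← hvx, hvx']; group
  have hx2 : x ^ 2 = 1 := by
    rw [pow_two]
    calc x * x = x * x⁻¹ := by rw [← hxx]
      _ = 1 := mul_inv_cancel x
  have hd : orderOf x ∣ 2 := orderOf_dvd_of_pow_eq_one hx2
  have h1' : orderOf x = 1 := by
    rcases (Nat.dvd_prime Nat.prime_two).mp hd with h | h
    · exact h
    · exfalso; rw [h] at hodd; exact (by decide : ¬ Odd 2) hodd
  exact orderOf_eq_one_iff.mp h1'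

end lemmaE


section counting
variable {S : Type*} [Group S] [Finite S]

open Classical in
/-- Suzuki's counting argument: for a subgroup `M` as below and an involution `I ∈ M` there is an
involution `u ∉ M` such that `M = (M ∩ M^u) C_M(I)`. -/
theorem exists_involution_transitive (M : Subgroup S) (hMtop : M ≠ ⊤)
    (hC : ∀ i ∈ M, orderOf i = 2 → Subgroup.centralizer ({i} : Set S) ≤ M)
    (hA : ∀ g t : S, orderOf t = 2 → t ∈ M → g⁻¹ * t * g ∈ M → g ∈ M)
    (hclass : ∀ x y : S, orderOf x = 2 → orderOf y = 2 → IsConj x y)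
    (I : S) (hIM : I ∈ M) (hI2 : orderOf I = 2) :
    ∃ u : S, orderOf u = 2 ∧ u ∉ M ∧
      ∀ g ∈ M, ∃ a ∈ M, u⁻¹ * a * u ∈ M ∧ ∃ c ∈ M, c * I = I * c ∧ g = a * c := by
  let _ : Fintype S := Fintype.ofFinite S
  let _ : Fintype (S ⧸ M) := Fintype.ofFinite _
  let Inv : Finset S := Finset.univ.filter (fun t => orderOf t = 2)
  let InvM : Finset S := Inv.filter (fun t => t ∈ M)
  set m := InvM.card with hm
  have hInv : ∀ t, t ∈ Inv ↔ orderOf t = 2 := by intro t; simp [Inv]
  have hInvM : ∀ t, t ∈ InvM ↔ orderOf t = 2 ∧ t ∈ M := by intro t; simp [InvM, Inv]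
  have hm1 : 1 ≤ m := Finset.card_pos.mpr ⟨I, (hInvM I).mpr ⟨hI2, hIM⟩⟩
  let T : S ⧸ M → Finset S := fun q => Inv.filter (fun t => (q.out)⁻¹ * t * q.out ∈ M)
  have hT : ∀ q t, t ∈ T q ↔ orderOf t = 2 ∧ (q.out)⁻¹ * t * q.out ∈ M := by
    intro q t; simp [T, Inv]
  -- each T q has m elements
  have hTcard : ∀ q, (T q).card = m := by
    intro q
    apply Finset.card_nbij' (fun t => (q.out)⁻¹ * t * q.out) (fun t => q.out * t * (q.out)⁻¹)
    · intro t ht
      have ht' := (hT q t).mp ht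
      beta_reduce
      refine (hInvM _).mpr ⟨?_, ht'.2⟩
      have : (q.out)⁻¹ * t * q.out = (q.out)⁻¹ * t * (q.out)⁻¹⁻¹ := by rw [inv_inv]
      rw [this, orderOf_conj_eq]; exact ht'.1
    · intro t ht
      have ht' := (hInvM t).mp ht
      beta_reduce
      refine (hT q _).mpr ⟨by rw [orderOf_conj_eq]; exact ht'.1, ?_⟩
      have : (q.out)⁻¹ * (q.out * t * (q.out)⁻¹) * q.out = t := by group
      rw [this]; exact ht'.2
    · intro t _; show q.out * ((q.out)⁻¹ * t * q.out) * (q.out)⁻¹ = t; group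
    · intro t _; show (q.out)⁻¹ * (q.out * t * (q.out)⁻¹) * q.out = t; group
  -- the T q are pairwise disjoint and cover Inv
  have hdisj : ((Finset.univ : Finset (S ⧸ M)) : Set (S ⧸ M)).PairwiseDisjoint T := by
    intro q _ q' _ hne
    rw [Function.onFun, Finset.disjoint_left]
    intro t ht ht'
    apply hne
    have h1 := (hT q t).mp ht
    have h2 := (hT q' t).mp ht'
    have h3 : orderOf ((q.out)⁻¹ * t * q.out) = 2 := by
      have : (q.out)⁻¹ * t * q.out = (q.out)⁻¹ * t * (q.out)⁻¹⁻¹ := by rw [inv_inv]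
      rw [this, orderOf_conj_eq]; exact h1.1
    have h4 : ((q.out)⁻¹ * q'.out)⁻¹ * ((q.out)⁻¹ * t * q.out) * ((q.out)⁻¹ * q'.out) ∈ M := by
      have : ((q.out)⁻¹ * q'.out)⁻¹ * ((q.out)⁻¹ * t * q.out) * ((q.out)⁻¹ * q'.out)
          = (q'.out)⁻¹ * t * q'.out := by group
      rw [this]; exact h2.2
    have h5 := hA _ _ h3 h1.2 h4
    rw [← QuotientGroup.out_eq' q, ← QuotientGroup.out_eq' q']
    exact QuotientGroup.eq.mpr h5
  have hcover : Inv = Finset.univ.biUnion T := by
    ext t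
    constructor
    · intro ht
      have ht2 := (hInv t).mp ht
      obtain ⟨g, hg⟩ := isConj_iff.mp (hclass I t hI2 ht2)
      rw [Finset.mem_biUnion]
      refine ⟨QuotientGroup.mk g, Finset.mem_univ _, (hT _ t).mpr ⟨ht2, ?_⟩⟩
      obtain ⟨h, hh⟩ := QuotientGroup.mk_out_eq_mul M g
      rw [hh, ← hg]
      have : (g * (h : S))⁻¹ * (g * I * g⁻¹) * (g * (h : S)) = (h : S)⁻¹ * I * (h : S) := by group
      rw [this]
      exact mul_mem (mul_mem (inv_mem h.2) hIM) h.2
    · intro ht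
      rw [Finset.mem_biUnion] at ht
      obtain ⟨q, _, hq⟩ := ht
      exact (hInv t).mpr ((hT q t).mp hq).1
  have hInvcard : Inv.card = Fintype.card (S ⧸ M) * m := by
    rw [hcover, Finset.card_biUnion hdisj]
    simp [hTcard]
  -- involutions outside M
  let s : Finset S := Inv.filter (fun t => t ∉ M)
  have hs : ∀ t, t ∈ s ↔ orderOf t = 2 ∧ t ∉ M := by intro t; simp [s, Inv]
  have hscard : s.card + m = Inv.card := by
    have := Finset.card_filter_add_card_filter_not (s := Inv) (fun t => t ∈ M)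
    rw [add_comm] at this
    exact this
  let tq : Finset (S ⧸ M) := Finset.univ.erase (QuotientGroup.mk 1)
  have htq : tq.card = Fintype.card (S ⧸ M) - 1 := by
    rw [Finset.card_erase_of_mem (Finset.mem_univ _), Finset.card_univ]
  have hmaps : ∀ a ∈ s, (QuotientGroup.mk a : S ⧸ M) ∈ tq := by
    intro a ha
    rw [Finset.mem_erase]
    refine ⟨?_, Finset.mem_univ _⟩
    intro h
    have := QuotientGroup.eq.mp h
    apply ((hs a).mp ha).2
    have h2 := inv_mem this
    simpa using h2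
  have htqne : tq.Nonempty := by
    obtain ⟨g, hg⟩ : ∃ g : S, g ∉ M := by
      by_contra hcon
      exact hMtop (eq_top_iff.mpr fun x _ => by
        by_contra hx
        exact hcon ⟨x, hx⟩)
    refine ⟨QuotientGroup.mk g, ?_⟩
    rw [Finset.mem_erase]
    refine ⟨?_, Finset.mem_univ _⟩
    intro h
    have := QuotientGroup.eq.mp h
    apply hg
    have h2 := inv_mem this
    simpa using h2
  have hcardpos : 1 ≤ Fintype.card (S ⧸ M) := Fintype.card_pos
  have hle : tq.card * m ≤ s.card := by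
    rw [htq]
    have h1 : s.card = Fintype.card (S ⧸ M) * m - m := by omega
    rw [h1, Nat.sub_mul, one_mul]
  obtain ⟨q, hq, hqcard⟩ := Finset.exists_le_card_fiber_of_mul_le_card_of_maps_to hmaps htqne hle
  set F := s.filter (fun a => (QuotientGroup.mk a : S ⧸ M) = q) with hF
  have hFmem : ∀ t, t ∈ F ↔ (orderOf t = 2 ∧ t ∉ M) ∧ (QuotientGroup.mk t : S ⧸ M) = q := by
    intro t; rw [hF, Finset.mem_filter, hs]
  obtain ⟨u, hu⟩ : F.Nonempty := Finset.card_pos.mp (lt_of_lt_of_le hm1 hqcard)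
  obtain ⟨⟨hu2, huM⟩, huq⟩ := (hFmem u).mp hu
  refine ⟨u, hu2, huM, ?_⟩
  -- the quotient of M by the centralizer of I
  let IM : ↥M := ⟨I, hIM⟩
  let C : Subgroup ↥M := Subgroup.centralizer ({IM} : Set ↥M)
  let _ : Fintype (↥M ⧸ C) := Fintype.ofFinite _
  have hCmem : ∀ c : ↥M, c ∈ C ↔ (c : S) * I = I * (c : S) := by
    intro c
    rw [Subgroup.mem_centralizer_iff]
    constructor
    · intro h
      have := h IM (Set.mem_singleton _)
      have h2 := congrArg Subtype.val this
      simpa [IM] using h2.symm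
    · intro h y hy
      rw [Set.mem_singleton_iff] at hy
      rw [hy]
      apply Subtype.ext
      simpa [IM] using h.symm
  -- |M/C| ≤ m
  have hm' : Fintype.card (↥M ⧸ C) ≤ m := by
    rw [← Finset.card_univ]
    apply Finset.card_le_card_of_injOn (fun r => ((r.out : ↥M) : S) * I * ((r.out : ↥M) : S)⁻¹)
    · intro r _
      refine (hInvM _).mpr ⟨by rw [orderOf_conj_eq]; exact hI2, ?_⟩
      exact mul_mem (mul_mem (r.out).2 hIM) (inv_mem (r.out).2)
    · intro r _ r' _ hrr
      simp only at hrr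
      rw [← QuotientGroup.out_eq' r, ← QuotientGroup.out_eq' r']
      apply QuotientGroup.eq.mpr
      rw [hCmem]
      simp only [Subgroup.coe_mul, Subgroup.coe_inv]
      have : ((r.out : ↥M) : S)⁻¹ * ((r'.out : ↥M) : S) * I
          = ((r.out : ↥M) : S)⁻¹ * (((r'.out : ↥M) : S) * I * ((r'.out : ↥M) : S)⁻¹) * ((r'.out : ↥M) : S) := by
        group
      rw [this, ← hrr]; group
  -- the injection F → M/C
  let Φ : S → ↥M ⧸ C := fun t =>
    if h : u⁻¹ * t ∈ M then QuotientGroup.mk (⟨u⁻¹ * t, h⟩ : ↥M) else QuotientGroup.mk 1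
  have hFM : ∀ t ∈ F, u⁻¹ * t ∈ M := by
    intro t ht
    have := ((hFmem t).mp ht).2
    rw [← huq] at this
    exact QuotientGroup.eq.mp this.symm
  have hinj : Set.InjOn Φ (F : Set S) := by
    intro t₁ ht₁ t₂ ht₂ h12
    have h1 := hFM t₁ ht₁
    have h2 := hFM t₂ ht₂
    simp only [Φ, dif_pos h1, dif_pos h2] at h12
    have h3 := QuotientGroup.eq.mp h12
    rw [hCmem] at h3
    simp only [Subgroup.coe_mul, Subgroup.coe_inv] at h3
    obtain ⟨⟨ht₁2, ht₁M⟩, _⟩ := (hFmem t₁).mp ht₁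
    obtain ⟨⟨ht₂2, _⟩, _⟩ := (hFmem t₂).mp ht₂
    have hx : (u⁻¹ * t₁)⁻¹ * (u⁻¹ * t₂) = t₁ * t₂ := by
      rw [mul_inv_rev, inv_inv, inv_inv_self ht₁2]; group
    rw [hx] at h3
    have hxM : t₁ * t₂ ∈ M := by
      rw [← hx]; exact mul_mem (inv_mem h1) h2
    have hinvt : t₁ * (t₁ * t₂) * t₁⁻¹ = (t₁ * t₂)⁻¹ := by
      rw [mul_inv_rev, inv_inv_self ht₁2, inv_inv_self ht₂2, ← mul_assoc, inv_sq_one ht₁2, one_mul]
    have h4 := eq_one_of_centralized_of_inverted M hC hA I hIM hI2 t₁ ht₁2 ht₁M (t₁ * t₂) hxM h3 hinvt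
    have h5 : t₂ = t₁⁻¹ := (eq_inv_of_mul_eq_one_right h4)
    rw [h5, inv_inv_self ht₁2]
  have hsurj := Finset.surjOn_of_injOn_of_card_le (s := F) (t := Finset.univ) Φ
    (fun _ _ => Finset.mem_univ _) hinj (by rw [Finset.card_univ]; exact hm'.trans hqcard)
  intro g hg
  obtain ⟨t, ht, htg⟩ := hsurj (Finset.mem_univ (QuotientGroup.mk (⟨g, hg⟩ : ↥M)))
  have ht' : t ∈ F := ht
  have h1 := hFM t ht'
  simp only [Φ, dif_pos h1] at htg
  have h2 := QuotientGroup.eq.mp htg
  rw [hCmem] at h2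
  simp only [Subgroup.coe_mul, Subgroup.coe_inv] at h2
  obtain ⟨⟨ht2, _⟩, _⟩ := (hFmem t).mp ht'
  refine ⟨u⁻¹ * t, h1, ?_, (u⁻¹ * t)⁻¹ * g, mul_mem (inv_mem h1) hg, h2, by group⟩
  have h3 : u⁻¹ * (u⁻¹ * t) * u = (u⁻¹ * t)⁻¹ := by
    rw [mul_inv_rev, inv_inv, inv_inv_self ht2, inv_inv_self hu2, ← mul_assoc, inv_sq_one hu2, one_mul]
  rw [h3]; exact inv_mem h1

end counting

end Cfsg.Agent.Lib.Helper40
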