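import Mathlib
import Cfsg.Agent.Lib.Helper40.Cores

set_option autoImplicit false

namespace Cfsg.Agent.Lib.Helper40

/-- Let `Y` be a `p`-subgroup normalizing a `p'`-subgroup `C`. Every `p`-subgroup `R` of `Y ⊔ C`
is conjugate into `Y` by an element of `C`. -/
theorem exists_conj_into_of_normalizes {G : Type*} [Group G] [Finite G] {p : ℕ} [Fact p.Prime]
    (Y C R : Subgroup G) (hY : IsPGroup p Y) (hC : (Nat.card C).Coprime p)
    (hYC : Y ≤ Subgroup.normalizer (C : Set G)) (hR : IsPGroup p R) (hRle : R ≤ Y ⊔ C) :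
    ∃ c ∈ C, ∀ r ∈ R, c * r * c⁻¹ ∈ Y := by
  set M := Y ⊔ C with hM
  have hYM : Y ≤ M := le_sup_left
  have hCM : C ≤ M := le_sup_right
  have hCn : (C.subgroupOf M).Normal := by
    rw [Subgroup.normal_subgroupOf_iff_le_normalizer hCM]
    exact sup_le hYC Subgroup.le_normalizer
  have hYp : IsPGroup p ↥(Y.subgroupOf M) := hY.comap_of_injective M.subtype M.subtype_injective
  have htop : Y.subgroupOf M ⊔ C.subgroupOf M = ⊤ := by
    rw [← Subgroup.subgroupOf_sup hYM hCM, Subgroup.subgroupOf_self]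
  have hidx : ¬ p ∣ (Y.subgroupOf M).index := by
    have h1 := relIndex_eq_relIndex_sup_of_normal (Y.subgroupOf M) (C.subgroupOf M)
    rw [htop, Subgroup.relIndex_top_right] at h1
    rw [← h1]
    intro hdiv
    have h2 : p ∣ Nat.card ↥(C.subgroupOf M) := hdiv.trans (Subgroup.relIndex_dvd_card _ _)
    have h3 : Nat.card ↥(C.subgroupOf M) = Nat.card C :=
      Nat.card_congr (Subgroup.subgroupOfEquivOfLe hCM).toEquiv
    rw [h3] at h2
    have hp : p.Prime := Fact.out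
    exact (Nat.Prime.coprime_iff_not_dvd hp).mp hC.symm h2
  let YM : Sylow p ↥M := hYp.toSylow hidx
  have hRp : IsPGroup p ↥(R.subgroupOf M) := hR.comap_of_injective M.subtype M.subtype_injective
  obtain ⟨Q, hQ⟩ := hRp.exists_le_sylow
  obtain ⟨m, hm⟩ := MulAction.exists_smul_eq ↥M Q YM
  have hm' : m ∈ ((Y.subgroupOf M ⊔ C.subgroupOf M : Subgroup ↥M) : Set ↥M) := by
    rw [htop]; exact Set.mem_univ m
  rw [Subgroup.mul_normal] at hm'
  obtain ⟨s, hs, k, hk, rfl⟩ := hm'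
  refine ⟨(k : G), hk, ?_⟩
  intro r hr
  have h1 : (⟨r, hRle hr⟩ : ↥M) ∈ (Q : Subgroup ↥M) := hQ (by simpa [Subgroup.mem_subgroupOf] using hr)
  have h2 : (s * k) * ⟨r, hRle hr⟩ * (s * k)⁻¹ ∈ (((s * k) • Q : Sylow p ↥M) : Subgroup ↥M) := by
    rw [Sylow.coe_subgroup_smul, Subgroup.mem_smul_pointwise_iff_exists]
    exact ⟨_, h1, rfl⟩
  rw [hm] at h2
  have h3 : ((s * k) * ⟨r, hRle hr⟩ * (s * k)⁻¹ : ↥M) ∈ Y.subgroupOf M := h2
  rw [Subgroup.mem_subgroupOf] at h3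
  have hsY : (s : G) ∈ Y := hs
  have h4 : (s : G)⁻¹ * (((s * k) * ⟨r, hRle hr⟩ * (s * k)⁻¹ : ↥M) : G) * (s : G) ∈ Y :=
    mul_mem (mul_mem (inv_mem hsY) h3) hsY
  have h5 : (s : G)⁻¹ * (((s * k) * ⟨r, hRle hr⟩ * (s * k)⁻¹ : ↥M) : G) * (s : G)
      = (k : G) * r * (k : G)⁻¹ := by
    simp only [Subgroup.coe_mul, Subgroup.coe_inv]
    group
  rwa [h5] at h4

end Cfsg.Agent.Lib.Helper40
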