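import Mathlib
import Cfsg.Prelude.Def_Local
import Cfsg.Agent.Lib.Helper40.Cores
import Cfsg.Agent.Lib.Helper40.RelSylow

set_option autoImplicit false

namespace Cfsg.Agent.Lib.Helper40

variable {G : Type*} [Group G]

section tight

theorem even_card_of_isPGroup_two [Finite G] {V : Subgroup G} (hV : IsPGroup 2 V) (hne : V ≠ ⊥) :
    Even (Nat.card V) := by
  obtain ⟨n, hn⟩ := IsPGroup.exists_card_eq hV
  have hn0 : n ≠ 0 := by
    rintro rfl
    rw [pow_zero] at hn
    exact hne (Subgroup.card_eq_one.mp hn)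
  rw [hn]
  exact (Nat.even_pow.mpr ⟨even_two, hn0⟩)

theorem eq_bot_of_isPGroup_two_of_le_odd [Finite G] {V W : Subgroup G} (hV : IsPGroup 2 V)
    (hVW : V ≤ W) (hW : Odd (Nat.card W)) : V = ⊥ := by
  by_contra hne
  have h1 := even_card_of_isPGroup_two hV hne
  have h2 : Nat.card V ∣ Nat.card W := Subgroup.card_dvd_of_le hVW
  have h3 : Even (Nat.card W) := (even_iff_two_dvd.mpr ((even_iff_two_dvd.mp h1).trans h2))
  exact (Nat.not_even_iff_odd.mpr hW) h3

theorem mem_normalizer_of_tight [Finite G] {Q : Subgroup G} (hQ : Cfsg.IsTightlyEmbedded Q)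
    {V : Subgroup G} (hV : IsPGroup 2 V) (hne : V ≠ ⊥) {x : G} (h1 : V ≤ Q)
    (h2 : V ≤ Q.map (MulAut.conj x).toMonoidHom) : x ∈ Subgroup.normalizer (Q : Set G) := by
  by_contra hx
  have h3 := hQ.2 x hx
  exact hne (eq_bot_of_isPGroup_two_of_le_odd hV (le_inf h1 h2) h3)

theorem centralizer_le_normalizer_of_tight [Finite G] {Q : Subgroup G}
    (hQ : Cfsg.IsTightlyEmbedded Q) {V : Subgroup G} (hV : IsPGroup 2 V) (hne : V ≠ ⊥)
    (h1 : V ≤ Q) : Subgroup.centralizer (V : Set G) ≤ Subgroup.normalizer (Q : Set G) := by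
  intro c hc
  refine mem_normalizer_of_tight hQ hV hne h1 ?_
  intro t ht
  rw [mem_map_conj_iff]
  have h2 : t * c = c * t := (Subgroup.mem_centralizer_iff.mp hc) t ht
  have h3 : c⁻¹ * t * c = t := by rw [mul_assoc, h2, ← mul_assoc, inv_mul_cancel, one_mul]
  rw [h3]; exact h1 ht

theorem isTightlyEmbedded_map_conj [Finite G] {Q : Subgroup G} (hQ : Cfsg.IsTightlyEmbedded Q)
    (g : G) : Cfsg.IsTightlyEmbedded (Q.map (MulAut.conj g).toMonoidHom) := by
  refine ⟨by rw [card_map_conj]; exact hQ.1, ?_⟩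
  intro h hh
  set k := g⁻¹ * h * g with hk
  have hgk : h * g = g * k := by rw [hk]; group
  have hmap : (Q.map (MulAut.conj g).toMonoidHom).map (MulAut.conj h).toMonoidHom
      = (Q.map (MulAut.conj k).toMonoidHom).map (MulAut.conj g).toMonoidHom := by
    rw [← map_conj_mul, ← map_conj_mul, hgk]
  have hkN : k ∉ Subgroup.normalizer (Q : Set G) := by
    intro hkN
    apply hh
    apply mem_normalizer_of_map_conj_eq
    rw [hmap, map_conj_eq_of_mem_normalizer hkN]
  have h3 := hQ.2 k hkN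
  have h4 : (Q ⊓ Q.map (MulAut.conj k).toMonoidHom).map (MulAut.conj g).toMonoidHom
      = Q.map (MulAut.conj g).toMonoidHom ⊓
        (Q.map (MulAut.conj g).toMonoidHom).map (MulAut.conj h).toMonoidHom := by
    rw [hmap]
    exact Subgroup.map_inf _ _ _ (MulAut.conj g).injective
  rw [← h4, card_map_conj]
  exact h3

end tight

end Cfsg.Agent.Lib.Helper40
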