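import Mathlib
import Cfsg.Agent.Lib.Helper95.Tits.Defs

/-!
# S1074 / S2185 keystones (architect helper95), leaf 107404 K-T4 (helper40): `commutator_facts`
The derived subgroup of a group with a simple non-abelian subgroup of index 2, transported along an isomorphism.
-/

set_option autoImplicit false

namespace Cfsg.Agent.Lib.Helper40.TitsKey

open scoped commutatorElement

/-- a simple group of non-prime order is not commutative -/
theorem t4_not_comm {T : Type*} [Group T] [IsSimpleGroup T] (h : ¬ (Nat.card T).Prime) :
    ¬ ∀ a b : T, a * b = b * a := by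
  intro hc
  letI : CommGroup T := { (inferInstance : Group T) with mul_comm := hc }
  exact h IsSimpleGroup.prime_card

/-- the derived subgroup of `K` is the simple non-abelian subgroup `T` of index 2 -/
theorem t4_commutator_eq {K : Type*} [Group K] [Finite K] (T : Subgroup K)
    (hT : IsSimpleGroup T) (hTna : ¬ (Nat.card T).Prime) (hidx : Nat.card K = 2 * Nat.card T) :
    commutator K = T := by
  have hTpos : 0 < Nat.card T := Nat.card_pos
  have hindex : T.index = 2 := by
    have h := T.card_mul_index
    rw [hidx, mul_comm 2] at h
    exact Nat.eq_of_mul_eq_mul_left hTpos h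
  -- `K' ≤ T`
  have hle : commutator K ≤ T := by
    rw [commutator_def, Subgroup.commutator_le]
    intro a _ b _
    rw [commutatorElement_def, mul_assoc (a * b), Subgroup.mul_mem_iff_of_index_two hindex,
      Subgroup.mul_mem_iff_of_index_two hindex, Subgroup.mul_mem_iff_of_index_two hindex,
      Subgroup.inv_mem_iff, Subgroup.inv_mem_iff]
  -- `T ≤ K'`
  have hge : T ≤ commutator K := by
    have hN : ((commutator K).subgroupOf T).Normal := inferInstance
    rcases hN.eq_bot_or_eq_top with h | h
    · exfalso
      apply t4_not_comm hTna
      intro a b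
      have hmem : ⁅(a : K), (b : K)⁆ ∈ commutator K := by
        rw [commutator_def]
        exact Subgroup.commutator_mem_commutator (Subgroup.mem_top _) (Subgroup.mem_top _)
      have hmemT : (⁅a, b⁆ : T) ∈ (commutator K).subgroupOf T := by
        rw [Subgroup.mem_subgroupOf]
        exact hmem
      rw [h, Subgroup.mem_bot, commutatorElement_eq_one_iff_mul_comm] at hmemT
      exact hmemT
    · rwa [Subgroup.subgroupOf_eq_top] at h
  exact le_antisymm hle hge

theorem commutator_facts {G K : Type*} [Group G] [Group K] [Finite K] (e : G ≃* K) (T : Subgroup K)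
    (hT : IsSimpleGroup T) (hTna : ¬ (Nat.card T).Prime) (hidx : Nat.card K = 2 * Nat.card T) :
    (commutator G).index = 2 ∧ IsSimpleGroup (commutator G) ∧ ¬ IsMulCommutative (commutator G) ∧
      Nat.card (commutator G) = Nat.card T ∧
      ((∀ k : K, orderOf k = 2 → k ∈ T) → ∀ g : G, orderOf g = 2 → g ∈ commutator G) := by
  have hKT : commutator K = T := t4_commutator_eq T hT hTna hidx
  have hTpos : 0 < Nat.card T := Nat.card_pos
  have hindex : T.index = 2 := by
    have h := T.card_mul_index
    rw [hidx, mul_comm 2] at h
    exact Nat.eq_of_mul_eq_mul_left hTpos h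
  -- the image of `G'` under `e` is `K' = T`
  have hmap : (commutator G).map (e : G →* K) = T := by
    rw [← hKT, commutator_def, commutator_def, Subgroup.map_commutator,
      Subgroup.map_top_of_surjective (e : G →* K) e.surjective]
  -- an isomorphism `G' ≃* T`
  have hequiv : Nonempty (↥(commutator G) ≃* ↥T) := by
    have e1 := (e.subgroupMap (commutator G))
    rw [hmap] at e1
    exact ⟨e1⟩
  obtain ⟨ε⟩ := hequiv
  refine ⟨?_, ?_, ?_, ?_, ?_⟩
  · rw [← Subgroup.index_map_equiv (commutator G) e, hmap, hindex]
  · exact ε.isSimpleGroup
  · intro hc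
    apply t4_not_comm hTna
    intro a b
    have h1 : ε.symm a * ε.symm b = ε.symm b * ε.symm a := hc.is_comm.comm _ _
    rw [← map_mul, ← map_mul] at h1
    exact ε.symm.injective h1
  · exact Nat.card_congr ε.toEquiv
  · intro hinv g hg
    have h2 : orderOf (e g) = 2 := by rw [MulEquiv.orderOf_eq, hg]
    have hmem : e g ∈ (commutator G).map (e : G →* K) := by
      rw [hmap]
      exact hinv _ h2
    obtain ⟨c, hc, hce⟩ := hmem
    have : c = g := e.injective hce
    rw [← this]
    exact hc

end Cfsg.Agent.Lib.Helper40.TitsKey
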