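import Mathlib

set_option autoImplicit false

namespace Cfsg.Agent.Lib.Helper40

/-- Trace (norm) argument: for a finite group `H` acting on a finite abelian `p`-group `M` and a Sylow
`p`-subgroup `P` of `H`, the `H`-fixed points have a complement inside the `P`-fixed points. -/
theorem exists_trace_complement {H : Type*} [Group H] [Finite H] {M : Type*} [CommGroup M] [Finite M]
    [MulDistribMulAction H M] {p : ℕ} [Fact p.Prime] (hM : IsPGroup p M) (P : Sylow p H) :
    ∃ K₀ : Subgroup M, (∀ k ∈ K₀, ∀ t ∈ (P : Subgroup H), t • k = k) ∧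
      (∀ m ∈ K₀, (∀ h : H, h • m = m) → m = 1) ∧
      ∀ m : M, (∀ t ∈ (P : Subgroup H), t • m = m) →
        ∃ w k : M, (∀ h : H, h • w = w) ∧ k ∈ K₀ ∧ m = w * k := by
  classical
  letI : Fintype (H ⧸ (P : Subgroup H)) := Fintype.ofFinite _
  set k : ℕ := (P : Subgroup H).index with hk
  have hkp : p.Coprime k := by
    have h1 : ¬ p ∣ k := P.not_dvd_index
    exact (Nat.Prime.coprime_iff_not_dvd (Fact.out : p.Prime)).mpr h1
  have hinj : Function.Injective (fun m : M => m ^ k) := (hM.powEquiv hkp).injective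
  have hsurj : Function.Surjective (fun m : M => m ^ k) := (hM.powEquiv hkp).surjective
  -- the trace
  let τ : M → M := fun m => ∏ q : H ⧸ (P : Subgroup H), (Quotient.out q : H) • m
  have hτmul : ∀ a b : M, τ (a * b) = τ a * τ b := by
    intro a b
    simp only [τ, smul_mul', Finset.prod_mul_distrib]
  have hτone : τ 1 = 1 := by simp [τ]
  have hτinv : ∀ a : M, τ a⁻¹ = (τ a)⁻¹ := by
    intro a
    have h1 : τ a⁻¹ * τ a = 1 := by rw [← hτmul, inv_mul_cancel, hτone]
    exact eq_inv_of_mul_eq_one_left h1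
  have hτfix : ∀ m : M, (∀ t ∈ (P : Subgroup H), t • m = m) → ∀ h : H, h • τ m = τ m := by
    intro m hm h
    have hrep : ∀ x y : H, (QuotientGroup.mk x : H ⧸ (P : Subgroup H)) = QuotientGroup.mk y →
        x • m = y • m := by
      intro x y hxy
      have h1 : x⁻¹ * y ∈ (P : Subgroup H) := QuotientGroup.eq.mp hxy
      have h2 := hm _ h1
      calc x • m = x • ((x⁻¹ * y) • m) := by rw [h2]
        _ = y • m := by rw [smul_smul]; simp
    show h • (∏ q : H ⧸ (P : Subgroup H), (Quotient.out q : H) • m) = _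
    rw [Finset.smul_prod']
    have h1 : ∀ q : H ⧸ (P : Subgroup H),
        h • ((Quotient.out q : H) • m) = (Quotient.out (h • q) : H) • m := by
      intro q
      rw [smul_smul]
      apply hrep
      rw [QuotientGroup.out_eq']
      conv_rhs => rw [← QuotientGroup.out_eq' q]
      rfl
    simp_rw [h1]
    exact Equiv.prod_comp (MulAction.toPerm h)
      (fun q : H ⧸ (P : Subgroup H) => (Quotient.out q : H) • m)
  have hτpow : ∀ m : M, (∀ h : H, h • m = m) → τ m = m ^ k := by
    intro m hm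
    show (∏ q : H ⧸ (P : Subgroup H), (Quotient.out q : H) • m) = _
    simp_rw [hm]
    rw [Finset.prod_const, Finset.card_univ, hk, Subgroup.index, Nat.card_eq_fintype_card]
  refine ⟨{ carrier := {m | (∀ t ∈ (P : Subgroup H), t • m = m) ∧ τ m = 1}
            mul_mem' := ?_, one_mem' := ?_, inv_mem' := ?_ }, ?_, ?_, ?_⟩
  · rintro a b ⟨ha1, ha2⟩ ⟨hb1, hb2⟩
    refine ⟨fun t ht => by rw [smul_mul', ha1 t ht, hb1 t ht], by rw [hτmul, ha2, hb2, one_mul]⟩
  · exact ⟨fun t _ => smul_one t, hτone⟩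
  · rintro a ⟨ha1, ha2⟩
    refine ⟨fun t ht => by rw [smul_inv', ha1 t ht], by rw [hτinv, ha2, inv_one]⟩
  · rintro m ⟨hm1, _⟩ t ht
    exact hm1 t ht
  · rintro m ⟨_, hm2⟩ hm
    rw [hτpow m hm] at hm2
    apply hinj
    show m ^ k = 1 ^ k
    rw [hm2, one_pow]
  · intro m hm
    obtain ⟨w, hw⟩ := hsurj (τ m)
    have hw' : w ^ k = τ m := hw
    have hwfix : ∀ h : H, h • w = w := by
      intro h
      apply hinj
      show (h • w) ^ k = w ^ k
      rw [← smul_pow', hw', hτfix m hm h]
    refine ⟨w, m * w⁻¹, hwfix, ⟨?_, ?_⟩, by rw [mul_comm, inv_mul_cancel_right]⟩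
    · intro t ht
      rw [smul_mul', smul_inv', hm t ht, hwfix t]
    · rw [hτmul, hτinv, hτpow w hwfix, hw', mul_inv_cancel]

end Cfsg.Agent.Lib.Helper40
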